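import Groth.Agent.H18.Serre.Frac
import Groth.Agent.H10.Hyp7_KA

set_option autoImplicit false
set_option linter.style.haveILetI false

universe u

open CategoryTheory CategoryTheory.Limits AlgebraicGeometry HomogeneousIdeal

namespace Groth.Agent.H96.Hyp7_KB

variable {R A B : Type u} [CommRing R] [CommRing A] [Algebra R A] [CommRing B] [Algebra R B]
  (𝒜 : ℕ → Submodule R A) [GradedAlgebra 𝒜] (ℬ : ℕ → Submodule R B) [GradedAlgebra ℬ]

theorem awayToSection_mk {ℓ g : A} (hℓ : ℓ ∈ 𝒜 1) (hg : g ∈ 𝒜 1) :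
    (Proj.awayToSection 𝒜 g).hom (HomogeneousLocalization.Away.mk 𝒜 hg 1 ℓ (by simpa using hℓ)) =
      Groth.Agent.H18.Serre.frac 𝒜 (Proj.basicOpen 𝒜 g) hℓ hg (fun x => x.2) := by
  refine Groth.Agent.H18.Serre.ext_val 𝒜 (fun x => ?_)
  change HomogeneousLocalization.mk _ = HomogeneousLocalization.mk _
  ext
  simp

theorem ker_app_basicOpen (ψ : 𝒜 →+*ᵍ ℬ) (hψ : irrelevant ℬ ≤ (irrelevant 𝒜).map ψ)
    (hsurj : Function.Surjective ψ) {ℓ : A} (hℓ : ℓ ∈ 𝒜 1)
    (hker : RingHom.ker ψ.toRingHom = Ideal.span {ℓ}) {g : A} (hg : g ∈ 𝒜 1) :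
    RingHom.ker ((Proj.map ψ hψ).app (Proj.basicOpen 𝒜 g)).hom =
      Ideal.span {Groth.Agent.H18.Serre.frac 𝒜 (Proj.basicOpen 𝒜 g) hℓ hg (fun x => x.2)} := by
  have hKA := Groth.Agent.H10.Hyp7_KA.ker_awayMap 𝒜 ℬ ψ hsurj hℓ hker hg
  have hsq := Proj.awayToSection_comp_appLE ψ hψ hg
  have hα : Function.Bijective (Proj.awayToSection 𝒜 g).hom := by
    have := ConcreteCategory.bijective_of_isIso (Proj.basicOpenIsoAway 𝒜 g hg one_pos).hom
    rwa [Proj.basicOpenIsoAway_hom] at this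
  have hα' : Function.Bijective (Proj.awayToSection ℬ (ψ g)).hom := by
    have := ConcreteCategory.bijective_of_isIso
      (Proj.basicOpenIsoAway ℬ (ψ g) (ψ.2 hg) one_pos).hom
    rwa [Proj.basicOpenIsoAway_hom] at this
  have hfrac := awayToSection_mk 𝒜 hℓ hg
  have happ : (Proj.map ψ hψ).app (Proj.basicOpen 𝒜 g) =
      Scheme.Hom.appLE (Proj.map ψ hψ) (Proj.basicOpen 𝒜 g) (Proj.basicOpen ℬ (ψ g)) (by rfl) :=
    Scheme.Hom.app_eq_appLE _
  have hcomm : ∀ y, ((Proj.map ψ hψ).app (Proj.basicOpen 𝒜 g)).hom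
      ((Proj.awayToSection 𝒜 g).hom y) =
      (Proj.awayToSection ℬ (ψ g)).hom (HomogeneousLocalization.Away.map ψ g y) := by
    intro y
    rw [happ]
    exact congrArg (fun F => F.hom y) hsq
  apply le_antisymm
  · intro x hx
    obtain ⟨y, rfl⟩ := hα.2 x
    rw [RingHom.mem_ker, hcomm] at hx
    have hy0 : HomogeneousLocalization.Away.map ψ g y = 0 :=
      hα'.1 (hx.trans (map_zero _).symm)
    have hy : y ∈ Ideal.span {HomogeneousLocalization.Away.mk 𝒜 hg 1 ℓ (by simpa using hℓ)} := by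
      rw [← hKA]
      exact hy0
    rw [← hfrac, ← Set.image_singleton, ← Ideal.map_span]
    exact Ideal.mem_map_of_mem _ hy
  · rw [Ideal.span_le, Set.singleton_subset_iff, ← hfrac]
    change _ ∈ RingHom.ker _
    rw [RingHom.mem_ker, hcomm]
    have : HomogeneousLocalization.Away.mk 𝒜 hg 1 ℓ (by simpa using hℓ) ∈
        RingHom.ker (HomogeneousLocalization.Away.map ψ g) := by
      rw [hKA]
      exact Ideal.subset_span rfl
    rw [RingHom.mem_ker] at this
    exact (congrArg _ this).trans (map_zero _)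

end Groth.Agent.H96.Hyp7_KB
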