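import Groth.Agent.H34.KeyDefs
import Groth.Agent.H85.CycOpen
import Groth.Agent.H95.CycZero

set_option autoImplicit false
set_option linter.style.haveILetI false

universe u v

open CategoryTheory AlgebraicGeometry TopologicalSpace Opposite

namespace Groth.Agent.H96.KeyS2aCore

/-- The statement of (P1) (transport of the tame symbol along a ring isomorphism), as a
proposition; proved by another provider. -/
def P1Statement : Prop :=
  ∀ {A B : Type u} [CommRing A] [CommRing B] [IsLocalRing A]
    [IsLocalRing B] [IsNoetherianRing A] (_hA : ringKrullDim A = 1) (e : A ≃+* B) (a b : A)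
    (_ha : a ∈ nonZeroDivisors A) (_hb : b ∈ nonZeroDivisors A),
    CycAlg.tameSymbol B (e a) (e b) =
      IsLocalRing.ResidueField.mapEquiv e (CycAlg.tameSymbol A a b)

variable {X : Scheme.{u}} [IsIntegral X]

/-- (S2a) for helper34's S1920, with (P1) as a hypothesis. -/
theorem skl_term_core (tameSymbol_ringEquiv : P1Statement.{u}) [IsLocallyNoetherian X]
    {x ξ : X} (h : ξ ⤳ x)
    (hξ : ringKrullDim (X.presheaf.stalk ξ) = 1) (a b : X.presheaf.stalk x) (ha : a ≠ 0)
    (hb : b ≠ 0) (q : Ideal (X.presheaf.stalk x)) [q.IsPrime]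
    (hq : q = RingHom.ker (Cyc.specMap x ξ h)) :
    CycAlg.ordFrac (X.presheaf.stalk x ⧸ q) q.ResidueField
      (CycAlg.tameSymbol (Localization.AtPrime q)
        (algebraMap (X.presheaf.stalk x) (Localization.AtPrime q) a)
        (algebraMap (X.presheaf.stalk x) (Localization.AtPrime q) b)) =
    Cyc.ordAt x ξ h (CycAlg.tameSymbol (X.presheaf.stalk ξ)
      ((X.presheaf.stalkSpecializes h).hom a) ((X.presheaf.stalkSpecializes h).hom b)) := by
  subst hq
  have hq' : RingHom.ker (Cyc.specMap x ξ h) =
      (IsLocalRing.maximalIdeal (X.presheaf.stalk ξ)).comap (X.presheaf.stalkSpecializes h).hom :=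
    Groth.Agent.H95.CycZero.ker_specMap h
  letI alg : Algebra (X.presheaf.stalk x) (X.presheaf.stalk ξ) :=
    (X.presheaf.stalkSpecializes h).hom.toAlgebra
  haveI hloc : IsLocalization.AtPrime (X.presheaf.stalk ξ) (RingHom.ker (Cyc.specMap x ξ h)) := by
    have := Groth.Agent.H95.CycZero.isLocalization_stalkSpecializes h
    have hpc : (RingHom.ker (Cyc.specMap x ξ h)).primeCompl =
        ((IsLocalRing.maximalIdeal (X.presheaf.stalk ξ)).comap
          (X.presheaf.stalkSpecializes h).hom).primeCompl := by
      ext y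
      rw [Ideal.mem_primeCompl_iff, Ideal.mem_primeCompl_iff, hq']
    unfold IsLocalization.AtPrime
    rw [hpc]
    exact this
  let e : Localization.AtPrime (RingHom.ker (Cyc.specMap x ξ h)) ≃ₐ[X.presheaf.stalk x]
      X.presheaf.stalk ξ :=
    IsLocalization.algEquiv (RingHom.ker (Cyc.specMap x ξ h)).primeCompl _ _
  haveI : IsNoetherianRing (X.presheaf.stalk x) := inferInstance
  haveI : IsNoetherianRing (Localization.AtPrime (RingHom.ker (Cyc.specMap x ξ h))) :=
    IsLocalization.isNoetherianRing (RingHom.ker (Cyc.specMap x ξ h)).primeCompl _ inferInstance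
  have hdim : ringKrullDim (Localization.AtPrime (RingHom.ker (Cyc.specMap x ξ h))) = 1 :=
    (ringKrullDim_eq_of_ringEquiv e.toRingEquiv).trans hξ
  have hinj : Function.Injective (algebraMap (X.presheaf.stalk x)
      (Localization.AtPrime (RingHom.ker (Cyc.specMap x ξ h)))) :=
    IsLocalization.injective _
      (Ideal.primeCompl_le_nonZeroDivisors (RingHom.ker (Cyc.specMap x ξ h)))
  have ha' : algebraMap (X.presheaf.stalk x)
      (Localization.AtPrime (RingHom.ker (Cyc.specMap x ξ h))) a ∈ nonZeroDivisors _ := by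
    rw [mem_nonZeroDivisors_iff_ne_zero]
    intro h0
    exact ha (hinj (h0.trans (map_zero _).symm))
  have hb' : algebraMap (X.presheaf.stalk x)
      (Localization.AtPrime (RingHom.ker (Cyc.specMap x ξ h))) b ∈ nonZeroDivisors _ := by
    rw [mem_nonZeroDivisors_iff_ne_zero]
    intro h0
    exact hb (hinj (h0.trans (map_zero _).symm))
  have hP1 := tameSymbol_ringEquiv hdim e.toRingEquiv _ _ ha' hb'
  have hea : ∀ c : X.presheaf.stalk x, e.toRingEquiv (algebraMap (X.presheaf.stalk x)
      (Localization.AtPrime (RingHom.ker (Cyc.specMap x ξ h))) c) =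
      (X.presheaf.stalkSpecializes h).hom c := fun c => e.commutes c
  rw [hea, hea] at hP1
  rw [hP1]
  let σ : (RingHom.ker (Cyc.specMap x ξ h)).ResidueField ≃+* X.residueField ξ :=
    IsLocalRing.ResidueField.mapEquiv e.toRingEquiv
  have hcompat : ∀ r : X.presheaf.stalk x ⧸ RingHom.ker (Cyc.specMap x ξ h),
      σ (algebraMap (X.presheaf.stalk x ⧸ RingHom.ker (Cyc.specMap x ξ h))
        (RingHom.ker (Cyc.specMap x ξ h)).ResidueField r) =
      algebraMap (Cyc.LocQuot x ξ h) (X.residueField ξ) ((RingEquiv.refl _) r) := by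
    intro r
    obtain ⟨c, rfl⟩ := Ideal.Quotient.mk_surjective r
    rw [Ideal.algebraMap_quotient_residueField_mk]
    change IsLocalRing.ResidueField.mapEquiv e.toRingEquiv
      (IsLocalRing.residue _ (algebraMap (X.presheaf.stalk x)
        (Localization.AtPrime (RingHom.ker (Cyc.specMap x ξ h))) c)) = _
    rw [IsLocalRing.ResidueField.mapEquiv_apply, IsLocalRing.ResidueField.map_residue]
    change IsLocalRing.residue _ (e.toRingEquiv (algebraMap (X.presheaf.stalk x)
        (Localization.AtPrime (RingHom.ker (Cyc.specMap x ξ h))) c)) = _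
    rw [hea]
    rfl
  have key : ∀ T, Cyc.ordAt x ξ h (σ T) =
      CycAlg.ordFrac (X.presheaf.stalk x ⧸ RingHom.ker (Cyc.specMap x ξ h))
        (RingHom.ker (Cyc.specMap x ξ h)).ResidueField T := by
    intro T
    unfold Cyc.ordAt
    exact Groth.Agent.H85.CycOpen.ordFrac_congr (RingEquiv.refl _) σ hcompat T
  exact (key _).symm

end Groth.Agent.H96.KeyS2aCore
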