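import Mathlib

set_option autoImplicit false
set_option linter.style.haveILetI false
universe u
open CategoryTheory CategoryTheory.Limits AlgebraicGeometry TopologicalSpace Opposite

namespace Groth.Agent.H96.Hyp_Pt

open Scheme.IdealSheafData in
/-- (Pt) on a proper `k`-scheme, a non-closed point has a specialization outside any given affine
open. -/
theorem exists_specializes_not_mem (k : Type u) [Field k] (X : Scheme.{u})
    [X.Over (Spec (CommRingCat.of k))] [IsProper (X ↘ (Spec (CommRingCat.of k)))]
    (D : X.Opens) (hD : IsAffineOpen D) (y : X) (hy : ¬ IsClosed ({y} : Set X)) :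
    ∃ z : X, y ⤳ z ∧ z ∉ D := by
  by_contra hcon
  push Not at hcon
  apply hy
  -- the reduced induced subscheme on the closure of `y`
  let C : Closeds X := ⟨closure {y}, isClosed_closure⟩
  let I := vanishingIdeal C
  let Z : Scheme.{u} := I.subscheme
  let ι : Z ⟶ X := I.subschemeι
  have hrange : Set.range ι = closure {y} := by
    rw [range_subschemeι, coe_support_vanishingIdeal]
    rfl
  have hsub : Set.range ι ⊆ Set.range D.ι := by
    rw [hrange, Scheme.Opens.range_ι]
    intro z hz
    exact hcon z (specializes_iff_mem_closure.2 hz)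
  haveI : IsAffine D := hD
  let j : Z ⟶ D := IsOpenImmersion.lift D.ι ι hsub
  have hj : j ≫ D.ι = ι := IsOpenImmersion.lift_fac _ _ _
  haveI : IsClosedImmersion (j ≫ D.ι) := by rw [hj]; infer_instance
  haveI : IsClosedImmersion j := IsClosedImmersion.of_comp j D.ι
  haveI : IsAffine Z := isAffine_of_isAffineHom j
  let g : Z ⟶ Spec (CommRingCat.of k) := ι ≫ (X ↘ (Spec (CommRingCat.of k)))
  haveI : IsProper g := inferInstance
  haveI : IsAffineHom g := inferInstance
  haveI : IsFinite g := IsFinite.iff_isProper_and_isAffineHom.2 ⟨inferInstance, inferInstance⟩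
  have hfin : g.appTop.hom.Finite := g.finite_appTop
  -- `Γ(Z, ⊤)` is a finite algebra over a field, hence artinian
  letI : Field Γ(Spec (CommRingCat.of k), ⊤) :=
    ((Scheme.ΓSpecIso (.of k)).commRingCatIsoToRingEquiv.toMulEquiv.isField
      (Field.toIsField k)).toField
  letI : Algebra Γ(Spec (CommRingCat.of k), ⊤) Γ(Z, ⊤) := g.appTop.hom.toAlgebra
  haveI : Module.Finite Γ(Spec (CommRingCat.of k), ⊤) Γ(Z, ⊤) := hfin
  haveI : IsArtinianRing Γ(Z, ⊤) := IsArtinianRing.of_finite Γ(Spec (CommRingCat.of k), ⊤) _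
  haveI : DiscreteTopology (Spec Γ(Z, ⊤)) :=
    inferInstanceAs (DiscreteTopology (PrimeSpectrum Γ(Z, ⊤)))
  haveI : DiscreteTopology Z :=
    (Scheme.homeoOfIso Z.isoSpec).isEmbedding.discreteTopology
  have hy' : y ∈ Set.range ι := by
    rw [hrange]; exact subset_closure rfl
  obtain ⟨z0, hz0⟩ := hy'
  have hcl : IsClosed (ι '' {z0}) :=
    ι.isClosedEmbedding.isClosedMap _ (isClosed_discrete _)
  rwa [Set.image_singleton, hz0] at hcl

end Groth.Agent.H96.Hyp_Pt
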