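import Mathlib

set_option autoImplicit false

namespace Groth.Agent.H96.Hyp_Stab

/-- (Stab) a sequence with `b (n + d) ≤ b n` is eventually `d`-periodic. -/
theorem exists_stable (b : ℕ → ℕ) (d : ℕ) (h : ∀ n, b (n + d) ≤ b n) :
    ∃ n₀, ∀ n, n₀ ≤ n → b (n + d) = b n := by
  let c : ℕ → ℕ := fun n => ∑ i ∈ Finset.range d, b (n + i)
  have hrec : ∀ n, c (n + 1) + b n = c n + b (n + d) := by
    intro n
    have h1 : ∑ i ∈ Finset.range (d + 1), b (n + i) = c n + b (n + d) :=
      Finset.sum_range_succ (fun i => b (n + i)) d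
    have h2 : ∑ i ∈ Finset.range (d + 1), b (n + i) = c (n + 1) + b n := by
      rw [Finset.sum_range_succ' (fun i => b (n + i)) d]
      simp only [c, add_zero]
      congr 1
      refine Finset.sum_congr rfl fun i _ => ?_
      congr 1
      omega
    omega
  have hanti : ∀ n, c (n + 1) ≤ c n := by
    intro n
    have := hrec n
    have := h n
    omega
  have hanti' : ∀ m n, m ≤ n → c n ≤ c m := by
    intro m n hmn
    induction hmn with
    | refl => exact le_rfl
    | step _ ih => exact le_trans (hanti _) ih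
  obtain ⟨v, ⟨n₀, rfl⟩, hmin⟩ :=
    (wellFounded_lt (α := ℕ)).has_min (Set.range c) ⟨c 0, 0, rfl⟩
  refine ⟨n₀, fun n hn => ?_⟩
  have h1 : c n = c n₀ :=
    le_antisymm (hanti' _ _ hn) (not_lt.1 (hmin (c n) ⟨n, rfl⟩))
  have h2 : c (n + 1) = c n₀ :=
    le_antisymm (hanti' _ _ (by omega)) (not_lt.1 (hmin (c (n + 1)) ⟨n + 1, rfl⟩))
  have := hrec n
  omega

end Groth.Agent.H96.Hyp_Stab
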