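import Mathlib
import Groth.Prelude.Def_PBC
import Groth.Prelude.Def_ProEtS
import Groth.Agent.H23.EpsDefs
import Groth.Agent.H23.WCDefs

set_option autoImplicit false
set_option backward.isDefEq.respectTransparency.types false
universe u
open CategoryTheory CategoryTheory.Limits AlgebraicGeometry Opposite
open Groth.Agent.H23.EpsDefs Groth.Agent.H23.WCDefs

namespace Groth.Agent.H96.Eps_R

variable (X : Scheme.{u})

noncomputable instance preservesFiniteLimits_eps : PreservesFiniteLimits (ProEtS.eps X) := by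
  have h : PreservesFiniteLimits (ProEtS.eps X ⋙ Scheme.ProEt.forget X) :=
    (inferInstance : PreservesFiniteLimits (Scheme.Etale.forget X))
  exact preservesFiniteLimits_of_reflects_of_preserves (ProEtS.eps X) (Scheme.ProEt.forget X)

instance : RepresentablyFlat (ProEtS.eps X) := flat_of_preservesFiniteLimits _

instance (W : X.ProEt) : IsFiltered (CostructuredArrow (ProEtS.eps X).op (op W)) :=
  IsFiltered.of_equivalence (structuredArrowOpEquivalence (ProEtS.eps X) W)

/-- the colimit cocone computing the Kan extension at `W`. -/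
noncomputable def isColimitAt (F : X.Etaleᵒᵖ ⥤ AddCommGrpCat.{u + 1}) (W : X.ProEt) :
    IsColimit ((Functor.LeftExtension.mk _ ((ProEtS.eps X).op.leftKanExtensionUnit F)).coconeAt
      (op W)) :=
  Functor.isPointwiseLeftKanExtensionLeftKanExtensionUnit (ProEtS.eps X).op F (op W)

instance : PreservesFilteredColimitsOfSize.{u, u + 1} (forget AddCommGrpCat.{u + 1}) :=
  preservesFilteredColimitsOfSize_shrink.{u + 1, u + 1, u, u + 1} _

/-- the same colimit cocone, on underlying types. -/
noncomputable def isColimitAtForget (F : X.Etaleᵒᵖ ⥤ AddCommGrpCat.{u + 1}) (W : X.ProEt) :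
    IsColimit ((forget AddCommGrpCat.{u + 1}).mapCocone
      ((Functor.LeftExtension.mk _ ((ProEtS.eps X).op.leftKanExtensionUnit F)).coconeAt (op W))) :=
  isColimitOfPreserves (forget AddCommGrpCat.{u + 1}) (isColimitAt X F W)

/-- the cocone map at the index `(V, φ)` on an element `s`, in the notation of `EpsDefs`. -/
theorem ι_app_apply (F : X.Etaleᵒᵖ ⥤ AddCommGrpCat.{u + 1}) (W : X.ProEt) {V : X.Etale}
    (φ : W ⟶ (ProEtS.eps X).obj V) (s : F.obj (op V)) :
    ((forget AddCommGrpCat.{u + 1}).mapCocone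
      ((Functor.LeftExtension.mk _ ((ProEtS.eps X).op.leftKanExtensionUnit F)).coconeAt (op W))).ι.app
        (CostructuredArrow.mk (Y := op V) (φ.op : (ProEtS.eps X).op.obj (op V) ⟶ op W)) s =
      ((lanE X F).map φ.op).hom (lanUE X F V s) := rfl

/-- (R0) naturality of the unit, elementwise. -/
theorem lanUE_naturality (F : X.Etaleᵒᵖ ⥤ AddCommGrpCat.{u + 1}) {V V' : X.Etale} (a : V' ⟶ V)
    (s : F.obj (op V)) :
    ((lanE X F).map ((ProEtS.eps X).map a).op).hom (lanUE X F V s) =
      lanUE X F V' ((F.map a.op).hom s) := by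
  have := ConcreteCategory.congr_hom (((ProEtS.eps X).op.lanUnit.app F).naturality a.op) s
  exact this.symm

/-- (R1) every section of the Kan extension comes from some `V`. -/
theorem exists_rep (F : X.Etaleᵒᵖ ⥤ AddCommGrpCat.{u + 1}) (W : X.ProEt)
    (x : (lanE X F).obj (op W)) :
    ∃ (V : X.Etale) (φ : W ⟶ (ProEtS.eps X).obj V) (s : F.obj (op V)),
      x = ((lanE X F).map φ.op).hom (lanUE X F V s) := by
  obtain ⟨j, s, hs⟩ := Types.jointly_surjective_of_isColimit (isColimitAtForget X F W) x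
  exact ⟨j.left.unop, j.hom.unop, s, hs.symm⟩

/-- (R2) equality of sections of the Kan extension. -/
theorem exists_of_rep_eq (F : X.Etaleᵒᵖ ⥤ AddCommGrpCat.{u + 1}) (W : X.ProEt) {V V' : X.Etale}
    (φ : W ⟶ (ProEtS.eps X).obj V) (φ' : W ⟶ (ProEtS.eps X).obj V')
    (s : F.obj (op V)) (s' : F.obj (op V'))
    (h : ((lanE X F).map φ.op).hom (lanUE X F V s) = ((lanE X F).map φ'.op).hom (lanUE X F V' s')) :
    ∃ (V'' : X.Etale) (ψ : W ⟶ (ProEtS.eps X).obj V'') (a : V'' ⟶ V) (a' : V'' ⟶ V'),
      ψ ≫ (ProEtS.eps X).map a = φ ∧ ψ ≫ (ProEtS.eps X).map a' = φ' ∧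
      (F.map a.op).hom s = (F.map a'.op).hom s' := by
  let j : CostructuredArrow (ProEtS.eps X).op (op W) :=
    CostructuredArrow.mk (Y := op V) (φ.op : (ProEtS.eps X).op.obj (op V) ⟶ op W)
  let j' : CostructuredArrow (ProEtS.eps X).op (op W) :=
    CostructuredArrow.mk (Y := op V') (φ'.op : (ProEtS.eps X).op.obj (op V') ⟶ op W)
  have h' : ((forget AddCommGrpCat.{u + 1}).mapCocone
      ((Functor.LeftExtension.mk _ ((ProEtS.eps X).op.leftKanExtensionUnit F)).coconeAt
      (op W))).ι.app j s = ((forget AddCommGrpCat.{u + 1}).mapCocone ((Functor.LeftExtension.mk _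
        ((ProEtS.eps X).op.leftKanExtensionUnit F)).coconeAt (op W))).ι.app j' s' := h
  obtain ⟨k, g, g', hk⟩ :=
    (Types.FilteredColimit.isColimit_eq_iff _ (isColimitAtForget X F W)).1 h'
  refine ⟨k.left.unop, k.hom.unop, g.left.unop, g'.left.unop, ?_, ?_, hk⟩
  · have := CostructuredArrow.w g
    exact congrArg Quiver.Hom.unop this
  · have := CostructuredArrow.w g'
    exact congrArg Quiver.Hom.unop this

/-- (R2') equality of sections of the Kan extension, same index. -/
theorem exists_of_rep_eq' (F : X.Etaleᵒᵖ ⥤ AddCommGrpCat.{u + 1}) (W : X.ProEt) {V : X.Etale}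
    (φ : W ⟶ (ProEtS.eps X).obj V) (s s' : F.obj (op V))
    (h : ((lanE X F).map φ.op).hom (lanUE X F V s) = ((lanE X F).map φ.op).hom (lanUE X F V s')) :
    ∃ (V'' : X.Etale) (ψ : W ⟶ (ProEtS.eps X).obj V'') (a : V'' ⟶ V),
      ψ ≫ (ProEtS.eps X).map a = φ ∧ (F.map a.op).hom s = (F.map a.op).hom s' := by
  let j : CostructuredArrow (ProEtS.eps X).op (op W) :=
    CostructuredArrow.mk (Y := op V) (φ.op : (ProEtS.eps X).op.obj (op V) ⟶ op W)
  have h' : ((forget AddCommGrpCat.{u + 1}).mapCocone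
      ((Functor.LeftExtension.mk _ ((ProEtS.eps X).op.leftKanExtensionUnit F)).coconeAt
      (op W))).ι.app j s = ((forget AddCommGrpCat.{u + 1}).mapCocone ((Functor.LeftExtension.mk _
        ((ProEtS.eps X).op.leftKanExtensionUnit F)).coconeAt (op W))).ι.app j s' := h
  obtain ⟨k, g, hk⟩ :=
    (Types.FilteredColimit.isColimit_eq_iff' (isColimitAtForget X F W) (i := j) s s').1 h'
  refine ⟨k.left.unop, k.hom.unop, g.left.unop, ?_, hk⟩
  have := CostructuredArrow.w g
  exact congrArg Quiver.Hom.unop this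

/-- (R) the elementwise API of the Kan extension presheaf along `eps`. -/
theorem repAPI (F : X.Etaleᵒᵖ ⥤ AddCommGrpCat.{u + 1}) : RepAPI X F where
  r0 := fun a s => lanUE_naturality X F a s
  r1 := fun W x => exists_rep X F W x
  r2 := fun W _ _ φ φ' s s' h => exists_of_rep_eq X F W φ φ' s s' h
  r2' := fun W _ φ s s' h => exists_of_rep_eq' X F W φ s s' h

end Groth.Agent.H96.Eps_R
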