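import Mathlib
import Groth.Prelude.Def_PBC
import Groth.Prelude.Def_ProEtS
import Groth.Agent.H23.EpsDefs
import Groth.Agent.H23.WCDefs

set_option autoImplicit false
set_option linter.style.haveILetI false
set_option backward.isDefEq.respectTransparency.types false
universe u
open CategoryTheory CategoryTheory.Limits AlgebraicGeometry Opposite
open Groth.Agent.H23.EpsDefs Groth.Agent.H23.WCDefs

namespace Groth.Agent.H96.Eps_E1a

variable (X : Scheme.{u})

/-- the empty sieve covers an etale `X`-scheme with empty underlying space. -/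
theorem bot_mem_smallEtaleTopology (Z : X.Etale) [IsEmpty ↥Z.left] :
    (⊥ : Sieve Z) ∈ X.smallEtaleTopology Z := by
  have h : Sieve.ofArrows (fun i : PEmpty.{1} => (i.elim : X.Etale))
      (fun i => (i.elim : _ ⟶ Z)) ∈ X.smallEtaleTopology Z := by
    rw [Scheme.ofArrows_mem_smallEtaleTopology_iff]
    exact Set.eq_univ_of_forall fun z => (IsEmpty.false z).elim
  convert h using 1
  refine le_antisymm bot_le ?_
  rintro Y f ⟨_, _, _, ⟨i⟩, _⟩
  exact i.elim

/-- sections of an etale sheaf over an object with empty underlying scheme are unique. -/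
theorem subsingleton_of_isEmpty (F : EtCoh.Ab X) (Z : X.Etale) [IsEmpty ↥Z.left] :
    Subsingleton (F.obj.obj (op Z)) := by
  have hF := (isSheaf_iff_isSheaf_of_type _ _).1
    ((Presheaf.isSheaf_iff_isSheaf_forget X.smallEtaleTopology F.obj
      (forget AddCommGrpCat.{u + 1})).1 F.property)
  have h := hF (⊥ : Sieve Z) (bot_mem_smallEtaleTopology X Z)
  constructor
  intro a b
  exact h.isSeparatedFor.ext (fun Y f hf => hf.elim)

/-- coproducts in `X_et`, on which etale sheaves are products. -/
theorem exists_coprod (F : EtCoh.Ab X) {ι₀ : Type u} (V : ι₀ → X.Etale) :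
    ∃ (V' : X.Etale) (ι : ∀ k, V k ⟶ V'),
      Function.Bijective (fun (s : F.obj.obj (op V')) (k : ι₀) => (F.obj.map (ι k).op).hom s) ∧
      ∀ (T : X.Etale) (a : ∀ k, V k ⟶ T), ∃ a' : V' ⟶ T, ∀ k, ι k ≫ a' = a k := by
  let Ys : ι₀ → Scheme.{u} := fun k => (V k).left
  let q : ∐ Ys ⟶ X := Sigma.desc (fun k => (V k).hom)
  haveI hVk : ∀ k, Etale (V k).hom := fun k => (V k).prop
  have hq : Etale q :=
    IsZariskiLocalAtSource.sigmaDesc (P := @Etale) (fun k => hVk k)
  let V' : X.Etale := @Scheme.Etale.mk X _ q hq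
  have hw : ∀ k, Sigma.ι Ys k ≫ q = (V k).hom := fun k => Sigma.ι_desc _ _
  let ι : ∀ k, V k ⟶ V' := fun k =>
    MorphismProperty.Over.homMk (A := V k) (B := V') (Sigma.ι Ys k) (hw k) trivial
  haveI hoi : ∀ k, IsOpenImmersion (Sigma.ι Ys k) := fun k => inferInstance
  refine ⟨V', ι, ?_, ?_⟩
  · -- bijectivity
    have hcov : Sieve.ofArrows _ ι ∈ X.smallEtaleTopology V' := by
      rw [Scheme.ofArrows_mem_smallEtaleTopology_iff]
      rw [Set.eq_univ_iff_forall]
      intro x
      obtain ⟨i, y, hy⟩ := (AlgebraicGeometry.sigmaOpenCover Ys).exists_eq x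
      exact Set.mem_iUnion.2 ⟨i, y, hy⟩
    have hF := (isSheaf_iff_isSheaf_of_type _ _).1
      ((Presheaf.isSheaf_iff_isSheaf_forget X.smallEtaleTopology F.obj
        (forget AddCommGrpCat.{u + 1})).1 F.property)
    have h1 := hF _ hcov
    rw [Sieve.ofArrows, ← Presieve.isSheafFor_iff_generate, Presieve.isSheafFor_arrows_iff] at h1
    have hmono : ∀ i, Mono (ι i) := by
      intro i
      refine ⟨fun {Z'} a b hab => ?_⟩
      apply MorphismProperty.Over.Hom.ext
      have h2 : a.left ≫ Sigma.ι Ys i = b.left ≫ Sigma.ι Ys i := congrArg (fun f => f.left) hab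
      exact (cancel_mono (Sigma.ι Ys i)).1 h2
    -- every family is compatible
    have hcompat : ∀ x : (k : ι₀) → (F.obj ⋙ forget AddCommGrpCat.{u + 1}).obj (op (V k)),
        Presieve.Arrows.Compatible (F.obj ⋙ forget AddCommGrpCat.{u + 1}) ι x := by
      intro x i j Z gi gj hg
      by_cases hij : i = j
      · subst hij
        rw [(cancel_mono (ι i)).1 hg]
      · have : IsEmpty ↥Z.left := by
          constructor
          intro z
          have h2 : gi.left ≫ Sigma.ι Ys i = gj.left ≫ Sigma.ι Ys j :=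
            congrArg (fun f => f.left) hg
          have h3 : (Sigma.ι Ys i) (gi.left z) = (Sigma.ι Ys j) (gj.left z) := by
            have := congrArg (fun f => f z) h2
            exact this
          have hi : (Sigma.ι Ys i) (gi.left z) ∈ (Sigma.ι Ys i).opensRange := ⟨_, rfl⟩
          have hj : (Sigma.ι Ys i) (gi.left z) ∈ (Sigma.ι Ys j).opensRange := ⟨_, h3.symm⟩
          exact (AlgebraicGeometry.disjoint_opensRange_sigmaι Ys i j hij).le_bot ⟨hi, hj⟩
        have := subsingleton_of_isEmpty X F Z
        exact Subsingleton.elim (α := F.obj.obj (op Z)) _ _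
    constructor
    · intro s t hst
      obtain ⟨r, -, hr⟩ := h1 _ (hcompat (fun k => (F.obj.map (ι k).op).hom s))
      rw [hr s (fun _ => rfl), hr t (fun k => (congrFun hst k).symm)]
    · intro x
      obtain ⟨r, hr, -⟩ := h1 x (hcompat x)
      exact ⟨r, funext hr⟩
  · intro T a
    have hw3 : Sigma.desc (fun k => (a k).left) ≫ T.hom = q := by
      apply Sigma.hom_ext
      intro k
      rw [← Category.assoc, Sigma.ι_desc, hw k]
      exact MorphismProperty.Over.w (a k)
    refine ⟨MorphismProperty.Over.homMk (A := V') (B := T) (Sigma.desc (fun k => (a k).left))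
      hw3 trivial, fun k => ?_⟩
    apply MorphismProperty.Over.Hom.ext
    exact Sigma.ι_desc _ _

/-- (E1a) finite coproducts in `X_et`, on which the etale sheaf `F` is a product. -/
theorem coprodAPI (F : EtCoh.Ab X) : CoprodAPI X F := by
  intro n V
  obtain ⟨V', ι, hb, hd⟩ := exists_coprod X F (ι₀ := ULift.{u} (Fin n)) (fun k => V k.down)
  refine ⟨V', fun k => ι ⟨k⟩, ⟨?_, ?_⟩, ?_⟩
  · intro s t hst
    apply hb.1
    funext k
    exact congrFun hst k.down
  · intro x
    obtain ⟨s, hs⟩ := hb.2 (fun k => x k.down)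
    exact ⟨s, funext fun k => congrFun hs ⟨k⟩⟩
  · intro T a
    obtain ⟨a', ha'⟩ := hd T (fun k => a k.down)
    exact ⟨a', fun k => ha' ⟨k⟩⟩

end Groth.Agent.H96.Eps_E1a
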