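import Mathlib

set_option autoImplicit false
set_option linter.style.haveILetI false

universe u

open TensorProduct IsLocalRing

namespace Groth.Agent.H96.PD_SM

/-- (SM) for helper3's S6503: an essentially-finite-type formally smooth local algebra over a
Noetherian ring is the localization at a prime of a smooth algebra. -/
theorem exists_smooth_model {A B : Type u} [CommRing A] [CommRing B] [Algebra A B]
    [IsNoetherianRing A] [IsLocalRing B] [Algebra.EssFiniteType A B]
    [Algebra.FormallySmooth A B] :
    ∃ (C : Type u) (_ : CommRing C) (_ : Algebra A C) (_ : Algebra C B) (_ : IsScalarTower A C B)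
      (q : Ideal C) (_ : q.IsPrime), Algebra.Smooth A C ∧ IsLocalization.AtPrime B q := by
  classical
  obtain ⟨S₀, M, hft, hloc⟩ :=
    (Algebra.essFiniteType_iff_exists_subalgebra (R := A) (S := B)).mp inferInstance
  -- the prime of `S₀` under the maximal ideal
  let q₀ : Ideal S₀ := (maximalIdeal B).comap (algebraMap S₀ B)
  haveI hq₀ : q₀.IsPrime := Ideal.comap_isPrime _ _
  have hunit : ∀ r ∈ q₀.primeCompl, IsUnit (algebraMap S₀ B r) := by
    intro r hr
    by_contra hnu
    exact hr ((mem_maximalIdeal _).mpr hnu)
  have hMle : M ≤ q₀.primeCompl := by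
    intro m hm hmem
    have h1 : IsUnit (algebraMap S₀ B m) := IsLocalization.map_units B ⟨m, hm⟩
    exact ((mem_maximalIdeal _).mp hmem) h1
  haveI hlocq₀ : IsLocalization.AtPrime B q₀ := IsLocalization.of_le M q₀.primeCompl hMle hunit
  -- finite presentation
  haveI hfp : Algebra.FinitePresentation A S₀ :=
    Algebra.FinitePresentation.of_finiteType.mp hft
  -- smooth at `q₀`
  let e : Localization.AtPrime q₀ ≃ₐ[S₀] B := IsLocalization.algEquiv q₀.primeCompl _ _
  haveI hsmAt : Algebra.IsSmoothAt A q₀ :=
    Algebra.FormallySmooth.of_equiv (e.restrictScalars A).symm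
  obtain ⟨g, hg, hsm⟩ := Algebra.IsSmoothAt.exists_notMem_smooth A q₀
  have hgu : IsUnit (algebraMap S₀ B g) := hunit g hg
  let C := Localization.Away g
  letI algCB : Algebra C B := (IsLocalization.Away.lift (S := C) g hgu).toAlgebra
  haveI towS : IsScalarTower S₀ C B := IsScalarTower.of_algebraMap_eq (fun x => by
    change algebraMap S₀ B x = IsLocalization.Away.lift (S := C) g hgu (algebraMap S₀ C x)
    rw [IsLocalization.Away.lift_eq])
  haveI towA : IsScalarTower A C B := IsScalarTower.of_algebraMap_eq (fun x => by
    rw [IsScalarTower.algebraMap_apply A S₀ C, ← IsScalarTower.algebraMap_apply S₀ C B,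
      ← IsScalarTower.algebraMap_apply A S₀ B])
  let q : Ideal C := (maximalIdeal B).comap (algebraMap C B)
  haveI hq : q.IsPrime := Ideal.comap_isPrime _ _
  refine ⟨C, inferInstance, inferInstance, algCB, towA, q, hq, hsm, ?_⟩
  haveI h1 : IsLocalization (q₀.primeCompl.map (algebraMap S₀ C)) B :=
    IsLocalization.isLocalization_of_submonoid_le C B (Submonoid.powers g) q₀.primeCompl
      (by
        rw [Submonoid.powers_le]
        exact hg)
  refine IsLocalization.of_le (q₀.primeCompl.map (algebraMap S₀ C)) q.primeCompl ?_ ?_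
  · rintro _ ⟨s, hs, rfl⟩ hmem
    apply hs
    change algebraMap S₀ B s ∈ maximalIdeal B
    rw [IsScalarTower.algebraMap_apply S₀ C B]
    exact hmem
  · intro r hr
    by_contra hnu
    exact hr ((mem_maximalIdeal _).mpr hnu)

end Groth.Agent.H96.PD_SM
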