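import Mathlib
import Groth.Agent.H32.QCBC.Defs

set_option autoImplicit false
set_option linter.unusedVariables false
universe u v₁ u₁
open CategoryTheory Opposite Limits Groth.Agent.H32.QCBC

namespace Groth.Agent.H96.QCBC_LS

section General

variable {C : Type u₁} [Category.{v₁} C] {J : GrothendieckTopology C} {R : Sheaf J RingCat.{u}}
  [HasWeakSheafify J AddCommGrpCat.{u}] [J.WEqualsLocallyBijective AddCommGrpCat.{u}]

/-- the identity, as a morphism out of the restriction of scalars along the identity. -/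
noncomputable def fromR {R₀ : Cᵒᵖ ⥤ RingCat.{u}} (M : PresheafOfModules.{u} R₀) :
    (PresheafOfModules.restrictScalars (𝟙 R₀)).obj M ⟶ M :=
  PresheafOfModules.homMk (𝟙 M.presheaf) (fun X r m => rfl)

/-- the image of a morphism of presheaves of modules, as a family of submodules. -/
def imageSub {R₀ : Cᵒᵖ ⥤ RingCat.{u}} {P M : PresheafOfModules.{u} R₀} (θ : P ⟶ M) :
    M.Submodule where
  obj X := LinearMap.range (θ.app X).hom
  map {X Y} f := by
    rintro _ ⟨y, rfl⟩
    refine ⟨P.map f y, ?_⟩
    exact PresheafOfModules.naturality_apply θ f y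

/-- a morphism from a presheaf of modules to a sheaf of modules which is "epi onto sheaves" is
locally surjective. -/
theorem locally_surjective_of_epiLike (F : SheafOfModules.{u} R) (P : PresheafOfModules.{u} R.obj)
    (θ : P ⟶ F.val)
    (hθ : ∀ (N : SheafOfModules.{u} R) (g h : F ⟶ N), θ ≫ g.val = θ ≫ h.val → g = h)
    (U : C) (s : F.val.obj (op U)) :
    ∃ T ∈ J U, ∀ ⦃V : C⦄ (i : V ⟶ U), T i →
      ∃ r : P.obj (op V), θ.app (op V) r = F.val.map i.op s := by
  let Im := imageSub θ
  let p : F.val ⟶ cokernel Im.ι := cokernel.π Im.ι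
  let N : SheafOfModules.{u} R := (PresheafOfModules.sheafification (𝟙 R.obj)).obj (cokernel Im.ι)
  let η : cokernel Im.ι ⟶ N.val :=
    (PresheafOfModules.sheafificationAdjunction (𝟙 R.obj)).unit.app (cokernel Im.ι) ≫ fromR N.val
  let q : F ⟶ N := ⟨p ≫ η⟩
  have hθp : θ ≫ p = 0 := by
    ext X x
    have hx : (θ.app X).hom x ∈ Im.obj X := ⟨x, rfl⟩
    have h1 := congrArg (fun φ => (φ.app X).hom ⟨(θ.app X).hom x, hx⟩) (cokernel.condition Im.ι)
    exact h1
  have hq : q = 0 := by
    apply hθ
    show θ ≫ p ≫ η = θ ≫ (0 : F ⟶ N).val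
    rw [← Category.assoc, hθp, Limits.zero_comp]
    have h0 : (0 : F ⟶ N).val = 0 := rfl
    rw [h0, Limits.comp_zero]
  have hηp : (η.app (op U)).hom ((p.app (op U)).hom s) = 0 := by
    have := congrArg (fun φ : F ⟶ N => (φ.val.app (op U)).hom s) hq
    exact this
  have hts : ((toSheafify J (cokernel Im.ι).presheaf).app (op U)).hom ((p.app (op U)).hom s) = 0 :=
    hηp
  have hinj : Presheaf.IsLocallyInjective J (toSheafify J (cokernel Im.ι).presheaf) := inferInstance
  have hT := hinj.equalizerSieve_mem (X := op U) ((p.app (op U)).hom s) 0 (by rw [map_zero]; exact hts)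
  refine ⟨_, hT, fun V i hi => ?_⟩
  have hi' : (cokernel Im.ι).map i.op ((p.app (op U)).hom s) = 0 := by
    have h1 : (cokernel Im.ι).presheaf.map i.op ((p.app (op U)).hom s) =
        (cokernel Im.ι).presheaf.map i.op 0 := hi
    rw [map_zero] at h1
    exact h1
  have hp0 : (p.app (op V)).hom (F.val.map i.op s) = 0 :=
    (PresheafOfModules.naturality_apply p i.op s).trans hi'
  -- exactness of `Im → F → coker` at `V`
  let S : ShortComplex (PresheafOfModules.{u} R.obj) := ShortComplex.mk Im.ι p (cokernel.condition _)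
  have hS : S.Exact := ShortComplex.exact_of_g_is_cokernel _ (cokernelIsCokernel _)
  have hm : Mono S.f := inferInstanceAs (Mono Im.ι)
  have h2 := hS.map_of_mono_of_preservesKernel (PresheafOfModules.evaluation R.obj (op V)) hm
    inferInstance
  obtain ⟨y, hy⟩ := (ShortComplex.moduleCat_exact_iff _).1 h2 (F.val.map i.op s) hp0
  obtain ⟨r, hr⟩ := y.2
  refine ⟨r, ?_⟩
  rw [← hy]
  exact hr

end General

end Groth.Agent.H96.QCBC_LS
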