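import Mathlib
import Groth.Agent.H96.QCBC_LS

set_option autoImplicit false
set_option linter.unusedSectionVars false
universe u v₁ u₁
open CategoryTheory Opposite Limits

namespace Groth.Agent.H96.QCBC_GEN
variable {C : Type u₁} [Category.{v₁} C] {J : GrothendieckTopology C} {R : Sheaf J RingCat.{u}}
  [HasWeakSheafify J AddCommGrpCat.{u}] [J.WEqualsLocallyBijective AddCommGrpCat.{u}]

/-- the family of sections as a morphism of presheaves of types. -/
noncomputable def secNat (N : SheafOfModules.{u} R) {I : Type u} (s : I → N.sections) :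
    (Functor.const Cᵒᵖ).obj I ⟶ N.val.presheaf ⋙ forget _ where
  app X := ↾fun i => (s i).val X
  naturality X Y f := by
    ext i
    exact ((s i).property f).symm

lemma freeObjDesc_secNat_apply (N : SheafOfModules.{u} R) {I : Type u} (s : I → N.sections)
    (X : Cᵒᵖ) (c : I →₀ R.obj.obj X) :
    ((PresheafOfModules.freeObjDesc (secNat N s)).app X).hom c =
      c.sum fun i r => r • (s i).eval X := rfl

/-- (GEN) generating sections generate locally by finite combinations. -/
theorem exists_locally_finite_combination (N : SheafOfModules.{u} R) {I : Type u}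
    (s : I → N.sections) [Epi (N.freeHomEquiv.symm s)] (X : C) (x : N.val.obj (op X)) :
    ∃ S ∈ J X, ∀ ⦃Y : C⦄ (f : Y ⟶ X), S f → ∃ c : I →₀ R.obj.obj (op Y),
      N.val.map f.op x = c.sum fun i r => r • (s i).eval (op Y) := by
  have hθ : ∀ (N' : SheafOfModules.{u} R) (g h : N ⟶ N'),
      PresheafOfModules.freeObjDesc (secNat N s) ≫ g.val =
        PresheafOfModules.freeObjDesc (secNat N s) ≫ h.val → g = h := by
    intro N' g h hgh
    have key : ∀ i, SheafOfModules.sectionsMap g (s i) = SheafOfModules.sectionsMap h (s i) := by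
      intro i
      ext Y
      have h0 : ((PresheafOfModules.freeObjDesc (secNat N s)).app Y).hom
          (Finsupp.single i (1 : R.obj.obj Y)) = (s i).eval Y := by
        rw [freeObjDesc_secNat_apply, Finsupp.sum_single_index (by simp), one_smul]
      have h1 : (g.val.app Y).hom (((PresheafOfModules.freeObjDesc (secNat N s)).app Y).hom
          (Finsupp.single i (1 : R.obj.obj Y))) =
          (h.val.app Y).hom (((PresheafOfModules.freeObjDesc (secNat N s)).app Y).hom
          (Finsupp.single i (1 : R.obj.obj Y))) :=
        congrArg (fun φ => (φ.app Y).hom (Finsupp.single i (1 : R.obj.obj Y))) hgh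
      rw [h0] at h1
      exact h1
    rw [← cancel_epi (N.freeHomEquiv.symm s), SheafOfModules.freeHomEquiv_symm_comp,
      SheafOfModules.freeHomEquiv_symm_comp]
    congr 1
    funext i
    exact key i
  obtain ⟨T, hT, h⟩ := Groth.Agent.H96.QCBC_LS.locally_surjective_of_epiLike N _
    (PresheafOfModules.freeObjDesc (secNat N s)) hθ X x
  refine ⟨T, hT, fun Y f hf => ?_⟩
  obtain ⟨c, hc⟩ := h f hf
  exact ⟨c, hc.symm⟩

end Groth.Agent.H96.QCBC_GEN
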