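import Mathlib
import Groth.Agent.H96.QCBC_GEN

set_option autoImplicit false
set_option linter.unusedSectionVars false
set_option linter.unusedVariables false
universe u v₁ u₁
open CategoryTheory Opposite Limits

namespace Groth.Agent.H96.QCBC_Free
open Groth.Agent.H96.QCBC_GEN

variable {C : Type u₁} [Category.{v₁} C] {J : GrothendieckTopology C} {R : Sheaf J RingCat.{u}}
  [HasWeakSheafify J AddCommGrpCat.{u}] [J.WEqualsLocallyBijective AddCommGrpCat.{u}]

open SheafOfModules

/-- the basis element `e_i` of `free I` at `X`. -/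
noncomputable def e (I : Type u) (i : I) (X : Cᵒᵖ) : (free (R := R) I).val.obj X :=
  (freeSection (R := R) i).eval X

/-- the Kronecker family of sections of `unit R`. -/
noncomputable def kron (I : Type u) (i : I) (j : I) : (unit R).sections := by
  classical
  exact if j = i then (unit R).unitHomEquiv (𝟙 _) else (unit R).unitHomEquiv 0

/-- the `i`-th coordinate `free I ⟶ unit R`. -/
noncomputable def coord (I : Type u) (i : I) : free (R := R) I ⟶ unit R :=
  (unit R).freeHomEquiv.symm (kron I i)

/-- the `i`-th coordinate of a local section of `free I`. -/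
noncomputable def co (I : Type u) (i : I) (X : Cᵒᵖ) (x : (free (R := R) I).val.obj X) :
    R.obj.obj X :=
  ((coord (R := R) I i).val.app X).hom x

lemma co_e (I : Type u) (i j : I) (X : Cᵒᵖ) [DecidableEq I] :
    co (R := R) I i X (e I j X) = if j = i then 1 else 0 := by
  have h := sectionsMap_freeHomEquiv_symm_freeSection (M := unit R) (kron I i) j
  have h2 := congrArg (fun σ : (unit R).sections => σ.val X) h
  show (sectionsMap (coord I i) (freeSection j)).val X = _
  unfold coord
  rw [h2]
  unfold kron
  split_ifs with hji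
  · rfl
  · rfl


instance epi_free_id (I : Type u) :
    Epi ((free (R := R) I).freeHomEquiv.symm (fun i => freeSection (R := R) i)) := by
  have : (free (R := R) I).freeHomEquiv.symm (fun i => freeSection (R := R) i) = 𝟙 _ :=
    Equiv.symm_apply_apply _ _
  rw [this]
  infer_instance

/-- (F1) every section of `free I` is locally a finite combination of the basis. -/
theorem F1 (I : Type u) (X : C) (x : (free (R := R) I).val.obj (op X)) :
    ∃ S ∈ J X, ∀ ⦃Y : C⦄ (f : Y ⟶ X), S f → ∃ c : I →₀ R.obj.obj (op Y),
      (free (R := R) I).val.map f.op x = c.sum fun i r => r • e I i (op Y) :=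
  exists_locally_finite_combination (free (R := R) I) (fun i => freeSection (R := R) i) X x

lemma co_sum (I : Type u) (i : I) (X : Cᵒᵖ) (c : I →₀ R.obj.obj X) :
    co (R := R) I i X (c.sum fun j r => r • e I j X) = c i := by
  classical
  have h1 : co (R := R) I i X (c.sum fun j r => r • e I j X) =
      c.sum fun j r => r * (if j = i then 1 else 0) := by
    unfold co
    rw [map_finsuppSum]
    refine Finsupp.sum_congr (fun j _ => ?_)
    rw [map_smul]
    show c j * co I i X (e I j X) = _
    rw [co_e]
  rw [h1]
  simp only [mul_ite, mul_one, mul_zero]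
  rw [Finsupp.sum_ite_eq']
  split_ifs with h
  · rfl
  · exact (Finsupp.notMem_support_iff.1 h).symm

lemma co_map (I : Type u) (i : I) {X Y : Cᵒᵖ} (f : X ⟶ Y) (x : (free (R := R) I).val.obj X) :
    co (R := R) I i Y ((free (R := R) I).val.map f x) = R.obj.map f (co I i X x) :=
  PresheafOfModules.naturality_apply (coord (R := R) I i).val f x

theorem ab_sheaf_separated (P : Cᵒᵖ ⥤ AddCommGrpCat.{u}) (hP : Presheaf.IsSheaf J P) (U : C)
    (S : Sieve U) (hS : S ∈ J U) (x : P.obj (op U))
    (hx : ∀ ⦃V : C⦄ (f : V ⟶ U), S f → P.map f.op x = 0) : x = 0 := by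
  let E : AddCommGrpCat.{u} := AddCommGrpCat.of (AddSubgroup.zmultiples x)
  let ι : E ⟶ P.obj (op U) := AddCommGrpCat.ofHom (AddSubgroup.zmultiples x).subtype
  have h0 : ι = 0 := by
    refine ((hP E).isSeparated S hS).ext (fun V f hf => ?_)
    show ι ≫ P.map f.op = 0 ≫ P.map f.op
    rw [Limits.zero_comp]
    ext ⟨y, hy⟩
    obtain ⟨n, rfl⟩ := AddSubgroup.mem_zmultiples_iff.1 hy
    show P.map f.op (n • x) = 0
    rw [map_zsmul, hx f hf, smul_zero]
  have h1 : ι ⟨x, AddSubgroup.mem_zmultiples x⟩ = x := rfl
  rw [← h1, h0]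
  rfl


theorem mod_sheaf_separated (F : SheafOfModules.{u} R) (U : C)
    (S : Sieve U) (hS : S ∈ J U) (x : F.val.obj (op U))
    (hx : ∀ ⦃V : C⦄ (f : V ⟶ U), S f → F.val.map f.op x = 0) : x = 0 :=
  ab_sheaf_separated F.val.presheaf F.isSheaf U S hS x hx

lemma co_zero (I : Type u) (i : I) (X : Cᵒᵖ) : co (R := R) I i X 0 = 0 := by
  unfold co; rw [map_zero]; rfl

lemma co_sub (I : Type u) (i : I) (X : Cᵒᵖ) (x y : (free (R := R) I).val.obj X) :
    co (R := R) I i X (x - y) = co I i X x - co I i X y := by
  unfold co; rw [map_sub]; rfl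

lemma co_smul (I : Type u) (i : I) (X : Cᵒᵖ) (r : R.obj.obj X) (x : (free (R := R) I).val.obj X) :
    co (R := R) I i X (r • x) = r * co I i X x := by
  unfold co; rw [map_smul]; rfl

lemma co_finset_sum (I : Type u) (i : I) (X : Cᵒᵖ) {ι : Type*} (s : Finset ι)
    (g : ι → (free (R := R) I).val.obj X) :
    co (R := R) I i X (∑ j ∈ s, g j) = ∑ j ∈ s, co I i X (g j) := by
  unfold co; rw [map_sum]; rfl

/-- (F2) a section of `free I` all of whose coordinates vanish is zero. -/
theorem F2 (I : Type u) (X : C) (x : (free (R := R) I).val.obj (op X))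
    (hx : ∀ i, co I i (op X) x = 0) : x = 0 := by
  obtain ⟨S, hS, h⟩ := F1 I X x
  refine mod_sheaf_separated _ X S hS x (fun V f hf => ?_)
  obtain ⟨c, hc⟩ := h f hf
  have hc0 : c = 0 := by
    ext i
    have h1 := co_sum (R := R) I i (op V) c
    rw [← hc, co_map, hx i, map_zero] at h1
    rw [← h1]; rfl
  rw [hc, hc0, Finsupp.sum_zero_index]
  rfl

/-- (F3) a section of `free I` with finitely many nonzero coordinates is the corresponding
finite combination of the basis. -/
theorem F3 (I : Type u) (X : C) (x : (free (R := R) I).val.obj (op X))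
    (hfin : {i | co I i (op X) x ≠ 0}.Finite) :
    x = ∑ i ∈ hfin.toFinset, co I i (op X) x • e I i (op X) := by
  classical
  rw [← sub_eq_zero]
  refine F2 I X _ (fun j => ?_)
  rw [co_sub, co_finset_sum]
  simp only [co_smul, co_e, mul_ite, mul_one, mul_zero]
  rw [Finset.sum_ite_eq' hfin.toFinset j]
  split_ifs with h
  · exact sub_self _
  · rw [sub_zero]
    by_contra h2
    exact h ((Set.Finite.mem_toFinset hfin).2 h2)

theorem exists_kernel_section {M N : SheafOfModules.{u} R} (g : M ⟶ N) (U : C)
    (x : M.val.obj (op U)) (hx : g.val.app (op U) x = 0) :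
    ∃ s : (kernel g).val.obj (op U), (kernel.ι g).val.app (op U) s = x := by
  have : (SheafOfModules.evaluation R (op U)).Additive := by
    dsimp [SheafOfModules.evaluation]; infer_instance
  have hlim := KernelFork.mapIsLimit _ (kernelIsKernel g) (SheafOfModules.evaluation R (op U))
  let k : ModuleCat.of (R.obj.obj (op U)) (R.obj.obj (op U)) ⟶ (SheafOfModules.evaluation R (op U)).obj M :=
    ModuleCat.ofHom (LinearMap.toSpanSingleton (R.obj.obj (op U)) (M.val.obj (op U)) x)
  have hk : k ≫ (SheafOfModules.evaluation R (op U)).map g = 0 := by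
    ext
    show (g.val.app (op U)).hom ((1 : R.obj.obj (op U)) • x) = 0
    rw [one_smul]
    exact hx
  obtain ⟨l, hl⟩ := KernelFork.IsLimit.lift' hlim k hk
  refine ⟨l.hom (1 : R.obj.obj (op U)), ?_⟩
  have := congrArg (fun φ => φ.hom (1 : R.obj.obj (op U))) hl
  simp only [k] at this
  refine this.trans ?_
  show (1 : R.obj.obj (op U)) • x = x
  rw [one_smul]


/-- (F3') variant of `F3` with an arbitrary finset containing the support. -/
theorem F3' (I : Type u) (X : C) (x : (free (R := R) I).val.obj (op X))
    (s : Finset I) (hs : ∀ i, i ∉ s → co I i (op X) x = 0) :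
    x = ∑ i ∈ s, co I i (op X) x • e I i (op X) := by
  classical
  rw [← sub_eq_zero]
  refine F2 I X _ (fun j => ?_)
  rw [co_sub, co_finset_sum]
  simp only [co_smul, co_e, mul_ite, mul_one, mul_zero]
  rw [Finset.sum_ite_eq' s j]
  split_ifs with h
  · exact sub_self _
  · rw [sub_zero]
    exact hs j h

lemma co_finsupp_sum (I : Type u) (i : I) (X : Cᵒᵖ) {K : Type*} (d : K →₀ R.obj.obj X)
    (g : K → (free (R := R) I).val.obj X) :
    co (R := R) I i X (d.sum fun k r => r • g k) = d.sum fun k r => r * co I i X (g k) := by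
  unfold Finsupp.sum
  rw [co_finset_sum]
  exact Finset.sum_congr rfl (fun k _ => co_smul I i X _ _)

section Pres

variable (N : SheafOfModules.{u} R) (P : N.Presentation) (T : C)

/-- the generators at `T`. -/
noncomputable def gS (i : P.generators.I) : N.val.obj (op T) := (P.generators.s i).eval (op T)

/-- the relations as sections of the free module. -/
noncomputable def rho (k : P.relations.I) : (free (R := R) P.generators.I).sections :=
  sectionsMap (kernel.ι P.generators.π) (P.relations.s k)

/-- the relation matrix at `T`. -/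
noncomputable def gA (k : P.relations.I) (i : P.generators.I) : R.obj.obj (op T) :=
  co P.generators.I i (op T) ((rho N P k).eval (op T))

lemma co_rho {Y : C} (g : Y ⟶ T) (k : P.relations.I) (i : P.generators.I) :
    co P.generators.I i (op Y) ((rho N P k).eval (op Y)) = R.obj.map g.op (gA N P T k i) := by
  unfold gA
  rw [← co_map, PresheafOfModules.sections_property]

lemma pi_e (i : P.generators.I) (Y : Cᵒᵖ) :
    (P.generators.π.val.app Y).hom (e P.generators.I i Y) = (P.generators.s i).eval Y := by
  have h := sectionsMap_freeHomEquiv_symm_freeSection (M := N) P.generators.s i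
  exact congrArg (fun σ : N.sections => σ.val Y) h

lemma pi_rho (k : P.relations.I) (Y : Cᵒᵖ) :
    (P.generators.π.val.app Y).hom ((rho N P k).eval Y) = 0 := by
  have h : kernel.ι P.generators.π ≫ P.generators.π = 0 := kernel.condition _
  have h2 := congrArg (fun φ : kernel P.generators.π ⟶ N =>
    (φ.val.app Y).hom ((P.relations.s k).eval Y)) h
  exact h2

lemma gS_map {Y : C} (g : Y ⟶ T) (i : P.generators.I) :
    N.val.map g.op (gS N P T i) = (P.generators.s i).eval (op Y) :=
  PresheafOfModules.sections_property _ _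

end Pres

end Groth.Agent.H96.QCBC_Free
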