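import Mathlib
import Groth.Agent.H96.QCBC_Free

set_option autoImplicit false
set_option linter.unusedSectionVars false
set_option linter.unusedVariables false
universe u v₁ u₁
open CategoryTheory Opposite Limits

namespace Groth.Agent.H96.FPres_Core
open Groth.Agent.H96.QCBC_GEN Groth.Agent.H96.QCBC_Free SheafOfModules

variable {C : Type u₁} [Category.{v₁} C] {J : GrothendieckTopology C} {R : Sheaf J RingCat.{u}}
  [HasWeakSheafify J AddCommGrpCat.{u}] [J.WEqualsLocallyBijective AddCommGrpCat.{u}]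

/-- the global section of `N` determined by an element over a terminal object. -/
noncomputable def secOf (N : SheafOfModules.{u} R) {T : C} (hT : IsTerminal T)
    (m : N.val.obj (op T)) : N.sections :=
  PresheafOfModules.sectionsMk (fun Y => N.val.map (hT.from Y.unop).op m) (by
    intro Y Y' f
    have h1 : (hT.from Y.unop).op ≫ f = (hT.from Y'.unop).op := by
      apply Quiver.Hom.unop_inj
      exact hT.hom_ext _ _
    rw [← h1, PresheafOfModules.map_comp]
    rfl)

lemma secOf_eval (N : SheafOfModules.{u} R) {T : C} (hT : IsTerminal T)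
    (m : N.val.obj (op T)) (Y : C) :
    (secOf N hT m).eval (op Y) = N.val.map (hT.from Y).op m := rfl

lemma secOf_eval_of_hom (N : SheafOfModules.{u} R) {T : C} (hT : IsTerminal T)
    (m : N.val.obj (op T)) {Y : C} (z : Y ⟶ T) :
    (secOf N hT m).eval (op Y) = N.val.map z.op m := by
  rw [secOf_eval, hT.hom_ext (hT.from Y) z]


/-- restriction, with the plain codomain. -/
noncomputable def rs (N : SheafOfModules.{u} R) {Y Z : C} (f : Y ⟶ Z) (x : N.val.obj (op Z)) :
    N.val.obj (op Y) := N.val.map f.op x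

lemma rs_smul (N : SheafOfModules.{u} R) {Y Z : C} (f : Y ⟶ Z) (r : R.obj.obj (op Z))
    (x : N.val.obj (op Z)) : rs N f (r • x) = R.obj.map f.op r • rs N f x :=
  PresheafOfModules.map_smul N.val f.op r x

lemma rs_sum (N : SheafOfModules.{u} R) {Y Z : C} (f : Y ⟶ Z) {ι : Type*} (s : Finset ι)
    (x : ι → N.val.obj (op Z)) : rs N f (∑ j ∈ s, x j) = ∑ j ∈ s, rs N f (x j) :=
  map_sum (N.val.map f.op).hom x s

lemma rs_zero (N : SheafOfModules.{u} R) {Y Z : C} (f : Y ⟶ Z) :
    rs N f (0 : N.val.obj (op Z)) = 0 :=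
  map_zero (N.val.map f.op).hom

lemma rs_comp (N : SheafOfModules.{u} R) {Y Z W : C} (a : Y ⟶ Z) (z : Z ⟶ W)
    (x : N.val.obj (op W)) : rs N a (rs N z x) = rs N (a ≫ z) x := by
  unfold rs
  rw [op_comp, PresheafOfModules.map_comp]
  rfl

lemma secOf_eval' (N : SheafOfModules.{u} R) {T : C} (hT : IsTerminal T)
    (m : N.val.obj (op T)) {Y : C} (z : Y ⟶ T) :
    (secOf N hT m).eval (op Y) = rs N z m := secOf_eval_of_hom N hT m z

section Gen

variable (N : SheafOfModules.{u} R) {T : C} (hT : IsTerminal T) (Aff : C → Prop)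
  {ι : Type u} [Fintype ι] (m : ι → N.val.obj (op T))

/-- the morphism `free ι ⟶ N` given by elements over the terminal object. -/
noncomputable def piOf : free (R := R) ι ⟶ N :=
  N.freeHomEquiv.symm (fun j => secOf N hT (m j))

lemma piOf_e (j : ι) (Y : Cᵒᵖ) :
    ((piOf N hT m).val.app Y).hom (e ι j Y) = (secOf N hT (m j)).eval Y := by
  have h := sectionsMap_freeHomEquiv_symm_freeSection (M := N) (fun j => secOf N hT (m j)) j
  exact congrArg (fun σ : N.sections => σ.val Y) h

theorem piOf_locally_surjective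
    (hB : ∀ Y : C, ∃ S ∈ J Y, ∀ ⦃Y' : C⦄ (f : Y' ⟶ Y), S f →
      ∃ (Z : C) (a : Y' ⟶ Z) (b : Z ⟶ Y), a ≫ b = f ∧ Aff Z)
    (H1 : ∀ (Z : C) (z : Z ⟶ T), Aff Z → ∀ y : N.val.obj (op Z),
      ∃ c : ι → R.obj.obj (op Z), y = ∑ j, c j • rs N z (m j))
    (Y : C) (y : N.val.obj (op Y)) :
    ∃ S ∈ J Y, ∀ ⦃V : C⦄ (i : V ⟶ Y), S i →
      ∃ r : (free (R := R) ι).val.obj (op V),
        (piOf N hT m).val.app (op V) r = rs N i y := by
  obtain ⟨S, hS, h⟩ := hB Y
  refine ⟨S, hS, fun V i hi => ?_⟩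
  obtain ⟨Z, a, b, rfl, hZ⟩ := h i hi
  obtain ⟨c, hc⟩ := H1 Z (hT.from Z) hZ (rs N b y)
  refine ⟨∑ j, R.obj.map a.op (c j) • e ι j (op V), ?_⟩
  rw [← rs_comp, hc, rs_sum, map_sum]
  refine Finset.sum_congr rfl (fun j _ => ?_)
  rw [map_smul, piOf_e, rs_smul, rs_comp, secOf_eval' N hT (m j) (a ≫ hT.from Z)]

end Gen


lemma rs_id (N : SheafOfModules.{u} R) {T : C} (x : N.val.obj (op T)) : rs N (𝟙 T) x = x := by
  have h := N.val.presheaf.map_id (op T)
  exact congrArg (fun φ : N.val.presheaf.obj (op T) ⟶ N.val.presheaf.obj (op T) => φ.hom x) h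

lemma rs_e (ι : Type u) (j : ι) {Y Z : C} (f : Y ⟶ Z) :
    rs (free (R := R) ι) f (e ι j (op Z)) = e ι j (op Y) :=
  PresheafOfModules.sections_property (freeSection (R := R) j) f.op

theorem injective_kernel_ι {M N : SheafOfModules.{u} R} (g : M ⟶ N) (Z : C) :
    Function.Injective ((kernel.ι g).val.app (op Z)).hom := by
  have h1 : Mono ((SheafOfModules.evaluation R (op Z)).map (kernel.ι g)) := inferInstance
  exact (ModuleCat.mono_iff_injective _).1 h1

section Rel

variable (N : SheafOfModules.{u} R) {T : C} (hT : IsTerminal T) (Aff : C → Prop)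
  {ι κ : Type u} [Fintype ι] [Fintype κ] (m : ι → N.val.obj (op T))
  (k : κ → ι → R.obj.obj (op T))

/-- the relation `l` as an element of `free ι` over `T`. -/
noncomputable def relElt (l : κ) : (free (R := R) ι).val.obj (op T) :=
  ∑ j, k l j • e ι j (op T)

lemma piOf_relElt (hk : ∀ l, ∑ j, k l j • m j = 0) (l : κ) :
    ((piOf N hT m).val.app (op T)).hom (relElt k l) = 0 := by
  unfold relElt
  rw [map_sum, ← hk l]
  refine Finset.sum_congr rfl (fun j _ => ?_)
  rw [map_smul, piOf_e, secOf_eval' N hT (m j) (𝟙 T), rs_id]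

/-- the relations as elements of the kernel over `T`. -/
noncomputable def relKer (hk : ∀ l, ∑ j, k l j • m j = 0) (l : κ) :
    (kernel (piOf N hT m)).val.obj (op T) :=
  (exists_kernel_section (piOf N hT m) T (relElt k l) (piOf_relElt N hT m k hk l)).choose

lemma ι_relKer (hk : ∀ l, ∑ j, k l j • m j = 0) (l : κ) :
    ((kernel.ι (piOf N hT m)).val.app (op T)).hom (relKer N hT m k hk l) = relElt k l :=
  (exists_kernel_section (piOf N hT m) T (relElt k l) (piOf_relElt N hT m k hk l)).choose_spec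

theorem H1_kernel (hk : ∀ l, ∑ j, k l j • m j = 0)
    (H2 : ∀ (Z : C) (z : Z ⟶ T), Aff Z → ∀ c : ι → R.obj.obj (op Z),
      ∑ j, c j • rs N z (m j) = 0 →
      ∃ d : κ → R.obj.obj (op Z), ∀ j, c j = ∑ l, d l * R.obj.map z.op (k l j))
    (Z : C) (z : Z ⟶ T) (hZ : Aff Z) (v : (kernel (piOf N hT m)).val.obj (op Z)) :
    ∃ d : κ → R.obj.obj (op Z),
      v = ∑ l, d l • rs (kernel (piOf N hT m)) z (relKer N hT m k hk l) := by
  classical
  obtain ⟨y, hy⟩ : ∃ y : (free (R := R) ι).val.obj (op Z),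
      y = ((kernel.ι (piOf N hT m)).val.app (op Z)).hom v := ⟨_, rfl⟩
  have hπy : ((piOf N hT m).val.app (op Z)).hom y = 0 := by
    have h : kernel.ι (piOf N hT m) ≫ piOf N hT m = 0 := kernel.condition _
    rw [hy]
    exact congrArg (fun φ : kernel (piOf N hT m) ⟶ N => (φ.val.app (op Z)).hom v) h
  have hy3 := F3' ι Z y Finset.univ (fun i hi => absurd (Finset.mem_univ i) hi)
  have h0 : ∑ j, co ι j (op Z) y • rs N z (m j) = 0 := by
    rw [← hπy]
    conv_rhs => rw [hy3]
    rw [map_sum]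
    refine Finset.sum_congr rfl (fun j _ => ?_)
    rw [map_smul, piOf_e, secOf_eval' N hT (m j) z]
  obtain ⟨d, hd⟩ := H2 Z z hZ (fun j => co ι j (op Z) y) h0
  refine ⟨d, ?_⟩
  apply injective_kernel_ι (piOf N hT m) Z
  rw [← hy, map_sum]
  have h1 : ∀ l, ((kernel.ι (piOf N hT m)).val.app (op Z)).hom
      (d l • rs (kernel (piOf N hT m)) z (relKer N hT m k hk l)) =
      d l • ∑ j, R.obj.map z.op (k l j) • e ι j (op Z) := by
    intro l
    rw [map_smul]
    congr 1
    have h2 : ((kernel.ι (piOf N hT m)).val.app (op Z)).hom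
        (rs (kernel (piOf N hT m)) z (relKer N hT m k hk l)) =
        rs (free (R := R) ι) z (((kernel.ι (piOf N hT m)).val.app (op T)).hom
          (relKer N hT m k hk l)) :=
      PresheafOfModules.naturality_apply (kernel.ι (piOf N hT m)).val z.op _
    rw [h2, ι_relKer]
    unfold relElt
    rw [rs_sum]
    refine Finset.sum_congr rfl (fun j _ => ?_)
    rw [rs_smul, rs_e]
  rw [Finset.sum_congr rfl (fun l _ => h1 l)]
  conv_lhs => rw [hy3]
  simp only [Finset.smul_sum, smul_smul]
  rw [Finset.sum_comm]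
  refine Finset.sum_congr rfl (fun j _ => ?_)
  rw [← Finset.sum_smul, hd j]

end Rel


section Final

theorem epi_of_locally_surjective {C : Type u₁} [Category.{v₁} C] {J : GrothendieckTopology C} {R : Sheaf J RingCat.{u}} [HasSheafify J AddCommGrpCat.{u}] [J.WEqualsLocallyBijective AddCommGrpCat.{u}] [J.HasSheafCompose (forget AddCommGrpCat.{u})] [Balanced (Sheaf J AddCommGrpCat.{u})] {M N : SheafOfModules.{u} R} (φ : M ⟶ N) (h : ∀ (U : C) (s : N.val.obj (op U)), ∃ T ∈ J U, ∀ ⦃V : C⦄ (i : V ⟶ U), T i → ∃ r : M.val.obj (op V), φ.val.app (op V) r = N.val.map i.op s) : Epi φ := by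
  have hls : Sheaf.IsLocallySurjective ((SheafOfModules.toSheaf.{u} R).map φ) := by
    refine ⟨fun {U} s => ?_⟩
    obtain ⟨T, hT, h'⟩ := h U s
    exact J.superset_covering (fun V i hi => h' i hi) hT
  have hepi : Epi ((SheafOfModules.toSheaf.{u} R).map φ) :=
    (Sheaf.isLocallySurjective_iff_epi' _ _).1 hls
  exact (SheafOfModules.toSheaf.{u} R).epi_of_epi_map hepi

variable {C' : Type u₁} [Category.{v₁} C'] {J' : GrothendieckTopology C'}
  {R' : Sheaf J' RingCat.{u}}
  [HasSheafify J' AddCommGrpCat.{u}] [J'.WEqualsLocallyBijective AddCommGrpCat.{u}]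
  [J'.HasSheafCompose (forget AddCommGrpCat.{u})] [Balanced (Sheaf J' AddCommGrpCat.{u})]

/-- (ABSFP) a finite presentation of a sheaf of modules from finitely many elements over a terminal
object which generate locally on a basis, with finitely many relations generating all relations
locally on the basis. -/
theorem exists_presentation (N : SheafOfModules.{u} R') {T : C'} (hT : IsTerminal T)
    (Aff : C' → Prop)
    (hB : ∀ Y : C', ∃ S ∈ J' Y, ∀ ⦃Y' : C'⦄ (f : Y' ⟶ Y), S f →
      ∃ (Z : C') (a : Y' ⟶ Z) (b : Z ⟶ Y), a ≫ b = f ∧ Aff Z)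
    {ι κ : Type u} [Fintype ι] [Fintype κ] (m : ι → N.val.obj (op T))
    (k : κ → ι → R'.obj.obj (op T)) (hk : ∀ l, ∑ j, k l j • m j = 0)
    (H1 : ∀ (Z : C') (z : Z ⟶ T), Aff Z → ∀ y : N.val.obj (op Z),
      ∃ c : ι → R'.obj.obj (op Z), y = ∑ j, c j • rs N z (m j))
    (H2 : ∀ (Z : C') (z : Z ⟶ T), Aff Z → ∀ c : ι → R'.obj.obj (op Z),
      ∑ j, c j • rs N z (m j) = 0 →
      ∃ d : κ → R'.obj.obj (op Z), ∀ j, c j = ∑ l, d l * R'.obj.map z.op (k l j)) :
    ∃ P : N.Presentation, P.IsFinite := by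
  have hepi1 : Epi (N.freeHomEquiv.symm (fun j => secOf N hT (m j))) :=
    epi_of_locally_surjective (piOf N hT m)
      (fun U s => piOf_locally_surjective N hT Aff m hB H1 U s)
  let G : N.GeneratingSections :=
    { I := ι, s := fun j => secOf N hT (m j), epi := hepi1 }
  have hepi2 : Epi ((kernel G.π).freeHomEquiv.symm
      (fun l => secOf (kernel (piOf N hT m)) hT (relKer N hT m k hk l))) :=
    epi_of_locally_surjective (piOf (kernel (piOf N hT m)) hT (relKer N hT m k hk))
      (fun U s => piOf_locally_surjective (kernel (piOf N hT m)) hT Aff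
        (relKer N hT m k hk) hB (H1_kernel N hT Aff m k hk H2) U s)
  let Rl : (kernel G.π).GeneratingSections :=
    { I := κ, s := fun l => secOf (kernel (piOf N hT m)) hT (relKer N hT m k hk l),
      epi := hepi2 }
  refine ⟨{ generators := G, relations := Rl }, ?_⟩
  exact { isFiniteType_generators := ⟨(inferInstance : Finite ι)⟩
          isFiniteType_relations := ⟨(inferInstance : Finite κ)⟩ }

end Final

end Groth.Agent.H96.FPres_Core
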