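import Mathlib
import Groth.Agent.H96.QCBC_Free

set_option autoImplicit false
set_option linter.unusedSectionVars false
set_option linter.unusedVariables false
universe u v₁ u₁
open CategoryTheory Opposite Limits

namespace Groth.Agent.H96.QCBC_Fields
open Groth.Agent.H96.QCBC_GEN Groth.Agent.H96.QCBC_Free SheafOfModules

variable {C : Type u₁} [Category.{v₁} C] {J : GrothendieckTopology C} {R : Sheaf J RingCat.{u}}
  [HasWeakSheafify J AddCommGrpCat.{u}] [J.WEqualsLocallyBijective AddCommGrpCat.{u}]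
  (N : SheafOfModules.{u} R) (P : N.Presentation) (T : C)

theorem lf' (k : P.relations.I) : ∃ S ∈ J T, ∀ ⦃Y : C⦄ (g : Y ⟶ T), S g →
    {i | R.obj.map g.op (gA N P T k i) ≠ 0}.Finite := by
  obtain ⟨S, hS, h⟩ := F1 P.generators.I T ((rho N P k).eval (op T))
  refine ⟨S, hS, fun Y g hg => ?_⟩
  obtain ⟨c, hc⟩ := h g hg
  refine c.support.finite_toSet.subset (fun i hi => ?_)
  have h1 := co_sum (R := R) P.generators.I i (op Y) c
  rw [← hc, co_map] at h1
  have h2 : c i ≠ 0 := by
    rw [← h1]; exact hi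
  exact Finsupp.mem_support_iff.2 h2

theorem rel' (k : P.relations.I) ⦃Y : C⦄ (g : Y ⟶ T)
    (hfin : {i | R.obj.map g.op (gA N P T k i) ≠ 0}.Finite) :
    ∑ i ∈ hfin.toFinset, R.obj.map g.op (gA N P T k i) • N.val.map g.op (gS N P T i) = 0 := by
  have h3 := F3' P.generators.I Y ((rho N P k).eval (op Y)) hfin.toFinset (fun i hi => by
    rw [co_rho N P T g]
    by_contra h
    exact hi ((Set.Finite.mem_toFinset hfin).2 h))
  have h4 := congrArg (fun x => (P.generators.π.val.app (op Y)).hom x) h3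
  simp only [] at h4
  rw [pi_rho, map_sum] at h4
  refine Eq.trans ?_ h4.symm
  refine Finset.sum_congr rfl (fun i _ => ?_)
  rw [map_smul, pi_e, co_rho N P T g, gS_map]
  rfl

theorem gen' ⦃X : C⦄ (v : X ⟶ T) (t : N.val.obj (op X)) :
    ∃ S ∈ J X, ∀ ⦃Y : C⦄ (f : Y ⟶ X), S f → ∃ c : P.generators.I →₀ R.obj.obj (op Y),
      N.val.map f.op t = c.sum fun i r => r • N.val.map (f ≫ v).op (gS N P T i) := by
  obtain ⟨S, hS, h⟩ := exists_locally_finite_combination N P.generators.s X t
  refine ⟨S, hS, fun Y f hf => ?_⟩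
  obtain ⟨c, hc⟩ := h f hf
  refine ⟨c, hc.trans ?_⟩
  refine Finsupp.sum_congr (fun i _ => ?_)
  show c i • _ = c i • _
  rw [gS_map]
  rfl


theorem relgen' ⦃X : C⦄ (v : X ⟶ T) (c : P.generators.I →₀ R.obj.obj (op X))
    (hc : (c.sum fun i r => r • N.val.map v.op (gS N P T i)) = 0) :
    ∃ S ∈ J X, ∀ ⦃Y : C⦄ (f : Y ⟶ X), S f → ∃ d : P.relations.I →₀ R.obj.obj (op Y),
      ∀ i, R.obj.map f.op (c i) = d.sum fun k r => r * R.obj.map (f ≫ v).op (gA N P T k i) := by
  -- the element `y = Σ c_i e_i` of `free I` over `X`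
  obtain ⟨y, hydef⟩ : ∃ y : (free (R := R) P.generators.I).val.obj (op X),
    y = c.sum fun i r => r • e P.generators.I i (op X) := ⟨_, rfl⟩
  have hy : (P.generators.π.val.app (op X)).hom y = 0 := by
    rw [hydef, map_finsuppSum]
    refine Eq.trans ?_ hc
    refine Finsupp.sum_congr (fun i _ => ?_)
    rw [map_smul, pi_e, gS_map]
    rfl
  obtain ⟨z, hz⟩ := exists_kernel_section P.generators.π X y hy
  obtain ⟨S, hS, h⟩ := exists_locally_finite_combination (kernel P.generators.π)
    P.relations.s X z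
  refine ⟨S, hS, fun Y f hf => ?_⟩
  obtain ⟨d, hd⟩ := h f hf
  refine ⟨d, fun i => ?_⟩
  -- apply `kernel.ι` at `Y`
  have h1 := congrArg (fun w => ((kernel.ι P.generators.π).val.app (op Y)).hom w) hd
  simp only [] at h1
  have h2 : ((kernel.ι P.generators.π).val.app (op Y)).hom
      ((kernel P.generators.π).val.map f.op z) =
      (free (R := R) P.generators.I).val.map f.op y := by
    rw [← hz]
    exact PresheafOfModules.naturality_apply (kernel.ι P.generators.π).val f.op z
  rw [h2, map_finsuppSum] at h1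
  have h3 := congrArg (fun w => co P.generators.I i (op Y) w) h1
  simp only [] at h3
  rw [co_map] at h3
  have h4 : co P.generators.I i (op X) y = c i := by
    rw [hydef]; exact co_sum P.generators.I i (op X) c
  rw [h4] at h3
  rw [h3]
  have h5 : (d.sum fun k r => ((kernel.ι P.generators.π).val.app (op Y)).hom
      (r • (P.relations.s k).eval (op Y))) =
      d.sum fun k r => r • (rho N P k).eval (op Y) := by
    refine Finsupp.sum_congr (fun k _ => ?_)
    rw [map_smul]
    rfl
  rw [h5, co_finsupp_sum]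
  refine Finsupp.sum_congr (fun k _ => ?_)
  rw [co_rho N P T (f ≫ v)]

end Groth.Agent.H96.QCBC_Fields
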