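import Mathlib
import Groth.Agent.H96.QCBC_Fields

set_option autoImplicit false
set_option linter.unusedSectionVars false
set_option linter.unusedVariables false
universe u v₁ u₁
open CategoryTheory Opposite Limits

namespace Groth.Agent.H96.QCBC_Over
open Groth.Agent.H96.QCBC_GEN Groth.Agent.H96.QCBC_Free Groth.Agent.H96.QCBC_Fields SheafOfModules

variable {C : Type u₁} [Category.{v₁} C] {J : GrothendieckTopology C} (R : Sheaf J RingCat.{u})
  [∀ X, HasWeakSheafify (J.over X) AddCommGrpCat.{u}]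
  [∀ X, (J.over X).WEqualsLocallyBijective AddCommGrpCat.{u}]
  (M : SheafOfModules.{u} R) (W : C) (P : (M.over W).Presentation)

/-- generators over `W`. -/
noncomputable def s0 (i : P.generators.I) : M.val.obj (op W) :=
  gS (M.over W) P (Over.mk (𝟙 W)) i

/-- relation matrix over `W`. -/
noncomputable def a0 (k : P.relations.I) (i : P.generators.I) : R.obj.obj (op W) :=
  gA (M.over W) P (Over.mk (𝟙 W)) k i

theorem lf0 (k : P.relations.I) : ∃ S ∈ J W, ∀ ⦃V : C⦄ (f : V ⟶ W), S f →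
    {i | R.obj.map f.op (a0 R M W P k i) ≠ 0}.Finite := by
  obtain ⟨S', hS', h⟩ := lf' (M.over W) P (Over.mk (𝟙 W)) k
  refine ⟨Sieve.overEquiv _ S', (GrothendieckTopology.mem_over_iff _ _).1 hS', fun V f hf => ?_⟩
  exact h (Over.homMk f : Over.mk (f ≫ (Over.mk (𝟙 W)).hom) ⟶ Over.mk (𝟙 W))
    ((Sieve.overEquiv_iff _ _).1 hf)


theorem rel0 (k : P.relations.I) ⦃V : C⦄ (f : V ⟶ W)
    (hfin : {i | R.obj.map f.op (a0 R M W P k i) ≠ 0}.Finite) :
    ∑ i ∈ hfin.toFinset, R.obj.map f.op (a0 R M W P k i) • M.val.map f.op (s0 R M W P i) = 0 :=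
  rel' (M.over W) P (Over.mk (𝟙 W)) k
    (Over.homMk (U := Over.mk f) (V := Over.mk (𝟙 W)) f (Category.comp_id f)) hfin

theorem gen0 ⦃V : C⦄ (v : V ⟶ W) (t : M.val.obj (op V)) :
    ∃ S ∈ J V, ∀ ⦃V' : C⦄ (f : V' ⟶ V), S f → ∃ c : P.generators.I →₀ R.obj.obj (op V'),
      M.val.map f.op t = c.sum fun i r => r • M.val.map (f ≫ v).op (s0 R M W P i) := by
  obtain ⟨S', hS', h⟩ := gen' (M.over W) P (Over.mk (𝟙 W)) (X := Over.mk v)
    (Over.homMk (U := Over.mk v) (V := Over.mk (𝟙 W)) v (Category.comp_id v)) t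
  refine ⟨Sieve.overEquiv _ S', (GrothendieckTopology.mem_over_iff _ _).1 hS', fun V' f hf => ?_⟩
  exact h (Over.homMk f : Over.mk (f ≫ (Over.mk v).hom) ⟶ Over.mk v)
    ((Sieve.overEquiv_iff _ _).1 hf)

theorem relgen0 ⦃V : C⦄ (v : V ⟶ W) (c : P.generators.I →₀ R.obj.obj (op V))
    (hc : (c.sum fun i r => r • M.val.map v.op (s0 R M W P i)) = 0) :
    ∃ S ∈ J V, ∀ ⦃V' : C⦄ (f : V' ⟶ V), S f → ∃ d : P.relations.I →₀ R.obj.obj (op V'),
      ∀ i, R.obj.map f.op (c i) =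
        d.sum fun k r => r * R.obj.map (f ≫ v).op (a0 R M W P k i) := by
  obtain ⟨S', hS', h⟩ := relgen' (M.over W) P (Over.mk (𝟙 W)) (X := Over.mk v)
    (Over.homMk (U := Over.mk v) (V := Over.mk (𝟙 W)) v (Category.comp_id v)) c hc
  refine ⟨Sieve.overEquiv _ S', (GrothendieckTopology.mem_over_iff _ _).1 hS', fun V' f hf => ?_⟩
  exact h (Over.homMk f : Over.mk (f ≫ (Over.mk v).hom) ⟶ Over.mk v)
    ((Sieve.overEquiv_iff _ _).1 hf)

end Groth.Agent.H96.QCBC_Over
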