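import Mathlib
import Groth.Agent.H32.QCBC.Defs
import Groth.Agent.H96.QCBC_Over

set_option autoImplicit false
universe u v₁ u₁
open CategoryTheory Opposite Limits Groth.Agent.H32.QCBC

namespace Groth.Agent.H96.QCBC_A
open Groth.Agent.H96.QCBC_Over

variable {C : Type u₁} [Category.{v₁} C] {J : GrothendieckTopology C}

theorem nonempty_elemPres (O : Sheaf J CommRingCat.{u}) [J.HasSheafCompose (forget₂ CommRingCat.{u} RingCat.{u})] [∀ X, HasWeakSheafify (J.over X) AddCommGrpCat.{u}] [∀ X, (J.over X).WEqualsLocallyBijective AddCommGrpCat.{u}] (M : SheafOfModules.{u} ((sheafCompose J (forget₂ CommRingCat.{u} RingCat.{u})).obj O)) (W : C) (P : (M.over W).Presentation) : Nonempty (ElemPres O.obj M.val J W) :=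
  ⟨{ I := P.generators.I
     K := P.relations.I
     s := s0 _ M W P
     a := a0 _ M W P
     lf := lf0 _ M W P
     rel := rel0 _ M W P
     gen := gen0 _ M W P
     relgen := relgen0 _ M W P }⟩

end Groth.Agent.H96.QCBC_A
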