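import Mathlib

set_option autoImplicit false
set_option linter.style.haveILetI false

universe u

open CategoryTheory CategoryTheory.Limits AlgebraicGeometry TensorProduct

namespace Groth.Agent.H96.LocHilb_CR

/-- (CR) for helper61's S12276/S12272: the translate of a lift commutes with restriction. -/
theorem translate_map_res {B S S' R R' Q Q' : Type u} [CommRing B] [CommRing S] [CommRing S']
    [CommRing R] [CommRing R'] [AddCommGroup Q] [Module R Q] [AddCommGroup Q'] [Module R' Q']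
    (β : B →+* S) (β' : B →+* S') (res : S →+* S') (hβ : ∀ b, res (β b) = β' b)
    (𝔪 J : Ideal B) (h𝔪J : 𝔪 * J = ⊥) (hJ𝔪 : J ≤ 𝔪)
    {r : ℕ} (j : Fin r → B) (hjJ : Ideal.span (Set.range j) = J)
    (ρ : S →+* R) (ρ' : S' →+* R') (resR : R →+* R') (hρ : ∀ s, ρ' (res s) = resR (ρ s))
    (hρs : Function.Surjective ρ) (hρs' : Function.Surjective ρ')
    (hρk : RingHom.ker ρ = 𝔪.map β) (hρk' : RingHom.ker ρ' = 𝔪.map β')
    (I' : Ideal S) (I₀ : Ideal R) (h' : I'.map ρ = I₀)
    (I₀' : Ideal R') (h₀' : (I'.map res).map ρ' = I₀')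
    (q : R →ₗ[R] Q) (q' : R' →ₗ[R'] Q') (resQ : Q →+ Q') (hq : ∀ t, resQ (q t) = q' (resR t))
    (hqs : Function.Surjective q) (hqk' : LinearMap.ker q' = I₀')
    (φ : Fin r → (I₀ →ₗ[R] Q)) (φ' : Fin r → (I₀' →ₗ[R'] Q'))
    (hφ : ∀ (l : Fin r) (a : R) (ha : a ∈ I₀) (ha' : resR a ∈ I₀'),
      φ' l ⟨resR a, ha'⟩ = resQ (φ l ⟨a, ha⟩))
    (I'' : Ideal S) (I''' : Ideal S')
    (hI'' : ∀ a'' : S, a'' ∈ I'' ↔ ∃ (a' : S) (s : Fin r → S) (h0 : ρ a' ∈ I₀), a' ∈ I' ∧
        a'' = a' + ∑ m, β (j m) * s m ∧ ∀ l, q (ρ (s l)) = φ l ⟨ρ a', h0⟩)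
    (hI''' : ∀ a'' : S', a'' ∈ I''' ↔ ∃ (a' : S') (s : Fin r → S') (h0 : ρ' a' ∈ I₀'),
        a' ∈ I'.map res ∧
        a'' = a' + ∑ m, β' (j m) * s m ∧ ∀ l, q' (ρ' (s l)) = φ' l ⟨ρ' a', h0⟩) :
    I''.map res = I''' := by
  classical
  have hjmem : ∀ l, j l ∈ J := fun l => hjJ ▸ Ideal.subset_span ⟨l, rfl⟩
  have hρβj : ∀ l, ρ (β (j l)) = 0 := by
    intro l
    have : β (j l) ∈ RingHom.ker ρ := by
      rw [hρk]
      exact Ideal.mem_map_of_mem _ (hJ𝔪 (hjmem l))
    exact this
  have hI₀'mem : ∀ a' ∈ I'.map res, ρ' a' ∈ I₀' :=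
    fun a' ha' => h₀' ▸ Ideal.mem_map_of_mem _ ha'
  have hI₀mem : ∀ a' ∈ I', ρ a' ∈ I₀ := fun a' ha' => h' ▸ Ideal.mem_map_of_mem _ ha'
  apply le_antisymm
  · rw [Ideal.map_le_iff_le_comap]
    intro a'' ha''
    obtain ⟨a', s, h0, ha', rfl, hs⟩ := (hI'' a'').mp ha''
    rw [Ideal.mem_comap, hI''']
    have hra : res a' ∈ I'.map res := Ideal.mem_map_of_mem _ ha'
    refine ⟨res a', fun m => res (s m), hI₀'mem _ hra, hra, ?_, ?_⟩
    · simp [map_add, map_sum, map_mul, hβ]
    · intro l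
      have h1 : resR (ρ a') ∈ I₀' := by
        rw [← hρ]
        exact hI₀'mem _ hra
      rw [hρ, ← hq, hs l, ← hφ l (ρ a') h0 h1]
      congr 1
      exact Subtype.ext (hρ a').symm
  · intro a'' ha''
    obtain ⟨a', s, h0, ha', rfl, hs⟩ := (hI''' a'').mp ha''
    -- Step 1: existence of some admissible `s0`
    have step1 : ∀ a' ∈ I'.map res, ∃ s0 : Fin r → S',
        a' + ∑ m, β' (j m) * s0 m ∈ I''.map res ∧
        ∀ l, ∀ h0 : ρ' a' ∈ I₀', q' (ρ' (s0 l)) = φ' l ⟨ρ' a', h0⟩ := by
      intro a' ha'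
      unfold Ideal.map at ha'
      induction ha' using Submodule.span_induction with
      | mem x hx =>
        obtain ⟨x, hx, rfl⟩ := hx
        have hx0 : ρ x ∈ I₀ := hI₀mem x hx
        have hex : ∀ l, ∃ t : S, q (ρ t) = φ l ⟨ρ x, hx0⟩ := fun l => by
          obtain ⟨u, hu⟩ := hqs (φ l ⟨ρ x, hx0⟩)
          obtain ⟨t, rfl⟩ := hρs u
          exact ⟨t, hu⟩
        choose t ht using hex
        refine ⟨fun l => res (t l), ?_, ?_⟩
        · have hmem : x + ∑ m, β (j m) * t m ∈ I'' := (hI'' _).mpr ⟨x, t, hx0, hx, rfl, ht⟩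
          have := Ideal.mem_map_of_mem res hmem
          simpa [map_add, map_sum, map_mul, hβ] using this
        · intro l h0
          have h1 : resR (ρ x) ∈ I₀' := by
            rw [← hρ]
            exact h0
          rw [hρ, ← hq, ht l, ← hφ l (ρ x) hx0 h1]
          congr 1
          exact Subtype.ext (hρ x).symm
      | zero =>
        refine ⟨fun _ => 0, by simp, ?_⟩
        intro l h0
        have : (⟨ρ' 0, h0⟩ : I₀') = 0 := Subtype.ext (map_zero ρ')
        rw [this]
        simp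
      | add a b ha hb iha ihb =>
        obtain ⟨sa, hsa, hsa'⟩ := iha
        obtain ⟨sb, hsb, hsb'⟩ := ihb
        refine ⟨fun l => sa l + sb l, ?_, ?_⟩
        · have := Ideal.add_mem _ hsa hsb
          convert this using 1
          simp only [mul_add, Finset.sum_add_distrib]
          ring
        · intro l h0
          have h0a : ρ' a ∈ I₀' := hI₀'mem a ha
          have h0b : ρ' b ∈ I₀' := hI₀'mem b hb
          have : (⟨ρ' (a + b), h0⟩ : I₀') = ⟨ρ' a, h0a⟩ + ⟨ρ' b, h0b⟩ :=
            Subtype.ext (map_add ρ' a b)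
          rw [this, map_add (φ' l), ← hsa' l h0a, ← hsb' l h0b, map_add, map_add]
      | smul c a ha iha =>
        obtain ⟨sa, hsa, hsa'⟩ := iha
        refine ⟨fun l => c * sa l, ?_, ?_⟩
        · have := Ideal.mul_mem_left _ c hsa
          convert this using 1
          simp only [smul_eq_mul, mul_add, Finset.mul_sum]
          congr 1
          refine Finset.sum_congr rfl fun m _ => ?_
          ring
        · intro l h0
          have h0a : ρ' a ∈ I₀' := hI₀'mem a ha
          have : (⟨ρ' (c • a), h0⟩ : I₀') = ρ' c • ⟨ρ' a, h0a⟩ :=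
            Subtype.ext (by simp [smul_eq_mul])
          rw [this, map_smul, ← hsa' l h0a, map_mul, ← smul_eq_mul, map_smul]
    obtain ⟨s0, hs0mem, hs0⟩ := step1 a' ha'
    -- Step 2: two admissible choices differ by something in `I''.map res`
    have hdiff : ∀ l, β' (j l) * (s l - s0 l) ∈ I''.map res := by
      intro l
      have hsub : ∀ y ∈ I'.map res, β' (j l) * y ∈ I''.map res := by
        intro y hy
        unfold Ideal.map at hy
        induction hy using Submodule.span_induction with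
        | mem y hy =>
          obtain ⟨x, hx, rfl⟩ := hy
          have hxI'' : β (j l) * x ∈ I'' := by
            rw [hI'']
            have hmem : β (j l) * x ∈ I' := Ideal.mul_mem_left _ _ hx
            refine ⟨β (j l) * x, fun _ => 0, hI₀mem _ hmem, hmem, by simp, ?_⟩
            intro l'
            have : (⟨ρ (β (j l) * x), hI₀mem _ hmem⟩ : I₀) = 0 :=
              Subtype.ext (by simp [hρβj])
            rw [this]
            simp
          have := Ideal.mem_map_of_mem res hxI''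
          rwa [map_mul, hβ] at this
        | zero => simp
        | add a b _ _ iha ihb =>
          rw [mul_add]
          exact Ideal.add_mem _ iha ihb
        | smul c a _ iha =>
          rw [smul_eq_mul, mul_left_comm]
          exact Ideal.mul_mem_left _ _ iha
      have h1 : ρ' (s l - s0 l) ∈ I₀' := by
        rw [← hqk', LinearMap.mem_ker, map_sub, map_sub, hs l, hs0 l h0, sub_self]
      rw [← h₀'] at h1
      obtain ⟨y, hy, hyρ⟩ := (Ideal.mem_map_iff_of_surjective ρ' hρs').mp h1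
      have hz : s l - s0 l - y ∈ 𝔪.map β' := by
        rw [← hρk', RingHom.mem_ker, map_sub, hyρ, sub_self]
      have e : β' (j l) * (s l - s0 l) = β' (j l) * y + β' (j l) * (s l - s0 l - y) := by ring
      rw [e]
      refine Ideal.add_mem _ (hsub y hy) ?_
      have hmm : β' (j l) * (s l - s0 l - y) ∈ (J.map β') * (𝔪.map β') :=
        Ideal.mul_mem_mul (Ideal.mem_map_of_mem _ (hjmem l)) hz
      rw [← Ideal.map_mul, mul_comm J 𝔪, h𝔪J, Ideal.map_bot] at hmm
      rw [Ideal.mem_bot.mp hmm]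
      exact Ideal.zero_mem _
    have e : a' + ∑ m, β' (j m) * s m =
        (a' + ∑ m, β' (j m) * s0 m) + ∑ m, β' (j m) * (s m - s0 m) := by
      simp only [mul_sub, Finset.sum_sub_distrib]
      ring
    rw [e]
    exact Ideal.add_mem _ hs0mem (Ideal.sum_mem _ fun m _ => hdiff m)

end Groth.Agent.H96.LocHilb_CR
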