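import Mathlib
import Groth.Agent.H97.Azumaya

/-!
# The centre of an Azumaya algebra; flat base change of a finite intersection of kernels
-/

set_option autoImplicit false
universe u v w

open TensorProduct MulOpposite

namespace Groth.Agent.H96.AzCenter

/-- The centre of an Azumaya algebra is the base ring. -/
theorem mem_range_of_central {R : Type u} [CommRing R] {A : Type v} [Ring A] [Algebra R A]
    [IsAzumaya R A] (z : A) (hz : ∀ x, z * x = x * z) : z ∈ Set.range (algebraMap R A) := by
  have : Module.FaithfullyFlat R A := Groth.Agent.H97.faithfullyFlat_of_finite_flat_faithful A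
  have h1 : (z ⊗ₜ[R] (1 : Aᵐᵒᵖ) : A ⊗[R] Aᵐᵒᵖ) = (1 : A) ⊗ₜ[R] op z := by
    apply (IsAzumaya.bij (R := R) (A := A)).1
    refine LinearMap.ext fun x => ?_
    rw [AlgHom.mulLeftRight_apply, AlgHom.mulLeftRight_apply, unop_one, mul_one, unop_op, one_mul, hz]
  let K : Submodule R Aᵐᵒᵖ := LinearMap.range (Algebra.linearMap R Aᵐᵒᵖ)
  have h2 := congrArg (LinearMap.lTensor A K.mkQ) h1
  rw [LinearMap.lTensor_tmul, LinearMap.lTensor_tmul] at h2
  have h3 : K.mkQ (1 : Aᵐᵒᵖ) = 0 := by
    rw [Submodule.mkQ_apply, Submodule.Quotient.mk_eq_zero]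
    exact ⟨1, by simp⟩
  rw [h3, tmul_zero] at h2
  have h4 : K.mkQ (op z) = 0 := by
    apply Groth.Agent.H97.one_tmul_injective (R := R) A (Aᵐᵒᵖ ⧸ K)
    rw [map_zero]
    exact h2.symm
  rw [Submodule.mkQ_apply, Submodule.Quotient.mk_eq_zero] at h4
  obtain ⟨r, hr⟩ := h4
  refine ⟨r, ?_⟩
  have := congrArg unop hr
  simpa using this

/-- Flat base change of a finite intersection of kernels. -/
theorem mem_range_lTensor_of_forall {S : Type u} [CommRing S] (S₁ : Type v) [CommRing S₁]
    [Algebra S S₁] [Module.Flat S S₁] {K M N : Type*} [AddCommGroup K] [Module S K]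
    [AddCommGroup M] [Module S M] [AddCommGroup N] [Module S N] (ι : K →ₗ[S] M)
    {J : Type*} [Fintype J] [DecidableEq J] (φ : J → M →ₗ[S] N)
    (hι : ∀ k j, φ j (ι k) = 0) (hex : ∀ m, (∀ j, φ j m = 0) → m ∈ LinearMap.range ι)
    (z : S₁ ⊗[S] M) (hz : ∀ j, (φ j).lTensor S₁ z = 0) : z ∈ LinearMap.range (ι.lTensor S₁) := by
  let Φ : M →ₗ[S] (J → N) := LinearMap.pi φ
  have hexact : Function.Exact ι Φ := by
    intro m
    constructor
    · intro h
      exact hex m (fun j => congrFun h j)
    · rintro ⟨k, rfl⟩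
      funext j
      exact hι k j
  have h2 := Module.Flat.lTensor_exact S₁ hexact
  have key : ∀ (z : S₁ ⊗[S] M) (j : J),
      TensorProduct.piRight S S S₁ (fun _ : J => N) (Φ.lTensor S₁ z) j = (φ j).lTensor S₁ z := by
    intro z j
    induction z using TensorProduct.induction_on with
    | zero => simp
    | tmul σ m => simp [Φ]
    | add x y hx hy => rw [map_add, map_add, Pi.add_apply, hx, hy, map_add]
  apply (h2 z).mp
  apply (TensorProduct.piRight S S S₁ (fun _ : J => N)).injective
  rw [map_zero]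
  funext j
  rw [Pi.zero_apply, key, hz j]

end Groth.Agent.H96.AzCenter
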