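import Mathlib

/-!
# Rings with involution over their fixed ring: integrality and semilocal localizations
-/

set_option autoImplicit false
universe u v

namespace Groth.Agent.H96.InvFibre

open Polynomial

variable {S : Type u} {R : Type v} [CommRing S] [CommRing R] [Algebra S R]
  (lam : R ≃ₐ[S] R) (hfix : ∀ r : R, lam r = r → r ∈ Set.range (algebraMap S R))
  (hlam : ∀ r, lam (lam r) = r)

include hfix hlam in
/-- `R` is integral over the fixed ring of an involution. -/
theorem isIntegral : Algebra.IsIntegral S R := by
  refine ⟨fun r => ?_⟩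
  obtain ⟨a, ha⟩ := hfix (r + lam r) (by rw [map_add, hlam, add_comm])
  obtain ⟨b, hb⟩ := hfix (r * lam r) (by rw [map_mul, hlam, mul_comm])
  refine ⟨X ^ 2 - C a * X + C b, ?_, ?_⟩
  · have h1 : (X ^ 2 - C a * X + C b : S[X]) = X ^ 2 + (- C a * X + C b) := by ring
    rw [h1]
    apply Polynomial.monic_X_pow_add
    have h2 : (-C a * X + C b : S[X]) = C (-a) * X + C b := by rw [C_neg]
    rw [h2]
    exact lt_of_le_of_lt (Polynomial.degree_linear_le) (by norm_num)
  · simp only [eval₂_add, eval₂_sub, eval₂_mul, eval₂_pow, eval₂_X, eval₂_C, ha, hb]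
    ring

include hfix hlam in
/-- The localization of `R` at (the image of) the complement of a prime of the fixed ring is
semilocal. -/
theorem finite_maximalSpectrum (hinj : Function.Injective (algebraMap S R)) (p : Ideal S)
    [hp : p.IsPrime] :
    Finite (MaximalSpectrum (Localization (Algebra.algebraMapSubmonoid R p.primeCompl))) := by
  classical
  have := isIntegral lam hfix hlam
  set T := Algebra.algebraMapSubmonoid R p.primeCompl with hT
  set Rp := Localization T with hRp
  obtain ⟨q, -, hq, hqp⟩ := Ideal.exists_ideal_over_prime_of_isIntegral p (⊥ : Ideal R) (by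
    rw [show Ideal.comap (algebraMap S R) ⊥ = RingHom.ker (algebraMap S R) from rfl,
      (RingHom.injective_iff_ker_eq_bot _).mp hinj]
    exact bot_le)
  let q' : Ideal R := q.comap (lam : R →+* R)
  have hq' : q'.IsPrime := Ideal.comap_isPrime _ q
  have hmemT : ∀ x ∈ T, ∃ s : S, s ∉ p ∧ algebraMap S R s = x := by
    rintro x ⟨s, hs, rfl⟩
    exact ⟨s, hs, rfl⟩
  have hdisj : Disjoint (T : Set R) (q : Set R) := by
    rw [Set.disjoint_left]
    intro x hxT hxq
    obtain ⟨s, hs, rfl⟩ := hmemT x hxT
    apply hs
    rw [← hqp]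
    exact hxq
  have hdisj' : Disjoint (T : Set R) (q' : Set R) := by
    rw [Set.disjoint_left]
    intro x hxT hxq
    obtain ⟨s, hs, rfl⟩ := hmemT x hxT
    apply hs
    rw [← hqp]
    have : lam (algebraMap S R s) ∈ q := hxq
    rwa [AlgEquiv.commutes] at this
  have hne : ∀ J : Ideal R, J.IsPrime → Disjoint (T : Set R) (J : Set R) →
      Ideal.map (algebraMap R Rp) J ≠ ⊤ := by
    intro J hJ hJd h
    have h1 := IsLocalization.under_map_of_isPrime_disjoint T Rp hJ hJd
    rw [h] at h1
    have h2 : (1 : R) ∈ J := by
      rw [← h1]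
      show (1 : R) ∈ Ideal.comap (algebraMap R Rp) ⊤
      trivial
    exact hJ.ne_top (J.eq_top_iff_one.mpr h2)
  have hmax : ∀ M : Ideal Rp, M.IsMaximal →
      M = Ideal.map (algebraMap R Rp) q ∨ M = Ideal.map (algebraMap R Rp) q' := by
    intro M hM
    have hMp := (IsLocalization.isPrime_iff_isPrime_disjoint T Rp M).mp hM.isPrime
    have hMmap := IsLocalization.map_under T Rp M
    set qM := Ideal.comap (algebraMap R Rp) M with hqM
    have hsub : (qM : Set R) ⊆ (q : Set R) ∪ (q' : Set R) := by
      intro x hx
      obtain ⟨s, hs⟩ := hfix (x * lam x) (by rw [map_mul, hlam, mul_comm])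
      have hN : x * lam x ∈ qM := Ideal.mul_mem_right _ _ hx
      have hsp : s ∈ p := by
        by_contra hsp
        have h1 : algebraMap S R s ∈ T := ⟨s, hsp, rfl⟩
        rw [← hs] at hN
        exact Set.disjoint_left.mp hMp.2 h1 hN
      have hNq : x * lam x ∈ q := by
        rw [← hs]
        have : s ∈ Ideal.comap (algebraMap S R) q := by rw [hqp]; exact hsp
        exact this
      rcases hq.mem_or_mem hNq with h | h
      · exact Or.inl h
      · exact Or.inr h
    rcases Ideal.subset_union.mp hsub with h | h
    · left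
      rw [← hMmap]
      have hle : Ideal.map (algebraMap R Rp) qM ≤ Ideal.map (algebraMap R Rp) q := Ideal.map_mono h
      rw [hMmap] at hle ⊢
      exact hM.eq_of_le (hne q hq hdisj) hle
    · right
      have hle : Ideal.map (algebraMap R Rp) qM ≤ Ideal.map (algebraMap R Rp) q' := Ideal.map_mono h
      rw [hMmap] at hle
      exact hM.eq_of_le (hne q' hq' hdisj') hle
  let F : MaximalSpectrum Rp → ({Ideal.map (algebraMap R Rp) q, Ideal.map (algebraMap R Rp) q'} :
      Set (Ideal Rp)) := fun M => ⟨M.asIdeal, by
    rcases hmax M.asIdeal M.isMaximal with h | h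
    · exact Or.inl h
    · exact Or.inr h⟩
  have hFinj : Function.Injective F := by
    intro M N h
    have : M.asIdeal = N.asIdeal := congrArg Subtype.val h
    exact MaximalSpectrum.ext this
  have : Finite ({Ideal.map (algebraMap R Rp) q, Ideal.map (algebraMap R Rp) q'} :
      Set (Ideal Rp)) := Set.Finite.to_subtype (by simp)
  exact Finite.of_injective F hFinj

end Groth.Agent.H96.InvFibre
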