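import Mathlib
import Groth.Agent.H80.SkolemNoether

/-!
# Skolem–Noether for free Azumaya algebras over semilocal rings
-/

set_option autoImplicit false
universe u v

open TensorProduct MulOpposite

namespace Groth.Agent.H96.SemilocalSN

/-- The dimension of the fibre of a finite flat module at a maximal ideal, computed over `R ⧸ P`,
is the rank at the stalk. -/
theorem finrank_quotient_eq_rankAtStalk {R : Type u} [CommRing R] (M : Type v) [AddCommGroup M]
    [Module R M] [Module.Finite R M] [Module.Flat R M] (P : Ideal R) [hP : P.IsMaximal] :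
    Module.finrank (R ⧸ P) ((R ⧸ P) ⊗[R] M) = Module.rankAtStalk M ⟨P, hP.isPrime⟩ := by
  let _ := Ideal.Quotient.field P
  rw [Module.rankAtStalk_eq]
  let k := P.ResidueField
  let e : k ⊗[R ⧸ P] ((R ⧸ P) ⊗[R] M) ≃ₗ[k] k ⊗[R] M :=
    TensorProduct.AlgebraTensorModule.cancelBaseChange _ _ _ _ _
  have h1 : Module.finrank k (k ⊗[R ⧸ P] ((R ⧸ P) ⊗[R] M)) =
      Module.finrank (R ⧸ P) ((R ⧸ P) ⊗[R] M) := Module.finrank_baseChange
  rw [← h1]
  exact e.finrank_eq

/-- **Skolem–Noether** for an Azumaya algebra which is free as a module over a semilocal ring: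
every automorphism is inner. -/
theorem exists_inner {R : Type u} [CommRing R] [Finite (MaximalSpectrum R)] {A : Type v} [Ring A]
    [Algebra R A] [IsAzumaya R A] [Module.Free R A] (ψ : A ≃ₐ[R] A) :
    ∃ c d : A, c * d = 1 ∧ d * c = 1 ∧ ∀ a, c * a = ψ a * c := by
  classical
  rcases subsingleton_or_nontrivial A with hA | hA
  · exact ⟨0, 0, Subsingleton.elim _ _, Subsingleton.elim _ _, fun a => Subsingleton.elim _ _⟩
  have : Nontrivial R := by
    by_contra h
    rw [not_nontrivial_iff_subsingleton] at h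
    have := h
    exact not_subsingleton A (Module.subsingleton R A)
  let m := Module.finrank R A
  let b : Module.Basis (Fin m) R A := Module.finBasis R A
  have hm : 0 < m := by
    by_contra hm0
    have hm0 : m = 0 := by omega
    have : IsEmpty (Fin m) := by rw [hm0]; infer_instance
    have : Subsingleton A := ⟨fun x y => b.repr.injective (Subsingleton.elim _ _)⟩
    exact not_subsingleton A this
  let i0 : Fin m := ⟨0, hm⟩
  let e₁ : (A ⊗[R] Aᵐᵒᵖ) ≃ₐ[R] Module.End R A :=
    AlgEquiv.ofBijective (AlgHom.mulLeftRight R A) IsAzumaya.bij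
  have he₁ : ∀ (a : A) (b : Aᵐᵒᵖ) (x : A), e₁ (a ⊗ₜ b) x = a * x * b.unop :=
    fun a b x => AlgHom.mulLeftRight_apply R A a b x
  let U : (A ⊗[R] Aᵐᵒᵖ) ≃ₐ[R] (A ⊗[R] Aᵐᵒᵖ) :=
    Algebra.TensorProduct.congr ψ (AlgEquiv.refl : Aᵐᵒᵖ ≃ₐ[R] Aᵐᵒᵖ)
  have hU : ∀ (a : A) (b : Aᵐᵒᵖ), U (a ⊗ₜ b) = ψ a ⊗ₜ b := fun a b => rfl
  let Ψ : Module.End R A ≃ₐ[R] Module.End R A := e₁.symm.trans (U.trans e₁)
  have hΨ : ∀ z, Ψ (e₁ z) = e₁ (U z) := by
    intro z
    simp [Ψ]
  let μ : Module.End R A ≃ₐ[R] Matrix (Fin m) (Fin m) R := algEquivMatrix b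
  let Φ : Matrix (Fin m) (Fin m) R ≃ₐ[R] Matrix (Fin m) (Fin m) R := μ.symm.trans (Ψ.trans μ)
  have hΦ : ∀ f, Φ (μ f) = μ (Ψ f) := by
    intro f
    simp [Φ]
  obtain ⟨P, hP⟩ := Groth.Agent.H80.SkolemNoether.inner_of_free Φ i0 inferInstance
  let w : Module.End R A := μ.symm P.1
  let w' : Module.End R A := μ.symm (P⁻¹).1
  have hww' : w * w' = 1 := by
    rw [← map_mul, ← Units.val_mul, mul_inv_cancel, Units.val_one, map_one]
  have hw'w : w' * w = 1 := by
    rw [← map_mul, ← Units.val_mul, inv_mul_cancel, Units.val_one, map_one]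
  have hΨw : ∀ f, Ψ f * w = w * f := by
    intro f
    apply μ.injective
    rw [map_mul, map_mul, ← hΦ, hP]
    simp only [w, AlgEquiv.apply_symm_apply]
    rw [mul_assoc, ← Units.val_mul, inv_mul_cancel, Units.val_one, mul_one]
  have hkey : ∀ (a : A) (b' : A) (x : A), w (a * x * b') = ψ a * w x * b' := by
    intro a b' x
    have h1 := hΨw (e₁ (a ⊗ₜ op b'))
    rw [hΨ, hU] at h1
    have h2 := LinearMap.congr_fun h1 x
    rw [Module.End.mul_apply, Module.End.mul_apply, he₁, he₁, unop_op] at h2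
    exact h2.symm
  have hR : ∀ b', w b' = w 1 * b' := by
    intro b'
    have h1 := hkey 1 b' 1
    rwa [one_mul, one_mul, map_one ψ, one_mul] at h1
  have hL : ∀ a, w a = ψ a * w 1 := by
    intro a
    have h1 := hkey a 1 1
    rwa [mul_one, mul_one, mul_one] at h1
  have h5 : ∀ y, w' (w y) = y := fun y => LinearMap.congr_fun hw'w y
  have h6 : ∀ y, w (w' y) = y := fun y => LinearMap.congr_fun hww' y
  refine ⟨w 1, w' 1, ?_, ?_, ?_⟩
  · rw [← hR, h6]
  · have h1 : w (w' 1 * w 1) = w 1 := by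
      rw [hR (w' 1 * w 1), ← mul_assoc, ← hR, h6, one_mul]
    have h4 := congrArg w' h1
    rwa [h5, h5] at h4
  · intro a
    rw [← hR, hL]

end Groth.Agent.H96.SemilocalSN
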