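import Mathlib
import Groth.Agent.H96.SemilocalSN
import Groth.Agent.H96.InvFibre
import Groth.Agent.S19588

/-!
# Automorphisms of Azumaya algebras over a ring with involution are inner locally on the
fixed ring
-/

set_option autoImplicit false
universe u v w

open TensorProduct

namespace Groth.Agent.H96.AzInvInner

variable {S : Type u} {R : Type v} [CommRing S] [CommRing R] [Algebra S R]
  (lam : R ≃ₐ[S] R) (hfix : ∀ r : R, lam r = r → r ∈ Set.range (algebraMap S R))
  (hlam : ∀ r, lam (lam r) = r) (hinj : Function.Injective (algebraMap S R))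
  {A : Type w} [Ring A] [Algebra S A] [Algebra R A] [IsScalarTower S R A] [IsAzumaya R A]
  (n : ℕ) (hrk : ∀ p : PrimeSpectrum R, Module.rankAtStalk (R := R) A p = n ^ 2)
  (ψ : A ≃ₐ[R] A)

omit [Algebra S A] [IsScalarTower S R A] in
include hfix hlam hinj hrk in
/-- Inner-ness after localizing at a prime of the fixed ring. -/
theorem exists_local (p : Ideal S) [p.IsPrime] :
    ∃ c d : Localization (Algebra.algebraMapSubmonoid R p.primeCompl) ⊗[R] A,
      c * d = 1 ∧ d * c = 1 ∧ ∀ x, c * x =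
        Algebra.TensorProduct.congr (AlgEquiv.refl :
          Localization (Algebra.algebraMapSubmonoid R p.primeCompl) ≃ₐ[
            Localization (Algebra.algebraMapSubmonoid R p.primeCompl)]
            Localization (Algebra.algebraMapSubmonoid R p.primeCompl)) ψ x * c := by
  have := Groth.Agent.H96.InvFibre.finite_maximalSpectrum lam hfix hlam hinj p
  have : IsAzumaya (Localization (Algebra.algebraMapSubmonoid R p.primeCompl))
      (Localization (Algebra.algebraMapSubmonoid R p.primeCompl) ⊗[R] A) :=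
    Groth.Agent.S19588.result R _ A
  have : Module.Free (Localization (Algebra.algebraMapSubmonoid R p.primeCompl))
      (Localization (Algebra.algebraMapSubmonoid R p.primeCompl) ⊗[R] A) := by
    apply Module.free_of_flat_of_finrank_eq _ _ (n ^ 2)
    intro P
    rw [Groth.Agent.H96.SemilocalSN.finrank_quotient_eq_rankAtStalk, Module.rankAtStalk_baseChange,
      hrk]
  exact Groth.Agent.H96.SemilocalSN.exists_inner _

omit [IsAzumaya R A] in
/-- If `x₀` is a unit of `Sf` and `x₀ • a = x₀ • b` then `a ⊗ y = b ⊗ y` in `A ⊗[S] Sf`. -/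
theorem tmul_eq_of_smul_eq {Sf : Type*} [CommRing Sf] [Algebra S Sf] {x₀ : S}
    (hx₀ : IsUnit (algebraMap S Sf x₀)) {a b : A} (hab : x₀ • a = x₀ • b) (y : Sf) :
    a ⊗ₜ[S] y = b ⊗ₜ[S] y := by
  obtain ⟨v, hv⟩ := hx₀
  have hy : y = x₀ • ((↑v⁻¹ : Sf) * y) := by
    rw [Algebra.smul_def, ← hv, ← mul_assoc, Units.mul_inv, one_mul]
  rw [hy, ← TensorProduct.smul_tmul, ← TensorProduct.smul_tmul, hab]

include hfix hlam hinj hrk in
/-- Inner-ness on a basic open neighbourhood of a prime of the fixed ring. -/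
theorem exists_away (p : Ideal S) [hp : p.IsPrime] :
    ∃ f : S, f ∉ p ∧ ∃ c d : A ⊗[S] Localization.Away f, c * d = 1 ∧ d * c = 1 ∧
      ∀ x, c * x = Algebra.TensorProduct.congr (ψ.restrictScalars S)
        (AlgEquiv.refl : Localization.Away f ≃ₐ[S] Localization.Away f) x * c := by
  classical
  set T := Algebra.algebraMapSubmonoid R p.primeCompl with hT
  set Rp := Localization T with hRp
  obtain ⟨c', d', hcd, hdc, hc⟩ : ∃ c d : Rp ⊗[R] A,
      c * d = 1 ∧ d * c = 1 ∧ ∀ x, c * x =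
        Algebra.TensorProduct.congr (AlgEquiv.refl : Rp ≃ₐ[Rp] Rp) ψ x * c :=
    exists_local lam hfix hlam hinj n hrk ψ p
  let ι : A →ₗ[R] Rp ⊗[R] A := TensorProduct.mk R Rp A 1
  have hι : ∀ a, ι a = (1 : Rp) ⊗ₜ[R] a := fun a => rfl
  have hι_mul : ∀ a b, ι (a * b) = ι a * ι b := by
    intro a b
    rw [hι, hι, hι, Algebra.TensorProduct.tmul_mul_tmul, one_mul]
  have hι_one : ι 1 = 1 := rfl
  have hψι : ∀ a, Algebra.TensorProduct.congr (AlgEquiv.refl : Rp ≃ₐ[Rp] Rp) ψ (ι a) = ι (ψ a) := by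
    intro a
    rw [hι, hι]
    simp
  obtain ⟨⟨a₀, s⟩, hs⟩ := IsLocalizedModule.surj T ι c'
  obtain ⟨⟨b₀, s'⟩, hs'⟩ := IsLocalizedModule.surj T ι d'
  simp only at hs hs'
  have hsR : ∀ (t : T) (z : Rp ⊗[R] A), t • z = (t : R) • z := fun t z => rfl
  -- the equations in the localization
  have e1 : ι (a₀ * b₀) = ι (((s : R) * (s' : R)) • (1 : A)) := by
    rw [hι_mul, ← hs, ← hs', hsR, hsR, smul_mul_smul_comm, hcd, map_smul, hι_one]
  have e2 : ι (b₀ * a₀) = ι (((s : R) * (s' : R)) • (1 : A)) := by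
    rw [hι_mul, ← hs, ← hs', hsR, hsR, smul_mul_smul_comm, hdc, map_smul, hι_one, mul_comm]
  have e3 : ∀ a, ι (a₀ * a) = ι (ψ a * a₀) := by
    intro a
    rw [hι_mul, hι_mul, ← hs, hsR, smul_mul_assoc, hc, hψι, mul_smul_comm]
  obtain ⟨t₁, ht₁⟩ := IsLocalizedModule.exists_of_eq (S := T) (f := ι) e1
  obtain ⟨t₂, ht₂⟩ := IsLocalizedModule.exists_of_eq (S := T) (f := ι) e2
  have e3' : ∀ a, ∃ t : T, t • (a₀ * a) = t • (ψ a * a₀) :=
    fun a => IsLocalizedModule.exists_of_eq (S := T) (f := ι) (e3 a)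
  choose t ht using e3'
  -- descend the denominators to `S`
  have hτ : ∀ x : T, ∃ x₀ : S, x₀ ∈ p.primeCompl ∧ algebraMap S R x₀ = x := by
    rintro ⟨x, x₀, hx₀, rfl⟩
    exact ⟨x₀, hx₀, rfl⟩
  choose τ hτp hτe using hτ
  have hτsmul : ∀ (x : T) (z : A), x • z = τ x • z := by
    intro x z
    show (x : R) • z = τ x • z
    rw [← hτe x, algebraMap_smul]
  obtain ⟨G, hG⟩ := (Module.Finite.fg_top : (⊤ : Submodule R A).FG)
  let f : S := τ s * τ s' * τ t₁ * τ t₂ * ∏ a ∈ G, τ (t a)
  have hfp : f ∈ p.primeCompl :=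
    mul_mem (mul_mem (mul_mem (mul_mem (hτp s) (hτp s')) (hτp t₁)) (hτp t₂))
      (Submonoid.prod_mem _ (fun a _ => hτp (t a)))
  refine ⟨f, hfp, ?_⟩
  have hfu : IsUnit (algebraMap S (Localization.Away f) f) :=
    IsLocalization.Away.algebraMap_isUnit f
  have hunit : ∀ x₀ : S, x₀ ∣ f → IsUnit (algebraMap S (Localization.Away f) x₀) :=
    fun x₀ h => isUnit_of_dvd_unit (map_dvd (algebraMap S (Localization.Away f)) h) hfu
  have hus : IsUnit (algebraMap S (Localization.Away f) (τ s)) :=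
    hunit _ ⟨τ s' * τ t₁ * τ t₂ * ∏ a ∈ G, τ (t a), by simp only [f]; ring⟩
  have hus' : IsUnit (algebraMap S (Localization.Away f) (τ s')) :=
    hunit _ ⟨τ s * τ t₁ * τ t₂ * ∏ a ∈ G, τ (t a), by simp only [f]; ring⟩
  have hut₁ : IsUnit (algebraMap S (Localization.Away f) (τ t₁)) :=
    hunit _ ⟨τ s * τ s' * τ t₂ * ∏ a ∈ G, τ (t a), by simp only [f]; ring⟩
  have hut₂ : IsUnit (algebraMap S (Localization.Away f) (τ t₂)) :=
    hunit _ ⟨τ s * τ s' * τ t₁ * ∏ a ∈ G, τ (t a), by simp only [f]; ring⟩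
  have hut : ∀ a ∈ G, IsUnit (algebraMap S (Localization.Away f) (τ (t a))) := by
    intro a ha
    exact hunit _ (Dvd.dvd.mul_left (Finset.dvd_prod_of_mem _ ha) _)
  obtain ⟨σ, hσ⟩ := hus.exists_right_inv
  obtain ⟨σ', hσ'⟩ := hus'.exists_right_inv
  -- the key identities in `A ⊗[S] S_f`
  have k1 : ∀ y : Localization.Away f, (a₀ * b₀) ⊗ₜ[S] y = ((τ s * τ s') • (1 : A)) ⊗ₜ[S] y := by
    intro y
    apply tmul_eq_of_smul_eq hut₁
    rw [← hτsmul, ht₁, hτsmul, mul_smul, mul_smul, ← hτe s, ← hτe s', algebraMap_smul,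
      algebraMap_smul]
  have k2 : ∀ y : Localization.Away f, (b₀ * a₀) ⊗ₜ[S] y = ((τ s * τ s') • (1 : A)) ⊗ₜ[S] y := by
    intro y
    apply tmul_eq_of_smul_eq hut₂
    rw [← hτsmul, ht₂, hτsmul, mul_smul, mul_smul, ← hτe s, ← hτe s', algebraMap_smul,
      algebraMap_smul]
  have k3 : ∀ a : A, ∀ y : Localization.Away f, (a₀ * a) ⊗ₜ[S] y = (ψ a * a₀) ⊗ₜ[S] y := by
    intro a
    have hmem : a ∈ Submodule.span R (G : Set A) := by rw [hG]; trivial
    induction hmem using Submodule.span_induction with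
    | mem a ha =>
      intro y
      apply tmul_eq_of_smul_eq (hut a ha)
      rw [← hτsmul, ht, hτsmul]
    | zero => intro y; simp
    | add a b _ _ iha ihb =>
      intro y
      rw [mul_add, map_add, add_mul, TensorProduct.add_tmul, TensorProduct.add_tmul, iha, ihb]
    | smul r a _ iha =>
      intro y
      rw [mul_smul_comm, map_smul, smul_mul_assoc, ← TensorProduct.smul_tmul',
        ← TensorProduct.smul_tmul', iha]
  have hone : ((τ s * τ s') • (1 : A)) ⊗ₜ[S] (σ * σ') = (1 : A ⊗[S] Localization.Away f) := by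
    rw [TensorProduct.smul_tmul, Algebra.smul_def, map_mul, mul_mul_mul_comm, hσ, hσ', mul_one,
      Algebra.TensorProduct.one_def]
  refine ⟨a₀ ⊗ₜ σ, b₀ ⊗ₜ σ', ?_, ?_, ?_⟩
  · rw [Algebra.TensorProduct.tmul_mul_tmul, k1, hone]
  · rw [Algebra.TensorProduct.tmul_mul_tmul, k2, mul_comm σ' σ, hone]
  · intro x
    induction x using TensorProduct.induction_on with
    | zero => simp
    | tmul a y =>
      rw [Algebra.TensorProduct.tmul_mul_tmul, k3]
      simp [Algebra.TensorProduct.tmul_mul_tmul, mul_comm]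
    | add x y hx hy => rw [mul_add, map_add, add_mul, hx, hy]

/-- A finite product of localizations at elements generating the unit ideal is faithfully flat. -/
theorem faithfullyFlat_pi_away (G : Finset S) (hG : Ideal.span (G : Set S) = ⊤) :
    Module.FaithfullyFlat S (Π i : {x // x ∈ G}, Localization.Away (i : S)) := by
  apply Module.FaithfullyFlat.of_comap_surjective
  intro P
  obtain ⟨i, hi, hiP⟩ : ∃ i ∈ G, i ∉ P.asIdeal := by
    by_contra h
    push Not at h
    have : Ideal.span (G : Set S) ≤ P.asIdeal := Ideal.span_le.mpr (fun x hx => h x hx)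
    rw [hG] at this
    exact P.isPrime.ne_top (top_le_iff.mp this)
  have hdisj : Disjoint (Submonoid.powers i : Set S) (P.asIdeal : Set S) := by
    rw [Set.disjoint_left]
    rintro x ⟨k, rfl⟩ hx
    exact hiP (P.isPrime.mem_of_pow_mem k hx)
  let Q : Ideal (Localization.Away i) := Ideal.map (algebraMap S (Localization.Away i)) P.asIdeal
  have hQ : Q.IsPrime :=
    IsLocalization.isPrime_of_isPrime_disjoint (Submonoid.powers i) _ _ P.isPrime hdisj
  have hQc : Q.comap (algebraMap S (Localization.Away i)) = P.asIdeal :=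
    IsLocalization.under_map_of_isPrime_disjoint (Submonoid.powers i) _ P.isPrime hdisj
  let ev : (Π j : {x // x ∈ G}, Localization.Away (j : S)) →+* Localization.Away i :=
    Pi.evalRingHom (fun j : {x // x ∈ G} => Localization.Away (j : S)) ⟨i, hi⟩
  refine ⟨⟨Q.comap ev, Ideal.comap_isPrime ev Q⟩, ?_⟩
  apply PrimeSpectrum.ext
  show (Q.comap ev).comap (algebraMap S _) = P.asIdeal
  rw [Ideal.comap_comap]
  have : ev.comp (algebraMap S (Π j : {x // x ∈ G}, Localization.Away (j : S))) =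
      algebraMap S (Localization.Away i) := by
    ext x
    rfl
  rw [this, hQc]

include hfix hlam hinj hrk in
/-- Every automorphism of an Azumaya algebra of constant degree over a ring with involution becomes
inner after base change to an étale covering of the fixed ring. -/
theorem main : ∃ (S' : Type u) (_ : CommRing S') (_ : Algebra S S') (_ : Algebra.Etale S S')
    (_ : Module.FaithfullyFlat S S') (u : (S' ⊗[S] A)ˣ),
    ∀ x : S' ⊗[S] A,
      Algebra.TensorProduct.congr (AlgEquiv.refl : S' ≃ₐ[S'] S') (ψ.restrictScalars S) x =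
        ↑u * x * ↑u⁻¹ := by
  classical
  let Good : Set S := {f | ∃ c d : A ⊗[S] Localization.Away f, c * d = 1 ∧ d * c = 1 ∧
      ∀ x, c * x = Algebra.TensorProduct.congr (ψ.restrictScalars S)
        (AlgEquiv.refl : Localization.Away f ≃ₐ[S] Localization.Away f) x * c}
  have hspan : Ideal.span Good = ⊤ := by
    by_contra h
    obtain ⟨m, hm, hle⟩ := Ideal.exists_le_maximal _ h
    have := hm.isPrime
    obtain ⟨f, hf, hgood⟩ := exists_away lam hfix hlam hinj n hrk ψ m
    exact hf (hle (Ideal.subset_span hgood))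
  obtain ⟨G, hGsub, hGspan⟩ := (Ideal.span_eq_top_iff_finite _).mp hspan
  let S' := Π i : {x // x ∈ G}, Localization.Away (i : S)
  have hff : Module.FaithfullyFlat S S' := faithfullyFlat_pi_away G hGspan
  have hgood : ∀ i : {x // x ∈ G}, (i : S) ∈ Good := fun i => hGsub i.2
  choose c d hcd hdc hc using hgood
  let E : S' ⊗[S] A ≃ₐ[S] Π i : {x // x ∈ G}, A ⊗[S] Localization.Away (i : S) :=
    (Algebra.TensorProduct.comm S S' A).trans
      (Algebra.TensorProduct.piRight S S A (fun i : {x // x ∈ G} => Localization.Away (i : S)))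
  have hE : ∀ (σ : S') (a : A) (i : {x // x ∈ G}), E (σ ⊗ₜ a) i = a ⊗ₜ σ i := by
    intro σ a i
    rfl
  let ψ' : S' ⊗[S] A ≃ₐ[S'] S' ⊗[S] A :=
    Algebra.TensorProduct.congr (AlgEquiv.refl : S' ≃ₐ[S'] S') (ψ.restrictScalars S)
  have hEψ : ∀ (x : S' ⊗[S] A) (i : {x // x ∈ G}), E (ψ' x) i =
      Algebra.TensorProduct.congr (ψ.restrictScalars S)
        (AlgEquiv.refl : Localization.Away (i : S) ≃ₐ[S] Localization.Away (i : S)) (E x i) := by
    intro x i
    induction x using TensorProduct.induction_on with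
    | zero => simp
    | tmul σ a =>
      have h1 : ψ' (σ ⊗ₜ a) = σ ⊗ₜ ψ a := rfl
      rw [h1, hE, hE]
      rfl
    | add x y hx hy => rw [map_add, map_add, Pi.add_apply, hx, hy, map_add, Pi.add_apply, map_add]
  let u : (S' ⊗[S] A)ˣ :=
    ⟨E.symm c, E.symm d, by rw [← map_mul]; rw [show c * d = 1 from funext hcd, map_one],
      by rw [← map_mul]; rw [show d * c = 1 from funext hdc, map_one]⟩
  refine ⟨S', inferInstance, inferInstance, inferInstance, hff, u, fun x => ?_⟩
  show ψ' x = E.symm c * x * E.symm d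
  apply E.injective
  rw [map_mul, map_mul, AlgEquiv.apply_symm_apply, AlgEquiv.apply_symm_apply]
  funext i
  rw [hEψ, Pi.mul_apply, Pi.mul_apply, hc i, mul_assoc, hcd i, mul_one]

end Groth.Agent.H96.AzInvInner
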