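import Mathlib
import Groth.Prelude.Def_AzInv
import Groth.Agent.H96.AzInvInner
import Groth.Agent.H96.AzCenter

/-!
# Unitary normalization of the conjugating unit
-/

set_option autoImplicit false
universe u v w u'

open TensorProduct

namespace Groth.Agent.H96.AzInvUnitary

section BC

variable {S : Type u} {R : Type v} [CommRing S] [CommRing R] [Algebra S R]
  {A : Type w} [Ring A] [Algebra S A] [Algebra R A] [IsScalarTower S R A]
  (lam : R ≃ₐ[S] R) (t : AzInv.LamInv R A lam) (S' : Type u') [CommRing S'] [Algebra S S']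

theorem bc_mul (x y : S' ⊗[S] A) : t.bc S lam S' (x * y) = t.bc S lam S' y * t.bc S lam S' x := by
  induction x using TensorProduct.induction_on with
  | zero => simp
  | tmul σ a =>
    induction y using TensorProduct.induction_on with
    | zero => simp
    | tmul σ' b =>
      rw [Algebra.TensorProduct.tmul_mul_tmul, AzInv.LamInv.bc_tmul, AzInv.LamInv.bc_tmul,
        AzInv.LamInv.bc_tmul, Algebra.TensorProduct.tmul_mul_tmul, t.map_mul, mul_comm]
    | add y₁ y₂ h₁ h₂ => rw [mul_add, map_add, h₁, h₂, map_add, add_mul]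
  | add x₁ x₂ h₁ h₂ => rw [add_mul, map_add, h₁, h₂, map_add, mul_add]

theorem bc_bc (x : S' ⊗[S] A) : t.bc S lam S' (t.bc S lam S' x) = x := by
  induction x using TensorProduct.induction_on with
  | zero => simp
  | tmul σ a => rw [AzInv.LamInv.bc_tmul, AzInv.LamInv.bc_tmul, t.invol]
  | add x₁ x₂ h₁ h₂ => rw [map_add, map_add, h₁, h₂]

theorem bc_one : t.bc S lam S' (1 : S' ⊗[S] A) = 1 := by
  rw [Algebra.TensorProduct.one_def, AzInv.LamInv.bc_tmul, t.map_one]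

theorem bc_comm (ψ : A ≃ₐ[R] A) (hψ : AzInv.IsInvHom t t ψ) (x : S' ⊗[S] A) :
    Algebra.TensorProduct.congr (AlgEquiv.refl : S' ≃ₐ[S'] S') (ψ.restrictScalars S)
      (t.bc S lam S' x) =
    t.bc S lam S' (Algebra.TensorProduct.congr (AlgEquiv.refl : S' ≃ₐ[S'] S')
      (ψ.restrictScalars S) x) := by
  induction x using TensorProduct.induction_on with
  | zero => simp
  | tmul σ a =>
    rw [AzInv.LamInv.bc_tmul]
    simp only [Algebra.TensorProduct.congr_apply, Algebra.TensorProduct.map_tmul,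
      AzInv.LamInv.bc_tmul]
    congr 1
    exact hψ a
  | add x₁ x₂ h₁ h₂ => rw [map_add, map_add, h₁, h₂, map_add, map_add]

theorem lTensor_mulRight (g : A) (x : S' ⊗[S] A) :
    (LinearMap.mulRight S g).lTensor S' x = x * ((1 : S') ⊗ₜ[S] g) := by
  induction x using TensorProduct.induction_on with
  | zero => simp
  | tmul σ a => simp [Algebra.TensorProduct.tmul_mul_tmul]
  | add x₁ x₂ h₁ h₂ => rw [map_add, h₁, h₂, add_mul]

theorem lTensor_mulLeft (g : A) (x : S' ⊗[S] A) :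
    (LinearMap.mulLeft S g).lTensor S' x = ((1 : S') ⊗ₜ[S] g) * x := by
  induction x using TensorProduct.induction_on with
  | zero => simp
  | tmul σ a => simp [Algebra.TensorProduct.tmul_mul_tmul]
  | add x₁ x₂ h₁ h₂ => rw [map_add, h₁, h₂, mul_add]

theorem lTensor_linS (x : S' ⊗[S] A) :
    (t.linS S lam).lTensor S' x = t.bc S lam S' x := by
  induction x using TensorProduct.induction_on with
  | zero => simp
  | tmul σ a => simp
  | add x₁ x₂ h₁ h₂ => rw [map_add, h₁, h₂, map_add]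

include lam in
/-- A central element of `S' ⊗ A` fixed by the base-changed involution comes from `S'`
(`S'` flat over the fixed ring `S`). -/
theorem exists_scalar_of_central_symm [IsAzumaya R A] [Module.Flat S S']
    (hfix : ∀ r : R, lam r = r → r ∈ Set.range (algebraMap S R))
    (z : S' ⊗[S] A) (hzc : ∀ y, y * z = z * y) (hzs : t.bc S lam S' z = z) :
    ∃ ζ : S', z = ζ ⊗ₜ[S] (1 : A) := by
  classical
  obtain ⟨G, hG⟩ := (Module.Finite.fg_top : (⊤ : Submodule R A).FG)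
  let φ : Option {g // g ∈ G} → A →ₗ[S] A := fun j =>
    match j with
    | none => t.linS S lam - LinearMap.id
    | some g => LinearMap.mulRight S (g : A) - LinearMap.mulLeft S (g : A)
  have hι : ∀ (k : S) (j : Option {g // g ∈ G}), φ j (Algebra.linearMap S A k) = 0 := by
    intro k j
    cases j with
    | none =>
      show t (algebraMap S A k) - algebraMap S A k = 0
      rw [IsScalarTower.algebraMap_apply S R A, t.map_algebraMap, AlgEquiv.commutes, sub_self]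
    | some g =>
      show algebraMap S A k * (g : A) - (g : A) * algebraMap S A k = 0
      rw [Algebra.commutes, sub_self]
  have hex : ∀ m : A, (∀ j, φ j m = 0) → m ∈ LinearMap.range (Algebra.linearMap S A) := by
    intro m hm
    have hcomm : ∀ g ∈ G, m * g = g * m := by
      intro g hg
      have := hm (some ⟨g, hg⟩)
      exact sub_eq_zero.mp this
    have hcentral : ∀ x, m * x = x * m := by
      intro x
      have hx : x ∈ Submodule.span R (G : Set A) := by rw [hG]; trivial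
      induction hx using Submodule.span_induction with
      | mem x hx => exact hcomm x hx
      | zero => simp
      | add x y _ _ hx hy => rw [mul_add, add_mul, hx, hy]
      | smul r x _ hx => rw [mul_smul_comm, smul_mul_assoc, hx]
    obtain ⟨r, hr⟩ := Groth.Agent.H96.AzCenter.mem_range_of_central (R := R) m hcentral
    have ht : t m = m := sub_eq_zero.mp (hm none)
    have h1 : algebraMap R A (lam r) = algebraMap R A r := by
      rw [← t.map_algebraMap, hr, ht]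
    have hlamr : lam r = r := FaithfulSMul.algebraMap_injective R A h1
    obtain ⟨s, hs⟩ := hfix r hlamr
    exact ⟨s, by rw [Algebra.linearMap_apply, IsScalarTower.algebraMap_apply S R A, hs, hr]⟩
  have hz : ∀ j, (φ j).lTensor S' z = 0 := by
    intro j
    cases j with
    | none =>
      show (t.linS S lam - LinearMap.id).lTensor S' z = 0
      rw [LinearMap.lTensor_sub, LinearMap.sub_apply, lTensor_linS, LinearMap.lTensor_id,
        LinearMap.id_apply, hzs, sub_self]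
    | some g =>
      show (LinearMap.mulRight S (g : A) - LinearMap.mulLeft S (g : A)).lTensor S' z = 0
      rw [LinearMap.lTensor_sub, LinearMap.sub_apply, lTensor_mulRight, lTensor_mulLeft, hzc,
        sub_self]
  obtain ⟨w, hw⟩ := Groth.Agent.H96.AzCenter.mem_range_lTensor_of_forall S'
    (Algebra.linearMap S A) φ hι hex z hz
  refine ⟨TensorProduct.rid S S' w, ?_⟩
  have hw' : w = (TensorProduct.rid S S' w) ⊗ₜ[S] (1 : S) := by
    rw [← TensorProduct.rid_symm_apply, LinearEquiv.symm_apply_apply]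
  rw [← hw, hw', LinearMap.lTensor_tmul, Algebra.linearMap_apply, map_one]
  simp

end BC

section Main

variable {S : Type u} {R : Type v} [CommRing S] [CommRing R] [Algebra S R]
  (lam : R ≃ₐ[S] R) (hfix : ∀ r : R, lam r = r → r ∈ Set.range (algebraMap S R))
  (hlam : ∀ r, lam (lam r) = r) (hinj : Function.Injective (algebraMap S R))
  (hsq : ∀ (S₁ : Type u) [CommRing S₁] [Algebra S S₁] [Algebra.Etale S S₁] (x : S₁ˣ),
      ∃ (S₂ : Type u) (_ : CommRing S₂) (_ : Algebra S₁ S₂) (_ : Algebra.Etale S₁ S₂)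
        (_ : Module.FaithfullyFlat S₁ S₂) (y : S₂), y * y = algebraMap S₁ S₂ ↑x)
  {A : Type w} [Ring A] [Algebra S A] [Algebra R A] [IsScalarTower S R A] [IsAzumaya R A]
  (n : ℕ) (hrk : ∀ p : PrimeSpectrum R, Module.rankAtStalk (R := R) A p = n ^ 2)
  (t : AzInv.LamInv R A lam) (ψ : A ≃ₐ[R] A) (hψ : AzInv.IsInvHom t t ψ)

include hfix hlam hinj hsq hrk hψ in
theorem main : ∃ (S' : Type u) (_ : CommRing S') (_ : Algebra S S') (_ : Algebra.Etale S S')
      (_ : Module.FaithfullyFlat S S') (u : (S' ⊗[S] A)ˣ),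
      t.bc S lam S' (↑u : S' ⊗[S] A) * ↑u = 1 ∧
        ∀ x : S' ⊗[S] A,
          Algebra.TensorProduct.congr (AlgEquiv.refl : S' ≃ₐ[S'] S') (ψ.restrictScalars S) x =
            ↑u * x * ↑u⁻¹ := by
  classical
  obtain ⟨S₁, _, _, _, _, u₁, hu₁⟩ :=
    Groth.Agent.H96.AzInvInner.main lam hfix hlam hinj n hrk ψ
  have : Module.Flat S S₁ := inferInstance
  -- notation
  let t₁ := t.bc S lam S₁
  let ψ₁ := Algebra.TensorProduct.congr (AlgEquiv.refl : S₁ ≃ₐ[S₁] S₁) (ψ.restrictScalars S)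
  have ht₁mul : ∀ x y, t₁ (x * y) = t₁ y * t₁ x := bc_mul lam t S₁
  have ht₁inv : ∀ x, t₁ (t₁ x) = x := bc_bc lam t S₁
  have ht₁one : t₁ 1 = 1 := bc_one lam t S₁
  have hcomm : ∀ x, ψ₁ (t₁ x) = t₁ (ψ₁ x) := bc_comm lam t S₁ ψ hψ
  have hψ₁ : ∀ x, ψ₁ x = ↑u₁ * x * ↑u₁⁻¹ := hu₁
  have htu : t₁ ↑u₁ * t₁ ↑u₁⁻¹ = 1 := by rw [← ht₁mul, Units.inv_mul, ht₁one]
  have htu' : t₁ ↑u₁⁻¹ * t₁ ↑u₁ = 1 := by rw [← ht₁mul, Units.mul_inv, ht₁one]
  -- `z = t₁ u₁ * u₁` is central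
  obtain ⟨z, hzdef⟩ : ∃ z, z = t₁ ↑u₁ * ↑u₁ := ⟨_, rfl⟩
  obtain ⟨z', hz'def⟩ : ∃ z', z' = ↑u₁⁻¹ * t₁ ↑u₁⁻¹ := ⟨_, rfl⟩
  have hzz : z * z' = 1 := by
    rw [hzdef, hz'def, mul_assoc, ← mul_assoc (↑u₁ : S₁ ⊗[S] A), Units.mul_inv, one_mul, htu]
  have hzz' : z' * z = 1 := by
    rw [hzdef, hz'def, mul_assoc, ← mul_assoc (t₁ ↑u₁⁻¹), htu', one_mul, Units.inv_mul]
  have hzc : ∀ y, y * z = z * y := by
    intro y
    rw [hzdef]
    have h1 := hcomm (t₁ y)
    rw [ht₁inv, hψ₁, hψ₁, ht₁mul, ht₁mul, ht₁inv] at h1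
    have h2 : t₁ ↑u₁⁻¹ * y * t₁ ↑u₁ = ↑u₁ * y * ↑u₁⁻¹ := by
      rw [← mul_assoc] at h1
      exact h1.symm
    calc y * (t₁ ↑u₁ * ↑u₁) = (t₁ ↑u₁ * t₁ ↑u₁⁻¹) * y * t₁ ↑u₁ * ↑u₁ := by
          rw [htu, one_mul, mul_assoc]
      _ = t₁ ↑u₁ * (t₁ ↑u₁⁻¹ * y * t₁ ↑u₁) * ↑u₁ := by simp only [mul_assoc]
      _ = t₁ ↑u₁ * (↑u₁ * y * ↑u₁⁻¹) * ↑u₁ := by rw [h2]
      _ = (t₁ ↑u₁ * ↑u₁) * y := by simp only [mul_assoc, Units.inv_mul, mul_one]
  have hzs : t₁ z = z := by rw [hzdef, ht₁mul, ht₁inv]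
  have hz'c : ∀ y, y * z' = z' * y := by
    intro y
    calc y * z' = (z' * z) * y * z' := by rw [hzz', one_mul]
      _ = z' * (z * y) * z' := by simp only [mul_assoc]
      _ = z' * (y * z) * z' := by rw [hzc]
      _ = z' * y * (z * z') := by simp only [mul_assoc]
      _ = z' * y := by rw [hzz, mul_one]
  have hz's : t₁ z' = z' := by rw [hz'def, ht₁mul, ht₁inv]
  obtain ⟨ζ, hζ⟩ := exists_scalar_of_central_symm lam t S₁ hfix z hzc hzs
  obtain ⟨ζ', hζ'⟩ := exists_scalar_of_central_symm lam t S₁ hfix z' hz'c hz's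
  -- injectivity of `σ ↦ σ ⊗ 1`
  have hinjA : Function.Injective (Algebra.linearMap S A) := by
    have h1 : (Algebra.linearMap S A : S → A) =
        (algebraMap R A) ∘ (algebraMap S R) := by
      funext s
      exact IsScalarTower.algebraMap_apply S R A s
    rw [h1]
    exact (FaithfulSMul.algebraMap_injective R A).comp hinj
  have hinjB : ∀ σ : S₁, σ ⊗ₜ[S] (1 : A) = 1 → σ = 1 := by
    intro σ hσ
    have h2 := Module.Flat.lTensor_preserves_injective_linearMap (M := S₁)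
      (Algebra.linearMap S A) hinjA
    have h3 : (Algebra.linearMap S A).lTensor S₁ (σ ⊗ₜ[S] (1 : S)) =
        (Algebra.linearMap S A).lTensor S₁ ((1 : S₁) ⊗ₜ[S] (1 : S)) := by
      rw [LinearMap.lTensor_tmul, LinearMap.lTensor_tmul, Algebra.linearMap_apply, map_one, hσ,
        Algebra.TensorProduct.one_def]
    have h4 := h2 h3
    have h5 := congrArg (TensorProduct.rid S S₁) h4
    simpa using h5
  have hζζ' : ζ * ζ' = 1 := by
    apply hinjB
    have : (ζ * ζ') ⊗ₜ[S] (1 : A) = (ζ ⊗ₜ[S] (1 : A)) * (ζ' ⊗ₜ[S] (1 : A)) := by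
      rw [Algebra.TensorProduct.tmul_mul_tmul, mul_one]
    rw [this, ← hζ, ← hζ', hzz]
  let ζu : S₁ˣ := ⟨ζ, ζ', hζζ', by rw [mul_comm]; exact hζζ'⟩
  obtain ⟨S₂, _, _, _, _, y, hy⟩ := hsq S₁ ζu
  let algS₂ : Algebra S S₂ := ((algebraMap S₁ S₂).comp (algebraMap S S₁)).toAlgebra
  have : IsScalarTower S S₁ S₂ := IsScalarTower.of_algebraMap_eq (fun _ => rfl)
  have : Algebra.Etale S S₂ := Algebra.Etale.comp S S₁ S₂
  have : Module.FaithfullyFlat S S₂ := Module.FaithfullyFlat.trans S S₁ S₂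
  -- `y` is a unit
  have hyu : IsUnit y := by
    have h1 : IsUnit (y * y) := by
      rw [hy]
      exact (ζu.isUnit).map (algebraMap S₁ S₂)
    exact isUnit_of_mul_isUnit_left h1
  obtain ⟨yu, rfl⟩ := hyu
  let β : S₁ ⊗[S] A →ₐ[S] S₂ ⊗[S] A :=
    Algebra.TensorProduct.map (IsScalarTower.toAlgHom S S₁ S₂) (AlgHom.id S A)
  have hβ : ∀ (σ : S₁) (a : A), β (σ ⊗ₜ a) = algebraMap S₁ S₂ σ ⊗ₜ a := fun σ a => rfl
  let t₂ := t.bc S lam S₂
  let ψ₂ := Algebra.TensorProduct.congr (AlgEquiv.refl : S₂ ≃ₐ[S₂] S₂) (ψ.restrictScalars S)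
  have ht₂β : ∀ x, t₂ (β x) = β (t₁ x) := by
    intro x
    induction x using TensorProduct.induction_on with
    | zero => simp
    | tmul σ a =>
      show t₂ (β (σ ⊗ₜ a)) = β (t.bc S lam S₁ (σ ⊗ₜ a))
      rw [hβ, AzInv.LamInv.bc_tmul, AzInv.LamInv.bc_tmul, hβ]
    | add x₁ x₂ h₁ h₂ => rw [map_add, map_add, h₁, h₂, map_add, map_add]
  let v : S₂ ⊗[S] A := (↑yu⁻¹ : S₂) • β ↑u₁
  let v' : S₂ ⊗[S] A := (↑yu : S₂) • β ↑u₁⁻¹
  have hvv' : v * v' = 1 := by
    show ((↑yu⁻¹ : S₂) • β ↑u₁) * ((↑yu : S₂) • β ↑u₁⁻¹) = 1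
    rw [smul_mul_smul_comm, Units.inv_mul, one_smul, ← map_mul, Units.mul_inv, map_one]
  have hv'v : v' * v = 1 := by
    show ((↑yu : S₂) • β ↑u₁⁻¹) * ((↑yu⁻¹ : S₂) • β ↑u₁) = 1
    rw [smul_mul_smul_comm, Units.mul_inv, one_smul, ← map_mul, Units.inv_mul, map_one]
  refine ⟨S₂, inferInstance, algS₂, inferInstance, inferInstance, ⟨v, v', hvv', hv'v⟩, ?_, ?_⟩
  · show t₂ v * v = 1
    show t₂ ((↑yu⁻¹ : S₂) • β ↑u₁) * ((↑yu⁻¹ : S₂) • β ↑u₁) = 1
    rw [map_smul, ht₂β, smul_mul_smul_comm, ← map_mul]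
    show ((↑yu⁻¹ : S₂) * ↑yu⁻¹) • β (t₁ ↑u₁ * ↑u₁) = 1
    rw [← hzdef, hζ, hβ, TensorProduct.smul_tmul', smul_eq_mul]
    have : (↑yu⁻¹ : S₂) * ↑yu⁻¹ * algebraMap S₁ S₂ ζ = 1 := by
      have h1 : algebraMap S₁ S₂ ζ = ↑yu * ↑yu := hy.symm
      rw [h1]
      calc (↑yu⁻¹ : S₂) * ↑yu⁻¹ * (↑yu * ↑yu) = (↑yu⁻¹ * ↑yu) * ((↑yu⁻¹ : S₂) * ↑yu) := by ring
        _ = 1 := by rw [Units.inv_mul, one_mul]
    rw [this, Algebra.TensorProduct.one_def]
  · intro x
    show ψ₂ x = v * x * v'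
    induction x using TensorProduct.induction_on with
    | zero => simp
    | tmul σ a =>
      have h1 : (σ ⊗ₜ[S] a : S₂ ⊗[S] A) = σ • β ((1 : S₁) ⊗ₜ[S] a) := by
        rw [hβ, map_one, TensorProduct.smul_tmul', smul_eq_mul, mul_one]
      have h2 : ψ₂ (σ ⊗ₜ[S] a) = σ • β (ψ₁ ((1 : S₁) ⊗ₜ[S] a)) := by
        have h3 : ψ₁ ((1 : S₁) ⊗ₜ[S] a) = (1 : S₁) ⊗ₜ[S] ψ a := rfl
        rw [h3, hβ, map_one, TensorProduct.smul_tmul', smul_eq_mul, mul_one]
        rfl
      rw [h2, hψ₁, map_mul, map_mul, h1]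
      show σ • (β ↑u₁ * β (1 ⊗ₜ[S] a) * β ↑u₁⁻¹) =
        ((↑yu⁻¹ : S₂) • β ↑u₁) * (σ • β ((1 : S₁) ⊗ₜ[S] a)) * ((↑yu : S₂) • β ↑u₁⁻¹)
      rw [smul_mul_smul_comm, smul_mul_smul_comm]
      congr 1
      calc σ = (↑yu⁻¹ * ↑yu : S₂) * σ := by rw [Units.inv_mul, one_mul]
        _ = (↑yu⁻¹ : S₂) * σ * ↑yu := by ring
    | add x₁ x₂ h₁ h₂ => rw [map_add, h₁, h₂, mul_add, add_mul]

end Main

end Groth.Agent.H96.AzInvUnitary
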