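import Mathlib
import Groth.Prelude.Def_AzInv
import Groth.Agent.H96.AzInvUnitary

/-!
# Involutions over a split quadratic cover are hyperbolic

`T` is an `R`-algebra, `e ∈ T ⊗[S] R` the idempotent of the graph of `R → T`, `lam` an involution
of `R` over `S` with `(id ⊗ lam) e = 1 - e`.  Then for `R`-algebras with `lam`-involutions
`(B, τ_B)`, `(C, τ_C)`, every `T`-algebra isomorphism `T ⊗[R] B ≃ T ⊗[R] C` induces an isomorphism
`T ⊗[S] B ≃ T ⊗[S] C` compatible with `R` and the involutions.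
-/

set_option autoImplicit false
set_option linter.style.haveILetI false
set_option linter.unusedSectionVars false
universe u v w w' u'

open TensorProduct

namespace Groth.Agent.H96.Hyperbolic

variable {S : Type u} {R : Type v} (T : Type u') [CommRing S] [CommRing R] [CommRing T]
  [Algebra S R] [Algebra S T] [Algebra R T] [IsScalarTower S R T]

section Basic

variable (B : Type w) [Ring B] [Algebra S B] [Algebra R B] [IsScalarTower S R B]

/-- `T ⊗[S] R → T ⊗[S] B`. -/
noncomputable def incl : T ⊗[S] R →ₐ[T] T ⊗[S] B :=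
  Algebra.TensorProduct.map (AlgHom.id T T) (IsScalarTower.toAlgHom S R B)

@[simp] theorem incl_tmul (x : T) (r : R) :
    incl T B (x ⊗ₜ[S] r) = x ⊗ₜ[S] algebraMap R B r := by
  simp [incl]

theorem incl_central (ρ : T ⊗[S] R) (y : T ⊗[S] B) : incl T B ρ * y = y * incl T B ρ := by
  induction ρ using TensorProduct.induction_on with
  | zero => simp
  | tmul x r =>
    induction y using TensorProduct.induction_on with
    | zero => simp
    | tmul x' b =>
      rw [incl_tmul, Algebra.TensorProduct.tmul_mul_tmul, Algebra.TensorProduct.tmul_mul_tmul,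
        mul_comm, Algebra.commutes]
    | add y₁ y₂ h₁ h₂ => rw [mul_add, add_mul, h₁, h₂]
  | add ρ₁ ρ₂ h₁ h₂ => rw [map_add, add_mul, mul_add, h₁, h₂]

/-- `T ⊗[S] B → T ⊗[R] B`. -/
noncomputable def proj : T ⊗[S] B →ₐ[T] T ⊗[R] B :=
  Algebra.TensorProduct.lift (Algebra.TensorProduct.includeLeft : T →ₐ[T] T ⊗[R] B)
    ((Algebra.TensorProduct.includeRight : B →ₐ[R] T ⊗[R] B).restrictScalars S)
    (fun x b => by
      show Commute (x ⊗ₜ[R] (1 : B)) ((1 : T) ⊗ₜ[R] b)
      rw [Commute, SemiconjBy, Algebra.TensorProduct.tmul_mul_tmul,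
        Algebra.TensorProduct.tmul_mul_tmul, mul_one, one_mul, mul_one, one_mul])

@[simp] theorem proj_tmul (x : T) (b : B) : proj T B (x ⊗ₜ[S] b) = x ⊗ₜ[R] b := by
  simp [proj]

variable (R) in
/-- `T ⊗[S] R → T`. -/
noncomputable def mu : T ⊗[S] R →ₐ[T] T :=
  Algebra.TensorProduct.lift (AlgHom.id T T) (IsScalarTower.toAlgHom S R T)
    (fun _ _ => Commute.all _ _)

@[simp] theorem mu_tmul (x : T) (r : R) : mu R T (x ⊗ₜ[S] r) = x * algebraMap R T r := by
  simp [mu]

theorem proj_incl (ρ : T ⊗[S] R) :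
    proj T B (incl T B ρ) = algebraMap T (T ⊗[R] B) (mu R T ρ) := by
  induction ρ using TensorProduct.induction_on with
  | zero => simp
  | tmul x r =>
    rw [incl_tmul, proj_tmul, mu_tmul, Algebra.TensorProduct.algebraMap_apply,
      Algebra.algebraMap_self, RingHom.id_apply, Algebra.algebraMap_eq_smul_one r,
      TensorProduct.tmul_smul, TensorProduct.smul_tmul', Algebra.smul_def, mul_comm]
  | add ρ₁ ρ₂ h₁ h₂ => rw [map_add, map_add, h₁, h₂, map_add, map_add]

end Basic


section Sec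

variable (e : T ⊗[S] R)
  (he_mul : ∀ r : R, e * ((1 : T) ⊗ₜ[S] r) = e * (algebraMap R T r ⊗ₜ[S] (1 : R)))

include he_mul in
theorem e_mul (ρ : T ⊗[S] R) : e * ρ = e * (mu R T ρ ⊗ₜ[S] (1 : R)) := by
  induction ρ using TensorProduct.induction_on with
  | zero => simp
  | tmul x r =>
    have h1 : x ⊗ₜ[S] r = (x ⊗ₜ[S] (1 : R)) * ((1 : T) ⊗ₜ[S] r) := by
      rw [Algebra.TensorProduct.tmul_mul_tmul, mul_one, one_mul]
    have h2 : mu R T (x ⊗ₜ[S] r) ⊗ₜ[S] (1 : R)
        = (x ⊗ₜ[S] (1 : R)) * (algebraMap R T r ⊗ₜ[S] (1 : R)) := by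
      rw [mu_tmul, Algebra.TensorProduct.tmul_mul_tmul, mul_one]
    rw [h2, h1, mul_left_comm, he_mul, mul_left_comm]
  | add ρ₁ ρ₂ h₁ h₂ => rw [mul_add, h₁, h₂, map_add, TensorProduct.add_tmul, mul_add]

variable (B : Type w) [Ring B] [Algebra S B] [Algebra R B] [IsScalarTower S R B]

include he_mul in
theorem incl_e_mul (ρ : T ⊗[S] R) (z : T ⊗[S] B) :
    incl T B e * (incl T B ρ * z) = mu R T ρ • (incl T B e * z) := by
  have h : (mu R T ρ ⊗ₜ[S] (1 : B)) * z = mu R T ρ • z := by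
    rw [Algebra.smul_def]; rfl
  rw [← mul_assoc, ← map_mul, e_mul T e he_mul ρ, map_mul, incl_tmul, map_one, mul_assoc, h,
    mul_smul_comm]

/-- The section `T ⊗[R] B → T ⊗[S] B`, `x ⊗ b ↦ e (x ⊗ b)`. -/
noncomputable def sec : T ⊗[R] B →ₗ[T] T ⊗[S] B :=
  TensorProduct.AlgebraTensorModule.lift
    { toFun := fun x =>
        { toFun := fun b => incl T B e * (x ⊗ₜ[S] b)
          map_add' := fun b b' => by rw [TensorProduct.tmul_add, mul_add]
          map_smul' := fun r b => by
            have h1 : x ⊗ₜ[S] (r • b) = incl T B ((1 : T) ⊗ₜ[S] r) * (x ⊗ₜ[S] b) := by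
              rw [incl_tmul, Algebra.TensorProduct.tmul_mul_tmul, one_mul, ← Algebra.smul_def]
            rw [h1, incl_e_mul T e he_mul B, mu_tmul, one_mul, RingHom.id_apply,
              algebraMap_smul] }
      map_add' := fun x x' => by
        ext b
        show incl T B e * ((x + x') ⊗ₜ[S] b) = incl T B e * (x ⊗ₜ[S] b) + incl T B e * (x' ⊗ₜ[S] b)
        rw [TensorProduct.add_tmul, mul_add]
      map_smul' := fun c x => by
        ext b
        show incl T B e * ((c • x) ⊗ₜ[S] b) = c • (incl T B e * (x ⊗ₜ[S] b))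
        rw [← TensorProduct.smul_tmul', mul_smul_comm] }

theorem sec_tmul (x : T) (b : B) :
    sec T e he_mul B (x ⊗ₜ[R] b) = incl T B e * (x ⊗ₜ[S] b) := rfl

end Sec


section Props

variable (e : T ⊗[S] R)
  (he_mul : ∀ r : R, e * ((1 : T) ⊗ₜ[S] r) = e * (algebraMap R T r ⊗ₜ[S] (1 : R)))
  (he_idem : e * e = e) (he_mu : mu R T e = 1)
  (B : Type w) [Ring B] [Algebra S B] [Algebra R B] [IsScalarTower S R B]

include he_mu in
theorem proj_sec (y : T ⊗[R] B) : proj T B (sec T e he_mul B y) = y := by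
  induction y using TensorProduct.induction_on with
  | zero => simp
  | tmul x b => rw [sec_tmul, map_mul, proj_incl, he_mu, map_one, one_mul, proj_tmul]
  | add y₁ y₂ h₁ h₂ => rw [map_add, map_add, h₁, h₂]

theorem sec_proj (z : T ⊗[S] B) : sec T e he_mul B (proj T B z) = incl T B e * z := by
  induction z using TensorProduct.induction_on with
  | zero => simp
  | tmul x b => rw [proj_tmul, sec_tmul]
  | add z₁ z₂ h₁ h₂ => rw [map_add, map_add, h₁, h₂, mul_add]

include he_mu he_mul in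
theorem proj_surjective : Function.Surjective (proj T B : T ⊗[S] B →ₐ[T] T ⊗[R] B) :=
  fun y => ⟨_, proj_sec T e he_mul he_mu B y⟩

include he_idem in
theorem incl_e_idem : incl T B e * incl T B e = incl T B e := by
  rw [← map_mul, he_idem]

include he_idem he_mu in
theorem sec_mul (y y' : T ⊗[R] B) :
    sec T e he_mul B (y * y') = sec T e he_mul B y * sec T e he_mul B y' := by
  obtain ⟨z, rfl⟩ := proj_surjective T e he_mul he_mu B y
  obtain ⟨z', rfl⟩ := proj_surjective T e he_mul he_mu B y'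
  rw [← map_mul, sec_proj, sec_proj, sec_proj]
  calc incl T B e * (z * z') = (incl T B e * incl T B e) * (z * z') := by
        rw [incl_e_idem T e he_idem B]
    _ = incl T B e * ((incl T B e * z) * z') := by rw [mul_assoc, mul_assoc]
    _ = incl T B e * ((z * incl T B e) * z') := by rw [incl_central T B e z]
    _ = incl T B e * z * (incl T B e * z') := by rw [mul_assoc, mul_assoc]

theorem sec_one : sec T e he_mul B 1 = incl T B e := by
  rw [Algebra.TensorProduct.one_def, sec_tmul, ← Algebra.TensorProduct.one_def, mul_one]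

include he_idem he_mu in
theorem incl_e_mul_sec (y : T ⊗[R] B) :
    incl T B e * sec T e he_mul B y = sec T e he_mul B y := by
  obtain ⟨z, rfl⟩ := proj_surjective T e he_mul he_mu B y
  rw [sec_proj, ← mul_assoc, incl_e_idem T e he_idem B]

end Props

section Main

variable (lam : R ≃ₐ[S] R) (hlam : ∀ r, lam (lam r) = r)

/-- `id ⊗ lam` on `T ⊗[S] R`. -/
noncomputable def LT : T ⊗[S] R →ₐ[T] T ⊗[S] R :=
  Algebra.TensorProduct.map (AlgHom.id T T) lam.toAlgHom

@[simp] theorem LT_tmul (x : T) (r : R) : LT T lam (x ⊗ₜ[S] r) = x ⊗ₜ[S] lam r := by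
  simp [LT]

include hlam in
theorem LT_LT (ρ : T ⊗[S] R) : LT T lam (LT T lam ρ) = ρ := by
  induction ρ using TensorProduct.induction_on with
  | zero => simp
  | tmul x r => rw [LT_tmul, LT_tmul, hlam]
  | add ρ₁ ρ₂ h₁ h₂ => rw [map_add, map_add, h₁, h₂]

variable (e : T ⊗[S] R)
  (he_mul : ∀ r : R, e * ((1 : T) ⊗ₜ[S] r) = e * (algebraMap R T r ⊗ₜ[S] (1 : R)))
  (he_idem : e * e = e) (he_mu : mu R T e = 1) (he_lam : LT T lam e = 1 - e)

variable {B : Type w} [Ring B] [Algebra S B] [Algebra R B] [IsScalarTower S R B]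
  {C : Type w'} [Ring C] [Algebra S C] [Algebra R C] [IsScalarTower S R C]

theorem bc_incl (τ : AzInv.LamInv R B lam) (ρ : T ⊗[S] R) :
    τ.bc S lam T (incl T B ρ) = incl T B (LT T lam ρ) := by
  induction ρ using TensorProduct.induction_on with
  | zero => simp
  | tmul x r => rw [incl_tmul, AzInv.LamInv.bc_tmul, LT_tmul, incl_tmul, τ.map_algebraMap]
  | add ρ₁ ρ₂ h₁ h₂ => rw [map_add, map_add, h₁, h₂, map_add, map_add]

include he_lam in
theorem bc_incl_e (τ : AzInv.LamInv R B lam) :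
    τ.bc S lam T (incl T B e) = 1 - incl T B e := by
  rw [bc_incl, he_lam, map_sub, map_one]

variable (ψ : T ⊗[R] B ≃ₐ[T] T ⊗[R] C)

/-- The half `e (T ⊗[S] B) → e (T ⊗[S] C)`. -/
noncomputable def G : T ⊗[S] B →ₗ[T] T ⊗[S] C :=
  (sec T e he_mul C) ∘ₗ ψ.toLinearMap ∘ₗ (proj T B).toLinearMap

theorem G_apply (z : T ⊗[S] B) : G T e he_mul ψ z = sec T e he_mul C (ψ (proj T B z)) := rfl

include he_idem he_mu in
theorem G_mul (z z' : T ⊗[S] B) :
    G T e he_mul ψ (z * z') = G T e he_mul ψ z * G T e he_mul ψ z' := by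
  rw [G_apply, G_apply, G_apply, map_mul, map_mul, sec_mul T e he_mul he_idem he_mu]

theorem G_one : G T e he_mul ψ 1 = incl T C e := by
  rw [G_apply, map_one, map_one, sec_one]

include he_idem he_mu in
theorem incl_e_mul_G (z : T ⊗[S] B) : incl T C e * G T e he_mul ψ z = G T e he_mul ψ z := by
  rw [G_apply, incl_e_mul_sec T e he_mul he_idem he_mu]

include he_idem he_mu in
theorem G_incl (ρ : T ⊗[S] R) (z : T ⊗[S] B) :
    G T e he_mul ψ (incl T B ρ * z) = incl T C ρ * G T e he_mul ψ z := by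
  have h1 : G T e he_mul ψ (incl T B ρ * z) = mu R T ρ • G T e he_mul ψ z := by
    rw [G_apply, map_mul, proj_incl, ← Algebra.smul_def, map_smul, map_smul, ← G_apply]
  have h2 : incl T C ρ * G T e he_mul ψ z = mu R T ρ • G T e he_mul ψ z := by
    rw [← incl_e_mul_G T e he_mul he_idem he_mu ψ z, incl_central, mul_assoc, ← incl_central,
      incl_e_mul T e he_mul C]
  rw [h1, h2]

include he_mu in
theorem proj_incl_e : proj T C (incl T C e) = (1 : T ⊗[R] C) := by
  rw [proj_incl, he_mu, map_one]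

variable (τB : AzInv.LamInv R B lam) (τC : AzInv.LamInv R C lam)

/-- The isomorphism as a linear map. -/
noncomputable def F : T ⊗[S] B →ₗ[T] T ⊗[S] C :=
  G T e he_mul ψ + (τC.bc S lam T) ∘ₗ (G T e he_mul ψ) ∘ₗ (τB.bc S lam T)

theorem F_apply (z : T ⊗[S] B) : F T lam e he_mul ψ τB τC z =
    G T e he_mul ψ z + τC.bc S lam T (G T e he_mul ψ (τB.bc S lam T z)) := rfl

open Groth.Agent.H96.AzInvUnitary in
include he_idem he_mu he_lam in
theorem G_mul_bc_G (z w : T ⊗[S] B) :
    G T e he_mul ψ z * τC.bc S lam T (G T e he_mul ψ w) = 0 := by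
  rw [← incl_e_mul_G T e he_mul he_idem he_mu ψ w, bc_mul, bc_incl_e T lam e he_lam,
    ← incl_e_mul_G T e he_mul he_idem he_mu ψ z, incl_central, mul_assoc,
    ← mul_assoc (incl T C e), incl_central (B := C) T e, mul_assoc, mul_sub, mul_one,
    incl_e_idem T e he_idem, sub_self, mul_zero, mul_zero]

open Groth.Agent.H96.AzInvUnitary in
include he_idem he_mu he_lam in
theorem bc_G_mul_G (z w : T ⊗[S] B) :
    τC.bc S lam T (G T e he_mul ψ w) * G T e he_mul ψ z = 0 := by
  rw [← incl_e_mul_G T e he_mul he_idem he_mu ψ w, bc_mul, bc_incl_e T lam e he_lam,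
    ← incl_e_mul_G T e he_mul he_idem he_mu ψ z, mul_assoc, ← mul_assoc _ (incl T C e),
    sub_mul, one_mul, incl_e_idem T e he_idem, sub_self, zero_mul, mul_zero]

open Groth.Agent.H96.AzInvUnitary in
include he_idem he_mu he_lam in
theorem F_mul (z z' : T ⊗[S] B) : F T lam e he_mul ψ τB τC (z * z') =
    F T lam e he_mul ψ τB τC z * F T lam e he_mul ψ τB τC z' := by
  rw [F_apply, F_apply, F_apply, add_mul, mul_add, mul_add,
    G_mul_bc_G T lam e he_mul he_idem he_mu he_lam ψ τC,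
    bc_G_mul_G T lam e he_mul he_idem he_mu he_lam ψ τC, add_zero, zero_add,
    G_mul T e he_mul he_idem he_mu, bc_mul, G_mul T e he_mul he_idem he_mu, bc_mul]

open Groth.Agent.H96.AzInvUnitary in
include he_lam in
theorem F_one : F T lam e he_mul ψ τB τC 1 = 1 := by
  rw [F_apply, bc_one, G_one, bc_incl_e T lam e he_lam]
  abel

open Groth.Agent.H96.AzInvUnitary in
theorem F_bc (z : T ⊗[S] B) : F T lam e he_mul ψ τB τC (τB.bc S lam T z) =
    τC.bc S lam T (F T lam e he_mul ψ τB τC z) := by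
  rw [F_apply, F_apply, bc_bc, map_add, bc_bc, add_comm]

open Groth.Agent.H96.AzInvUnitary in
include hlam he_idem he_mu in
theorem F_incl (ρ : T ⊗[S] R) (z : T ⊗[S] B) : F T lam e he_mul ψ τB τC (incl T B ρ * z) =
    incl T C ρ * F T lam e he_mul ψ τB τC z := by
  have h2 : τC.bc S lam T (G T e he_mul ψ (τB.bc S lam T (incl T B ρ * z))) =
      incl T C ρ * τC.bc S lam T (G T e he_mul ψ (τB.bc S lam T z)) := by
    rw [bc_mul, bc_incl, ← incl_central, G_incl T e he_mul he_idem he_mu, bc_mul, bc_incl,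
      LT_LT T lam hlam, incl_central]
  rw [F_apply, F_apply, mul_add, G_incl T e he_mul he_idem he_mu, h2]


open Groth.Agent.H96.AzInvUnitary in
include he_idem he_mu he_lam in
theorem proj_bc_G (w : T ⊗[S] B) :
    proj T C (τC.bc S lam T (G T e he_mul ψ w)) = (0 : T ⊗[R] C) := by
  rw [← incl_e_mul_G T e he_mul he_idem he_mu ψ w, bc_mul, bc_incl_e T lam e he_lam, map_mul,
    map_sub, map_one, proj_incl_e T e he_mu, sub_self, mul_zero]

include he_mu in
theorem G_symm_G (z : T ⊗[S] B) :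
    G T e he_mul ψ.symm (G T e he_mul ψ z) = incl T B e * z := by
  rw [G_apply, G_apply, proj_sec T e he_mul he_mu, AlgEquiv.symm_apply_apply, sec_proj]

open Groth.Agent.H96.AzInvUnitary in
include he_idem he_mu he_lam in
theorem F_symm_F (z : T ⊗[S] B) :
    F T lam e he_mul ψ.symm τC τB (F T lam e he_mul ψ τB τC z) = z := by
  have h0 : ∀ w : T ⊗[S] B, G T e he_mul ψ.symm (τC.bc S lam T (G T e he_mul ψ w)) = 0 := by
    intro w
    rw [G_apply, proj_bc_G T lam e he_mul he_idem he_mu he_lam ψ τC, map_zero, map_zero]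
  rw [F_apply, F_apply, map_add, map_add, bc_bc, map_add, h0, h0,
    G_symm_G T e he_mul he_mu, G_symm_G T e he_mul he_mu, add_zero, zero_add, bc_mul, bc_bc,
    bc_incl_e T lam e he_lam, mul_sub, mul_one, incl_central]
  abel

end Main

section Final

variable (lam : R ≃ₐ[S] R) (hlam : ∀ r, lam (lam r) = r)
variable (e : T ⊗[S] R)
  (he_mul : ∀ r : R, e * ((1 : T) ⊗ₜ[S] r) = e * (algebraMap R T r ⊗ₜ[S] (1 : R)))
  (he_idem : e * e = e) (he_mu : mu R T e = 1) (he_lam : LT T lam e = 1 - e)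
variable {B : Type w} [Ring B] [Algebra S B] [Algebra R B] [IsScalarTower S R B]
  {C : Type w'} [Ring C] [Algebra S C] [Algebra R C] [IsScalarTower S R C]
  (ψ : T ⊗[R] B ≃ₐ[T] T ⊗[R] C)
  (τB : AzInv.LamInv R B lam) (τC : AzInv.LamInv R C lam)

include hlam he_mul he_idem he_mu he_lam ψ in
/-- The main theorem: a `T`-isomorphism of the `R`-base changes induces an isomorphism of the
`S`-base changes compatible with `R` and the involutions. -/
theorem exists_iso : ∃ f : T ⊗[S] B ≃ₐ[T] T ⊗[S] C,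
    (∀ (r : R) (x : T ⊗[S] B),
      f (((1 : T) ⊗ₜ[S] algebraMap R B r) * x) = ((1 : T) ⊗ₜ[S] algebraMap R C r) * f x) ∧
    ∀ x : T ⊗[S] B, f (τB.bc S lam T x) = τC.bc S lam T (f x) := by
  let f₁ : T ⊗[S] B →ₐ[T] T ⊗[S] C :=
    AlgHom.ofLinearMap (F T lam e he_mul ψ τB τC) (F_one T lam e he_mul he_lam ψ τB τC)
      (F_mul T lam e he_mul he_idem he_mu he_lam ψ τB τC)
  let f₂ : T ⊗[S] C →ₐ[T] T ⊗[S] B :=
    AlgHom.ofLinearMap (F T lam e he_mul ψ.symm τC τB) (F_one T lam e he_mul he_lam ψ.symm τC τB)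
      (F_mul T lam e he_mul he_idem he_mu he_lam ψ.symm τC τB)
  have h12 : ∀ z, f₂ (f₁ z) = z := F_symm_F T lam e he_mul he_idem he_mu he_lam ψ τB τC
  have h21 : ∀ z, f₁ (f₂ z) = z := by
    intro z
    have := F_symm_F T lam e he_mul he_idem he_mu he_lam ψ.symm τC τB z
    rwa [AlgEquiv.symm_symm] at this
  refine ⟨AlgEquiv.ofAlgHom f₁ f₂ (AlgHom.ext h21) (AlgHom.ext h12), ?_, ?_⟩
  · intro r x
    have := F_incl T lam hlam e he_mul he_idem he_mu ψ τB τC ((1 : T) ⊗ₜ[S] r) x
    rw [incl_tmul, incl_tmul] at this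
    exact this
  · intro x
    exact F_bc T lam e he_mul ψ τB τC x

end Final

end Groth.Agent.H96.Hyperbolic
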