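import Mathlib

/-!
# Hermitian and skew-hermitian forms over a local ring with a "ramified" involution (helper96)

`Y` is a commutative star ring (the star is the involution).  `Cong u w` : `vᴴ u v = w` for an
invertible `v`.  Over a local ring in which `2` is a unit and `y - star y` is always nilpotent,
invertible hermitian matrices are diagonalisable and any two invertible skew-hermitian matrices of
the same size are congruent.
-/

set_option autoImplicit false
set_option linter.unusedSectionVars false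

open Matrix

namespace Groth.Agent.H96.HermLocal

variable {Y : Type*} [CommRing Y] [StarRing Y]

/-- Congruence of matrices (sesquilinear sense). -/
def Cong {ι : Type*} [Fintype ι] [DecidableEq ι] (u w : Matrix ι ι Y) : Prop :=
  ∃ v : Matrix ι ι Y, IsUnit v ∧ vᴴ * u * v = w

section Basic

variable {ι κ : Type*} [Fintype ι] [DecidableEq ι] [Fintype κ] [DecidableEq κ]

theorem Cong.refl (u : Matrix ι ι Y) : Cong u u :=
  ⟨1, isUnit_one, by simp⟩

theorem Cong.trans {u v w : Matrix ι ι Y} (h₁ : Cong u v) (h₂ : Cong v w) : Cong u w := by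
  obtain ⟨a, ha, rfl⟩ := h₁
  obtain ⟨b, hb, rfl⟩ := h₂
  refine ⟨a * b, ha.mul hb, ?_⟩
  rw [conjTranspose_mul]
  simp only [Matrix.mul_assoc]

theorem isUnit_conjTranspose {v : Matrix ι ι Y} (hv : IsUnit v) : IsUnit vᴴ := by
  rw [Matrix.isUnit_iff_isUnit_det] at hv ⊢
  rw [det_conjTranspose]
  exact hv.map (starRingEnd Y)

theorem Cong.symm {u w : Matrix ι ι Y} (h : Cong u w) : Cong w u := by
  obtain ⟨a, ha, rfl⟩ := h
  have hdet : IsUnit a.det := (Matrix.isUnit_iff_isUnit_det a).mp ha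
  refine ⟨a⁻¹, ?_, ?_⟩
  · exact (Matrix.isUnit_nonsing_inv_iff).mpr ha
  · rw [conjTranspose_nonsing_inv]
    have hdet' : IsUnit (aᴴ).det := (Matrix.isUnit_iff_isUnit_det _).mp (isUnit_conjTranspose ha)
    calc (aᴴ)⁻¹ * (aᴴ * u * a) * a⁻¹ = ((aᴴ)⁻¹ * aᴴ) * u * (a * a⁻¹) := by
          simp only [Matrix.mul_assoc]
      _ = u := by rw [Matrix.nonsing_inv_mul _ hdet', Matrix.mul_nonsing_inv _ hdet]; simp

theorem Cong.isUnit {u w : Matrix ι ι Y} (h : Cong u w) (hu : IsUnit u) : IsUnit w := by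
  obtain ⟨a, ha, rfl⟩ := h
  exact ((isUnit_conjTranspose ha).mul hu).mul ha

theorem Cong.herm {u w : Matrix ι ι Y} (h : Cong u w) (s : Y)
    (hu : uᴴ = s • u) : wᴴ = s • w := by
  obtain ⟨a, ha, rfl⟩ := h
  rw [conjTranspose_mul, conjTranspose_mul, conjTranspose_conjTranspose, hu]
  simp only [Matrix.mul_assoc, Matrix.mul_smul, Matrix.smul_mul]

/-- Congruence is compatible with reindexing. -/
theorem Cong.submatrix {u w : Matrix ι ι Y} (h : Cong u w) (e : κ ≃ ι) :
    Cong (u.submatrix e e) (w.submatrix e e) := by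
  obtain ⟨a, ha, rfl⟩ := h
  refine ⟨a.submatrix e e, (Matrix.isUnit_submatrix_equiv e e).mpr ha, ?_⟩
  rw [conjTranspose_submatrix, Matrix.submatrix_mul_equiv, Matrix.submatrix_mul_equiv]

theorem Cong.of_submatrix {u w : Matrix ι ι Y} (e : κ ≃ ι)
    (h : Cong (u.submatrix e e) (w.submatrix e e)) : Cong u w := by
  have := h.submatrix e.symm
  simpa [Matrix.submatrix_submatrix] using this

/-- Block-diagonal congruence. -/
theorem Cong.fromBlocks {A A' : Matrix ι ι Y} {D D' : Matrix κ κ Y} (hA : Cong A A')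
    (hD : Cong D D') : Cong (Matrix.fromBlocks A 0 0 D) (Matrix.fromBlocks A' 0 0 D') := by
  obtain ⟨a, ha, rfl⟩ := hA
  obtain ⟨d, hd, rfl⟩ := hD
  refine ⟨Matrix.fromBlocks a 0 0 d, ?_, ?_⟩
  · rw [Matrix.isUnit_iff_isUnit_det, Matrix.det_fromBlocks_zero₂₁]
    exact ((Matrix.isUnit_iff_isUnit_det a).mp ha).mul ((Matrix.isUnit_iff_isUnit_det d).mp hd)
  · rw [Matrix.fromBlocks_conjTranspose, Matrix.fromBlocks_multiply, Matrix.fromBlocks_multiply]
    simp

/-- The Schur complement step. -/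
theorem schur (s : Y) (hs : star s = s) (hss : s * s = 1)
    (A : Matrix ι ι Y) (B : Matrix ι κ Y) (C : Matrix κ ι Y) (D : Matrix κ κ Y)
    (hA : IsUnit A) (hAs : Aᴴ = s • A) (hC : C = s • Bᴴ) :
    Cong (Matrix.fromBlocks A B C D) (Matrix.fromBlocks A 0 0 (D - C * A⁻¹ * B)) := by
  have hdet : IsUnit A.det := (Matrix.isUnit_iff_isUnit_det A).mp hA
  have h1 : A * A⁻¹ = 1 := Matrix.mul_nonsing_inv A hdet
  have h2 : A⁻¹ * A = 1 := Matrix.nonsing_inv_mul A hdet
  refine ⟨Matrix.fromBlocks 1 (-(A⁻¹ * B)) 0 1, ?_, ?_⟩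
  · rw [Matrix.isUnit_iff_isUnit_det, Matrix.det_fromBlocks_zero₂₁]
    simp
  · have hAinv : (A⁻¹)ᴴ = s • A⁻¹ := by
      rw [conjTranspose_nonsing_inv, hAs]
      apply Matrix.inv_eq_right_inv
      rw [Matrix.smul_mul, Matrix.mul_smul, smul_smul, hss, one_smul, h1]
    rw [Matrix.fromBlocks_conjTranspose, Matrix.fromBlocks_multiply, Matrix.fromBlocks_multiply]
    simp only [conjTranspose_one, conjTranspose_zero, Matrix.one_mul, Matrix.zero_mul, add_zero,
      Matrix.mul_one, zero_add, conjTranspose_neg, conjTranspose_mul, hAinv, Matrix.mul_zero,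
      Matrix.neg_mul, Matrix.mul_neg]
    congr 1
    · rw [← Matrix.mul_assoc, h1, Matrix.one_mul, neg_add_cancel]
    · rw [hC]
      simp only [Matrix.smul_mul, Matrix.mul_smul, Matrix.mul_assoc]
      rw [h2]
      simp
    · rw [hC]
      simp only [Matrix.smul_mul, Matrix.mul_smul, Matrix.mul_assoc, smul_smul]
      rw [h2]
      simp only [Matrix.mul_one, neg_add_cancel, Matrix.zero_mul, neg_zero, zero_add]
      abel

end Basic

section Local

variable [IsLocalRing Y]

theorem mem_max_of_nilpotent {y : Y} (h : IsNilpotent y) : y ∈ IsLocalRing.maximalIdeal Y := by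
  obtain ⟨k, hk⟩ := h
  exact (IsLocalRing.maximalIdeal.isMaximal Y).isPrime.mem_of_pow_mem k (by rw [hk]; exact zero_mem _)

theorem isUnit_iff_not_mem {y : Y} : IsUnit y ↔ y ∉ IsLocalRing.maximalIdeal Y := by
  rw [IsLocalRing.mem_maximalIdeal, mem_nonunits_iff, not_not]

variable (hnil : ∀ y : Y, IsNilpotent (y - star y)) (h2 : IsUnit (2 : Y))

include hnil h2 in
theorem isUnit_add_star {y : Y} (hy : IsUnit y) : IsUnit (y + star y) := by
  rw [isUnit_iff_not_mem] at hy ⊢
  intro h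
  have h1 : y - star y ∈ IsLocalRing.maximalIdeal Y := mem_max_of_nilpotent (hnil y)
  have h3 : 2 * y ∈ IsLocalRing.maximalIdeal Y := by
    have : 2 * y = (y + star y) + (y - star y) := by ring
    rw [this]
    exact Ideal.add_mem _ h h1
  rcases (IsLocalRing.maximalIdeal.isMaximal Y).isPrime.mem_or_mem h3 with h4 | h4
  · exact (isUnit_iff_not_mem.mp h2) h4
  · exact hy h4

include hnil h2 in
theorem mem_max_of_star_eq_neg {y : Y} (h : star y = -y) : y ∈ IsLocalRing.maximalIdeal Y := by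
  have h1 : y - star y ∈ IsLocalRing.maximalIdeal Y := mem_max_of_nilpotent (hnil y)
  have h3 : 2 * y ∈ IsLocalRing.maximalIdeal Y := by
    have : 2 * y = y - star y := by rw [h]; ring
    rw [this]
    exact h1
  rcases (IsLocalRing.maximalIdeal.isMaximal Y).isPrime.mem_or_mem h3 with h4 | h4
  · exact absurd h4 (isUnit_iff_not_mem.mp h2)
  · exact h4

/-- A row of an invertible matrix over a local ring contains a unit. -/
theorem exists_isUnit_row {ι : Type*} [Fintype ι] [DecidableEq ι] (u : Matrix ι ι Y)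
    (hu : IsUnit u) (i : ι) : ∃ j, IsUnit (u i j) := by
  by_contra hcon
  push Not at hcon
  have hdet : IsUnit u.det := (Matrix.isUnit_iff_isUnit_det u).mp hu
  have h1 : (u * u⁻¹) i i = 1 := by rw [Matrix.mul_nonsing_inv u hdet, Matrix.one_apply_eq]
  rw [Matrix.mul_apply] at h1
  have h3 : (∑ j, u i j * u⁻¹ j i) ∈ IsLocalRing.maximalIdeal Y :=
    Ideal.sum_mem _ fun j _ => Ideal.mul_mem_right _ _ (by
      have := hcon j
      rwa [isUnit_iff_not_mem, not_not] at this)
  rw [h1] at h3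
  exact (isUnit_iff_not_mem.mp isUnit_one) h3

include hnil h2 in
/-- Making a diagonal entry invertible. -/
theorem exists_unit_diag {ι : Type*} [Fintype ι] [DecidableEq ι] [Nonempty ι] (u : Matrix ι ι Y)
    (hu : IsUnit u) (hherm : uᴴ = u) :
    ∃ u₁ : Matrix ι ι Y, Cong u u₁ ∧ ∃ i₀, IsUnit (u₁ i₀ i₀) := by
  by_cases hex : ∃ i, IsUnit (u i i)
  · exact ⟨u, Cong.refl u, hex⟩
  push Not at hex
  obtain ⟨i₀⟩ := ‹Nonempty ι›
  obtain ⟨j₀, hj₀⟩ := exists_isUnit_row u hu i₀
  have hne : j₀ ≠ i₀ := by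
    rintro rfl
    exact hex _ hj₀
  have hji : u j₀ i₀ = star (u i₀ j₀) := by
    have := congrFun (congrFun hherm j₀) i₀
    rw [conjTranspose_apply] at this
    exact this.symm
  set E : Matrix ι ι Y := Matrix.single j₀ i₀ 1 with hE
  have hEH : Eᴴ = Matrix.single i₀ j₀ 1 := by
    ext a b
    simp only [hE, conjTranspose_apply, Matrix.single_apply]
    split_ifs <;> simp_all
  refine ⟨(Matrix.transvection j₀ i₀ 1)ᴴ * u * Matrix.transvection j₀ i₀ 1,
    ⟨Matrix.transvection j₀ i₀ 1, ?_, rfl⟩, i₀, ?_⟩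
  · rw [Matrix.isUnit_iff_isUnit_det, Matrix.det_transvection_of_ne _ _ hne]
    exact isUnit_one
  · have hexp : (Matrix.transvection j₀ i₀ (1 : Y))ᴴ * u * Matrix.transvection j₀ i₀ 1 =
        u + Eᴴ * u + u * E + Eᴴ * (u * E) := by
      simp only [Matrix.transvection, ← hE, conjTranspose_add, conjTranspose_one]
      simp only [Matrix.add_mul, Matrix.mul_add, Matrix.one_mul, Matrix.mul_one, Matrix.mul_assoc]
      abel
    rw [hexp, hEH, hE]
    simp only [Matrix.add_apply, Matrix.single_mul_apply_same, Matrix.mul_single_apply_same,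
      one_mul, mul_one]
    rw [isUnit_iff_not_mem]
    intro hmem
    have h1 : u i₀ i₀ ∈ IsLocalRing.maximalIdeal Y := by
      have := hex i₀
      rwa [isUnit_iff_not_mem, not_not] at this
    have h3 : u j₀ j₀ ∈ IsLocalRing.maximalIdeal Y := by
      have := hex j₀
      rwa [isUnit_iff_not_mem, not_not] at this
    have h4 : u i₀ j₀ + star (u i₀ j₀) ∈ IsLocalRing.maximalIdeal Y := by
      have : u i₀ j₀ + star (u i₀ j₀) =
          (u i₀ i₀ + u j₀ i₀ + u i₀ j₀ + u j₀ j₀) - u i₀ i₀ - u j₀ j₀ := by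
        rw [hji]; ring
      rw [this]
      exact Ideal.sub_mem _ (Ideal.sub_mem _ hmem h1) h3
    exact (isUnit_iff_not_mem.mp (isUnit_add_star hnil h2 hj₀)) h4

include hnil h2 in
/-- Invertible hermitian matrices over a local ring (with "ramified" involution, `2` a unit) are
diagonalisable. -/
theorem herm_diag : ∀ (N : ℕ) (ι : Type) [Fintype ι] [DecidableEq ι], Fintype.card ι = N →
    ∀ u : Matrix ι ι Y, IsUnit u → uᴴ = u →
    ∃ d : ι → Y, (∀ i, IsUnit (d i)) ∧ (∀ i, star (d i) = d i) ∧ Cong u (Matrix.diagonal d) := by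
  intro N
  induction N with
  | zero =>
    intro ι _ _ hcard u _ _
    haveI : IsEmpty ι := Fintype.card_eq_zero_iff.mp hcard
    exact ⟨fun i => isEmptyElim i, fun i => isEmptyElim i, fun i => isEmptyElim i,
      ⟨1, isUnit_one, Subsingleton.elim _ _⟩⟩
  | succ N ih =>
    intro ι _ _ hcard u hu hherm
    haveI : Nonempty ι := by
      rw [← Fintype.card_pos_iff, hcard]; exact Nat.succ_pos N
    obtain ⟨u₁, hc1, i₀, hi₀⟩ := exists_unit_diag hnil h2 u hu hherm
    have hu₁ : IsUnit u₁ := hc1.isUnit hu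
    have hherm₁ : u₁ᴴ = u₁ := by
      have := hc1.herm 1 (by rw [one_smul]; exact hherm)
      rwa [one_smul] at this
    let e : {a // a = i₀} ⊕ {a // ¬ a = i₀} ≃ ι := Equiv.sumCompl (fun a => a = i₀)
    haveI : Unique {a // a = i₀} := ⟨⟨⟨i₀, rfl⟩⟩, fun ⟨a, ha⟩ => Subtype.ext ha⟩
    set u₂ := u₁.submatrix e e with hu₂def
    have hu₂ : IsUnit u₂ := (Matrix.isUnit_submatrix_equiv e e).mpr hu₁
    have hherm₂ : u₂ᴴ = u₂ := by rw [hu₂def, conjTranspose_submatrix, hherm₁]
    set A := u₂.toBlocks₁₁ with hA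
    set B := u₂.toBlocks₁₂ with hB
    set C := u₂.toBlocks₂₁ with hC
    set D := u₂.toBlocks₂₂ with hD
    have hblocks : u₂ = Matrix.fromBlocks A B C D := (Matrix.fromBlocks_toBlocks u₂).symm
    have hbH : Matrix.fromBlocks Aᴴ Cᴴ Bᴴ Dᴴ = Matrix.fromBlocks A B C D := by
      rw [← Matrix.fromBlocks_conjTranspose, ← hblocks, hherm₂]
    obtain ⟨hAA, hCB, hBC, hDD⟩ := Matrix.fromBlocks_inj.mp hbH
    have hA00 : A default default = u₁ i₀ i₀ := by
      simp only [hA, hu₂def, Matrix.toBlocks₁₁, Matrix.of_apply, Matrix.submatrix_apply]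
      have he0 : e (Sum.inl default) = i₀ := (default : {a // a = i₀}).2
      rw [he0]
    have hAunit : IsUnit A := by
      rw [Matrix.isUnit_iff_isUnit_det, Matrix.det_unique, hA00]
      exact hi₀
    have hsch := schur (1 : Y) (star_one Y) (one_mul 1) A B C D hAunit
      (by rw [one_smul]; exact hAA) (by rw [one_smul]; exact hBC.symm)
    rw [← hblocks] at hsch
    set D' := D - C * A⁻¹ * B with hD'
    have hu₃ : IsUnit (Matrix.fromBlocks A 0 0 D') := hsch.isUnit hu₂
    have hD'unit : IsUnit D' := by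
      rw [Matrix.isUnit_iff_isUnit_det, Matrix.det_fromBlocks_zero₂₁] at hu₃
      rw [Matrix.isUnit_iff_isUnit_det]
      exact isUnit_of_mul_isUnit_right hu₃
    have hD'herm : D'ᴴ = D' := by
      have := hsch.herm 1 (by rw [one_smul]; exact hherm₂)
      rw [one_smul, Matrix.fromBlocks_conjTranspose] at this
      exact (Matrix.fromBlocks_inj.mp this).2.2.2
    have hcardQ : Fintype.card {a // ¬ a = i₀} = N := by
      have h1 := Fintype.card_congr e
      rw [Fintype.card_sum, Fintype.card_unique, hcard] at h1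
      omega
    obtain ⟨d', hd'u, hd's, hd'c⟩ := ih {a // ¬ a = i₀} hcardQ D' hD'unit hD'herm
    have hAdiag : A = Matrix.diagonal (fun _ => u₁ i₀ i₀) := by
      ext a b
      rw [Subsingleton.elim a default, Subsingleton.elim b default, hA00,
        Matrix.diagonal_apply_eq]
    have hstep : Cong u₂ (Matrix.diagonal (Sum.elim (fun _ => u₁ i₀ i₀) d')) := by
      refine hsch.trans ?_
      rw [← Matrix.fromBlocks_diagonal]
      refine Cong.fromBlocks ?_ hd'c
      rw [← hAdiag]
      exact Cong.refl A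
    let δ : {a // a = i₀} ⊕ {a // ¬ a = i₀} → Y := Sum.elim (fun _ => u₁ i₀ i₀) d'
    refine ⟨δ ∘ e.symm, ?_, ?_, ?_⟩
    · intro i
      show IsUnit (δ (e.symm i))
      rcases e.symm i with a | a
      · exact hi₀
      · exact hd'u a
    · intro i
      show star (δ (e.symm i)) = δ (e.symm i)
      rcases e.symm i with a | a
      · have := congrFun (congrFun hherm₁ i₀) i₀
        rw [conjTranspose_apply] at this
        exact this
      · exact hd's a
    · refine hc1.trans (Cong.of_submatrix e ?_)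
      rw [Matrix.submatrix_diagonal_equiv]
      have : (δ ∘ e.symm) ∘ e = δ := by
        funext x
        simp
      rw [this]
      exact hstep

include hnil h2 in
/-- An invertible skew-hermitian matrix has even size. -/
theorem skew_even {ι : Type*} [Fintype ι] [DecidableEq ι] (u : Matrix ι ι Y) (hu : IsUnit u)
    (hskew : uᴴ = -u) : Even (Fintype.card ι) := by
  by_contra hodd
  rw [Nat.not_even_iff_odd] at hodd
  have hdet : IsUnit u.det := (Matrix.isUnit_iff_isUnit_det u).mp hu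
  have h1 : star u.det = -u.det := by
    rw [← det_conjTranspose, hskew, Matrix.det_neg, hodd.neg_one_pow, neg_one_mul]
  exact (isUnit_iff_not_mem.mp hdet) (mem_max_of_star_eq_neg hnil h2 h1)

end Local

section Kappa

omit [StarRing Y] in
theorem nilpotent_of_two_mul {a : Y} (h2 : IsUnit (2 : Y)) (h : IsNilpotent (2 * a)) :
    IsNilpotent a := by
  obtain ⟨c, hc⟩ := h2.exists_left_inv
  rw [← mem_nilradical] at h ⊢
  have : a = c * (2 * a) := by rw [← mul_assoc, hc, one_mul]
  rw [this]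
  exact Ideal.mul_mem_left _ _ h

theorem nilpotent_of_star_eq_neg (hnil : ∀ y : Y, IsNilpotent (y - star y)) (h2 : IsUnit (2 : Y))
    {a : Y} (h : star a = -a) : IsNilpotent a := by
  apply nilpotent_of_two_mul h2
  have : 2 * a = a - star a := by rw [h]; ring
  rw [this]
  exact hnil a

/-- A fixed root of `γ κ² + 2 κ - 1` for nilpotent fixed `γ`. -/
theorem exists_kappa (h2 : IsUnit (2 : Y)) (γ : Y) (hγs : star γ = γ) (hγn : IsNilpotent γ) :
    ∃ κ : Y, star κ = κ ∧ γ * κ ^ 2 + 2 * κ - 1 = 0 := by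
  obtain ⟨c, hc⟩ := h2.exists_left_inv
  have hc' : 2 * c = 1 := by rw [mul_comm]; exact hc
  let P : Polynomial Y := Polynomial.C γ * Polynomial.X ^ 2 + Polynomial.C 2 * Polynomial.X - 1
  have hP : ∀ r : Y, Polynomial.aeval r P = γ * r ^ 2 + 2 * r - 1 := by
    intro r
    simp [P]
  have hP' : ∀ r : Y, Polynomial.aeval r (Polynomial.derivative P) = 2 * γ * r + 2 := by
    intro r
    simp [P]
    ring
  have hn1 : IsNilpotent (Polynomial.aeval c P) := by
    rw [hP]
    have : γ * c ^ 2 + 2 * c - 1 = c ^ 2 * γ := by rw [hc']; ring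
    rw [this, ← mem_nilradical]
    exact Ideal.mul_mem_left _ _ (mem_nilradical.mpr hγn)
  have hu1 : IsUnit (Polynomial.aeval c (Polynomial.derivative P)) := by
    rw [hP']
    have : 2 * γ * c + 2 = 2 + γ := by
      calc 2 * γ * c + 2 = γ * (2 * c) + 2 := by ring
        _ = 2 + γ := by rw [hc']; ring
    rw [this]
    exact hγn.isUnit_add_left_of_commute h2 (Commute.all _ _)
  obtain ⟨κ, ⟨hκ1, hκ2⟩, huniq⟩ :=
    Polynomial.existsUnique_nilpotent_sub_and_aeval_eq_zero hn1 hu1
  have hcs : star c = c := by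
    have h3 : 2 * star c = 1 := by
      have := congrArg star hc'
      rwa [star_mul', star_one, star_ofNat] at this
    calc star c = star c * (2 * c) := by rw [hc', mul_one]
      _ = (2 * star c) * c := by ring
      _ = c := by rw [h3, one_mul]
  rw [hP] at hκ2
  refine ⟨κ, ?_, hκ2⟩
  apply huniq
  refine ⟨?_, ?_⟩
  · have : c - star κ = star (c - κ) := by rw [star_sub, hcs]
    rw [this]
    exact hκ1.map (starRingEnd Y)
  · rw [hP]
    have := congrArg star hκ2
    rw [star_zero, star_sub, star_add, star_mul', star_mul', star_pow, hγs, star_one,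
      star_ofNat] at this
    exact this

end Kappa

section TwoByTwo

theorem conjT_fin_two (p q r s : Y) :
    (!![p, q; r, s] : Matrix (Fin 2) (Fin 2) Y)ᴴ = !![star p, star r; star q, star s] := by
  ext i j
  fin_cases i <;> fin_cases j <;> rfl

omit [StarRing Y] in
theorem fin_two_ext' {a b c d a' b' c' d' : Y} (h1 : a = a') (h2 : b = b') (h3 : c = c')
    (h4 : d = d') : (!![a, b; c, d] : Matrix (Fin 2) (Fin 2) Y) = !![a', b'; c', d'] := by
  subst h1 h2 h3 h4; rfl

theorem star_half {c : Y} (hc' : 2 * c = 1) : star c = c := by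
  have h3 : 2 * star c = 1 := by
    have := congrArg star hc'
    rwa [star_mul', star_one, star_ofNat] at this
  calc star c = star c * (2 * c) := by rw [hc', mul_one]
    _ = (2 * star c) * c := by ring
    _ = c := by rw [h3, one_mul]

/-- The `2 × 2` skew-hermitian normal form. -/
theorem skew2 (hnil : ∀ y : Y, IsNilpotent (y - star y)) (h2 : IsUnit (2 : Y))
    (h : Matrix (Fin 2) (Fin 2) Y) (hskew : hᴴ = -h) (hb : IsUnit (h 0 1)) :
    Cong h !![0, 1; -1, 0] := by
  obtain ⟨c, hc⟩ := h2.exists_left_inv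
  have hc' : 2 * c = 1 := by rw [mul_comm]; exact hc
  have hcs : star c = c := star_half hc'
  have hent : ∀ i j, star (h j i) = -h i j := by
    intro i j
    have := congrFun (congrFun hskew i) j
    rwa [conjTranspose_apply, Matrix.neg_apply] at this
  obtain ⟨α, hα⟩ : ∃ x, x = h 0 0 := ⟨_, rfl⟩
  obtain ⟨β, hβ⟩ : ∃ x, x = h 0 1 := ⟨_, rfl⟩
  obtain ⟨δ, hδ⟩ : ∃ x, x = h 1 1 := ⟨_, rfl⟩
  have e00 : star α = -α := by rw [hα]; exact hent 0 0
  have e11 : star δ = -δ := by rw [hδ]; exact hent 1 1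
  have e10 : h 1 0 = -star β := by rw [hβ, hent 1 0, neg_neg]
  have hform : h = !![α, β; -star β, δ] := by
    ext i j
    fin_cases i <;> fin_cases j
    · exact hα.symm
    · exact hβ.symm
    · exact e10
    · exact hδ.symm
  rw [← hβ] at hb
  obtain ⟨bi, hbi⟩ := hb.exists_right_inv
  obtain ⟨sb, hsb⟩ : ∃ x, x = star bi := ⟨_, rfl⟩
  obtain ⟨sβ, hsβ⟩ : ∃ x, x = star β := ⟨_, rfl⟩
  have hbis : sβ * sb = 1 := by
    rw [hsβ, hsb, ← star_mul', hbi, star_one]
  obtain ⟨γ, hγ⟩ : ∃ x, x = α * δ * (bi * sb) := ⟨_, rfl⟩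
  have hγs : star γ = γ := by
    rw [hγ, star_mul', star_mul', star_mul', e00, e11, hsb, star_star]
    ring
  have hαn : IsNilpotent α := nilpotent_of_star_eq_neg hnil h2 e00
  have hγn : IsNilpotent γ := by
    rw [hγ, ← mem_nilradical, mul_assoc]
    exact Ideal.mul_mem_right _ _ (mem_nilradical.mpr hαn)
  obtain ⟨κ, hκs, hκ⟩ := exists_kappa h2 γ hγs hγn
  have hκ' : α * δ * (bi * sb) * κ ^ 2 + 2 * κ - 1 = 0 := by rw [← hγ]; exact hκ
  obtain ⟨θ, hθ⟩ : ∃ x, x = 1 + κ * (α * δ * (bi * sb)) := ⟨_, rfl⟩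
  have hθu : IsUnit θ := by
    rw [hθ, ← hγ]
    have : IsNilpotent (κ * γ) := by
      rw [← mem_nilradical]
      exact Ideal.mul_mem_left _ _ (mem_nilradical.mpr hγn)
    exact this.isUnit_add_left_of_commute isUnit_one (Commute.all _ _)
  obtain ⟨θi, hθi⟩ := hθu.exists_right_inv
  have hθs : star θ = θ := by
    rw [hθ, ← hγ, star_add, star_one, star_mul', hκs, hγs]
  have hθis : star θi = θi := by
    have h1 : θ * star θi = 1 := by
      have := congrArg star hθi
      rwa [star_mul', star_one, hθs] at this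
    calc star θi = (θ * θi) * star θi := by rw [hθi, one_mul]
      _ = θi * (θ * star θi) := by ring
      _ = θi := by rw [h1, mul_one]
  -- step 1
  have step1 : Cong h !![0, β * θ; -(sβ * θ), δ] := by
    refine ⟨!![1, 0; -(κ * α * bi), 1], ?_, ?_⟩
    · rw [Matrix.isUnit_iff_isUnit_det, Matrix.det_fin_two_of]
      simp
    · have hys : star (-(κ * α * bi)) = κ * α * sb := by
        rw [star_neg, star_mul', star_mul', hκs, e00, hsb]; ring
      rw [conjT_fin_two, hform, Matrix.mul_fin_two, Matrix.mul_fin_two, hys, ← hsβ]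
      simp only [star_one, star_zero]
      apply fin_two_ext'
      · linear_combination (-α) * hκ' - κ * α * hbis - κ * α * hbi
      · rw [hθ]; linear_combination (-(κ * α * δ * sb)) * hbi
      · rw [hθ]; linear_combination (κ * α * δ * bi) * hbis
      · ring
  -- step 2
  obtain ⟨b1, hb1⟩ : ∃ x, x = bi * θi := ⟨_, rfl⟩
  have hb1s : star b1 = sb * θi := by rw [hb1, star_mul', hθis, hsb]
  have step2 : Cong !![0, β * θ; -(sβ * θ), δ] !![0, 1; -1, δ * b1 * star b1] := by
    refine ⟨!![1, 0; 0, b1], ?_, ?_⟩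
    · rw [Matrix.isUnit_iff_isUnit_det, Matrix.det_fin_two_of]
      refine IsUnit.of_mul_eq_one (β * θ) ?_
      rw [hb1]
      linear_combination (θ * θi) * hbi + hθi
    · rw [conjT_fin_two, Matrix.mul_fin_two, Matrix.mul_fin_two]
      simp only [star_one, star_zero]
      apply fin_two_ext'
      · ring
      · rw [hb1]; linear_combination (θ * θi) * hbi + hθi
      · rw [hb1s]; linear_combination (-(θ * θi)) * hbis - hθi
      · ring
  -- step 3
  obtain ⟨δ₁, hδ₁⟩ : ∃ x, x = δ * b1 * star b1 := ⟨_, rfl⟩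
  have hδ₁s : star δ₁ = -δ₁ := by
    rw [hδ₁, star_mul', star_mul', star_star, e11]; ring
  have step3 : Cong !![0, 1; -1, δ₁] !![0, 1; -1, 0] := by
    refine ⟨!![1, δ₁ * c; 0, 1], ?_, ?_⟩
    · rw [Matrix.isUnit_iff_isUnit_det, Matrix.det_fin_two_of]
      simp
    · have hcc : star (δ₁ * c) = -(δ₁ * c) := by rw [star_mul', hδ₁s, hcs]; ring
      rw [conjT_fin_two, Matrix.mul_fin_two, Matrix.mul_fin_two, hcc]
      simp only [star_one, star_zero]
      apply fin_two_ext'
      · ring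
      · ring
      · ring
      · linear_combination (-δ₁) * hc'
  rw [← hδ₁] at step2
  exact (step1.trans step2).trans step3

end TwoByTwo

section Skew

/-- Permuting the indices is a congruence. -/
theorem Cong.perm {ι : Type*} [Fintype ι] [DecidableEq ι] (s : ι ≃ ι) (w : Matrix ι ι Y) :
    Cong w (w.submatrix s s) := by
  refine ⟨(1 : Matrix ι ι Y).submatrix (Equiv.refl ι) s, ?_, ?_⟩
  · exact (Matrix.isUnit_submatrix_equiv (Equiv.refl ι) s).mpr isUnit_one
  · rw [conjTranspose_submatrix, conjTranspose_one]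
    have h1 : (1 : Matrix ι ι Y).submatrix s (Equiv.refl ι) * w = w.submatrix s id := by
      have := Matrix.submatrix_mul_equiv (1 : Matrix ι ι Y) w s (Equiv.refl ι) id
      simpa using this
    rw [h1]
    have h3 := Matrix.submatrix_mul_equiv w (1 : Matrix ι ι Y) s (Equiv.refl ι) s
    simpa using h3

variable [IsLocalRing Y] (hnil : ∀ y : Y, IsNilpotent (y - star y)) (h2 : IsUnit (2 : Y))

include hnil h2 in
theorem skew_step {ι : Type} [Fintype ι] [DecidableEq ι] (u : Matrix ι ι Y) (hu : IsUnit u)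
    (hskew : uᴴ = -u) (i₀ j₀ : ι) (hb : IsUnit (u i₀ j₀))
    (e₂ : Fin 2 ≃ {a // a = i₀ ∨ a = j₀}) (he0 : (e₂ 0 : ι) = i₀) (he1 : (e₂ 1 : ι) = j₀) :
    ∃ D' : Matrix {a // ¬ (a = i₀ ∨ a = j₀)} {a // ¬ (a = i₀ ∨ a = j₀)} Y,
      IsUnit D' ∧ D'ᴴ = -D' ∧
      Cong (u.submatrix (Equiv.sumCompl fun a => a = i₀ ∨ a = j₀)
          (Equiv.sumCompl fun a => a = i₀ ∨ a = j₀))
        (Matrix.fromBlocks
          ((!![0, 1; -1, 0] : Matrix (Fin 2) (Fin 2) Y).submatrix e₂.symm e₂.symm) 0 0 D') := by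
  set e := (Equiv.sumCompl fun a => a = i₀ ∨ a = j₀) with he
  set u₂ := u.submatrix e e with hu₂def
  have hu₂ : IsUnit u₂ := (Matrix.isUnit_submatrix_equiv e e).mpr hu
  have hskew₂ : u₂ᴴ = -u₂ := by rw [hu₂def, conjTranspose_submatrix, hskew]; rfl
  set A := u₂.toBlocks₁₁ with hA
  set B := u₂.toBlocks₁₂ with hB
  set C := u₂.toBlocks₂₁ with hC
  set D := u₂.toBlocks₂₂ with hD
  have hblocks : u₂ = Matrix.fromBlocks A B C D := (Matrix.fromBlocks_toBlocks u₂).symm
  have hbH : Matrix.fromBlocks Aᴴ Cᴴ Bᴴ Dᴴ = Matrix.fromBlocks (-A) (-B) (-C) (-D) := by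
    rw [← Matrix.fromBlocks_conjTranspose, ← hblocks, hskew₂, hblocks, Matrix.fromBlocks_neg]
  obtain ⟨hAA, hCB, hBC, hDD⟩ := Matrix.fromBlocks_inj.mp hbH
  have hCB' : C = (-1 : Y) • Bᴴ := by
    rw [neg_smul, one_smul, hBC, neg_neg]
  set A₂ := A.submatrix e₂ e₂ with hA₂
  have hA₂s : A₂ᴴ = -A₂ := by rw [hA₂, conjTranspose_submatrix, hAA]; rfl
  have hA₂01 : A₂ 0 1 = u i₀ j₀ := by
    show u (e (Sum.inl (e₂ 0))) (e (Sum.inl (e₂ 1))) = _
    have h0 : e (Sum.inl (e₂ 0)) = i₀ := he0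
    have h1 : e (Sum.inl (e₂ 1)) = j₀ := he1
    rw [h0, h1]
  have hcA₂ : Cong A₂ !![0, 1; -1, 0] := skew2 hnil h2 A₂ hA₂s (by rw [hA₂01]; exact hb)
  have hJunit : IsUnit (!![0, 1; -1, 0] : Matrix (Fin 2) (Fin 2) Y) := by
    rw [Matrix.isUnit_iff_isUnit_det, Matrix.det_fin_two_of]
    simp
  have hA₂u : IsUnit A₂ := hcA₂.symm.isUnit hJunit
  have hAu : IsUnit A := (Matrix.isUnit_submatrix_equiv e₂ e₂).mp hA₂u
  have hcA : Cong A ((!![0, 1; -1, 0] : Matrix (Fin 2) (Fin 2) Y).submatrix e₂.symm e₂.symm) := by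
    apply Cong.of_submatrix e₂
    rw [Matrix.submatrix_submatrix]
    simpa using hcA₂
  have hsch := schur (-1 : Y) (by rw [star_neg, star_one]) (by ring) A B C D hAu
    (by rw [neg_smul, one_smul]; exact hAA) hCB'
  rw [← hblocks] at hsch
  set D' := D - C * A⁻¹ * B with hD'
  have hu₃ : IsUnit (Matrix.fromBlocks A 0 0 D') := hsch.isUnit hu₂
  have hD'unit : IsUnit D' := by
    rw [Matrix.isUnit_iff_isUnit_det, Matrix.det_fromBlocks_zero₂₁] at hu₃
    rw [Matrix.isUnit_iff_isUnit_det]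
    exact isUnit_of_mul_isUnit_right hu₃
  have hD'skew : D'ᴴ = -D' := by
    have := hsch.herm (-1) (by rw [neg_smul, one_smul]; exact hskew₂)
    rw [neg_smul, one_smul, Matrix.fromBlocks_conjTranspose, Matrix.fromBlocks_neg] at this
    exact (Matrix.fromBlocks_inj.mp this).2.2.2
  exact ⟨D', hD'unit, hD'skew, hsch.trans (Cong.fromBlocks hcA (Cong.refl D'))⟩

include hnil h2 in
/-- Any two invertible skew-hermitian matrices of the same size are congruent. -/
theorem skew_cong : ∀ (N : ℕ) (ι : Type) [Fintype ι] [DecidableEq ι], Fintype.card ι = N →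
    ∀ u w : Matrix ι ι Y, IsUnit u → IsUnit w → uᴴ = -u → wᴴ = -w → Cong u w := by
  intro N
  induction N using Nat.strong_induction_on with
  | _ N ih =>
    intro ι _ _ hcard u w hu hw hus hws
    rcases isEmpty_or_nonempty ι with hemp | ⟨⟨i₀⟩⟩
    · exact ⟨1, isUnit_one, Subsingleton.elim _ _⟩
    obtain ⟨j₀, hj₀⟩ := exists_isUnit_row u hu i₀
    obtain ⟨j₁, hj₁⟩ := exists_isUnit_row w hw i₀
    have hdiag : ∀ (m : Matrix ι ι Y), mᴴ = -m → ∀ j, IsUnit (m i₀ j) → i₀ ≠ j := by
      intro m hm j hj hij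
      subst hij
      have h1 : star (m i₀ i₀) = -m i₀ i₀ := by
        have := congrFun (congrFun hm i₀) i₀
        rwa [conjTranspose_apply, Matrix.neg_apply] at this
      exact (isUnit_iff_not_mem.mp hj) (mem_max_of_star_eq_neg hnil h2 h1)
    have hne0 : i₀ ≠ j₀ := hdiag u hus j₀ hj₀
    have hne1 : i₀ ≠ j₁ := hdiag w hws j₁ hj₁
    let s : ι ≃ ι := Equiv.swap j₀ j₁
    set w' := w.submatrix s s with hw'
    have hww' : Cong w w' := Cong.perm s w
    have hw'u : IsUnit w' := hww'.isUnit hw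
    have hw's : w'ᴴ = -w' := by rw [hw', conjTranspose_submatrix, hws]; rfl
    have hj₁' : IsUnit (w' i₀ j₀) := by
      show IsUnit (w (s i₀) (s j₀))
      rw [Equiv.swap_apply_of_ne_of_ne hne0 hne1, Equiv.swap_apply_left]
      exact hj₁
    obtain ⟨e₂, he0, he1⟩ : ∃ e₂ : Fin 2 ≃ {a // a = i₀ ∨ a = j₀},
        (e₂ 0 : ι) = i₀ ∧ (e₂ 1 : ι) = j₀ := by
      let f : Fin 2 → {a // a = i₀ ∨ a = j₀} := ![⟨i₀, Or.inl rfl⟩, ⟨j₀, Or.inr rfl⟩]
      have hf : Function.Bijective f := by
        constructor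
        · intro a b hab
          fin_cases a <;> fin_cases b
          · rfl
          · exact absurd (congrArg Subtype.val hab) hne0
          · exact absurd (congrArg Subtype.val hab).symm hne0
          · rfl
        · rintro ⟨a, rfl | rfl⟩
          · exact ⟨0, rfl⟩
          · exact ⟨1, rfl⟩
      exact ⟨Equiv.ofBijective f hf, rfl, rfl⟩
    obtain ⟨Du, hDu, hDus, hcu⟩ := skew_step hnil h2 u hu hus i₀ j₀ hj₀ e₂ he0 he1
    obtain ⟨Dw, hDw, hDws, hcw⟩ := skew_step hnil h2 w' hw'u hw's i₀ j₀ hj₁' e₂ he0 he1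
    have hcardQ : Fintype.card {a // ¬ (a = i₀ ∨ a = j₀)} < N := by
      have h1 := Fintype.card_congr (Equiv.sumCompl fun a => a = i₀ ∨ a = j₀)
      have h3 := Fintype.card_congr e₂
      rw [Fintype.card_sum, hcard] at h1
      rw [Fintype.card_fin] at h3
      omega
    have hD := ih _ hcardQ {a // ¬ (a = i₀ ∨ a = j₀)} rfl Du Dw hDu hDw hDus hDws
    have h3 := hcu.trans ((Cong.fromBlocks (Cong.refl _) hD).trans hcw.symm)
    exact (Cong.of_submatrix _ h3).trans hww'.symm

end Skew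

end Groth.Agent.H96.HermLocal
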