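import Mathlib
import Groth.Prelude.Def_GrTwist

set_option autoImplicit false
universe u
open CategoryTheory CategoryTheory.Limits AlgebraicGeometry Opposite TopologicalSpace
open scoped HomogeneousIdeal

namespace Groth.Agent.H96.TwAdj_FG

section General

variable {A σ : Type u} [CommRing A] [SetLike σ A] [AddSubgroupClass σ A] {𝒜 : ℕ → σ} [GradedRing 𝒜]
  {B τ : Type u} [CommRing B] [SetLike τ B] [AddSubgroupClass τ B] {ℬ : ℕ → τ} [GradedRing ℬ]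
  (ψ : 𝒜 →+*ᵍ ℬ) (hψ : ℬ₊ ≤ (𝒜₊).map ψ)

/-- every degree-`n` fraction at `y` is the image of a degree-`n` fraction at `ψ⁻¹ y` -/
def FracLift (n : ℤ) : Prop :=
  ∀ (y : ProjectiveSpectrum ℬ) (i j : ℕ) (b : ℬ i) (t : ℬ j)
    (ht : (t : B) ∉ y.asHomogeneousIdeal), (i : ℤ) = j + n →
    ∃ (i' j' : ℕ) (a : 𝒜 i') (s : 𝒜 j')
      (hs : (s : A) ∉ (ProjectiveSpectrum.comap ψ hψ y).asHomogeneousIdeal), (i' : ℤ) = j' + n ∧
      GrTwist.locMap ψ hψ y (Localization.mk (a : A) ⟨s, hs⟩) = Localization.mk (b : B) ⟨t, ht⟩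

theorem exists_homogeneous_pos_not_mem (x : ProjectiveSpectrum 𝒜) :
    ∃ (i : ℕ) (_ : 0 < i) (s : A), s ∈ 𝒜 i ∧ s ∉ x.asHomogeneousIdeal := by
  by_contra hcon
  push Not at hcon
  apply x.not_irrelevant_le
  rw [HomogeneousIdeal.irrelevant_le]
  intro i hi s hs
  exact hcon i hi s hs

/-- The set of degree-`n` fractions in the localization at a point. -/
def fracSet (n : ℤ) (x : ProjectiveSpectrum 𝒜) : Set (GrTwist.Loc 𝒜 x) :=
  {q | ∃ (i j : ℕ) (a : 𝒜 i) (s : 𝒜 j) (hs : (s : A) ∉ x.asHomogeneousIdeal),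
    (i : ℤ) = j + n ∧ q = Localization.mk (a : A) ⟨s, hs⟩}

theorem zero_mem_fracSet (n : ℤ) (x : ProjectiveSpectrum 𝒜) :
    (0 : GrTwist.Loc 𝒜 x) ∈ fracSet (𝒜 := 𝒜) n x := by
  obtain ⟨d, hd, f, hf, hfx⟩ := exists_homogeneous_pos_not_mem (𝒜 := 𝒜) x
  have hfe : f ^ n.natAbs ∈ 𝒜 (n.natAbs * d) := by
    have := SetLike.pow_mem_graded n.natAbs hf
    simpa using this
  have hnn : 0 ≤ ((n.natAbs * d : ℕ) : ℤ) + n := by
    have h1 : (n.natAbs : ℤ) ≤ ((n.natAbs * d : ℕ) : ℤ) := by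
      push_cast
      exact le_mul_of_one_le_right (by positivity) (by exact_mod_cast hd)
    have h2 : -n ≤ (n.natAbs : ℤ) := by
      rw [Int.natCast_natAbs]
      exact neg_le_abs n
    omega
  refine ⟨(((n.natAbs * d : ℕ) : ℤ) + n).toNat, n.natAbs * d, ⟨0, zero_mem _⟩, ⟨f ^ n.natAbs, hfe⟩,
    fun h => hfx (x.isPrime.mem_of_pow_mem _ h), ?_, ?_⟩
  · rw [Int.toNat_of_nonneg hnn]
  · rw [Localization.mk_zero]

theorem add_mem_fracSet (n : ℤ) (x : ProjectiveSpectrum 𝒜) {p q : GrTwist.Loc 𝒜 x}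
    (hp : p ∈ fracSet (𝒜 := 𝒜) n x) (hq : q ∈ fracSet (𝒜 := 𝒜) n x) :
    p + q ∈ fracSet (𝒜 := 𝒜) n x := by
  obtain ⟨i, j, ⟨a, ha⟩, ⟨s, hs⟩, hsx, hdeg, rfl⟩ := hp
  obtain ⟨i', j', ⟨b, hb⟩, ⟨t, ht⟩, htx, hdeg', rfl⟩ := hq
  have e : j' + i = j + i' := by omega
  have hta : t * a ∈ 𝒜 (j + i') := e ▸ SetLike.mul_mem_graded ht ha
  have hsb : s * b ∈ 𝒜 (j + i') := SetLike.mul_mem_graded hs hb
  refine ⟨j + i', j + j', ⟨s * b + t * a, add_mem hsb hta⟩, ⟨s * t, SetLike.mul_mem_graded hs ht⟩,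
    fun h => (x.isPrime.mem_or_mem h).elim hsx htx, by push_cast; omega, ?_⟩
  rw [Localization.add_mk]
  rfl

theorem mul_mem_fracSet (n : ℤ) (x : ProjectiveSpectrum 𝒜) (c : GrTwist.A0 𝒜 x)
    {q : GrTwist.Loc 𝒜 x} (hq : q ∈ fracSet (𝒜 := 𝒜) n x) : c.val * q ∈ fracSet (𝒜 := 𝒜) n x := by
  obtain ⟨i, j, ⟨a, ha⟩, ⟨s, hs⟩, hsx, hdeg, rfl⟩ := hq
  refine ⟨c.deg + i, c.deg + j, ⟨c.num * a, SetLike.mul_mem_graded c.num_mem_deg ha⟩,
    ⟨c.den * s, SetLike.mul_mem_graded c.den_mem_deg hs⟩,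
    fun h => (x.isPrime.mem_or_mem h).elim c.den_mem hsx, by push_cast; omega, ?_⟩
  rw [c.eq_num_div_den, Localization.mk_mul]
  rfl

/-- (F) every element of `twistAt` is a single fraction -/
theorem exists_frac_of_mem_twistAt (n : ℤ) (x : ProjectiveSpectrum 𝒜) {q : GrTwist.Loc 𝒜 x}
    (hq : q ∈ GrTwist.twistAt 𝒜 n x) :
    ∃ (i j : ℕ) (a : 𝒜 i) (s : 𝒜 j) (hs : (s : A) ∉ x.asHomogeneousIdeal),
      (i : ℤ) = j + n ∧ q = Localization.mk (a : A) ⟨s, hs⟩ := by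
  change q ∈ fracSet (𝒜 := 𝒜) n x
  induction hq using Submodule.span_induction with
  | mem q hq => exact hq
  | zero => exact zero_mem_fracSet n x
  | add p q _ _ hp hq => exact add_mem_fracSet n x hp hq
  | smul c q _ hq =>
    have := mul_mem_fracSet n x c hq
    rwa [Algebra.smul_def, HomogeneousLocalization.algebraMap_apply]

/-- `locMap` along a propositional equality `comap y = x` (to avoid transports). -/
noncomputable def locMap' (x : ProjectiveSpectrum 𝒜) (y : ProjectiveSpectrum ℬ)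
    (h : ProjectiveSpectrum.comap ψ hψ y = x) : GrTwist.Loc 𝒜 x →+* GrTwist.Loc ℬ y := by
  subst h
  exact GrTwist.locMap ψ hψ y

theorem locMap'_rfl (y : ProjectiveSpectrum ℬ) :
    locMap' ψ hψ (ProjectiveSpectrum.comap ψ hψ y) y rfl = GrTwist.locMap ψ hψ y := rfl

/-- pointwise lifting -/
theorem exists_pointwise_lift (n : ℤ)
    (hemb : Topology.IsOpenEmbedding (ProjectiveSpectrum.comap ψ hψ))
    (hlift : FracLift ψ hψ n)
    (U : Opens (ProjectiveSpectrum.top 𝒜))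
    (hU : (U : Set (ProjectiveSpectrum.top 𝒜)) ⊆ Set.range (ProjectiveSpectrum.comap ψ hψ))
    (V : Opens (ProjectiveSpectrum.top ℬ)) (hV : V.1 = ProjectiveSpectrum.comap ψ hψ ⁻¹' U.1)
    (t : GrTwist.sectN (𝒜 := ℬ) n (op V)) (x : ProjectiveSpectrum 𝒜) (hx : x ∈ U) :
    ∃ q : GrTwist.twistAt 𝒜 n x, ∀ (y : ProjectiveSpectrum ℬ) (hy : y ∈ V)
      (h : ProjectiveSpectrum.comap ψ hψ y = x),
      locMap' ψ hψ x y h q.1 = ((t.1 ⟨y, hy⟩ : GrTwist.twistAt ℬ n y) : GrTwist.Loc ℬ y) := by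
  obtain ⟨y₀, rfl⟩ := hU hx
  have hy₀ : y₀ ∈ V := by
    change y₀ ∈ V.1
    rw [hV]; exact hx
  obtain ⟨i, j, b, t₀, ht₀, hij, hq⟩ := exists_frac_of_mem_twistAt n y₀ (t.1 ⟨y₀, hy₀⟩).2
  obtain ⟨i', j', a, s₀, hs₀, hij', hl⟩ := hlift y₀ i j b t₀ ht₀ hij
  refine ⟨⟨Localization.mk (a : A) ⟨s₀, hs₀⟩,
    Submodule.subset_span ⟨i', j', a, s₀, hs₀, hij', rfl⟩⟩, ?_⟩
  intro y hy h
  obtain rfl : y = y₀ := hemb.injective h
  change GrTwist.locMap ψ hψ y _ = _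
  rw [hl, hq]

/-- (G2) sectionwise bijectivity of the comap over opens contained in the image -/
theorem comapApp_bijective (n : ℤ)
    (hemb : Topology.IsOpenEmbedding (ProjectiveSpectrum.comap ψ hψ))
    (hinj : ∀ y, Function.Injective (GrTwist.locMap ψ hψ y))
    (hlift : FracLift ψ hψ n)
    (U : Opens (ProjectiveSpectrum.top 𝒜))
    (hU : (U : Set (ProjectiveSpectrum.top 𝒜)) ⊆ Set.range (ProjectiveSpectrum.comap ψ hψ))
    (V : Opens (ProjectiveSpectrum.top ℬ)) (hV : V.1 = ProjectiveSpectrum.comap ψ hψ ⁻¹' U.1) :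
    Function.Bijective (GrTwist.comapApp ψ hψ n U V hV.subset) := by
  have hVU : ∀ y : ProjectiveSpectrum ℬ, y ∈ V ↔ ProjectiveSpectrum.comap ψ hψ y ∈ U := by
    intro y
    change y ∈ V.1 ↔ _
    rw [hV]; rfl
  constructor
  · -- injective
    intro s s' hss
    refine Subtype.ext (funext fun x => Subtype.ext ?_)
    obtain ⟨x, hx⟩ := x
    obtain ⟨y, rfl⟩ := hU hx
    have hy : y ∈ V := (hVU y).2 hx
    have h1 := GrTwist.comapApp_apply_coe ψ hψ n U V hV.subset s ⟨y, hy⟩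
    have h2 := GrTwist.comapApp_apply_coe ψ hψ n U V hV.subset s' ⟨y, hy⟩
    rw [hss] at h1
    exact hinj y (h1.symm.trans h2)
  · -- surjective
    intro t
    choose q hq using fun x : U => exists_pointwise_lift ψ hψ n hemb hlift U hU V hV t x.1 x.2
    have hqy : ∀ (y : ProjectiveSpectrum ℬ) (hy : y ∈ V),
        GrTwist.locMap ψ hψ y (q ⟨ProjectiveSpectrum.comap ψ hψ y, (hVU y).1 hy⟩).1 =
          ((t.1 ⟨y, hy⟩ : GrTwist.twistAt ℬ n y) : GrTwist.Loc ℬ y) := by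
      intro y hy
      exact hq ⟨ProjectiveSpectrum.comap ψ hψ y, (hVU y).1 hy⟩ y hy rfl
    have hloc : (GrTwist.isLocFracN 𝒜 n).pred q := by
      rintro ⟨x, hx⟩
      obtain ⟨y, rfl⟩ := hU hx
      have hy : y ∈ V := (hVU y).2 hx
      obtain ⟨W, hyW, iW, i, j, b, t₀, ht₀, hdeg, hW⟩ := t.2 ⟨y, hy⟩
      have hWV : ∀ y' : ProjectiveSpectrum ℬ, y' ∈ W → y' ∈ V := fun y' hy' => (iW ⟨y', hy'⟩).2
      have hWeq : ∀ (y' : ProjectiveSpectrum ℬ) (hy' : y' ∈ W),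
          ((t.1 ⟨y', hWV y' hy'⟩ : GrTwist.twistAt ℬ n y') : GrTwist.Loc ℬ y') =
            Localization.mk (b : B) ⟨t₀, ht₀ ⟨y', hy'⟩⟩ := fun y' hy' => hW ⟨y', hy'⟩
      rcases hdeg with hdeg | hb0
      · -- genuine fraction
        obtain ⟨i', j', a, s₀, hs₀, hij', hl⟩ := hlift y i j b t₀ (ht₀ ⟨y, hyW⟩) hdeg
        rw [GrTwist.locMap_mk, Localization.mk_eq_mk_iff, Localization.r_iff_exists] at hl
        obtain ⟨c, hc⟩ := hl
        -- the open set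
        let W' : Opens (ProjectiveSpectrum.top ℬ) :=
          W ⊓ ProjectiveSpectrum.basicOpen ℬ (c : B) ⊓ ProjectiveSpectrum.basicOpen ℬ (ψ (s₀ : A))
        have hW'open : IsOpen (ProjectiveSpectrum.comap ψ hψ '' (W' : Set (ProjectiveSpectrum.top ℬ))) :=
          hemb.isOpenMap _ W'.2
        let W'' : Opens (ProjectiveSpectrum.top 𝒜) := ⟨_, hW'open⟩
        have hyW' : y ∈ W' := ⟨⟨hyW, c.2⟩, hs₀⟩
        have hW''U : W'' ≤ U := by
          rintro _ ⟨y', hy', rfl⟩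
          exact (hVU y').1 (hWV y' hy'.1.1)
        have hs_nin : ∀ x' : W'', (s₀ : A) ∉ x'.1.asHomogeneousIdeal := by
          rintro ⟨_, y', hy', rfl⟩
          exact hy'.2
        refine ⟨W'', ⟨y, hyW', rfl⟩, homOfLE hW''U, i', j', a, s₀, hs_nin, Or.inl hij', ?_⟩
        rintro ⟨_, y', hy', rfl⟩
        have hy'V : y' ∈ V := hWV y' hy'.1.1
        apply hinj y'
        refine (hqy y' hy'V).trans ?_
        rw [hWeq y' hy'.1.1, GrTwist.locMap_mk, Localization.mk_eq_mk_iff, Localization.r_iff_exists]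
        exact ⟨⟨c, hy'.1.2⟩, hc.symm⟩
      · -- zero section
        have hW'open : IsOpen (ProjectiveSpectrum.comap ψ hψ '' (W : Set (ProjectiveSpectrum.top ℬ))) :=
          hemb.isOpenMap _ W.2
        let W'' : Opens (ProjectiveSpectrum.top 𝒜) := ⟨_, hW'open⟩
        have hW''U : W'' ≤ U := by
          rintro _ ⟨y', hy', rfl⟩
          exact (hVU y').1 (hWV y' hy')
        refine ⟨W'', ⟨y, hyW, rfl⟩, homOfLE hW''U, 0, 0, (0 : 𝒜 0), ⟨1, SetLike.GradedOne.one_mem⟩,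
          fun x' => fun h => x'.1.isPrime.ne_top ((Ideal.eq_top_iff_one _).mpr h), Or.inr rfl, ?_⟩
        rintro ⟨_, y', hy', rfl⟩
        have hy'V : y' ∈ V := hWV y' hy'
        apply hinj y'
        refine (hqy y' hy'V).trans ?_
        rw [hWeq y' hy', hb0]
        simp [Localization.mk_zero]
    refine ⟨⟨q, hloc⟩, ?_⟩
    refine Subtype.ext (funext fun y => Subtype.ext ?_)
    obtain ⟨y, hy⟩ := y
    exact (GrTwist.comapApp_apply_coe ψ hψ n U V hV.subset ⟨q, hloc⟩ ⟨y, hy⟩).trans (hqy y hy)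

/-- (G2), with the lifting hypothesis stated unfolded. -/
theorem comapApp_bijective' (n : ℤ)
    (hemb : Topology.IsOpenEmbedding (ProjectiveSpectrum.comap ψ hψ))
    (hinj : ∀ y, Function.Injective (GrTwist.locMap ψ hψ y))
    (hlift : ∀ (y : ProjectiveSpectrum ℬ) (i j : ℕ) (b : ℬ i) (t : ℬ j)
      (ht : (t : B) ∉ y.asHomogeneousIdeal), (i : ℤ) = j + n →
      ∃ (i' j' : ℕ) (a : 𝒜 i') (s : 𝒜 j')
        (hs : (s : A) ∉ (ProjectiveSpectrum.comap ψ hψ y).asHomogeneousIdeal), (i' : ℤ) = j' + n ∧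
        GrTwist.locMap ψ hψ y (Localization.mk (a : A) ⟨s, hs⟩) = Localization.mk (b : B) ⟨t, ht⟩)
    (U : Opens (ProjectiveSpectrum.top 𝒜))
    (hU : (U : Set (ProjectiveSpectrum.top 𝒜)) ⊆ Set.range (ProjectiveSpectrum.comap ψ hψ))
    (V : Opens (ProjectiveSpectrum.top ℬ)) (hV : V.1 = ProjectiveSpectrum.comap ψ hψ ⁻¹' U.1) :
    Function.Bijective (GrTwist.comapApp ψ hψ n U V hV.subset) :=
  comapApp_bijective ψ hψ n hemb hinj hlift U hU V hV

end General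

end Groth.Agent.H96.TwAdj_FG

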