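import Mathlib

/-!
# Faithfully flat descent for elements and for membership in submodules
-/

set_option autoImplicit false
universe u v w

open TensorProduct

namespace Groth.Agent.H96.FFDescent

variable {R : Type u} [CommRing R] (T : Type w) [CommRing T] [Algebra R T]
  [Module.FaithfullyFlat R T] {M : Type v} [AddCommGroup M] [Module R M]

/-- Membership in a submodule can be checked after a faithfully flat base change. -/
theorem mem_of_tmul_mem_span (N : Submodule R M) (m : M)
    (h : (1 : T) ⊗ₜ[R] m ∈ Submodule.span T ((fun x : M => (1 : T) ⊗ₜ[R] x) '' (N : Set M))) :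
    m ∈ N := by
  have hle : Submodule.span T ((fun x : M => (1 : T) ⊗ₜ[R] x) '' (N : Set M)) ≤
      LinearMap.ker (N.mkQ.baseChange T) := by
    rw [Submodule.span_le]
    rintro _ ⟨x, hx, rfl⟩
    show N.mkQ.baseChange T ((1 : T) ⊗ₜ[R] x) = 0
    have hx0 : N.mkQ x = 0 := (Submodule.Quotient.mk_eq_zero N).mpr hx
    rw [LinearMap.baseChange_tmul, hx0, TensorProduct.tmul_zero]
  have h1 := hle h
  rw [LinearMap.mem_ker, LinearMap.baseChange_tmul] at h1
  have hinj := Module.FaithfullyFlat.tensorProduct_mk_injective (A := R) (B := T) (M ⧸ N)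
  have h2 : N.mkQ m = 0 := by
    apply hinj
    rw [map_zero, TensorProduct.mk_apply]
    exact h1
  exact (Submodule.Quotient.mk_eq_zero N).mp h2

/-- Faithfully flat descent of elements of a flat module. -/
theorem exists_of_equalizer [Module.Flat R M] (y : T ⊗[R] M)
    (h : (Algebra.TensorProduct.includeLeft : T →ₐ[R] T ⊗[R] T).toLinearMap.rTensor M y =
      (Algebra.TensorProduct.includeRight : T →ₐ[R] T ⊗[R] T).toLinearMap.rTensor M y) :
    ∃ m : M, (1 : T) ⊗ₜ[R] m = y := by
  have hex := Module.Flat.rTensor_exact M (Algebra.IsEffective.of_faithfullyFlat R T)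
  have h0 : (Algebra.TensorProduct.includeLeftSubRight R T).rTensor M y = 0 := by
    unfold Algebra.TensorProduct.includeLeftSubRight
    rw [LinearMap.rTensor_sub, LinearMap.sub_apply, h, sub_self]
  obtain ⟨z, hz⟩ := (hex y).mp h0
  refine ⟨TensorProduct.lid R M z, ?_⟩
  rw [← hz]
  clear hz
  induction z using TensorProduct.induction_on with
  | zero => simp
  | tmul r m =>
    rw [TensorProduct.lid_tmul, LinearMap.rTensor_tmul, Algebra.linearMap_apply,
      Algebra.algebraMap_eq_smul_one, TensorProduct.smul_tmul]
  | add z₁ z₂ h₁ h₂ => rw [map_add, TensorProduct.tmul_add, h₁, h₂, map_add]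

end Groth.Agent.H96.FFDescent
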