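import Mathlib

/-!
# Scalar tower instances for tensor products of algebras (for the default scalar action)
-/

set_option autoImplicit false

open TensorProduct PiTensorProduct

namespace Groth.Agent.H96.PiTensorInst

instance instIST {ι : Type*} {R : Type*} {A : ι → Type*} [CommRing R] [∀ i, Ring (A i)]
    [∀ i, Algebra R (A i)] : IsScalarTower R (⨂[R] i, A i) (⨂[R] i, A i) :=
  ⟨fun r x y => Algebra.smul_mul_assoc r x y⟩

instance instSCC {ι : Type*} {R : Type*} {A : ι → Type*} [CommRing R] [∀ i, Ring (A i)]
    [∀ i, Algebra R (A i)] : SMulCommClass R (⨂[R] i, A i) (⨂[R] i, A i) :=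
  ⟨fun r x y => (Algebra.mul_smul_comm r x y).symm⟩

end Groth.Agent.H96.PiTensorInst
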