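import Mathlib
import Groth.Agent.H96.PiTensorInst

/-!
# Matrix units and the antisymmetriser in the tensor power of a matrix algebra
-/

set_option autoImplicit false
universe u

open TensorProduct PiTensorProduct

namespace Groth.Agent.H96.MatUnits

variable (T : Type u) [CommRing T] (n : ℕ)

/-- The tensor power of the matrix algebra. -/
abbrev D := ⨂[T] _ : Fin n, Matrix (Fin n) (Fin n) T

theorem smul_mul' (r : T) (x y : D T n) : (r • x) * y = r • (x * y) :=
  Algebra.smul_mul_assoc r x y

theorem mul_smul' (r : T) (x y : D T n) : x * (r • y) = r • (x * y) :=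
  Algebra.mul_smul_comm r x y

/-- Matrix units of the tensor power. -/
noncomputable def eps (a b : Fin n → Fin n) : D T n :=
  tprod T (fun k => Matrix.single (a k) (b k) (1 : T))

theorem eps_mul_eps (a b c d : Fin n → Fin n) :
    eps T n a b * eps T n c d = if b = c then eps T n a d else 0 := by
  unfold eps
  rw [tprod_mul_tprod]
  split_ifs with h
  · subst h
    congr 1
    ext k : 1
    simp [Pi.mul_apply]
  · obtain ⟨k, hk⟩ : ∃ k, b k ≠ c k := Function.ne_iff.mp h
    apply MultilinearMap.map_coord_zero _ k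
    simp [Pi.mul_apply, Matrix.single_mul_single_of_ne, hk]

theorem one_eq_sum_single : (1 : Matrix (Fin n) (Fin n) T) = ∑ i, Matrix.single i i (1 : T) := by
  ext x y
  simp only [Matrix.sum_apply, Matrix.single_apply, Matrix.one_apply]
  by_cases h : x = y
  · subst h
    simp
  · rw [if_neg h, Finset.sum_eq_zero]
    intro i _
    rw [if_neg]
    rintro ⟨h1, h2⟩
    exact h (h1.symm.trans h2)

theorem sum_eps_diag : ∑ a : Fin n → Fin n, eps T n a a = 1 := by
  unfold eps
  rw [PiTensorProduct.one_def]
  have : (1 : Fin n → Matrix (Fin n) (Fin n) T) =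
      fun _ => ∑ i, Matrix.single i i (1 : T) := by
    funext k
    exact one_eq_sum_single T n
  rw [this, MultilinearMap.map_sum]

theorem matrix_eq_sum (y : Matrix (Fin n) (Fin n) T) :
    y = ∑ p : Fin n × Fin n, y p.1 p.2 • Matrix.single p.1 p.2 (1 : T) := by
  ext x z
  simp only [Matrix.sum_apply, Matrix.smul_apply, Matrix.single_apply, smul_eq_mul]
  rw [Finset.sum_eq_single (x, z)]
  · simp
  · rintro ⟨p1, p2⟩ _ hne
    have : ¬ (p1 = x ∧ p2 = z) := fun h => hne (by rw [h.1, h.2])
    simp [this]
  · simp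

theorem tprod_eq_sum (y : Fin n → Matrix (Fin n) (Fin n) T) :
    tprod T y = ∑ a : Fin n → Fin n, ∑ b : Fin n → Fin n,
      (∏ k, y k (a k) (b k)) • eps T n a b := by
  have h1 : y = fun k => ∑ p : Fin n × Fin n, y k p.1 p.2 • Matrix.single p.1 p.2 (1 : T) := by
    funext k
    exact matrix_eq_sum T n (y k)
  conv_lhs => rw [h1]
  rw [MultilinearMap.map_sum]
  simp_rw [MultilinearMap.map_smul_univ]
  rw [← Fintype.sum_prod_type']
  refine (Fintype.sum_equiv (Equiv.arrowProdEquivProdArrow (Fin n) (fun _ => Fin n) (fun _ => Fin n))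
    _ _ ?_)
  intro r
  rfl

theorem mem_span_eps (x : D T n) :
    x ∈ Submodule.span T (Set.range fun p : (Fin n → Fin n) × (Fin n → Fin n) =>
      eps T n p.1 p.2) := by
  induction x using PiTensorProduct.induction_on with
  | smul_tprod r y =>
    apply Submodule.smul_mem
    rw [tprod_eq_sum]
    apply Submodule.sum_mem
    intro a _
    apply Submodule.sum_mem
    intro b _
    apply Submodule.smul_mem
    exact Submodule.subset_span ⟨(a, b), rfl⟩
  | add x y hx hy => exact Submodule.add_mem _ hx hy

/-- The signature of a self-map of `Fin n`, zero when it is not bijective. -/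
noncomputable def sg (a : Fin n → Fin n) : T :=
  if h : Function.Bijective a then ((Equiv.Perm.sign (Equiv.ofBijective a h) : ℤ) : T) else 0

theorem sg_perm (σ : Equiv.Perm (Fin n)) : sg T n σ = ((Equiv.Perm.sign σ : ℤ) : T) := by
  unfold sg
  rw [dif_pos σ.bijective]
  congr 3
  ext k
  rfl

theorem sg_id : sg T n id = 1 := by
  have := sg_perm T n (Equiv.refl (Fin n))
  simpa using this

/-- The antisymmetriser. -/
noncomputable def eD : D T n :=
  ∑ a : Fin n → Fin n, ∑ b : Fin n → Fin n, (sg T n a * sg T n b) • eps T n a b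

theorem eD_mul_eps (c d : Fin n → Fin n) :
    eD T n * eps T n c d = sg T n c • ∑ a : Fin n → Fin n, sg T n a • eps T n a d := by
  unfold eD
  rw [Finset.sum_mul, Finset.smul_sum]
  refine Finset.sum_congr rfl fun a _ => ?_
  rw [Finset.sum_mul]
  simp_rw [smul_mul', eps_mul_eps, smul_ite, smul_zero]
  rw [Finset.sum_ite_eq' Finset.univ c, if_pos (Finset.mem_univ c), smul_smul, mul_comm]

theorem eps_mul_eD (c d : Fin n → Fin n) :
    eps T n c d * eD T n = sg T n d • ∑ b : Fin n → Fin n, sg T n b • eps T n c b := by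
  unfold eD
  rw [Finset.mul_sum]
  simp_rw [Finset.mul_sum, mul_smul', eps_mul_eps, smul_ite, smul_zero]
  rw [Finset.sum_eq_single d]
  · rw [Finset.smul_sum]
    refine Finset.sum_congr rfl fun b _ => ?_
    rw [if_pos rfl, smul_smul]
  · intro a _ ha
    apply Finset.sum_eq_zero
    intro b _
    rw [if_neg (fun h => ha h.symm)]
  · intro h
    exact absurd (Finset.mem_univ d) h

theorem eD_eq : eD T n = ∑ a : Fin n → Fin n, sg T n a •
    ∑ b : Fin n → Fin n, sg T n b • eps T n a b := by
  unfold eD
  refine Finset.sum_congr rfl fun a _ => ?_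
  rw [Finset.smul_sum]
  refine Finset.sum_congr rfl fun b _ => ?_
  rw [smul_smul]

theorem eD_eq' : eD T n = ∑ b : Fin n → Fin n, sg T n b •
    ∑ a : Fin n → Fin n, sg T n a • eps T n a b := by
  unfold eD
  rw [Finset.sum_comm]
  refine Finset.sum_congr rfl fun b _ => ?_
  rw [Finset.smul_sum]
  refine Finset.sum_congr rfl fun a _ => ?_
  rw [smul_smul, mul_comm]

/-- fullness -/
theorem sum_eps_eD_eps :
    ∑ a : Fin n → Fin n, eps T n a id * eD T n * eps T n id a = 1 := by
  rw [← sum_eps_diag T n]
  refine Finset.sum_congr rfl fun a _ => ?_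
  rw [eps_mul_eD, sg_id, one_smul, Finset.sum_mul]
  simp_rw [smul_mul', eps_mul_eps, smul_ite, smul_zero]
  rw [Finset.sum_ite_eq' Finset.univ id, if_pos (Finset.mem_univ _), sg_id, one_smul]

theorem eD_mul_eps_mul_eD (c d : Fin n → Fin n) :
    eD T n * eps T n c d * eD T n = (sg T n c * sg T n d) • eD T n := by
  rw [eD_mul_eps, smul_mul', Finset.sum_mul]
  simp_rw [smul_mul', eps_mul_eD]
  rw [mul_smul]
  congr 1
  rw [eD_eq T n, Finset.smul_sum]
  refine Finset.sum_congr rfl fun a _ => ?_
  rw [smul_smul, smul_smul, mul_comm]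

theorem exists_eD_mul_mul_eD (x : D T n) : ∃ t : T, eD T n * x * eD T n = t • eD T n := by
  have hx := mem_span_eps T n x
  induction hx using Submodule.span_induction with
  | mem x hx =>
    obtain ⟨p, rfl⟩ := hx
    exact ⟨_, eD_mul_eps_mul_eD T n p.1 p.2⟩
  | zero => exact ⟨0, by simp⟩
  | add x y _ _ hx hy =>
    obtain ⟨t1, h1⟩ := hx
    obtain ⟨t2, h2⟩ := hy
    exact ⟨t1 + t2, by rw [mul_add, add_mul, h1, h2, add_smul]⟩
  | smul r x _ hx =>
    obtain ⟨t1, h1⟩ := hx
    exact ⟨r * t1, by rw [mul_smul', smul_mul', h1, smul_smul]⟩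

theorem sum_sg_mul_prod (u : Matrix (Fin n) (Fin n) T) (c : Fin n → Fin n) :
    ∑ d : Fin n → Fin n, (∏ k, u (c k) (d k)) * sg T n d = u.det * sg T n c := by
  have h1 : ∑ σ : Equiv.Perm (Fin n), (∏ k, u (c k) (σ k)) * ((Equiv.Perm.sign σ : ℤ) : T) =
      ∑ d : Fin n → Fin n, (∏ k, u (c k) (d k)) * sg T n d := by
    apply Fintype.sum_of_injective (fun σ : Equiv.Perm (Fin n) => (σ : Fin n → Fin n))
      (fun σ τ h => Equiv.ext (congrFun h))
    · intro d hd
      have : ¬ Function.Bijective d := by
        intro hb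
        exact hd ⟨Equiv.ofBijective d hb, rfl⟩
      unfold sg
      rw [dif_neg this, mul_zero]
    · intro σ
      rw [sg_perm]
  rw [← h1]
  have h2 : ∑ σ : Equiv.Perm (Fin n), (∏ k, u (c k) (σ k)) * ((Equiv.Perm.sign σ : ℤ) : T) =
      (u.submatrix c id).det := by
    rw [← Matrix.det_transpose, Matrix.det_apply']
    refine Finset.sum_congr rfl fun σ _ => ?_
    rw [mul_comm]
    rfl
  rw [h2]
  by_cases hc : Function.Bijective c
  · have : c = (Equiv.ofBijective c hc : Fin n → Fin n) := rfl
    rw [this, Matrix.det_permute, sg_perm, mul_comm]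
  · unfold sg
    rw [dif_neg hc, mul_zero]
    have hinj : ¬ Function.Injective c := fun h => hc (Finite.injective_iff_bijective.mp h)
    rw [Function.Injective] at hinj
    push Not at hinj
    obtain ⟨i, j, hij, hne⟩ := hinj
    apply Matrix.det_zero_of_row_eq hne
    ext l
    simp [Matrix.submatrix_apply, hij]

theorem tprod_const_mul_eD (u : Matrix (Fin n) (Fin n) T) :
    tprod T (fun _ : Fin n => u) * eD T n = u.det • eD T n := by
  rw [tprod_eq_sum, Finset.sum_mul]
  conv_rhs => rw [eD_eq T n, Finset.smul_sum]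
  refine Finset.sum_congr rfl fun c _ => ?_
  rw [Finset.sum_mul]
  simp_rw [smul_mul', eps_mul_eD, smul_smul]
  rw [← Finset.sum_smul, sum_sg_mul_prod, mul_smul]

theorem eD_mul_tprod_const (u : Matrix (Fin n) (Fin n) T) :
    eD T n * tprod T (fun _ : Fin n => u) = u.det • eD T n := by
  rw [tprod_eq_sum, Finset.sum_comm, Finset.mul_sum]
  conv_rhs => rw [eD_eq' T n, Finset.smul_sum]
  refine Finset.sum_congr rfl fun d _ => ?_
  rw [Finset.mul_sum]
  simp_rw [mul_smul', eD_mul_eps, smul_smul]
  rw [← Finset.sum_smul]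
  have := sum_sg_mul_prod T n u.transpose d
  simp only [Matrix.transpose_apply, Matrix.det_transpose] at this
  rw [this, mul_smul]

/-- The standard basis of the tensor power. -/
noncomputable def basisD : Module.Basis (Fin n → Fin n × Fin n) T (D T n) :=
  Basis.piTensorProduct (fun _ : Fin n => Matrix.stdBasis T (Fin n) (Fin n))

theorem basisD_apply (r : Fin n → Fin n × Fin n) :
    basisD T n r = eps T n (fun k => (r k).1) (fun k => (r k).2) := by
  unfold basisD eps
  rw [Basis.piTensorProduct_apply]
  congr 1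
  funext k
  exact Matrix.stdBasis_eq_single T (r k).1 (r k).2

theorem smul_eps_eq_zero (t : T) (a b : Fin n → Fin n) (h : t • eps T n a b = 0) : t = 0 := by
  have h1 : eps T n a b = basisD T n (fun k => (a k, b k)) :=
    (basisD_apply T n (fun k => (a k, b k))).symm
  rw [h1] at h
  have h2 := congrArg (fun x => (basisD T n).repr x (fun k => (a k, b k))) h
  simpa using h2

/-- The generators of the left ideal generated by the antisymmetriser. -/
noncomputable def w (a : Fin n → Fin n) : D T n := eps T n a id * eD T n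

theorem w_eq (a : Fin n → Fin n) : w T n a = ∑ b : Fin n → Fin n, sg T n b • eps T n a b := by
  unfold w
  rw [eps_mul_eD, sg_id, one_smul]

theorem eps_mul_eD' (c d : Fin n → Fin n) : eps T n c d * eD T n = sg T n d • w T n c := by
  rw [eps_mul_eD, w_eq]

theorem w_mul_eps (a : Fin n → Fin n) : w T n a * eps T n id id = eps T n a id := by
  rw [w_eq, Finset.sum_mul]
  simp_rw [smul_mul', eps_mul_eps, smul_ite, smul_zero]
  rw [Finset.sum_ite_eq' Finset.univ id, if_pos (Finset.mem_univ _), sg_id, one_smul]

/-- The parametrisation of the left ideal generated by the antisymmetriser. -/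
noncomputable def Wmap : ((Fin n → Fin n) → T) →ₗ[T] D T n :=
  Fintype.linearCombination T (w T n)

theorem Wmap_apply (t : (Fin n → Fin n) → T) : Wmap T n t = ∑ a, t a • w T n a := by
  unfold Wmap
  rw [Fintype.linearCombination_apply]

theorem Wmap_injective : Function.Injective (Wmap T n) := by
  rw [← LinearMap.ker_eq_bot, LinearMap.ker_eq_bot']
  intro t ht
  rw [Wmap_apply] at ht
  funext a₀
  have h1 : (∑ a, t a • w T n a) * eps T n id id = ∑ a, t a • eps T n a id := by
    rw [Finset.sum_mul]
    refine Finset.sum_congr rfl fun a _ => ?_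
    rw [smul_mul', w_mul_eps]
  rw [ht, zero_mul] at h1
  have h2 : eps T n id a₀ * ∑ a, t a • eps T n a id = t a₀ • eps T n id id := by
    rw [Finset.mul_sum]
    simp_rw [mul_smul', eps_mul_eps, smul_ite, smul_zero]
    rw [Finset.sum_ite_eq Finset.univ a₀, if_pos (Finset.mem_univ _)]
  rw [← h1, mul_zero] at h2
  exact smul_eps_eq_zero T n _ _ _ h2.symm

theorem range_Wmap : LinearMap.range (Wmap T n) = LinearMap.range (LinearMap.mulRight T (eD T n)) := by
  apply le_antisymm
  · rintro _ ⟨t, rfl⟩
    rw [Wmap_apply]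
    apply Submodule.sum_mem
    intro a _
    apply Submodule.smul_mem
    exact ⟨eps T n a id, rfl⟩
  · rintro _ ⟨x, rfl⟩
    rw [LinearMap.mulRight_apply]
    have hx := mem_span_eps T n x
    induction hx using Submodule.span_induction with
    | mem x hx =>
      obtain ⟨p, rfl⟩ := hx
      show eps T n p.1 p.2 * eD T n ∈ _
      rw [eps_mul_eD']
      apply Submodule.smul_mem
      refine ⟨Pi.single p.1 1, ?_⟩
      rw [Wmap_apply, Finset.sum_eq_single p.1]
      · simp
      · intro b _ hb
        simp [Pi.single_apply, hb]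
      · intro h
        exact absurd (Finset.mem_univ _) h
    | zero => rw [zero_mul]; exact Submodule.zero_mem _
    | add x y _ _ hx hy => rw [add_mul]; exact Submodule.add_mem _ hx hy
    | smul r x _ hx => rw [smul_mul']; exact Submodule.smul_mem _ r hx

/-- The left ideal generated by the antisymmetriser is free of rank `n ^ n`. -/
noncomputable def wEquiv :
    ((Fin n → Fin n) → T) ≃ₗ[T] LinearMap.range (LinearMap.mulRight T (eD T n)) :=
  (LinearEquiv.ofInjective (Wmap T n) (Wmap_injective T n)).trans
    (LinearEquiv.ofEq _ _ (range_Wmap T n))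

theorem smul_eD_eq_zero (t : T) (h : t • eD T n = 0) : t = 0 := by
  have h1 : eps T n id id * (t • eD T n) * eps T n id id = t • eps T n id id := by
    rw [mul_smul', smul_mul', eps_mul_eD', sg_id, one_smul, w_mul_eps]
  rw [h, mul_zero, zero_mul] at h1
  exact smul_eps_eq_zero T n _ _ _ h1.symm

end Groth.Agent.H96.MatUnits
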