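import Mathlib
import Groth.Agent.H96.PiTensorInst

/-!
# Functoriality of tensor powers of algebras
-/

set_option autoImplicit false
universe u v w

open TensorProduct PiTensorProduct

namespace Groth.Agent.H96.PiTensorMap

variable {T : Type u} [CommRing T] {ι : Type*} [Fintype ι]
  {X : Type v} {Y : Type w} {Z : Type*} [Ring X] [Ring Y] [Ring Z]
  [Algebra T X] [Algebra T Y] [Algebra T Z]

/-- The algebra map between tensor powers induced by an algebra map. -/
noncomputable def mapAlg (f : X →ₐ[T] Y) : (⨂[T] _ : ι, X) →ₐ[T] (⨂[T] _ : ι, Y) :=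
  PiTensorProduct.liftAlgHom ((PiTensorProduct.tprod T).compLinearMap (fun _ : ι => f.toLinearMap))
    (by
      show tprod T (fun _ : ι => f (1 : X)) = 1
      simp only [map_one]
      rfl)
    (by
      intro x y
      show tprod T (fun k : ι => f ((x * y) k)) =
        tprod T (fun k : ι => f (x k)) * tprod T (fun k : ι => f (y k))
      rw [tprod_mul_tprod]
      congr 1
      funext k
      simp [Pi.mul_apply])

@[simp] theorem mapAlg_tprod (f : X →ₐ[T] Y) (x : ι → X) :
    mapAlg (ι := ι) f (tprod T x) = tprod T (fun k => f (x k)) := by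
  unfold mapAlg
  rw [PiTensorProduct.liftAlgHom_apply, PiTensorProduct.lift.tprod]
  rfl

theorem mapAlg_comp (g : Y →ₐ[T] Z) (f : X →ₐ[T] Y) (x : ⨂[T] _ : ι, X) :
    mapAlg (ι := ι) g (mapAlg f x) = mapAlg (g.comp f) x := by
  induction x using PiTensorProduct.induction_on with
  | smul_tprod r x => simp
  | add x y hx hy => simp [hx, hy]

theorem mapAlg_id (x : ⨂[T] _ : ι, X) : mapAlg (ι := ι) (AlgHom.id T X) x = x := by
  induction x using PiTensorProduct.induction_on with
  | smul_tprod r x => simp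
  | add x y hx hy => simp [hx, hy]

/-- The algebra isomorphism between tensor powers induced by an algebra isomorphism. -/
noncomputable def mapAlgEquiv (f : X ≃ₐ[T] Y) : (⨂[T] _ : ι, X) ≃ₐ[T] (⨂[T] _ : ι, Y) :=
  AlgEquiv.ofAlgHom (mapAlg f.toAlgHom) (mapAlg f.symm.toAlgHom)
    (by
      ext x
      simp only [AlgHom.coe_comp, Function.comp_apply, AlgHom.coe_id, id_eq]
      rw [mapAlg_comp]
      have : (f.toAlgHom.comp f.symm.toAlgHom) = AlgHom.id T Y := by
        ext y; simp
      rw [this, mapAlg_id])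
    (by
      ext x
      simp only [AlgHom.coe_comp, Function.comp_apply, AlgHom.coe_id, id_eq]
      rw [mapAlg_comp]
      have : (f.symm.toAlgHom.comp f.toAlgHom) = AlgHom.id T X := by
        ext y; simp
      rw [this, mapAlg_id])

@[simp] theorem mapAlgEquiv_tprod (f : X ≃ₐ[T] Y) (x : ι → X) :
    mapAlgEquiv (ι := ι) f (tprod T x) = tprod T (fun k => f (x k)) := by
  show mapAlg f.toAlgHom (tprod T x) = _
  rw [mapAlg_tprod]
  rfl

theorem mapAlgEquiv_apply (f : X ≃ₐ[T] Y) (x : ⨂[T] _ : ι, X) :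
    mapAlgEquiv (ι := ι) f x = mapAlg f.toAlgHom x := rfl

theorem mapAlgEquiv_symm_apply (f : X ≃ₐ[T] Y) (x : ⨂[T] _ : ι, Y) :
    (mapAlgEquiv (ι := ι) f).symm x = mapAlg f.symm.toAlgHom x := rfl

end Groth.Agent.H96.PiTensorMap
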