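import Mathlib
import Groth.Agent.H96.MatUnits
import Groth.Agent.H96.PiTensorMap

/-!
# Automorphisms of matrix algebras fix the antisymmetriser

The local description of automorphisms of `M_n(T)` (they are conjugations Zariski-locally) follows
the argument of `Groth.Agent.H1.Azumaya.CharpolyInv.charpoly_algEquiv` (helper1).
-/

set_option autoImplicit false
universe u

open TensorProduct PiTensorProduct

namespace Groth.Agent.H96.MatAut

open Groth.Agent.H96.MatUnits Groth.Agent.H96.PiTensorMap

variable {T : Type u} [CommRing T] {n : ℕ}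

/-- A linear endomorphism of `M_n(T)` maps matrices with entries in an ideal `q` to such. -/
theorem entries_mem_of_linear (τ : Matrix (Fin n) (Fin n) T →ₗ[T] Matrix (Fin n) (Fin n) T)
    (q : Ideal T) (N : Matrix (Fin n) (Fin n) T) (hN : ∀ a b, N a b ∈ q) (i j : Fin n) :
    τ N i j ∈ q := by
  have h1 : N = ∑ a, ∑ b, N a b • Matrix.single a b (1 : T) := by
    conv_lhs => rw [Matrix.matrix_eq_sum_single N]
    refine Finset.sum_congr rfl fun a _ => Finset.sum_congr rfl fun b _ => ?_
    rw [Matrix.smul_single, smul_eq_mul, mul_one]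
  rw [h1]
  simp only [map_sum, map_smul, Matrix.sum_apply, Matrix.smul_apply, smul_eq_mul]
  exact Ideal.sum_mem _ fun a _ => Ideal.sum_mem _ fun b _ => Ideal.mul_mem_right _ _ (hN a b)

/-- Zariski-locally an automorphism of a matrix algebra is a conjugation. -/
theorem exists_conj (θ : Matrix (Fin n) (Fin n) T ≃ₐ[T] Matrix (Fin n) (Fin n) T)
    (q : Ideal T) [hq : q.IsPrime] :
    ∃ u : Matrix (Fin n) (Fin n) T, u.det ∉ q ∧ ∀ N, θ N * u = u * N := by
  rcases isEmpty_or_nonempty (Fin n) with hn | ⟨⟨i₀⟩⟩
  · refine ⟨1, ?_, fun N => Subsingleton.elim _ _⟩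
    rw [Matrix.det_one]
    exact fun h => hq.ne_top ((Ideal.eq_top_iff_one _).2 h)
  obtain ⟨a, b, hab⟩ : ∃ a b, θ (Matrix.single i₀ i₀ 1) a b ∉ q := by
    by_contra hcon
    push Not at hcon
    have h1 := entries_mem_of_linear θ.symm.toLinearMap q _ hcon i₀ i₀
    rw [AlgEquiv.toLinearMap_apply, AlgEquiv.symm_apply_apply, Matrix.single_apply_same] at h1
    exact hq.ne_top ((Ideal.eq_top_iff_one _).2 h1)
  set c := θ (Matrix.single i₀ i₀ 1) a b with hc
  set u : Matrix (Fin n) (Fin n) T := Matrix.of fun i j => θ (Matrix.single j i₀ 1) i b with hu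
  set w : Matrix (Fin n) (Fin n) T := Matrix.of fun i j => θ (Matrix.single i₀ i 1) a j with hw
  have hwu : w * u = c • (1 : Matrix (Fin n) (Fin n) T) := by
    ext i j
    rw [Matrix.mul_apply]
    simp only [hu, hw, Matrix.of_apply, Matrix.smul_apply, Matrix.one_apply, smul_eq_mul]
    rw [← Matrix.mul_apply, ← map_mul]
    by_cases hij : i = j
    · subst hij; rw [Matrix.single_mul_single_same, mul_one, if_pos rfl, mul_one]
    · rw [Matrix.single_mul_single_of_ne (h := hij), map_zero, if_neg hij, mul_zero]; rfl
  have hconj : ∀ N : Matrix (Fin n) (Fin n) T, θ N * u = u * N := by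
    intro N
    induction N using Matrix.induction_on' with
    | h_zero => simp
    | h_add p q hp hq => rw [map_add, add_mul, mul_add, hp, hq]
    | h_std_basis p q x =>
      ext i j
      by_cases hqj : j = q
      · subst hqj
        rw [Matrix.mul_single_apply_same, Matrix.mul_apply]
        simp only [hu, Matrix.of_apply]
        rw [← Matrix.mul_apply, ← map_mul, Matrix.single_mul_single_same, mul_one]
        have h3 : Matrix.single p i₀ x = x • Matrix.single p i₀ (1 : T) := by
          rw [Matrix.smul_single, smul_eq_mul, mul_one]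
        rw [h3, map_smul, Matrix.smul_apply, smul_eq_mul, mul_comm]
      · rw [Matrix.mul_single_apply_of_ne (hbj := hqj), Matrix.mul_apply]
        simp only [hu, Matrix.of_apply]
        rw [← Matrix.mul_apply, ← map_mul,
          Matrix.single_mul_single_of_ne (h := fun h => hqj h.symm), map_zero]
        rfl
  have hdet : w.det * u.det = c ^ Fintype.card (Fin n) := by
    rw [← Matrix.det_mul, hwu, Matrix.det_smul, Matrix.det_one, mul_one]
  refine ⟨u, ?_, hconj⟩
  intro hmem
  have : c ^ Fintype.card (Fin n) ∈ q := by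
    rw [← hdet]
    exact Ideal.mul_mem_left _ _ hmem
  exact hab (hq.mem_of_pow_mem _ this)

/-- An element of a module killed, for every prime, by an element outside that prime is zero. -/
theorem eq_zero_of_forall_prime {M : Type*} [AddCommGroup M] [Module T M] (x : M)
    (h : ∀ q : Ideal T, q.IsPrime → ∃ c, c ∉ q ∧ c • x = 0) : x = 0 := by
  by_contra hx
  set I : Ideal T := LinearMap.ker (LinearMap.toSpanSingleton T M x) with hI
  have hne : I ≠ ⊤ := by
    intro htop
    have h1 : (1 : T) ∈ I := htop ▸ Submodule.mem_top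
    rw [hI, LinearMap.mem_ker, LinearMap.toSpanSingleton_apply, one_smul] at h1
    exact hx h1
  obtain ⟨P, hP, hIP⟩ := Ideal.exists_le_maximal I hne
  obtain ⟨c, hc, hcx⟩ := h P hP.isPrime
  have h2 : c ∈ I := by
    rw [hI, LinearMap.mem_ker, LinearMap.toSpanSingleton_apply]; exact hcx
  exact hc (hIP h2)

/-- **Invariance of the antisymmetriser**: the automorphism of the tensor power induced by an
automorphism of the matrix algebra fixes the antisymmetriser. -/
theorem mapAlg_eD (θ : Matrix (Fin n) (Fin n) T ≃ₐ[T] Matrix (Fin n) (Fin n) T) :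
    mapAlg (ι := Fin n) θ.toAlgHom (eD T n) = eD T n := by
  rw [← sub_eq_zero]
  apply eq_zero_of_forall_prime (T := T)
  intro q hq
  obtain ⟨u, hu, hconj⟩ := exists_conj θ q
  refine ⟨u.det ^ n, fun h => hu (hq.mem_of_pow_mem _ h), ?_⟩
  set U : D T n := tprod T (fun _ : Fin n => u) with hU
  set U' : D T n := tprod T (fun _ : Fin n => u.adjugate) with hU'
  have hUU' : U * U' = (u.det ^ n) • (1 : D T n) := by
    rw [hU, hU', tprod_mul_tprod]
    have : (fun _ : Fin n => u) * (fun _ : Fin n => u.adjugate) =
        fun _ : Fin n => u.det • (1 : Matrix (Fin n) (Fin n) T) := by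
      funext k
      simp [Pi.mul_apply, Matrix.mul_adjugate]
    rw [this, MultilinearMap.map_smul_univ]
    simp only [Finset.prod_const, Finset.card_univ, Fintype.card_fin]
    rfl
  have hmap : ∀ x : D T n, mapAlg (ι := Fin n) θ.toAlgHom x * U = U * x := by
    intro x
    induction x using PiTensorProduct.induction_on with
    | smul_tprod r y =>
      rw [map_smul, mapAlg_tprod, MatUnits.smul_mul', MatUnits.mul_smul', hU, tprod_mul_tprod,
        tprod_mul_tprod]
      congr 2
      funext k
      simp only [Pi.mul_apply]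
      exact hconj (y k)
    | add x y hx hy => rw [map_add, add_mul, mul_add, hx, hy]
  have h1 : (mapAlg (ι := Fin n) θ.toAlgHom (eD T n) - eD T n) * U = 0 := by
    rw [sub_mul, hmap, hU, tprod_const_mul_eD, eD_mul_tprod_const, sub_self]
  have h2 := congrArg (fun z => z * U') h1
  simp only [zero_mul, mul_assoc, hUU'] at h2
  rw [MatUnits.mul_smul', mul_one] at h2
  exact h2

end Groth.Agent.H96.MatAut
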