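import Mathlib

/-!
# Ordered products over `Fin n` in noncommutative monoids
-/

set_option autoImplicit false

namespace Groth.Agent.H96.ListProd

variable {M : Type*} [Monoid M]

theorem prod_ofFn_one (n : ℕ) : (List.ofFn (fun _ : Fin n => (1 : M))).prod = 1 := by
  apply List.prod_eq_one
  intro x hx
  rw [List.mem_ofFn] at hx
  obtain ⟨_, rfl⟩ := hx
  rfl

theorem prod_ofFn_eq_of_forall_ne : ∀ (n : ℕ) (f : Fin n → M) (k : Fin n)
    (_ : ∀ l, l ≠ k → f l = 1), (List.ofFn f).prod = f k
  | 0, _, k, _ => k.elim0
  | n + 1, f, k, h => by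
    rw [List.ofFn_succ, List.prod_cons]
    induction k using Fin.cases with
    | zero =>
      have : (fun i : Fin n => f i.succ) = fun _ => 1 := by
        funext i
        exact h _ (Fin.succ_ne_zero i)
      rw [this, prod_ofFn_one, mul_one]
    | succ k' =>
      rw [h 0 (Fin.succ_ne_zero k').symm, one_mul]
      exact prod_ofFn_eq_of_forall_ne n (fun i => f i.succ) k'
        (fun l hl => h _ (fun e => hl (Fin.succ_injective _ e)))

theorem prod_ofFn_mul : ∀ (n : ℕ) (x y : Fin n → M)
    (_ : ∀ k l, k ≠ l → Commute (x k) (y l)),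
    (List.ofFn (fun k => x k * y k)).prod = (List.ofFn x).prod * (List.ofFn y).prod
  | 0, _, _, _ => by simp
  | n + 1, x, y, h => by
    rw [List.ofFn_succ, List.ofFn_succ, List.ofFn_succ, List.prod_cons, List.prod_cons,
      List.prod_cons,
      prod_ofFn_mul n (fun i => x i.succ) (fun i => y i.succ)
        (fun k l hkl => h _ _ (fun e => hkl (Fin.succ_injective _ e)))]
    have hc : Commute (y 0) (List.ofFn fun i : Fin n => x i.succ).prod := by
      apply Commute.list_prod_right
      intro z hz
      rw [List.mem_ofFn] at hz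
      obtain ⟨i, rfl⟩ := hz
      exact (h i.succ 0 (Fin.succ_ne_zero i)).symm
    calc x 0 * y 0 * ((List.ofFn fun i : Fin n => x i.succ).prod *
          (List.ofFn fun i : Fin n => y i.succ).prod)
        = x 0 * (y 0 * (List.ofFn fun i : Fin n => x i.succ).prod) *
          (List.ofFn fun i : Fin n => y i.succ).prod := by simp only [mul_assoc]
      _ = x 0 * ((List.ofFn fun i : Fin n => x i.succ).prod * y 0) *
          (List.ofFn fun i : Fin n => y i.succ).prod := by rw [hc.eq]
      _ = _ := by simp only [mul_assoc]

end Groth.Agent.H96.ListProd
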