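import Mathlib
import Groth.Agent.H96.PiTensorInst
import Groth.Agent.H96.ListProd

/-!
# Base change of a tensor power of an algebra
-/

set_option autoImplicit false
universe u v w

open TensorProduct PiTensorProduct

namespace Groth.Agent.H96.PiTensorBC

variable (R : Type u) [CommRing R] (A : Type v) [Ring A] [Algebra R A] (n : ℕ)
  (T : Type w) [CommRing T] [Algebra R T]

/-- The multilinear map `a ↦ ⨂ (1 ⊗ a_k)`. -/
noncomputable def f₀ : MultilinearMap R (fun _ : Fin n => A) (⨂[T] _ : Fin n, (T ⊗[R] A)) :=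
  ((PiTensorProduct.tprod T).restrictScalars R).compLinearMap
    (fun _ : Fin n => (Algebra.TensorProduct.includeRight : A →ₐ[R] T ⊗[R] A).toLinearMap)

theorem f₀_apply (a : Fin n → A) :
    f₀ R A n T a = tprod T (fun k => (1 : T) ⊗ₜ[R] a k) := rfl

/-- The algebra map `⨂_R A → ⨂_T (T ⊗ A)`. -/
noncomputable def θ₀ : (⨂[R] _ : Fin n, A) →ₐ[R] (⨂[T] _ : Fin n, (T ⊗[R] A)) :=
  PiTensorProduct.liftAlgHom (f₀ R A n T)
    (by
      rw [f₀_apply]
      rfl)
    (by
      intro x y
      rw [f₀_apply, f₀_apply, f₀_apply, tprod_mul_tprod]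
      congr 1
      funext k
      simp [Pi.mul_apply, Algebra.TensorProduct.tmul_mul_tmul])

theorem θ₀_tprod (a : Fin n → A) :
    θ₀ R A n T (tprod R a) = tprod T (fun k => (1 : T) ⊗ₜ[R] a k) := by
  unfold θ₀
  rw [PiTensorProduct.liftAlgHom_apply, PiTensorProduct.lift.tprod, f₀_apply]

/-- The comparison map `T ⊗ ⨂_R A → ⨂_T (T ⊗ A)`. -/
noncomputable def Θ : T ⊗[R] (⨂[R] _ : Fin n, A) →ₐ[T] (⨂[T] _ : Fin n, (T ⊗[R] A)) :=
  Algebra.TensorProduct.lift (Algebra.ofId T _) (θ₀ R A n T)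
    (fun t b => Algebra.commutes t _)

theorem Θ_tmul (t : T) (b : ⨂[R] _ : Fin n, A) :
    Θ R A n T (t ⊗ₜ b) = t • θ₀ R A n T b := by
  unfold Θ
  rw [Algebra.TensorProduct.lift_tmul, Algebra.ofId_apply]
  exact (Algebra.smul_def t (θ₀ R A n T b)).symm

/-- The base change of the inclusion of the `k`-th factor. -/
noncomputable def J (k : Fin n) : T ⊗[R] A →ₐ[T] T ⊗[R] (⨂[R] _ : Fin n, A) :=
  Algebra.TensorProduct.map (AlgHom.id T T)
    (singleAlgHom (R := R) (A := fun _ : Fin n => A) k)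

theorem J_tmul (k : Fin n) (t : T) (a : A) :
    J R A n T k (t ⊗ₜ a) = t ⊗ₜ singleAlgHom (R := R) (A := fun _ : Fin n => A) k a := by
  unfold J
  rw [Algebra.TensorProduct.map_tmul]
  rfl

theorem single_commute {k l : Fin n} (hkl : k ≠ l) (a a' : A) :
    Commute (singleAlgHom (R := R) (A := fun _ : Fin n => A) k a)
      (singleAlgHom (R := R) (A := fun _ : Fin n => A) l a') := by
  rw [singleAlgHom_apply, singleAlgHom_apply]
  apply Commute.tprod
  exact Pi.mulSingle_commute (f := fun _ : Fin n => A) hkl a a'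

theorem J_commute {k l : Fin n} (hkl : k ≠ l) (x y : T ⊗[R] A) :
    Commute (J R A n T k x) (J R A n T l y) := by
  induction x using TensorProduct.induction_on with
  | zero => simp
  | tmul t a =>
    induction y using TensorProduct.induction_on with
    | zero => simp
    | tmul t' a' =>
      rw [J_tmul, J_tmul, Commute, SemiconjBy, Algebra.TensorProduct.tmul_mul_tmul,
        Algebra.TensorProduct.tmul_mul_tmul, mul_comm t t', (single_commute R A n hkl a a').eq]
    | add y₁ y₂ h₁ h₂ => rw [map_add]; exact h₁.add_right h₂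
  | add x₁ x₂ h₁ h₂ => rw [map_add]; exact h₁.add_left h₂

/-- The multilinear map `y ↦ ∏ J_k (y_k)`. -/
noncomputable def g : MultilinearMap T (fun _ : Fin n => T ⊗[R] A)
    (T ⊗[R] (⨂[R] _ : Fin n, A)) :=
  (MultilinearMap.mkPiAlgebraFin T n (T ⊗[R] (⨂[R] _ : Fin n, A))).compLinearMap
    (fun k => (J R A n T k).toLinearMap)

theorem g_apply (y : Fin n → T ⊗[R] A) :
    g R A n T y = (List.ofFn fun k => J R A n T k (y k)).prod := rfl

/-- The inverse comparison map. -/
noncomputable def Ψ : (⨂[T] _ : Fin n, (T ⊗[R] A)) →ₐ[T] T ⊗[R] (⨂[R] _ : Fin n, A) :=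
  PiTensorProduct.liftAlgHom (g R A n T)
    (by
      rw [g_apply]
      simp only [Pi.one_apply, map_one]
      exact ListProd.prod_ofFn_one n)
    (by
      intro x y
      rw [g_apply, g_apply, g_apply]
      simp only [Pi.mul_apply, map_mul]
      exact ListProd.prod_ofFn_mul n _ _ (fun k l hkl => J_commute R A n T hkl _ _))

theorem Ψ_tprod (y : Fin n → T ⊗[R] A) :
    Ψ R A n T (tprod T y) = (List.ofFn fun k => J R A n T k (y k)).prod := by
  unfold Ψ
  rw [PiTensorProduct.liftAlgHom_apply, PiTensorProduct.lift.tprod, g_apply]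

theorem Ψ_single (k : Fin n) (y : T ⊗[R] A) :
    Ψ R A n T (singleAlgHom (R := T) (A := fun _ : Fin n => T ⊗[R] A) k y) = J R A n T k y := by
  classical
  rw [singleAlgHom_apply, Ψ_tprod]
  rw [ListProd.prod_ofFn_eq_of_forall_ne n _ k]
  · simp
  · intro l hl
    simp [hl]

theorem Θ_J (k : Fin n) (y : T ⊗[R] A) :
    Θ R A n T (J R A n T k y) = singleAlgHom (R := T) (A := fun _ : Fin n => T ⊗[R] A) k y := by
  classical
  induction y using TensorProduct.induction_on with
  | zero => rw [map_zero, map_zero, map_zero]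
  | tmul t a =>
    rw [J_tmul, Θ_tmul, singleAlgHom_apply, θ₀_tprod, singleAlgHom_apply]
    have h1 : (fun l => (1 : T) ⊗ₜ[R] (MonoidHom.mulSingle (fun _ : Fin n => A) k a) l) =
        MonoidHom.mulSingle (fun _ : Fin n => T ⊗[R] A) k ((1 : T) ⊗ₜ[R] a) := by
      funext l
      by_cases hl : l = k
      · subst hl; simp
      · simp [hl, Algebra.TensorProduct.one_def]
    rw [h1]
    have h2 : t ⊗ₜ[R] a = t • ((1 : T) ⊗ₜ[R] a) := by
      rw [TensorProduct.smul_tmul', smul_eq_mul, mul_one]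
    rw [h2, ← singleAlgHom_apply, ← singleAlgHom_apply, map_smul]
  | add y₁ y₂ h₁ h₂ => rw [map_add, map_add, h₁, h₂, map_add]

theorem Θ_Ψ (x : ⨂[T] _ : Fin n, (T ⊗[R] A)) : Θ R A n T (Ψ R A n T x) = x := by
  have : (Θ R A n T).comp (Ψ R A n T) = AlgHom.id T _ := by
    apply PiTensorProduct.algHom_ext
    intro k
    apply AlgHom.ext
    intro y
    simp only [AlgHom.coe_comp, Function.comp_apply, AlgHom.coe_id, id_eq]
    rw [Ψ_single, Θ_J]
  exact congrArg (fun f => f x) this

theorem Ψ_Θ (x : T ⊗[R] (⨂[R] _ : Fin n, A)) : Ψ R A n T (Θ R A n T x) = x := by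
  classical
  have : (Ψ R A n T).comp (Θ R A n T) = AlgHom.id T _ := by
    apply Algebra.TensorProduct.ext
    · ext
    · apply PiTensorProduct.algHom_ext
      intro k
      apply AlgHom.ext
      intro a
      simp only [AlgHom.coe_comp, AlgHom.coe_restrictScalars', Function.comp_apply,
        Algebra.TensorProduct.includeRight_apply, AlgHom.coe_id, id_eq]
      rw [Θ_tmul, one_smul]
      have h1 : θ₀ R A n T (singleAlgHom (R := R) (A := fun _ : Fin n => A) k a) =
          singleAlgHom (R := T) (A := fun _ : Fin n => T ⊗[R] A) k ((1 : T) ⊗ₜ[R] a) := by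
        have := Θ_J R A n T k ((1 : T) ⊗ₜ[R] a)
        rw [J_tmul, Θ_tmul, one_smul] at this
        exact this
      rw [h1, Ψ_single, J_tmul]
  exact congrArg (fun f => f x) this

/-- Base change of a tensor power of an algebra. -/
noncomputable def ΘEquiv :
    T ⊗[R] (⨂[R] _ : Fin n, A) ≃ₐ[T] (⨂[T] _ : Fin n, (T ⊗[R] A)) :=
  AlgEquiv.ofAlgHom (Θ R A n T) (Ψ R A n T)
    (AlgHom.ext fun x => Θ_Ψ R A n T x)
    (AlgHom.ext fun x => Ψ_Θ R A n T x)

theorem ΘEquiv_tmul_tprod (t : T) (a : Fin n → A) :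
    ΘEquiv R A n T (t ⊗ₜ tprod R a) = t • tprod T (fun k => (1 : T) ⊗ₜ[R] a k) := by
  show Θ R A n T (t ⊗ₜ tprod R a) = _
  rw [Θ_tmul, θ₀_tprod]

end Groth.Agent.H96.PiTensorBC
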