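import Mathlib
import Groth.Agent.H1.Azumaya.CharpolyInv
import Groth.Agent.H96.MatAut
import Groth.Agent.H96.PiTensorBC
import Groth.Agent.H96.FFDescent

/-!
# Descent of the antisymmetriser to the tensor power of an Azumaya algebra
-/

set_option autoImplicit false
universe u v w w'

open TensorProduct PiTensorProduct

namespace Groth.Agent.H96.AzDescend

open Groth.Agent.H96.MatUnits Groth.Agent.H96.PiTensorMap Groth.Agent.H96.PiTensorBC
  Groth.Agent.H96.MatAut

section Dp

variable {T : Type w} [CommRing T] {T' : Type w'} [CommRing T'] (n : ℕ)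

/-- The semilinear map between tensor powers of matrix algebras induced by a ring map. -/
noncomputable def Dp (p : T →+* T') : D T n →+ D T' n :=
  letI := p.toAlgebra
  (PiTensorProduct.lift (((PiTensorProduct.tprod T').restrictScalars T).compLinearMap
    (fun _ : Fin n => (Algebra.linearMap T T').mapMatrix))).toAddMonoidHom

theorem Dp_smul_tprod (p : T →+* T') (t : T) (y : Fin n → Matrix (Fin n) (Fin n) T) :
    Dp n p (t • tprod T y) = p t • tprod T' (fun k => (y k).map p) := by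
  letI := p.toAlgebra
  show (PiTensorProduct.lift (((PiTensorProduct.tprod T').restrictScalars T).compLinearMap
    (fun _ : Fin n => (Algebra.linearMap T T').mapMatrix))) (t • tprod T y) = _
  rw [map_smul, PiTensorProduct.lift.tprod]
  show t • tprod T' (fun k => (y k).map (algebraMap T T')) = _
  rw [← algebraMap_smul T' t]
  rfl

theorem Dp_tprod (p : T →+* T') (y : Fin n → Matrix (Fin n) (Fin n) T) :
    Dp n p (tprod T y) = tprod T' (fun k => (y k).map p) := by
  have := Dp_smul_tprod n p 1 y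
  rwa [one_smul, map_one, one_smul] at this

theorem map_sg (p : T →+* T') (a : Fin n → Fin n) : p (sg T n a) = sg T' n a := by
  unfold sg
  split_ifs with h
  · rw [map_intCast]
  · rw [map_zero]

theorem Dp_eD (p : T →+* T') : Dp n p (eD T n) = eD T' n := by
  classical
  unfold eD
  rw [map_sum]
  refine Finset.sum_congr rfl fun a _ => ?_
  rw [map_sum]
  refine Finset.sum_congr rfl fun b _ => ?_
  unfold eps
  rw [Dp_smul_tprod, map_mul, map_sg, map_sg]
  congr 2
  funext k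
  ext i j
  by_cases h : a k = i ∧ b k = j
  · simp [Matrix.single_apply, h]
  · simp [Matrix.single_apply, h]

end Dp

section Phi

variable (R : Type u) [CommRing R] (A : Type v) [Ring A] [Algebra R A] (n : ℕ)
  {T : Type w} [CommRing T] [Algebra R T]

/-- The splitting of the tensor power induced by a splitting of `A`. -/
noncomputable def Phi (φ : T ⊗[R] A ≃ₐ[T] Matrix (Fin n) (Fin n) T) :
    T ⊗[R] (⨂[R] _ : Fin n, A) ≃ₐ[T] D T n :=
  (ΘEquiv R A n T).trans (mapAlgEquiv (ι := Fin n) φ)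

theorem Phi_tmul_tprod (φ : T ⊗[R] A ≃ₐ[T] Matrix (Fin n) (Fin n) T) (t : T) (a : Fin n → A) :
    Phi R A n φ (t ⊗ₜ tprod R a) = t • tprod T (fun k => φ ((1 : T) ⊗ₜ[R] a k)) := by
  unfold Phi
  rw [AlgEquiv.trans_apply, ΘEquiv_tmul_tprod, map_smul, mapAlgEquiv_tprod]

/-- Independence of the splitting. -/
theorem Phi_symm_eD (φ φ' : T ⊗[R] A ≃ₐ[T] Matrix (Fin n) (Fin n) T) :
    (Phi R A n φ').symm (eD T n) = (Phi R A n φ).symm (eD T n) := by
  have h1 : ∀ x, Phi R A n φ' x = mapAlg (ι := Fin n) (φ.symm.trans φ').toAlgHom (Phi R A n φ x) := by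
    intro x
    unfold Phi
    rw [AlgEquiv.trans_apply, AlgEquiv.trans_apply, mapAlgEquiv_apply, mapAlgEquiv_apply,
      mapAlg_comp]
    congr 2
    ext y
    simp
  apply (Phi R A n φ').injective
  rw [AlgEquiv.apply_symm_apply, h1, AlgEquiv.apply_symm_apply, mapAlg_eD]

/-- Naturality of the splitting of the tensor power under change of the splitting ring. -/
theorem Phi_natural {T' : Type w'} [CommRing T'] [Algebra R T'] (p : T →ₐ[R] T')
    (φ : T ⊗[R] A ≃ₐ[T] Matrix (Fin n) (Fin n) T)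
    (φ' : T' ⊗[R] A ≃ₐ[T'] Matrix (Fin n) (Fin n) T')
    (hφ : ∀ a : A, φ' ((1 : T') ⊗ₜ[R] a) = (φ ((1 : T) ⊗ₜ[R] a)).map p)
    (x : T ⊗[R] (⨂[R] _ : Fin n, A)) :
    Phi R A n φ' (p.toLinearMap.rTensor _ x) = Dp n (p : T →+* T') (Phi R A n φ x) := by
  induction x using TensorProduct.induction_on with
  | zero => simp
  | tmul t b =>
    induction b using PiTensorProduct.induction_on with
    | smul_tprod r a =>
      have h1 : t ⊗ₜ[R] (r • tprod R a) = (r • t) ⊗ₜ[R] tprod R a := by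
        rw [TensorProduct.tmul_smul, TensorProduct.smul_tmul']
      rw [h1, LinearMap.rTensor_tmul, AlgHom.toLinearMap_apply, Phi_tmul_tprod, Phi_tmul_tprod,
        Dp_smul_tprod]
      congr 2
      funext k
      exact hφ (a k)
    | add b₁ b₂ h₁ h₂ =>
      rw [TensorProduct.tmul_add, map_add, map_add, h₁, h₂, map_add, map_add]
  | add x₁ x₂ h₁ h₂ => rw [map_add, map_add, h₁, h₂, map_add, map_add]

/-- The tensor power of an algebra split by a faithfully flat extension is flat. -/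
theorem flat_of_splitting [Module.FaithfullyFlat R T]
    (φ : T ⊗[R] A ≃ₐ[T] Matrix (Fin n) (Fin n) T) : Module.Flat R (⨂[R] _ : Fin n, A) := by
  haveI : Module.Free T (D T n) := Module.Free.of_basis (basisD T n)
  haveI : Module.Flat T (T ⊗[R] (⨂[R] _ : Fin n, A)) :=
    Module.Flat.of_linearEquiv (Phi R A n φ).toLinearEquiv
  exact Module.Flat.of_flat_tensorProduct R (⨂[R] _ : Fin n, A) T

open Groth.Agent.H1.Azumaya.CharpolyInv in
/-- **Descent of the antisymmetriser.** -/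
theorem exists_descent [Module.FaithfullyFlat R T]
    (φ : T ⊗[R] A ≃ₐ[T] Matrix (Fin n) (Fin n) T) :
    ∃ s : ⨂[R] _ : Fin n, A, Phi R A n φ ((1 : T) ⊗ₜ[R] s) = eD T n := by
  haveI : Module.Flat R (⨂[R] _ : Fin n, A) := flat_of_splitting R A n φ
  obtain ⟨y, hy⟩ : ∃ y, y = (Phi R A n φ).symm (eD T n) := ⟨_, rfl⟩
  have hyΦ : Phi R A n φ y = eD T n := by rw [hy, AlgEquiv.apply_symm_apply]
  -- the two base changes of the splitting
  obtain ⟨φL, hL⟩ : ∃ φL : (T ⊗[R] T) ⊗[R] A ≃ₐ[T ⊗[R] T] Matrix (Fin n) (Fin n) (T ⊗[R] T),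
      ∀ a : A, φL ((1 : T ⊗[R] T) ⊗ₜ[R] a) = (φ ((1 : T) ⊗ₜ[R] a)).map
        (Algebra.TensorProduct.includeLeft : T →ₐ[R] T ⊗[R] T) :=
    ⟨splitBC φ (T ⊗[R] T), fun a => splitBC_tmul φ (T ⊗[R] T) a⟩
  obtain ⟨φR, hR⟩ : ∃ φR : (T ⊗[R] T) ⊗[R] A ≃ₐ[T ⊗[R] T] Matrix (Fin n) (Fin n) (T ⊗[R] T),
      ∀ a : A, φR ((1 : T ⊗[R] T) ⊗ₜ[R] a) = (φ ((1 : T) ⊗ₜ[R] a)).map
        (Algebra.TensorProduct.includeRight : T →ₐ[R] T ⊗[R] T) := by
    letI : Algebra T (T ⊗[R] T) := Algebra.TensorProduct.rightAlgebra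
    exact ⟨splitBC φ (T ⊗[R] T), fun a => splitBC_tmul φ (T ⊗[R] T) a⟩
  have h1 := Phi_natural R A n (Algebra.TensorProduct.includeLeft : T →ₐ[R] T ⊗[R] T) φ φL hL y
  have h2 := Phi_natural R A n (Algebra.TensorProduct.includeRight : T →ₐ[R] T ⊗[R] T) φ φR hR y
  rw [hyΦ, Dp_eD] at h1 h2
  have h3 : (Algebra.TensorProduct.includeLeft : T →ₐ[R] T ⊗[R] T).toLinearMap.rTensor _ y =
      (Algebra.TensorProduct.includeRight : T →ₐ[R] T ⊗[R] T).toLinearMap.rTensor _ y := by
    have e1 := congrArg (Phi R A n φL).symm h1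
    have e2 := congrArg (Phi R A n φR).symm h2
    rw [AlgEquiv.symm_apply_apply] at e1 e2
    rw [e1, e2]
    exact Phi_symm_eD R A n φR φL
  obtain ⟨s, hs⟩ := FFDescent.exists_of_equalizer T y h3
  exact ⟨s, by rw [hs, hyΦ]⟩

end Phi

end Groth.Agent.H96.AzDescend
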