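import Mathlib

/-!
# Faithfully flat descent of the Azumaya property
-/

set_option autoImplicit false
set_option linter.style.haveILetI false

namespace Groth.Agent.H96.AzDescent

open TensorProduct

section FP

variable (S : Type*) [CommRing S] (S' : Type*) [CommRing S'] [Algebra S S']
  [Module.FaithfullyFlat S S']
variable (N : Type*) [AddCommGroup N] [Module S N]

/-- Finite presentation of modules descends along faithfully flat base change. -/
theorem finitePresentation_of_faithfullyFlat [Module.FinitePresentation S' (S' ⊗[S] N)] :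
    Module.FinitePresentation S N := by
  haveI : Module.Finite S N := Module.Finite.of_finite_tensorProduct_of_faithfullyFlat S'
  obtain ⟨n, f, hf⟩ := Module.Finite.exists_fin' S N
  refine Module.finitePresentation_of_surjective f hf ?_
  have hex : Function.Exact ((LinearMap.ker f).subtype.baseChange S') (f.baseChange S') :=
    lTensor_exact S' f.exact_subtype_ker_map hf
  have hker : (LinearMap.ker (f.baseChange S')).FG :=
    Module.FinitePresentation.fg_ker (f.baseChange S') (LinearMap.lTensor_surjective S' hf)
  rw [LinearMap.exact_iff] at hex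
  rw [hex] at hker
  have hinj : Function.Injective ((LinearMap.ker f).subtype.baseChange S') :=
    Module.Flat.lTensor_preserves_injective_linearMap _ (Submodule.injective_subtype _)
  haveI : Module.Finite S' (S' ⊗[S] LinearMap.ker f) := by
    refine ⟨?_⟩
    apply Submodule.fg_of_fg_map_injective _ hinj
    rwa [Submodule.map_top]
  haveI : Module.Finite S (LinearMap.ker f) :=
    Module.Finite.of_finite_tensorProduct_of_faithfullyFlat S'
  exact Module.Finite.iff_fg.mp this

/-- Finite projectivity descends along faithfully flat base change. -/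
theorem projective_of_faithfullyFlat [Module.Finite S' (S' ⊗[S] N)]
    [Module.Projective S' (S' ⊗[S] N)] : Module.Projective S N := by
  haveI : Module.FinitePresentation S' (S' ⊗[S] N) := Module.finitePresentation_of_projective _ _
  haveI : Module.FinitePresentation S N := finitePresentation_of_faithfullyFlat S S' N
  haveI : Module.Flat S N := Module.Flat.of_flat_tensorProduct S N S'
  exact Module.Flat.projective_of_finitePresentation

end FP

section Az

variable (S : Type*) [CommRing S] (S' : Type*) [CommRing S'] [Algebra S S']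
variable (B : Type*) [Ring B] [Algebra S B]

/-- `(S' ⊗ B)ᵐᵒᵖ` as a base change of `Bᵐᵒᵖ`. -/
noncomputable def gam : S' ⊗[S] Bᵐᵒᵖ ≃ₗ[S'] (S' ⊗[S] B)ᵐᵒᵖ :=
  (TensorProduct.AlgebraTensorModule.congr (LinearEquiv.refl S' S')
    (MulOpposite.opLinearEquiv S (M := B)).symm) ≪≫ₗ
    (MulOpposite.opLinearEquiv S' (M := S' ⊗[S] B))

theorem gam_tmul (s : S') (b : Bᵐᵒᵖ) :
    gam S S' B (s ⊗ₜ[S] b) = MulOpposite.op (s ⊗ₜ[S] b.unop) := by
  simp [gam]

/-- comparison of the sources of `mulLeftRight`. -/
noncomputable def alp : S' ⊗[S] (B ⊗[S] Bᵐᵒᵖ) ≃ₗ[S'] (S' ⊗[S] B) ⊗[S'] (S' ⊗[S] B)ᵐᵒᵖ :=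
  (TensorProduct.AlgebraTensorModule.distribBaseChange S S' B Bᵐᵒᵖ) ≪≫ₗ
    (TensorProduct.congr (LinearEquiv.refl S' (S' ⊗[S] B)) (gam S S' B))

theorem alp_tmul (s : S') (a : B) (b : Bᵐᵒᵖ) :
    alp S S' B (s ⊗ₜ[S] (a ⊗ₜ[S] b)) =
      (s ⊗ₜ[S] a) ⊗ₜ[S'] MulOpposite.op ((1 : S') ⊗ₜ[S] b.unop) := by
  simp [alp, gam_tmul]

variable [Module.FaithfullyFlat S S'] [FaithfulSMul S B]

/-- The Azumaya property descends along faithfully flat base change. -/
theorem isAzumaya_of_faithfullyFlat [hAz : IsAzumaya S' (S' ⊗[S] B)] : IsAzumaya S B := by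
  haveI : Module.Finite S B := Module.Finite.of_finite_tensorProduct_of_faithfullyFlat S'
  haveI : Module.Projective S B := projective_of_faithfullyFlat S S' B
  haveI : Module.FinitePresentation S B := Module.finitePresentation_of_projective _ _
  refine { bij := ?_ }
  let μ : B ⊗[S] Bᵐᵒᵖ →ₗ[S] Module.End S B := (AlgHom.mulLeftRight S B).toLinearMap
  show Function.Bijective μ
  rw [← Module.FaithfullyFlat.lTensor_bijective_iff_bijective S S' μ]
  let hbc := Module.FinitePresentation.isBaseChange_map S B B S'
  let β : S' ⊗[S] (B →ₗ[S] B) ≃ₗ[S'] (S' ⊗[S] B →ₗ[S'] S' ⊗[S] B) := hbc.equiv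
  have hμ' : Function.Bijective (AlgHom.mulLeftRight S' (S' ⊗[S] B)) := hAz.bij
  have key : ∀ y : S' ⊗[S] (B ⊗[S] Bᵐᵒᵖ),
      AlgHom.mulLeftRight S' (S' ⊗[S] B) (alp S S' B y) = β (μ.lTensor S' y) := by
    intro y
    induction y using TensorProduct.induction_on with
    | zero => simp
    | add x y hx hy => rw [map_add, map_add, map_add, map_add, hx, hy]
    | tmul s w =>
      induction w using TensorProduct.induction_on with
      | zero => simp
      | add x y hx hy => rw [tmul_add, map_add, map_add, map_add, map_add, hx, hy]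
      | tmul a b =>
        rw [alp_tmul, LinearMap.lTensor_tmul]
        show _ = hbc.equiv _
        rw [IsBaseChange.equiv_tmul]
        apply LinearMap.ext
        intro v
        induction v using TensorProduct.induction_on with
        | zero => simp
        | add x y hx hy => rw [map_add, map_add, hx, hy]
        | tmul t x =>
          rw [AlgHom.mulLeftRight_apply]
          simp only [MulOpposite.unop_op, Algebra.TensorProduct.tmul_mul_tmul, mul_one,
            LinearMap.smul_apply, LinearMap.baseChangeHom_apply, LinearMap.baseChange_tmul,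
            TensorProduct.smul_tmul', smul_eq_mul, μ, AlgHom.toLinearMap_apply,
            AlgHom.mulLeftRight_apply]
  have hfun : ⇑(μ.lTensor S') = ⇑β.symm ∘ ⇑(AlgHom.mulLeftRight S' (S' ⊗[S] B)) ∘
      ⇑(alp S S' B) := by
    funext y
    simp only [Function.comp_apply]
    rw [key, LinearEquiv.symm_apply_apply]
  rw [hfun]
  exact β.symm.bijective.comp (hμ'.comp (alp S S' B).bijective)

end Az

end Groth.Agent.H96.AzDescent
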