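import Mathlib

/-!
# An algebra is the endomorphism algebra of the left ideal generated by a full rank-one element
-/

set_option autoImplicit false
universe u v

namespace Groth.Agent.H96.MoritaRankOne

variable {R : Type u} [CommRing R] {B : Type v} [Ring B] [Algebra R B] (s : B)

/-- The left ideal `B s`, as an `R`-submodule. -/
def E : Submodule R B := LinearMap.range (LinearMap.mulRight R s)

theorem mul_mem_E (x : B) {z : B} (hz : z ∈ E (R := R) s) : x * z ∈ E (R := R) s := by
  obtain ⟨w, rfl⟩ := hz
  exact ⟨x * w, by simp [mul_assoc]⟩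

theorem mul_s_mem_E (w : B) : w * s ∈ E (R := R) s := ⟨w, rfl⟩

/-- Left multiplication on the left ideal `B s`. -/
def rho : B →ₐ[R] Module.End R (E (R := R) s) where
  toFun x := (LinearMap.mulLeft R x).restrict (fun _ hz => mul_mem_E s x hz)
  map_one' := by
    apply LinearMap.ext
    intro z
    apply Subtype.ext
    simp
  map_mul' x y := by
    apply LinearMap.ext
    intro z
    apply Subtype.ext
    simp [mul_assoc]
  map_zero' := by
    apply LinearMap.ext
    intro z
    apply Subtype.ext
    simp
  map_add' x y := by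
    apply LinearMap.ext
    intro z
    apply Subtype.ext
    simp [add_mul]
  commutes' r := by
    apply LinearMap.ext
    intro z
    apply Subtype.ext
    simp [Algebra.smul_def]

theorem rho_apply (x : B) (z : E (R := R) s) : ((rho s x) z : B) = x * z := rfl

theorem rho_injective
    (hF : (1 : B) ∈ Submodule.span R (Set.range fun p : B × B => p.1 * s * p.2)) :
    Function.Injective (rho (R := R) s) := by
  rw [injective_iff_map_eq_zero]
  intro x hx
  have h1 : ∀ w : B, x * (w * s) = 0 := by
    intro w
    have := congrArg (fun f : Module.End R (E (R := R) s) => ((f ⟨w * s, mul_s_mem_E s w⟩ : E s) : B)) hx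
    simpa [rho_apply] using this
  have h2 : ∀ z ∈ Submodule.span R (Set.range fun p : B × B => p.1 * s * p.2), x * z = 0 := by
    intro z hz
    induction hz using Submodule.span_induction with
    | mem z hz =>
      obtain ⟨p, rfl⟩ := hz
      show x * (p.1 * s * p.2) = 0
      rw [← mul_assoc, h1, zero_mul]
    | zero => simp
    | add a b _ _ ha hb => rw [mul_add, ha, hb, add_zero]
    | smul r a _ ha => rw [mul_smul_comm, ha, smul_zero]
  have := h2 1 hF
  rwa [mul_one] at this

theorem rho_surjective
    (hF : (1 : B) ∈ Submodule.span R (Set.range fun p : B × B => p.1 * s * p.2))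
    (hS : ∀ y : B, ∃ r : R, s * y * s = r • s) :
    Function.Surjective (rho (R := R) s) := by
  classical
  obtain ⟨c, hc⟩ := (Finsupp.mem_span_range_iff_exists_finsupp).mp hF
  intro f
  let F : B × B → B := fun p => ((f ⟨p.1 * s, mul_s_mem_E s p.1⟩ : E s) : B)
  refine ⟨c.sum (fun p a => a • (F p * p.2)), ?_⟩
  apply LinearMap.ext
  intro z
  apply Subtype.ext
  rw [rho_apply]
  obtain ⟨z, w, rfl⟩ := z
  simp only [LinearMap.mulRight_apply]
  have hr : ∀ p : B × B, ∃ r : R, s * (p.2 * w) * s = r • s := fun p => hS (p.2 * w)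
  choose r hr using hr
  have h1 : ∀ p : B × B, (p.1 * s * p.2) * (w * s) = r p • (p.1 * s) := by
    intro p
    calc (p.1 * s * p.2) * (w * s) = p.1 * (s * (p.2 * w) * s) := by simp only [mul_assoc]
      _ = r p • (p.1 * s) := by rw [hr, mul_smul_comm]
  have h2 : ∀ p : B × B, (F p * p.2) * (w * s) = r p • F p := by
    intro p
    obtain ⟨v, hv⟩ : ∃ v, v * s = F p := (f ⟨p.1 * s, mul_s_mem_E s p.1⟩).2
    calc (F p * p.2) * (w * s) = v * (s * (p.2 * w) * s) := by
          rw [← hv]; simp only [mul_assoc]
      _ = r p • F p := by rw [hr, mul_smul_comm, hv]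
  have h3 : (⟨w * s, mul_s_mem_E s w⟩ : E (R := R) s) =
      c.sum (fun p a => (a * r p) • (⟨p.1 * s, mul_s_mem_E s p.1⟩ : E (R := R) s)) := by
    apply Subtype.ext
    rw [Finsupp.sum, Submodule.coe_sum]
    simp only [Submodule.coe_smul]
    calc w * s = 1 * (w * s) := (one_mul _).symm
      _ = (c.sum fun p a => a • (p.1 * s * p.2)) * (w * s) := by rw [hc]
      _ = ∑ p ∈ c.support, (c p * r p) • (p.1 * s) := by
          rw [Finsupp.sum, Finset.sum_mul]
          refine Finset.sum_congr rfl fun p _ => ?_
          rw [smul_mul_assoc, h1, smul_smul]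
  have h4 : ((f ⟨w * s, mul_s_mem_E s w⟩ : E (R := R) s) : B) =
      ∑ p ∈ c.support, (c p * r p) • F p := by
    rw [h3, Finsupp.sum, map_sum, Submodule.coe_sum]
    refine Finset.sum_congr rfl fun p _ => ?_
    rw [map_smul, Submodule.coe_smul]
  rw [h4, Finsupp.sum, Finset.sum_mul]
  refine Finset.sum_congr rfl fun p _ => ?_
  rw [smul_mul_assoc, h2, smul_smul]

end Groth.Agent.H96.MoritaRankOne
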