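import Mathlib
import Groth.Agent.S14967
import Groth.Agent.H96.FFDescent
import Groth.Agent.H96.MoritaRankOne

/-!
# Descent of the structure of a full rank-one element
-/

set_option autoImplicit false
universe u v w w'

open TensorProduct

namespace Groth.Agent.H96.AzGlue

open Groth.Agent.H96.MoritaRankOne

variable {R : Type u} [CommRing R] {B : Type v} [Ring B] [Algebra R B]
  {T : Type w} [CommRing T] [Algebra R T] [Module.FaithfullyFlat R T]
  {D' : Type w'} [Ring D'] [Algebra T D'] (Φ : T ⊗[R] B ≃ₐ[T] D') (e : D') (s : B)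
  (hs : Φ ((1 : T) ⊗ₜ[R] s) = e)

theorem mul_tmul_mul_mem (u v : T ⊗[R] B) :
    u * ((1 : T) ⊗ₜ[R] s) * v ∈ Submodule.span T ((fun x : B => (1 : T) ⊗ₜ[R] x) ''
      ((Submodule.span R (Set.range fun p : B × B => p.1 * s * p.2) : Submodule R B) : Set B)) := by
  induction u using TensorProduct.induction_on with
  | zero => simp
  | tmul t b =>
    induction v using TensorProduct.induction_on with
    | zero => simp
    | tmul t' b' =>
      rw [Algebra.TensorProduct.tmul_mul_tmul, Algebra.TensorProduct.tmul_mul_tmul, mul_one]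
      have : (t * t') ⊗ₜ[R] (b * s * b') = (t * t') • ((1 : T) ⊗ₜ[R] (b * s * b')) := by
        rw [TensorProduct.smul_tmul', smul_eq_mul, mul_one]
      rw [this]
      apply Submodule.smul_mem
      apply Submodule.subset_span
      exact ⟨b * s * b', Submodule.subset_span ⟨(b, b'), rfl⟩, rfl⟩
    | add v₁ v₂ h₁ h₂ => rw [mul_add]; exact Submodule.add_mem _ h₁ h₂
  | add u₁ u₂ h₁ h₂ => rw [add_mul, add_mul]; exact Submodule.add_mem _ h₁ h₂

include hs in
/-- Fullness descends. -/
theorem full
    (hF : (1 : D') ∈ Submodule.span T (Set.range fun p : D' × D' => p.1 * e * p.2)) :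
    (1 : B) ∈ Submodule.span R (Set.range fun p : B × B => p.1 * s * p.2) := by
  apply FFDescent.mem_of_tmul_mem_span T
  have h1 : ∀ z ∈ Submodule.span T (Set.range fun p : D' × D' => p.1 * e * p.2),
      Φ.symm z ∈ Submodule.span T ((fun x : B => (1 : T) ⊗ₜ[R] x) ''
      ((Submodule.span R (Set.range fun p : B × B => p.1 * s * p.2) : Submodule R B) : Set B)) := by
    intro z hz
    induction hz using Submodule.span_induction with
    | mem z hz =>
      obtain ⟨p, rfl⟩ := hz
      show Φ.symm (p.1 * e * p.2) ∈ _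
      rw [map_mul, map_mul, ← hs, AlgEquiv.symm_apply_apply]
      exact mul_tmul_mul_mem s _ _
    | zero => rw [map_zero]; exact Submodule.zero_mem _
    | add a b _ _ ha hb => rw [map_add]; exact Submodule.add_mem _ ha hb
    | smul r a _ ha => rw [map_smul]; exact Submodule.smul_mem _ r ha
  have := h1 1 hF
  rwa [map_one] at this

include hs in
/-- The rank-one property descends. -/
theorem rankOne (hS : ∀ x : D', ∃ t : T, e * x * e = t • e) (y : B) :
    ∃ r : R, s * y * s = r • s := by
  have : s * y * s ∈ Submodule.span R ({s} : Set B) := by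
    apply FFDescent.mem_of_tmul_mem_span T
    obtain ⟨t, ht⟩ := hS (Φ ((1 : T) ⊗ₜ[R] y))
    have h1 : (1 : T) ⊗ₜ[R] (s * y * s) = t • ((1 : T) ⊗ₜ[R] s) := by
      apply Φ.injective
      rw [map_smul, hs, ← ht, ← hs, ← map_mul, ← map_mul, Algebra.TensorProduct.tmul_mul_tmul,
        Algebra.TensorProduct.tmul_mul_tmul, mul_one, mul_one]
    rw [h1]
    apply Submodule.smul_mem
    apply Submodule.subset_span
    exact ⟨s, Submodule.subset_span rfl, rfl⟩
  obtain ⟨r, hr⟩ := Submodule.mem_span_singleton.mp this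
  exact ⟨r, hr.symm⟩

/-- The comparison map from the base change of the left ideal `B s` to `D'`. -/
noncomputable def cmp : T ⊗[R] (E (R := R) s) →ₗ[T] D' :=
  Φ.toLinearMap ∘ₗ ((E (R := R) s).subtype.baseChange T)

theorem cmp_tmul (t : T) (z : E (R := R) s) : cmp Φ s (t ⊗ₜ z) = Φ (t ⊗ₜ[R] (z : B)) := rfl

theorem cmp_injective : Function.Injective (cmp Φ s) := by
  unfold cmp
  rw [LinearMap.coe_comp]
  apply Function.Injective.comp Φ.injective
  exact Module.Flat.lTensor_preserves_injective_linearMap (M := T) (E (R := R) s).subtype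
    (Submodule.injective_subtype _)

include hs in
theorem range_cmp : LinearMap.range (cmp Φ s) = LinearMap.range (LinearMap.mulRight T e) := by
  apply le_antisymm
  · rintro _ ⟨z, rfl⟩
    induction z using TensorProduct.induction_on with
    | zero => rw [map_zero]; exact Submodule.zero_mem _
    | tmul t z =>
      obtain ⟨z, w, rfl⟩ := z
      rw [cmp_tmul]
      refine ⟨Φ (t ⊗ₜ[R] w), ?_⟩
      rw [LinearMap.mulRight_apply, ← hs, ← map_mul, Algebra.TensorProduct.tmul_mul_tmul, mul_one]
      rfl
    | add z₁ z₂ h₁ h₂ => rw [map_add]; exact Submodule.add_mem _ h₁ h₂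
  · rintro _ ⟨x, rfl⟩
    rw [LinearMap.mulRight_apply]
    obtain ⟨u, rfl⟩ := Φ.surjective x
    rw [← hs, ← map_mul]
    induction u using TensorProduct.induction_on with
    | zero => rw [zero_mul, map_zero]; exact Submodule.zero_mem _
    | tmul t b =>
      rw [Algebra.TensorProduct.tmul_mul_tmul, mul_one]
      exact ⟨t ⊗ₜ[R] (⟨b * s, mul_s_mem_E s b⟩ : E (R := R) s), rfl⟩
    | add u₁ u₂ h₁ h₂ => rw [add_mul, map_add]; exact Submodule.add_mem _ h₁ h₂

/-- The base change of the left ideal `B s` is the left ideal `D' e`. -/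
noncomputable def cmpEquiv :
    T ⊗[R] (E (R := R) s) ≃ₗ[T] LinearMap.range (LinearMap.mulRight T e) :=
  (LinearEquiv.ofInjective (cmp Φ s) (cmp_injective Φ s)).trans
    (LinearEquiv.ofEq _ _ (range_cmp Φ e s hs))

include hs in
/-- The left ideal `B s` is finite projective of constant rank when `D' e` is free. -/
theorem finite_projective_rank {ι : Type*} [Fintype ι]
    (wE : (ι → T) ≃ₗ[T] LinearMap.range (LinearMap.mulRight T e)) :
    Module.Finite R (E (R := R) s) ∧ Module.Projective R (E (R := R) s) ∧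
      ∀ p : PrimeSpectrum R, Module.rankAtStalk (R := R) (E (R := R) s) p = Fintype.card ι := by
  let ε : T ⊗[R] (E (R := R) s) ≃ₗ[T] (ι → T) := (cmpEquiv Φ e s hs).trans wE.symm
  haveI : Module.Finite T (T ⊗[R] (E (R := R) s)) := Module.Finite.equiv ε.symm
  haveI : Module.Projective T (T ⊗[R] (E (R := R) s)) := Module.Projective.of_equiv ε.symm
  haveI : Module.Free T (T ⊗[R] (E (R := R) s)) := Module.Free.of_equiv ε.symm
  obtain ⟨hfin, hproj⟩ :=
    Groth.Agent.S14967.finite_projective_of_faithfullyFlat_baseChange R T (E (R := R) s)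
  haveI := hfin
  haveI := hproj
  refine ⟨hfin, hproj, fun p => ?_⟩
  obtain ⟨q, rfl⟩ := PrimeSpectrum.comap_surjective_of_faithfullyFlat (A := R) (B := T) p
  haveI : Nontrivial T := by
    by_contra hT
    rw [not_nontrivial_iff_subsingleton] at hT
    exact q.isPrime.ne_top (Subsingleton.elim _ _)
  rw [← Module.rankAtStalk_baseChange, Module.rankAtStalk_eq_finrank_of_free, Pi.natCast_apply,
    ε.finrank_eq, Module.finrank_fintype_fun_eq_card]
  rfl

end Groth.Agent.H96.AzGlue
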