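import Mathlib
import Groth.Agent.S19588
import Groth.Agent.H97.Azumaya

/-!
# Regular elements in central simple algebras

A finite-dimensional central simple algebra of dimension `r²` over a field `k` contains an element
`x` whose minimal polynomial is separable of degree `r` (so `k[x]` is étale of dimension `r`).
-/

set_option autoImplicit false
set_option linter.style.haveILetI false

open TensorProduct Polynomial

namespace Groth.Agent.H96.RegElt

universe u v

section Minpoly

variable {k : Type*} [Field k] {K : Type*} [Field K] [Algebra k K]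
  {A : Type*} [Ring A] [Algebra k A]

lemma aeval_one_tmul (z : A) (p : k[X]) :
    aeval ((1 : K) ⊗ₜ[k] z) (p.map (algebraMap k K)) = (1 : K) ⊗ₜ[k] (aeval z p) := by
  rw [aeval_map_algebraMap]
  exact Polynomial.aeval_algHom_apply
    (Algebra.TensorProduct.includeRight : A →ₐ[k] K ⊗[k] A) z p

lemma minpoly_one_tmul (z : A) (hz : IsIntegral k z) :
    minpoly K ((1 : K) ⊗ₜ[k] z) = (minpoly k z).map (algebraMap k K) := by
  symm
  refine minpoly.unique K _ ((minpoly.monic hz).map _) ?_ ?_
  · rw [aeval_one_tmul, minpoly.aeval, TensorProduct.tmul_zero]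
  · intro q hq hq0
    by_contra hlt
    rw [not_le] at hlt
    have hd : q.natDegree < (minpoly k z).natDegree := by
      have := Polynomial.natDegree_lt_natDegree hq.ne_zero hlt
      rwa [Polynomial.natDegree_map] at this
    have hli : LinearIndependent K
        (fun i : Fin (minpoly k z).natDegree => ((1 : K) ⊗ₜ[k] z) ^ (i : ℕ)) := by
      have h1 := Module.Flat.linearIndependent_one_tmul (S := K)
        (linearIndependent_pow (K := k) z)
      convert h1 using 2 with i
      simp [Algebra.TensorProduct.tmul_pow]
    rw [aeval_eq_sum_range' hd,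
      ← Fin.sum_univ_eq_sum_range (fun i => q.coeff i • ((1 : K) ⊗ₜ[k] z) ^ i)] at hq0
    have h3 := Fintype.linearIndependent_iff.mp hli (fun i => q.coeff i) hq0
    apply hq.ne_zero
    ext n
    rw [coeff_zero]
    by_cases hn : n < (minpoly k z).natDegree
    · exact h3 ⟨n, hn⟩
    · exact coeff_eq_zero_of_natDegree_lt (lt_of_lt_of_le hd (not_lt.mp hn))

theorem isSeparable_of_mem_adjoin [FiniteDimensional k A] (x : A)
    (hx : (minpoly k x).Separable) (z : A) (hz : z ∈ Algebra.adjoin k ({x} : Set A)) :
    IsSeparable k z := by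
  classical
  let K := AlgebraicClosure k
  rw [Algebra.adjoin_singleton_eq_range_aeval] at hz
  obtain ⟨p, rfl⟩ := hz
  have hintx : IsIntegral k x := IsIntegral.of_finite k x
  have hintz : IsIntegral k (aeval x p) := IsIntegral.of_finite k _
  set g : K[X] := (minpoly k x).map (algebraMap k K) with hg
  have hgm : g.Monic := (minpoly.monic hintx).map _
  have hgs : g.Separable := hx.map
  have hsplit : g.Splits := IsAlgClosed.splits g
  have hnd : g.roots.Nodup := nodup_roots hgs
  set pK : K[X] := p.map (algebraMap k K) with hpK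
  set V : Finset K := g.roots.toFinset.image (fun l => pK.eval l) with hV
  set q : K[X] := ∏ v ∈ V, (X - C v) with hq
  have hqs : q.Separable := separable_prod_X_sub_C_iff'.mpr (fun _ _ _ _ h => h)
  have hdvd : g ∣ q.comp pK := by
    by_cases h0 : q.comp pK = 0
    · rw [h0]; exact dvd_zero _
    · conv_lhs => rw [hsplit.eq_prod_roots_of_monic hgm]
      rw [Multiset.prod_X_sub_C_dvd_iff_le_roots h0, Multiset.le_iff_subset hnd]
      intro l hl
      rw [mem_roots h0, IsRoot.def, eval_comp, hq, eval_prod]
      apply Finset.prod_eq_zero (i := pK.eval l)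
      · rw [hV, Finset.mem_image]; exact ⟨l, Multiset.mem_toFinset.mpr hl, rfl⟩
      · simp
  have hx0 : aeval ((1 : K) ⊗ₜ[k] x) g = 0 := by
    rw [hg, aeval_one_tmul, minpoly.aeval, TensorProduct.tmul_zero]
  have hz0 : aeval ((1 : K) ⊗ₜ[k] (aeval x p)) q = 0 := by
    have h1 : aeval ((1 : K) ⊗ₜ[k] x) (q.comp pK) = 0 := by
      obtain ⟨c, hc⟩ := hdvd
      rw [hc, map_mul, hx0, zero_mul]
    rwa [aeval_comp, hpK, aeval_one_tmul] at h1
  have h2 : minpoly K ((1 : K) ⊗ₜ[k] (aeval x p)) ∣ q := minpoly.dvd K _ hz0
  rw [minpoly_one_tmul _ hintz] at h2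
  exact (separable_map (algebraMap k K)).mp (hqs.of_dvd h2)

lemma finrank_adjoin_singleton (x : A) (hx : IsIntegral k x) :
    Module.finrank k (Algebra.adjoin k ({x} : Set A)) = (minpoly k x).natDegree := by
  set L := Algebra.adjoin k ({x} : Set A) with hL
  let x' : L := ⟨x, Algebra.subset_adjoin rfl⟩
  have hmin : minpoly k x = minpoly k x' := minpoly.algHom_eq L.val Subtype.val_injective x'
  have hint : IsIntegral k x' := (isIntegral_algHom_iff L.val Subtype.val_injective).mp hx
  have hspan : ⊤ ≤ Submodule.span k
      (Set.range fun i : Fin (minpoly k x').natDegree => x' ^ (i : ℕ)) := by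
    intro y _
    apply hint.mem_span_pow
    have hy : (y : A) ∈ (Polynomial.aeval x : Polynomial k →ₐ[k] A).range := by
      rw [← Algebra.adjoin_singleton_eq_range_aeval]; exact y.2
    obtain ⟨f, hf⟩ := hy
    refine ⟨f, Subtype.ext ?_⟩
    exact hf.symm.trans (Polynomial.aeval_algHom_apply L.val x' f)
  have b := Module.Basis.mk (linearIndependent_pow x') hspan
  rw [Module.finrank_eq_card_basis b, Fintype.card_fin, hmin]

end Minpoly

section Matrix

lemma minpoly_eq_charpoly_of_separable {K : Type*} [Field K] [IsAlgClosed K] {n : ℕ}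
    (Y : Matrix (Fin n) (Fin n) K) (h : Y.charpoly.Separable) : minpoly K Y = Y.charpoly := by
  have hint : IsIntegral K Y := IsIntegral.of_finite K Y
  have h1 : minpoly K Y ∣ Y.charpoly := Matrix.minpoly_dvd_charpoly Y
  have hμ0 : minpoly K Y ≠ 0 := minpoly.ne_zero hint
  have h2 : Y.charpoly ∣ minpoly K Y := by
    have hsplit : Y.charpoly.Splits := IsAlgClosed.splits _
    conv_lhs => rw [hsplit.eq_prod_roots_of_monic (Matrix.charpoly_monic Y)]
    rw [Multiset.prod_X_sub_C_dvd_iff_le_roots hμ0, Multiset.le_iff_subset (nodup_roots h)]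
    intro l hl
    rw [mem_roots hμ0]
    have hl' : IsRoot Y.charpoly l := (mem_roots (Matrix.charpoly_monic Y).ne_zero).mp hl
    have hs : l ∈ spectrum K Y := Matrix.mem_spectrum_iff_isRoot_charpoly.mpr hl'
    have h3 := spectrum.subset_polynomial_aeval Y (minpoly K Y) ⟨l, hs, rfl⟩
    rw [minpoly.aeval] at h3
    rcases subsingleton_or_nontrivial (Matrix (Fin n) (Fin n) K) with hsub | hnt
    · rw [spectrum.of_subsingleton] at hs; exact absurd hs (Set.notMem_empty _)
    · rw [spectrum.zero_eq] at h3; exact h3
  exact eq_of_monic_of_associated (minpoly.monic hint) (Matrix.charpoly_monic Y)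
    (associated_of_dvd_dvd h1 h2)

lemma resultant_ne_zero_iff_separable' {K : Type*} [Field K] (f : K[X]) (hf : f.Monic) (n' : ℕ)
    (hn' : (derivative f).natDegree ≤ n') :
    resultant f (derivative f) f.natDegree n' ≠ 0 ↔ f.Separable := by
  obtain ⟨j, hj⟩ := Nat.exists_eq_add_of_le hn'
  have h1 : resultant f (derivative f) f.natDegree n' = resultant f (derivative f) := by
    have := resultant_add_right_deg f (derivative f) f.natDegree (derivative f).natDegree j le_rfl
    rw [← hj, coeff_natDegree, hf.leadingCoeff, one_pow, one_mul] at this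
    exact this
  rw [h1, separable_def, ← isUnit_resultant_iff_isCoprime hf, isUnit_iff_ne_zero]

lemma resultant_ne_zero_iff_separable {K : Type*} [Field K] (f : K[X]) (hf : f.Monic) (n : ℕ)
    (hn : f.natDegree = n) : resultant f (derivative f) n n ≠ 0 ↔ f.Separable := by
  subst hn
  exact resultant_ne_zero_iff_separable' f hf _
    ((natDegree_derivative_le f).trans (Nat.sub_le _ _))

/-- A monic polynomial over a local ring whose reduction is separable is separable. -/
lemma separable_of_map_residue {R : Type*} [CommRing R] [IsLocalRing R] (P : R[X]) (hP : P.Monic)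
    (h : (P.map (IsLocalRing.residue R)).Separable) : P.Separable := by
  rw [separable_def, ← isUnit_resultant_iff_isCoprime hP, ← IsLocalRing.residue_ne_zero_iff_isUnit,
    ← resultant_map_map, ← derivative_map]
  have hdeg : (P.map (IsLocalRing.residue R)).natDegree = P.natDegree :=
    hP.natDegree_map _
  have := (resultant_ne_zero_iff_separable' (P.map (IsLocalRing.residue R)) (hP.map _)
    (derivative P).natDegree (by
      rw [derivative_map]; exact natDegree_map_le)).mpr h
  rwa [hdeg] at this

end Matrix

section Exists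

theorem exists_regular_of_infinite (k : Type u) [Field k] [Infinite k] (A : Type v) [Ring A]
    [Algebra k A] [Algebra.IsCentral k A] [IsSimpleRing A] [FiniteDimensional k A] (r : ℕ)
    (hA : Module.finrank k A = r ^ 2) :
    ∃ x : A, (minpoly k x).Separable ∧ (minpoly k x).natDegree = r := by
  classical
  let K := AlgebraicClosure k
  haveI : IsAzumaya k A :=
    { bij := Groth.Agent.H97.mulLeftRight_bijective_of_isCentral_isSimpleRing k A }
  haveI : IsAzumaya K (K ⊗[k] A) := Groth.Agent.S19588.result k K A
  haveI : IsSimpleRing (K ⊗[k] A) := Groth.Agent.H97.isSimpleRing_of_isAzumaya_field K _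
  obtain ⟨n, hn, ⟨e⟩⟩ := IsSimpleRing.exists_algEquiv_matrix_of_isAlgClosed K (K ⊗[k] A)
  have hnr : n = r := by
    have h1 : Module.finrank K (K ⊗[k] A) = r ^ 2 := by rw [Module.finrank_baseChange, hA]
    have h2 := e.toLinearEquiv.finrank_eq
    rw [h1, Module.finrank_matrix, Module.finrank_self, Fintype.card_fin, mul_one, sq] at h2
    exact (Nat.mul_self_inj.mp h2).symm
  let ι := Fin (Module.finrank k A)
  let b : Module.Basis ι k A := Module.finBasis k A
  let M : ι → Matrix (Fin n) (Fin n) K := fun i => e ((1 : K) ⊗ₜ[k] b i)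
  let G : Matrix (Fin n) (Fin n) (MvPolynomial ι K) :=
    Matrix.of fun a c => ∑ i, MvPolynomial.C (M i a c) * MvPolynomial.X i
  have hG : ∀ t : ι → K, G.map (MvPolynomial.eval t) = ∑ i, t i • M i := by
    intro t
    ext a c
    simp [G, Matrix.sum_apply, mul_comm]
  let F : MvPolynomial ι K := resultant G.charpoly (derivative G.charpoly) n n
  have hF : ∀ t : ι → K,
      MvPolynomial.eval t F ≠ 0 ↔ (∑ i, t i • M i).charpoly.Separable := by
    intro t
    have h1 : MvPolynomial.eval t F = resultant (∑ i, t i • M i).charpoly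
        (derivative (∑ i, t i • M i).charpoly) n n := by
      rw [← hG t, Matrix.charpoly_map, derivative_map, resultant_map_map]
    rw [h1]
    exact resultant_ne_zero_iff_separable _ (Matrix.charpoly_monic _) n
      (by rw [Matrix.charpoly_natDegree_eq_dim, Fintype.card_fin])
  haveI : Infinite K := Infinite.of_injective (algebraMap k K) (algebraMap k K).injective
  have hF0 : F ≠ 0 := by
    let d : Fin n → K := fun i => Infinite.natEmbedding K i
    have hd : Function.Injective d :=
      (Infinite.natEmbedding K).injective.comp Fin.val_injective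
    let bK := Algebra.TensorProduct.basis K b
    let t₀ : ι → K := fun i => bK.repr (e.symm (Matrix.diagonal d)) i
    have h1 : ∑ i, t₀ i • M i = Matrix.diagonal d := by
      have : ∑ i, t₀ i • M i = e (∑ i, t₀ i • bK i) := by
        rw [map_sum]
        refine Finset.sum_congr rfl fun i _ => ?_
        rw [map_smul, Algebra.TensorProduct.basis_apply]
      rw [this, bK.sum_repr, AlgEquiv.apply_symm_apply]
    intro hzero
    have := (hF t₀).mpr (by
      rw [h1, Matrix.charpoly_diagonal]; exact separable_prod_X_sub_C_iff.mpr hd)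
    exact this (by rw [hzero, map_zero])
  obtain ⟨t, ht, hne⟩ : ∃ t ∈ Set.pi Set.univ (fun _ : ι => Set.range (algebraMap k K)),
      MvPolynomial.eval t F ≠ 0 := by
    by_contra hcon
    push Not at hcon
    apply hF0
    refine MvPolynomial.funext_set (fun _ : ι => Set.range (algebraMap k K))
      (fun _ => Set.infinite_range_of_injective (algebraMap k K).injective) ?_
    intro t ht
    rw [hcon t ht, map_zero]
  choose c hc using fun i => ht i (Set.mem_univ i)
  let x : A := ∑ i, c i • b i
  have hY : e ((1 : K) ⊗ₜ[k] x) = ∑ i, t i • M i := by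
    simp only [x, TensorProduct.tmul_sum, map_sum]
    refine Finset.sum_congr rfl fun i _ => ?_
    rw [← hc i, TensorProduct.tmul_smul, ← algebraMap_smul K (c i) ((1 : K) ⊗ₜ[k] b i), map_smul]
  have hsep := (hF t).mp hne
  rw [← hY] at hsep
  have hmin := minpoly_eq_charpoly_of_separable _ hsep
  have hintx : IsIntegral k x := IsIntegral.of_finite k x
  have h3 : minpoly K (e ((1 : K) ⊗ₜ[k] x)) = (minpoly k x).map (algebraMap k K) := by
    rw [minpoly.algEquiv_eq, minpoly_one_tmul x hintx]
  refine ⟨x, ?_, ?_⟩
  · rw [← separable_map (algebraMap k K), ← h3, hmin]; exact hsep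
  · rw [← natDegree_map (algebraMap k K), ← h3, hmin, Matrix.charpoly_natDegree_eq_dim,
      Fintype.card_fin, hnr]

theorem exists_regular_of_finite (k : Type u) [Field k] [Finite k] (A : Type v) [Ring A]
    [Algebra k A] [Algebra.IsCentral k A] [IsSimpleRing A] [FiniteDimensional k A] (r : ℕ)
    (hA : Module.finrank k A = r ^ 2) :
    ∃ x : A, (minpoly k x).Separable ∧ (minpoly k x).natDegree = r := by
  classical
  haveI : IsArtinianRing A := IsArtinianRing.of_finite k A
  obtain ⟨n, hn, D, hD, hAlg, hfin, ⟨e⟩⟩ :=
    IsSimpleRing.exists_algEquiv_matrix_divisionRing_finite k A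
  haveI : Finite D := Module.finite_of_finite k
  have hcomm : ∀ a b : D, a * b = b * a := fun a b => (littleWedderburn D).mul_comm a b
  have hsurj : Function.Surjective (algebraMap k D) := by
    intro d
    have hc : e.symm (Matrix.scalar (Fin n) d) ∈ Subalgebra.center k A := by
      rw [Subalgebra.mem_center_iff]
      intro a
      apply e.injective
      rw [map_mul, map_mul, AlgEquiv.apply_symm_apply]
      exact ((Matrix.scalar_commute d (fun d' => hcomm d d') (e a)).eq).symm
    rw [Algebra.IsCentral.center_eq_bot, Algebra.mem_bot] at hc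
    obtain ⟨c, hc⟩ := hc
    refine ⟨c, ?_⟩
    have h1 : e (algebraMap k A c) = Matrix.scalar (Fin n) d := by
      rw [hc, AlgEquiv.apply_symm_apply]
    rw [AlgEquiv.commutes] at h1
    have h2 := congrFun (congrFun h1 ⟨0, NeZero.pos n⟩) ⟨0, NeZero.pos n⟩
    simpa [Matrix.algebraMap_matrix_apply] using h2
  have hD1 : Module.finrank k D = 1 := by
    have e1 : k ≃ₗ[k] D := LinearEquiv.ofBijective (Algebra.linearMap k D)
      ⟨(algebraMap k D).injective, hsurj⟩
    rw [← e1.finrank_eq, Module.finrank_self]
  have hnr : n = r := by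
    have h2 := e.toLinearEquiv.finrank_eq
    rw [hA, Module.finrank_matrix, hD1, Fintype.card_fin, mul_one, sq] at h2
    exact (Nat.mul_self_inj.mp h2).symm
  obtain ⟨p, hp⟩ := CharP.exists k
  haveI := hp
  haveI : Fact p.Prime := ⟨CharP.char_is_prime k p⟩
  let L := FiniteField.Extension k p n
  have hLn : Module.finrank k L = n := FiniteField.finrank_extension k p n
  let bL : Module.Basis (Fin n) k L := (Module.finBasis k L).reindex (finCongr hLn)
  let ψ : L →ₐ[k] A := (e.symm : Matrix (Fin n) (Fin n) D →ₐ[k] A).comp
    ((AlgHom.mapMatrix (Algebra.ofId k D)).comp (Algebra.leftMulMatrix bL))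
  have hψ : Function.Injective ψ := ψ.toRingHom.injective
  obtain ⟨α, hα⟩ := Field.exists_primitive_element k L
  have hint : IsIntegral k α := IsIntegral.of_finite k α
  refine ⟨ψ α, ?_, ?_⟩
  · rw [minpoly.algHom_eq ψ hψ α]
    exact Algebra.IsSeparable.isSeparable k α
  · rw [minpoly.algHom_eq ψ hψ α, ← IntermediateField.adjoin.finrank hint, hα,
      IntermediateField.finrank_top', hLn, hnr]

theorem exists_regular (k : Type u) [Field k] (A : Type v) [Ring A]
    [Algebra k A] [Algebra.IsCentral k A] [IsSimpleRing A] [FiniteDimensional k A] (r : ℕ)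
    (hA : Module.finrank k A = r ^ 2) :
    ∃ x : A, (minpoly k x).Separable ∧ (minpoly k x).natDegree = r := by
  rcases finite_or_infinite k with h | h
  · exact exists_regular_of_finite k A r hA
  · exact exists_regular_of_infinite k A r hA

end Exists

end Groth.Agent.H96.RegElt
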