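import Mathlib

/-!
# Regular elements of Azumaya algebras (helper96)

* `finrank_ker_ad_le`: in a finite-dimensional "prime" algebra `V` over a field `K`, if `ξ` is killed by
  a split polynomial with distinct roots `s` and no nonzero polynomial of degree `< #s` kills `ξ`,
  then `dim ker (ad ξ) + (#s² - #s) ≤ dim V`  (Peirce decomposition w.r.t. the Lagrange idempotents).
* `prime_baseChange`: for an Azumaya algebra `A` over `R` (finite free) and a field `K` over `R`,
  `K ⊗[R] A` is a prime ring (`a x b = 0` for all `x` implies `a = 0` or `b = 0`).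
-/

set_option autoImplicit false

namespace Groth.Agent.H96.AzumayaReg

open Polynomial TensorProduct

section LemmaK

variable {K : Type*} [Field K] {V : Type*} [Ring V] [Algebra K V]

lemma pow_mul_of_eigen {ξ e : V} {c : K} (h : ξ * e = c • e) (n : ℕ) :
    ξ ^ n * e = c ^ n • e := by
  induction n with
  | zero => simp
  | succ n ih =>
    rw [pow_succ, mul_assoc, h, mul_smul_comm, ih, smul_smul, pow_succ, mul_comm]

lemma aeval_mul_of_eigen {ξ e : V} {c : K} (h : ξ * e = c • e) (p : K[X]) :
    aeval ξ p * e = p.eval c • e := by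
  induction p using Polynomial.induction_on' with
  | add p q hp hq => rw [map_add, add_mul, hp, hq, eval_add, add_smul]
  | monomial n a =>
    rw [aeval_monomial, eval_monomial, mul_assoc, pow_mul_of_eigen h,
      Algebra.algebraMap_eq_smul_one, smul_mul_assoc, one_mul, smul_smul]

lemma commute_aeval {ξ x : V} (h : Commute ξ x) (p : K[X]) : Commute (aeval ξ p) x := by
  induction p using Polynomial.induction_on' with
  | add p q hp hq => rw [map_add]; exact hp.add_left hq
  | monomial n a =>
    rw [aeval_monomial]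
    exact (Algebra.commute_algebraMap_left a x).mul_left (h.pow_left n)

theorem finrank_ker_ad_le [Module.Finite K V]
    (hprime : ∀ a b : V, (∀ x, a * x * b = 0) → a = 0 ∨ b = 0)
    (ξ : V) (s : Finset K)
    (hnodal : aeval ξ (Lagrange.nodal s id) = 0)
    (hindep : ∀ p : K[X], p.natDegree < s.card → aeval ξ p = 0 → p = 0) :
    Module.finrank K (LinearMap.ker (LinearMap.mulLeft K ξ - LinearMap.mulRight K ξ))
      + (s.card * s.card - s.card) ≤ Module.finrank K V := by
  classical
  set Cz := LinearMap.ker (LinearMap.mulLeft K ξ - LinearMap.mulRight K ξ) with hCz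
  have hCmem : ∀ x, x ∈ Cz → Commute ξ x := by
    intro x hx
    rw [hCz, LinearMap.mem_ker, LinearMap.sub_apply, LinearMap.mulLeft_apply,
      LinearMap.mulRight_apply, sub_eq_zero] at hx
    exact hx
  have hinj : Set.InjOn (id : K → K) s := Function.injective_id.injOn
  let E : K → V := fun i => aeval ξ (Lagrange.basis s id i)
  have hE2 : ∀ i ∈ s, ξ * E i = i • E i := by
    intro i hi
    have h1 : (X - C i) * Lagrange.basis s id i
        = C (Lagrange.nodalWeight s id i) * Lagrange.nodal s id := by
      rw [Lagrange.basis_eq_prod_sub_inv_mul_nodal_div hi, ← Lagrange.nodal_erase_eq_nodal_div hi,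
        Lagrange.nodal_eq_mul_nodal_erase hi]
      simp only [id]; ring
    have h2 := congrArg (aeval ξ) h1
    rw [map_mul, map_mul, hnodal, mul_zero, map_sub, aeval_X, aeval_C, sub_mul, sub_eq_zero] at h2
    rw [h2, Algebra.smul_def]
  have hE3 : ∀ i ∈ s, ∀ j ∈ s, E j * E i = if j = i then E i else 0 := by
    intro i hi j hj
    rw [show E j * E i = (Lagrange.basis s id j).eval i • E i from
      aeval_mul_of_eigen (hE2 i hi) _]
    split_ifs with h
    · subst h
      have := Lagrange.eval_basis_self (v := id) hinj hj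
      simp only [id] at this
      rw [this, one_smul]
    · have := Lagrange.eval_basis_of_ne (v := id) (s := s) h hi
      simp only [id] at this
      rw [this, zero_smul]
  have hE4 : ∀ i ∈ s, E i ≠ 0 := by
    intro i hi h0
    have hdeg : (Lagrange.basis s id i).natDegree < s.card := by
      rw [Lagrange.natDegree_basis hinj hi]
      exact Nat.sub_lt (Finset.card_pos.mpr ⟨i, hi⟩) one_pos
    exact Lagrange.basis_ne_zero hinj hi (hindep _ hdeg h0)
  -- Peirce components of centralizing elements vanish off the diagonal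
  have hPz : ∀ x ∈ Cz, ∀ a ∈ s, ∀ b ∈ s, a ≠ b → E a * x * E b = 0 := by
    intro x hx a ha b hb hab
    have hc : E a * x = x * E a := (commute_aeval (hCmem x hx) _).eq
    rw [hc, mul_assoc, hE3 b hb a ha, if_neg hab, mul_zero]
  have hPu : ∀ a ∈ s, ∀ b ∈ s, ∀ a' ∈ s, ∀ b' ∈ s, ∀ w : V,
      E a * (E a' * w * E b') * E b = if a = a' ∧ b' = b then E a' * w * E b' else 0 := by
    intro a ha b hb a' ha' b' hb' w
    have : E a * (E a' * w * E b') * E b = (E a * E a') * w * (E b' * E b) := by
      simp only [mul_assoc]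
    rw [this, hE3 a' ha' a ha, hE3 b hb b' hb']
    by_cases h1 : a = a'
    · by_cases h2 : b' = b
      · rw [if_pos h1, if_pos h2, if_pos ⟨h1, h2⟩, h2]
      · rw [if_neg h2, mul_zero, if_neg (fun h => h2 h.2)]
    · rw [if_neg h1, zero_mul, zero_mul, if_neg (fun h => h1 h.1)]
  have hex : ∀ p : K × K, p ∈ s.offDiag → ∃ v : V, E p.1 * v * E p.2 ≠ 0 := by
    intro p hp
    rw [Finset.mem_offDiag] at hp
    by_contra hcon
    push Not at hcon
    rcases hprime _ _ hcon with h | h
    · exact hE4 _ hp.1 h
    · exact hE4 _ hp.2.1 h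
  choose! v hv using hex
  let u : s.offDiag → V := fun p => E p.1.1 * v p.1 * E p.1.2
  have hkey : ∀ (c : s.offDiag → K) (q : s.offDiag),
      E q.1.1 * (∑ p, c p • u p) * E q.1.2 = c q • u q := by
    intro c q
    have hq := Finset.mem_offDiag.mp q.2
    rw [Finset.mul_sum, Finset.sum_mul, Finset.sum_eq_single q]
    · rw [mul_smul_comm, smul_mul_assoc]
      congr 1
      rw [hPu _ hq.1 _ hq.2.1 _ hq.1 _ hq.2.1, if_pos ⟨rfl, rfl⟩]
    · intro p _ hpq
      have hp := Finset.mem_offDiag.mp p.2
      rw [mul_smul_comm, smul_mul_assoc, hPu _ hq.1 _ hq.2.1 _ hp.1 _ hp.2.1, if_neg, smul_zero]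
      rintro ⟨h1, h2⟩
      exact hpq (Subtype.ext (Prod.ext h1.symm h2))
    · intro h; exact absurd (Finset.mem_univ q) h
  have hli : LinearIndependent K u := by
    rw [Fintype.linearIndependent_iff]
    intro c hc q
    have := hkey c q
    rw [hc, mul_zero, zero_mul] at this
    exact (smul_eq_zero.mp this.symm).resolve_right (hv q.1 q.2)
  have hdisj : Disjoint (Submodule.span K (Set.range u)) Cz := by
    rw [Submodule.disjoint_def]
    intro x hxU hxC
    obtain ⟨c, rfl⟩ := (Submodule.mem_span_range_iff_exists_fun K).mp hxU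
    have hc0 : ∀ q, c q = 0 := by
      intro q
      have hq := Finset.mem_offDiag.mp q.2
      have := hkey c q
      rw [hPz _ hxC _ hq.1 _ hq.2.1 hq.2.2] at this
      exact (smul_eq_zero.mp this.symm).resolve_right (hv q.1 q.2)
    simp [hc0]
  have hU : Module.finrank K (Submodule.span K (Set.range u)) = s.card * s.card - s.card := by
    rw [finrank_span_eq_card hli, Fintype.card_coe, Finset.offDiag_card]
  have h1 := Submodule.finrank_sup_add_finrank_inf_eq (Submodule.span K (Set.range u)) Cz
  rw [hdisj.eq_bot, finrank_bot, add_zero] at h1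
  have h2 := Submodule.finrank_le (Submodule.span K (Set.range u) ⊔ Cz)
  omega

end LemmaK

section Prime

variable {R : Type*} [CommRing R] {A : Type*} [Ring A] [Algebra R A] [IsAzumaya R A]
  [Module.Free R A] {K : Type*} [Field K] [Algebra R K]

lemma prime_baseChange (a b : K ⊗[R] A) (h : ∀ x, a * x * b = 0) : a = 0 ∨ b = 0 := by
  by_contra hcon
  push Not at hcon
  obtain ⟨ℓ, hℓ⟩ := Module.Projective.exists_dual_ne_zero K hcon.2
  have key : ∀ T : (K ⊗[R] A) →ₗ[K] (K ⊗[R] A), a * T b = 0 := by
    intro T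
    have ibc := (TensorProduct.isBaseChange R A K)
    refine (IsBaseChange.end ibc).inductionOn T (fun T => a * T b = 0) ?_ ?_ ?_ ?_
    · simp
    · intro g
      obtain ⟨t, rfl⟩ := (IsAzumaya.bij (R := R) (A := A)).2 g
      induction t using TensorProduct.induction_on with
      | zero => simp
      | add t1 t2 h1 h2 => rw [map_add, map_add, LinearMap.add_apply, mul_add, h1, h2, add_zero]
      | tmul p q =>
        have hform : ∀ y : K ⊗[R] A, ibc.endHom (AlgHom.mulLeftRight R A (p ⊗ₜ q)) y
            = ((1 : K) ⊗ₜ[R] p) * y * ((1 : K) ⊗ₜ[R] q.unop) := by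
          intro y
          induction y using TensorProduct.induction_on with
          | zero => simp
          | add y1 y2 h1 h2 => rw [map_add, h1, h2, mul_add, add_mul]
          | tmul c x =>
            have : c ⊗ₜ[R] x = c • (TensorProduct.mk R K A 1 x) := by
              simp [TensorProduct.smul_tmul']
            rw [this, map_smul, IsBaseChange.endHom_comp_apply]
            simp [AlgHom.mulLeftRight_apply, TensorProduct.smul_tmul']
        rw [hform, ← mul_assoc, ← mul_assoc, h, zero_mul]
    · intro c T hT; rw [LinearMap.smul_apply, mul_smul_comm, hT, smul_zero]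
    · intro T1 T2 h1 h2; rw [LinearMap.add_apply, mul_add, h1, h2, add_zero]
  have := key (ℓ.smulRight (1 : K ⊗[R] A))
  rw [LinearMap.smulRight_apply, mul_smul_comm, mul_one] at this
  exact hcon.1 ((smul_eq_zero.mp this).resolve_left hℓ)

end Prime

section LemmaM

variable {R : Type*} [CommRing R] {A : Type*} [Ring A] [Algebra R A]

/-- `ad ξ = (x ↦ ξ x - x ξ)` as an `R`-linear map. -/
noncomputable def ad (R : Type*) [CommRing R] {A : Type*} [Ring A] [Algebra R A] (ξ : A) : A →ₗ[R] A :=
  LinearMap.mulLeft R ξ - LinearMap.mulRight R ξ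

lemma ad_apply (ξ x : A) : ad R ξ x = ξ * x - x * ξ := rfl

/-- the map `(c_i) ↦ Σ c_i ξ^i`. -/
noncomputable abbrev powMap (R : Type*) [CommRing R] {A : Type*} [Ring A] [Algebra R A] (ξ : A) (r : ℕ) :
    (Fin r → R) →ₗ[R] A :=
  Fintype.linearCombination R (fun i : Fin r => ξ ^ (i : ℕ))

lemma ad_comp_powMap (ξ : A) (r : ℕ) : ad R ξ ∘ₗ powMap R ξ r = 0 := by
  classical
  apply LinearMap.pi_ext
  intro i c
  rw [LinearMap.comp_apply, Fintype.linearCombination_apply_single, ad_apply, mul_smul_comm,
    smul_mul_assoc, ← pow_succ', ← pow_succ, sub_self, LinearMap.zero_apply]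

lemma ad_pow (ξ : A) (n : ℕ) : ad R ξ (ξ ^ n) = 0 := by
  rw [ad_apply, ← pow_succ', ← pow_succ, sub_self]

variable (S : Type*) [CommRing S] [Algebra R S]

lemma baseChange_powMap_basis (ξ : A) (r : ℕ) (i : Fin r) :
    (powMap R ξ r).baseChange S (Algebra.TensorProduct.basis S (Pi.basisFun R (Fin r)) i)
      = ((1 : S) ⊗ₜ[R] ξ) ^ (i : ℕ) := by
  classical
  rw [Algebra.TensorProduct.basis_apply, LinearMap.baseChange_tmul, Pi.basisFun_apply,
    Fintype.linearCombination_apply_single, one_smul, Algebra.TensorProduct.tmul_pow, one_pow]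

lemma baseChange_ad (ξ : A) :
    (ad R ξ).baseChange S
      = LinearMap.mulLeft S ((1 : S) ⊗ₜ[R] ξ) - LinearMap.mulRight S ((1 : S) ⊗ₜ[R] ξ) := by
  apply TensorProduct.AlgebraTensorModule.ext
  intro c x
  rw [LinearMap.baseChange_tmul, ad_apply, LinearMap.sub_apply, LinearMap.mulLeft_apply,
    LinearMap.mulRight_apply, Algebra.TensorProduct.tmul_mul_tmul,
    Algebra.TensorProduct.tmul_mul_tmul, one_mul, mul_one, TensorProduct.tmul_sub]

lemma injective_of_basis_linearIndependent {K M N ι : Type*} [Ring K] [AddCommGroup M] [Module K M]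
    [AddCommGroup N] [Module K N] (b : Module.Basis ι K M) (f : M →ₗ[K] N)
    (h : LinearIndependent K (f ∘ b)) : Function.Injective f := by
  rw [← LinearMap.ker_eq_bot, LinearMap.ker_eq_bot']
  intro m hm
  have h1 : f m = Finsupp.linearCombination K (f ∘ b) (b.repr m) := by
    rw [← Finsupp.apply_linearCombination, b.linearCombination_repr]
  rw [hm] at h1
  have h2 := linearIndependent_iff.mp h _ h1.symm
  exact b.repr.map_eq_zero_iff.mp h2

variable [Nontrivial R] [IsAzumaya R A] [Module.Free R A] {K : Type*} [Field K] [Algebra R K]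

theorem core (r : ℕ) (hA : Module.finrank R A = r * r) (ξ : A)
    (ρ : A →ₗ[R] (Fin r → R)) (hρ : ρ ∘ₗ powMap R ξ r = LinearMap.id)
    (s : Finset K) (hs : s.card = r)
    (hnodal : aeval ((1 : K) ⊗ₜ[R] ξ) (Lagrange.nodal s id) = 0) :
    ∀ z : K ⊗[R] A, ρ.baseChange K z = 0 → (ad R ξ).baseChange K z = 0 → z = 0 := by
  classical
  set φ' := (powMap R ξ r).baseChange K with hφ'
  set ρ' := ρ.baseChange K with hρ'
  set ψ' := (ad R ξ).baseChange K with hψ'
  set ξ' : K ⊗[R] A := (1 : K) ⊗ₜ[R] ξ with hξ'
  have h1 : ρ' ∘ₗ φ' = LinearMap.id := by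
    rw [hρ', hφ', ← LinearMap.baseChange_comp, hρ, LinearMap.baseChange_id]
  have hφ'inj : Function.Injective φ' := by
    intro a b hab
    have := congrArg ρ' hab
    rwa [← LinearMap.comp_apply, ← LinearMap.comp_apply, h1] at this
  have h2 : ψ' ∘ₗ φ' = 0 := by
    rw [hψ', hφ', ← LinearMap.baseChange_comp, ad_comp_powMap, LinearMap.baseChange_zero]
  have hfinA : Module.finrank K (K ⊗[R] A) = r * r := by
    rw [Module.finrank_baseChange, hA]
  have hfinP : Module.finrank K (K ⊗[R] (Fin r → R)) = r := by
    rw [Module.finrank_baseChange, Module.finrank_fin_fun]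
  have hli : LinearIndependent K (fun i : Fin r => ξ' ^ (i : ℕ)) := by
    have := (Algebra.TensorProduct.basis K (Pi.basisFun R (Fin r))).linearIndependent.map' φ'
      (LinearMap.ker_eq_bot.mpr hφ'inj)
    have hfun : (fun i : Fin r => ξ' ^ (i : ℕ))
        = φ' ∘ (Algebra.TensorProduct.basis K (Pi.basisFun R (Fin r))) := by
      funext i
      rw [Function.comp_apply, hφ', baseChange_powMap_basis]
    rw [hfun]
    exact this
  have hindep : ∀ p : K[X], p.natDegree < s.card → aeval ξ' p = 0 → p = 0 := by
    intro p hp h0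
    rw [hs] at hp
    rw [aeval_eq_sum_range' hp, ← Fin.sum_univ_eq_sum_range (fun i => p.coeff i • ξ' ^ i)] at h0
    have h3 := Fintype.linearIndependent_iff.mp hli (fun i => p.coeff i) h0
    ext n
    rw [coeff_zero]
    by_cases hn : n < r
    · exact h3 ⟨n, hn⟩
    · exact coeff_eq_zero_of_natDegree_lt (lt_of_lt_of_le hp (not_lt.mp hn))
  have hK : Module.finrank K (LinearMap.ker ψ') + (r * r - r) ≤ r * r := by
    have := finrank_ker_ad_le (K := K) (V := K ⊗[R] A) prime_baseChange ξ' s hnodal hindep
    rwa [← baseChange_ad, hs, hfinA] at this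
  have hle : LinearMap.range φ' ≤ LinearMap.ker ψ' := LinearMap.range_le_ker_iff.mpr h2
  have hr : Module.finrank K (LinearMap.range φ') = r := by
    rw [LinearMap.finrank_range_of_inj hφ'inj, hfinP]
  have hrr : r ≤ r * r := Nat.le_mul_self r
  have heq : LinearMap.range φ' = LinearMap.ker ψ' := by
    apply Submodule.eq_of_le_of_finrank_le hle
    rw [hr]; omega
  intro z hz1 hz2
  have hz : z ∈ LinearMap.range φ' := by rw [heq]; exact hz2
  obtain ⟨w, rfl⟩ := hz
  have : w = 0 := by
    have := hz1
    rwa [← LinearMap.comp_apply, h1] at this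
  rw [this, map_zero]

end LemmaM

section Transfer

lemma lTensor_injective_of_lTensor_injective {R : Type*} [CommRing R] {k K : Type*}
    [AddCommGroup k] [Module R k] [AddCommGroup K] [Module R K] (ι : k →ₗ[R] K)
    (hι : Function.Injective ι) {M N : Type*} [AddCommGroup M] [Module R M] [AddCommGroup N]
    [Module R N] [Module.Flat R M] (l : M →ₗ[R] N) (h : Function.Injective (l.lTensor K)) :
    Function.Injective (l.lTensor k) := by
  have hcomm : (l.lTensor K) ∘ₗ (ι.rTensor M) = (ι.rTensor N) ∘ₗ (l.lTensor k) := by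
    rw [LinearMap.lTensor_comp_rTensor, LinearMap.rTensor_comp_lTensor]
  have h1 : Function.Injective ((l.lTensor K) ∘ₗ (ι.rTensor M)) := by
    rw [LinearMap.coe_comp]
    exact h.comp (Module.Flat.rTensor_preserves_injective_linearMap ι hι)
  rw [hcomm, LinearMap.coe_comp] at h1
  exact Function.Injective.of_comp h1

end Transfer

end Groth.Agent.H96.AzumayaReg
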