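import Groth.Agent.H96.EtSub
import Groth.Agent.H96.RegElt
import Groth.Agent.S5713
import Mathlib

/-!
# Splitting an Azumaya algebra by a finite étale cover near a prime (helper96)

`assemble`: an Azumaya algebra `B` over `S` which is free of rank `r` as a right module over a
commutative `S`-algebra `E ⊆ B`, `E` free of rank `r` over `S`, is split by `E`.
-/

set_option autoImplicit false
set_option linter.style.haveILetI false

open TensorProduct Polynomial

namespace Groth.Agent.H96.EtCover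

universe u

section Assemble

variable (S : Type u) [CommRing S] (B : Type u) [Ring B] [Algebra S B] [IsAzumaya S B]
  (E : Type u) [CommRing E] [Algebra S E] (r : ℕ) (bSE : Module.Basis (Fin r) S E)
  (u : E →ₐ[S] B) [Module E B] (hmod : ∀ (e : E) (a : B), e • a = a * u e)
  (bE : Module.Basis (Fin r) E B)

include bSE hmod bE in
theorem assemble (hr : 1 ≤ r) : Nonempty ((E ⊗[S] B) ≃ₐ[E] Matrix (Fin r) (Fin r) E) := by
  classical
  haveI : IsScalarTower S E B :=
    ⟨fun c e a => by rw [hmod, hmod, map_smul, mul_smul_comm]⟩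
  haveI : Module.Free S E := Module.Free.of_basis bSE
  haveI : Module.Finite S E := Module.Finite.of_basis bSE
  haveI : Module.Free E B := Module.Free.of_basis bE
  haveI : Module.Finite E B := Module.Finite.of_basis bE
  let G : B →ₐ[S] Module.End E B :=
    { toFun := fun a => EtSub.Lmul u hmod a
      map_one' := by ext y; simp
      map_mul' := fun a c => by ext y; simp [mul_assoc]
      map_zero' := by ext y; simp
      map_add' := fun a c => by ext y; simp [add_mul]
      commutes' := fun c => by ext y; simp [Algebra.smul_def] }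
  let ΦA : E ⊗[S] B →ₐ[E] Module.End E B :=
    Algebra.TensorProduct.lift (Algebra.ofId E _) G (fun x a => Algebra.commutes x _)
  haveI : IsAzumaya E (E ⊗[S] B) := Groth.Agent.S19588.result S E B
  have hbij : Function.Bijective ΦA.toLinearMap := by
    apply Groth.Agent.H97.bijective_of_forall_maximal_baseChange_quotient
    intro m hm
    letI : Field (E ⧸ m) := Ideal.Quotient.field m
    haveI : Nontrivial E :=
      ⟨⟨0, 1, fun h => hm.ne_top ((Ideal.eq_top_iff_one m).2 (h ▸ m.zero_mem))⟩⟩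
    haveI : Nontrivial S := by
      by_contra hS
      rw [not_nontrivial_iff_subsingleton] at hS
      have : Subsingleton E := Module.subsingleton S E
      exact not_subsingleton E this
    haveI : IsAzumaya (E ⧸ m) ((E ⧸ m) ⊗[E] (E ⊗[S] B)) :=
      Groth.Agent.S19588.result E (E ⧸ m) (E ⊗[S] B)
    haveI : IsSimpleRing ((E ⧸ m) ⊗[E] (E ⊗[S] B)) :=
      Groth.Agent.H97.isSimpleRing_of_isAzumaya_field (E ⧸ m) _
    let ΦK : (E ⧸ m) ⊗[E] (E ⊗[S] B) →ₐ[E ⧸ m] (E ⧸ m) ⊗[E] (Module.End E B) :=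
      Algebra.TensorProduct.map (AlgHom.id (E ⧸ m) (E ⧸ m)) ΦA
    have hΦK : ∀ z, ΦK z = ΦA.toLinearMap.baseChange (E ⧸ m) z := by
      intro z
      induction z using TensorProduct.induction_on with
      | zero => simp
      | tmul c e => simp [ΦK]
      | add z1 z2 h1 h2 => rw [map_add, map_add, h1, h2]
    haveI : Module.Free S B := Module.Free.of_basis (bSE.smulTower bE)
    have hrkB : Module.finrank E B = r := by
      rw [Module.finrank_eq_card_basis bE, Fintype.card_fin]
    have hrk1 : Module.finrank (E ⧸ m) ((E ⧸ m) ⊗[E] (E ⊗[S] B)) = r * r := by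
      rw [Module.finrank_baseChange, Module.finrank_baseChange,
        Module.finrank_eq_card_basis (bSE.smulTower bE)]
      simp
    have hrk2 : Module.finrank (E ⧸ m) ((E ⧸ m) ⊗[E] (Module.End E B)) = r * r := by
      rw [Module.finrank_baseChange, Module.finrank_linearMap, hrkB]
    haveI : Nontrivial ((E ⧸ m) ⊗[E] (Module.End E B)) := by
      apply Module.nontrivial_of_finrank_pos (R := E ⧸ m)
      rw [hrk2]
      positivity
    have hinj : Function.Injective (ΦA.toLinearMap.baseChange (E ⧸ m)) := by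
      intro x y hxy
      apply (ΦK.toRingHom).injective
      show ΦK x = ΦK y
      rw [hΦK, hΦK, hxy]
    exact ⟨hinj, (LinearMap.injective_iff_surjective_of_finrank_eq_finrank
      (hrk1.trans hrk2.symm)).mp hinj⟩
  exact ⟨(AlgEquiv.ofBijective ΦA hbij).trans (algEquivMatrix bE)⟩

end Assemble


section LM

variable {R : Type*} [CommRing R] (M : Submonoid R) (T : Type*) [CommRing T] [Algebra R T]
  [IsLocalization M T] {N : Type*} [AddCommGroup N] [Module R N] {ι : Type*} (v : ι → N)

lemma map_linearCombination :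
    IsLocalizedModule.map M (Finsupp.mapRange.linearMap (Algebra.linearMap R T))
      (TensorProduct.mk R T N 1) (Finsupp.linearCombination R v)
      = (Finsupp.linearCombination T (fun i => (1 : T) ⊗ₜ[R] v i)).restrictScalars R := by
  apply IsLocalizedModule.ext M (Finsupp.mapRange.linearMap (Algebra.linearMap R T))
    (IsLocalizedModule.map_units (TensorProduct.mk R T N 1))
  rw [IsLocalizedModule.map_comp]
  ext i
  simp

lemma bijective_map_of_basis (BB : Module.Basis ι T (T ⊗[R] N))
    (h : ∀ i, BB i = (1 : T) ⊗ₜ[R] v i) :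
    Function.Bijective (IsLocalizedModule.map M (Finsupp.mapRange.linearMap (Algebra.linearMap R T))
      (TensorProduct.mk R T N 1) (Finsupp.linearCombination R v)) := by
  rw [map_linearCombination]
  have h1 : (fun i => (1 : T) ⊗ₜ[R] v i) = BB := by funext i; rw [h]
  rw [h1]
  have h2 : ⇑((Finsupp.linearCombination T BB).restrictScalars R) = ⇑BB.repr.symm := by
    funext x
    rw [LinearMap.restrictScalars_apply, Module.Basis.repr_symm_apply]
  rw [h2]
  exact BB.repr.symm.bijective

lemma exists_basis_of_bijective_map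
    (h : Function.Bijective (IsLocalizedModule.map M
      (Finsupp.mapRange.linearMap (Algebra.linearMap R T))
      (TensorProduct.mk R T N 1) (Finsupp.linearCombination R v))) :
    ∃ BS : Module.Basis ι T (T ⊗[R] N), ∀ i, BS i = (1 : T) ⊗ₜ[R] v i := by
  rw [map_linearCombination, LinearMap.coe_restrictScalars] at h
  let L : (ι →₀ T) →ₗ[T] T ⊗[R] N := Finsupp.linearCombination T (fun i => (1 : T) ⊗ₜ[R] v i)
  have hL : Function.Bijective L := h
  let e : (ι →₀ T) ≃ₗ[T] T ⊗[R] N := LinearEquiv.ofBijective L hL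
  refine ⟨Module.Basis.ofRepr e.symm, fun i => ?_⟩
  show e.symm.symm (Finsupp.single i 1) = _
  simp [e, L]

end LM

section Aux

lemma adjoin_smul_eq {k : Type*} [Field k] {A : Type*} [Ring A] [Algebra k A] (c : k) (hc : c ≠ 0)
    (x : A) : Algebra.adjoin k ({c • x} : Set A) = Algebra.adjoin k ({x} : Set A) := by
  apply le_antisymm
  · apply Algebra.adjoin_le
    rw [Set.singleton_subset_iff]
    exact Subalgebra.smul_mem _ (Algebra.subset_adjoin (Set.mem_singleton x)) c
  · apply Algebra.adjoin_le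
    rw [Set.singleton_subset_iff]
    have h1 : x = c⁻¹ • (c • x) := by rw [smul_smul, inv_mul_cancel₀ hc, one_smul]
    have h2 : c⁻¹ • (c • x) ∈ Algebra.adjoin k ({c • x} : Set A) :=
      Subalgebra.smul_mem _ (Algebra.subset_adjoin (Set.mem_singleton _)) c⁻¹
    rw [← h1] at h2
    exact h2

lemma finrank_sq (k : Type*) [Field k] (B : Type*) [Ring B] [Algebra k B] [IsAzumaya k B] :
    ∃ n : ℕ, Module.finrank k B = n ^ 2 := by
  let K := AlgebraicClosure k
  haveI : IsAzumaya K (K ⊗[k] B) := Groth.Agent.S19588.result k K B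
  haveI hsimpleK := Groth.Agent.H97.isSimpleRing_of_isAzumaya_field K (K ⊗[k] B)
  obtain ⟨n, _, ⟨e⟩⟩ := IsSimpleRing.exists_algEquiv_matrix_of_isAlgClosed K (K ⊗[k] B)
  refine ⟨n, ?_⟩
  have h1 : Module.finrank K (K ⊗[k] B) = Module.finrank k B := Module.finrank_baseChange
  rw [← h1, e.toLinearEquiv.finrank_eq, Module.finrank_matrix]
  simp [sq]

lemma etale_adjoinRoot {S : Type u} [CommRing S] (P : S[X]) (hP : P.Monic) (hPsep : P.Separable) :
    Algebra.Etale S (AdjoinRoot P) := by
  obtain ⟨a, b, hab⟩ := hPsep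
  let SP : StandardEtalePair S :=
    { f := P, monic_f := hP, g := 1, cond := ⟨b, a, 1, by linear_combination hab⟩ }
  have hroot : SP.HasMap (AdjoinRoot.root P) := by
    refine ⟨?_, ?_⟩
    · show aeval (AdjoinRoot.root P) P = 0
      rw [AdjoinRoot.aeval_eq, AdjoinRoot.mk_self]
    · show IsUnit (aeval (AdjoinRoot.root P) (1 : S[X]))
      rw [map_one]; exact isUnit_one
  let φ : SP.Ring →ₐ[S] AdjoinRoot P := SP.lift (AdjoinRoot.root P) hroot
  have hX : eval₂ (Algebra.ofId S SP.Ring) SP.X P = 0 := SP.hasMap_X.1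
  let ψ : AdjoinRoot P →ₐ[S] SP.Ring := AdjoinRoot.liftAlgHom P (Algebra.ofId S SP.Ring) SP.X hX
  have h1 : φ.comp ψ = AlgHom.id S (AdjoinRoot P) := by
    apply AdjoinRoot.algHom_ext
    show φ (ψ (AdjoinRoot.root P)) = AdjoinRoot.root P
    rw [show ψ (AdjoinRoot.root P) = SP.X from AdjoinRoot.liftAlgHom_root _ _ _ _]
    exact SP.lift_X _ hroot
  have h2 : ψ.comp φ = AlgHom.id S SP.Ring := by
    apply SP.hom_ext
    show ψ (φ SP.X) = SP.X
    rw [show φ SP.X = AdjoinRoot.root P from SP.lift_X _ hroot]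
    exact AdjoinRoot.liftAlgHom_root _ _ _ _
  exact Algebra.Etale.of_equiv (AlgEquiv.ofAlgHom φ ψ h1 h2)

lemma resultant_map_derivative {R S : Type*} [CommRing R] [CommRing S] [Nontrivial S] (φ : R →+* S)
    (Q : R[X]) (hQ : Q.Monic) :
    resultant (Q.map φ) (derivative (Q.map φ)) = φ (resultant Q (derivative Q)) := by
  have hdeg : (Q.map φ).natDegree = Q.natDegree := hQ.natDegree_map φ
  have hle : (derivative (Q.map φ)).natDegree ≤ (derivative Q).natDegree := by
    rw [derivative_map]; exact natDegree_map_le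
  obtain ⟨j, hj⟩ := Nat.exists_eq_add_of_le hle
  have h1 := resultant_add_right_deg (Q.map φ) (derivative (Q.map φ)) (Q.map φ).natDegree
    (derivative (Q.map φ)).natDegree j le_rfl
  rw [← hj, coeff_natDegree, (hQ.map φ).leadingCoeff, one_pow, one_mul] at h1
  rw [← h1, hdeg, derivative_map, resultant_map_map]

lemma separable_map_of_isUnit {R S : Type*} [CommRing R] [CommRing S] [Nontrivial S] (φ : R →+* S)
    (Q : R[X]) (hQ : Q.Monic) (h : IsUnit (φ (resultant Q (derivative Q)))) :
    (Q.map φ).Separable := by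
  rw [separable_def, ← isUnit_resultant_iff_isCoprime (hQ.map φ), resultant_map_derivative φ Q hQ]
  exact h

lemma resultant_ne_zero_of_separable {R K : Type*} [CommRing R] [Field K] (φ : R →+* K)
    (Q : R[X]) (hQ : Q.Monic) (h : (Q.map φ).Separable) :
    φ (resultant Q (derivative Q)) ≠ 0 := by
  rw [← resultant_map_derivative φ Q hQ]
  exact (Groth.Agent.H96.RegElt.resultant_ne_zero_iff_separable' (Q.map φ) (hQ.map φ) _ le_rfl).mpr h

end Aux


section LocalBasis

open Groth.Agent.H96.RegElt Groth.Agent.H96.AzumayaReg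

variable (R : Type u) [CommRing R] [IsLocalRing R] (A : Type u) [Ring A] [Algebra R A]
  [IsAzumaya R A] (r : ℕ) (hA : Module.finrank R A = r ^ 2)

include hA in
/-- Over a local ring: if `ξ` reduces to a regular element of the special fibre and `P` is a monic
polynomial of degree `r` killing `ξ`, then `A` has an `R`-basis of the form `c i * ξ ^ j`. -/
theorem local_basis (ξ : A)
    (hsep : (minpoly (IsLocalRing.ResidueField R)
      ((1 : IsLocalRing.ResidueField R) ⊗ₜ[R] ξ)).Separable)
    (hdeg : (minpoly (IsLocalRing.ResidueField R)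
      ((1 : IsLocalRing.ResidueField R) ⊗ₜ[R] ξ)).natDegree = r)
    (P : R[X]) (hP : P.Monic) (hPdeg : P.natDegree = r) (hPξ : aeval ξ P = 0) :
    (P.map (IsLocalRing.residue R)).Separable ∧
    ∃ (c : Fin r → A) (BB : Module.Basis (Fin r × Fin r) R A),
      ∀ i j, BB (i, j) = c i * ξ ^ (j : ℕ) := by
  classical
  set k := IsLocalRing.ResidueField R with hk
  have hint : IsIntegral k ((1 : k) ⊗ₜ[R] ξ) := IsIntegral.of_finite k _
  have hPmap : P.map (IsLocalRing.residue R) = minpoly k ((1 : k) ⊗ₜ[R] ξ) := by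
    refine eq_of_monic_of_dvd_of_natDegree_le (minpoly.monic hint) (hP.map _) ?_ ?_
    · apply minpoly.dvd
      have h1 := Polynomial.aeval_algHom_apply
        (Algebra.TensorProduct.includeRight : A →ₐ[R] k ⊗[R] A) ξ P
      rw [hPξ, map_zero] at h1
      rw [← h1, ← IsLocalRing.ResidueField.algebraMap_eq, aeval_map_algebraMap]
      rfl
    · rw [hP.natDegree_map, hPdeg, hdeg]
  have hPsep : P.Separable := separable_of_map_residue P hP (by rw [hPmap]; exact hsep)
  refine ⟨by rw [hPmap]; exact hsep, ?_⟩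
  let E := AdjoinRoot P
  haveI hEfree : Module.Free R E := hP.free_adjoinRoot
  haveI hEfin : Module.Finite R E := hP.finite_adjoinRoot
  have hErk : Module.finrank R E = r := by
    rw [(AdjoinRoot.powerBasis' hP).finrank, AdjoinRoot.powerBasis'_dim, hPdeg]
  haveI hEet : Algebra.Etale R E := etale_adjoinRoot P hP hPsep
  let u : E →ₐ[R] A := Ideal.Quotient.liftₐ (Ideal.span {P}) (aeval ξ) (by
    intro a ha
    obtain ⟨q, rfl⟩ := Ideal.mem_span_singleton.mp ha
    rw [map_mul, hPξ, zero_mul])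
  have hu : u (AdjoinRoot.root P) = ξ := by
    show Ideal.Quotient.liftₐ (Ideal.span {P}) (aeval ξ) _ (Ideal.Quotient.mk _ X) = ξ
    rw [Ideal.Quotient.liftₐ_apply, Ideal.Quotient.lift_mk]
    exact aeval_X ξ
  have hinj : Function.Injective (u.toLinearMap.lTensor k) := by
    rw [← LinearMap.baseChange_eq_ltensor]
    let pb := AdjoinRoot.powerBasis' hP
    apply injective_of_basis_linearIndependent (Algebra.TensorProduct.basis k pb.basis)
    have key : ∀ m, m = (minpoly k ((1 : k) ⊗ₜ[R] ξ)).natDegree →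
        LinearIndependent k (fun i : Fin m => ((1 : k) ⊗ₜ[R] ξ) ^ (i : ℕ)) := by
      rintro _ rfl
      exact linearIndependent_pow _
    have hfun : (u.toLinearMap.baseChange k) ∘ (Algebra.TensorProduct.basis k pb.basis)
        = fun i : Fin pb.dim => ((1 : k) ⊗ₜ[R] ξ) ^ (i : ℕ) := by
      funext i
      rw [Function.comp_apply, Algebra.TensorProduct.basis_apply, LinearMap.baseChange_tmul,
        pb.basis_eq_pow, AlgHom.toLinearMap_apply, map_pow]
      simp only [pb, AdjoinRoot.powerBasis'_gen, hu, Algebra.TensorProduct.tmul_pow, one_pow]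
    rw [hfun]
    exact key _ (by simp only [pb, AdjoinRoot.powerBasis'_dim, hPdeg]; exact hdeg.symm)
  have hcomm : ∀ x y : E, Commute (u.toRingHom x) (u.toRingHom y) := fun x y => by
    show u x * u y = u y * u x
    rw [← map_mul, ← map_mul, mul_comm]
  letI modE : Module E A := Module.compHom A (u.toRingHom.toOpposite hcomm)
  have hmod : ∀ (e : E) (a : A), e • a = a * u e := fun e a => rfl
  haveI : IsScalarTower R E A :=
    ⟨fun c e a => by rw [hmod, hmod, map_smul, mul_smul_comm]⟩
  obtain ⟨hfreeEA, hrkEA, -⟩ := EtSub.main R A r hA E hErk u hinj hmod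
  haveI : Module.Finite E A := Module.Finite.of_restrictScalars_finite R E A
  haveI : Nontrivial A := (FaithfulSMul.algebraMap_injective R A).nontrivial
  haveI : Nontrivial E := u.toRingHom.domain_nontrivial
  let cE : Module.Basis (Fin r) E A := Module.finBasisOfFinrankEq E A hrkEA
  let pbb : Module.Basis (Fin r) R E :=
    (AdjoinRoot.powerBasis' hP).basis.reindex (finCongr (by simp [hPdeg]))
  have hpbb : ∀ j : Fin r, pbb j = AdjoinRoot.root P ^ (j : ℕ) := by
    intro j
    simp [pbb]
  refine ⟨fun i => cE i, (pbb.smulTower cE).reindex (Equiv.prodComm _ _), fun i j => ?_⟩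
  rw [Module.Basis.reindex_apply, Equiv.prodComm_symm, Equiv.prodComm_apply, Prod.swap_prod_mk,
    Module.Basis.smulTower_apply, hpbb, hmod, map_pow, hu]

end LocalBasis


section StageI

open Groth.Agent.H96.RegElt

variable (R : Type u) [CommRing R] (A : Type u) [Ring A] [Algebra R A] [IsAzumaya R A]
  (p : Ideal R) [p.IsPrime]

theorem stageI :
    ∃ (r : ℕ) (ξ : A) (Q : R[X]) (t : R) (b : Fin r → A), 1 ≤ r ∧ Q.Monic ∧ Q.natDegree = r ∧
      t ∉ p ∧ t • aeval ξ Q = 0 ∧
      (Q.map (algebraMap R (IsLocalRing.ResidueField (Localization.AtPrime p)))).Separable ∧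
      ∃ BB : Module.Basis (Fin r × Fin r) (Localization.AtPrime p)
          (Localization.AtPrime p ⊗[R] A),
        ∀ i j, BB (i, j) = (1 : Localization.AtPrime p) ⊗ₜ[R] (b i * ξ ^ (j : ℕ)) := by
  classical
  haveI : Nontrivial R :=
    ⟨⟨0, 1, fun h => ‹p.IsPrime›.ne_top ((Ideal.eq_top_iff_one p).2 (h ▸ p.zero_mem))⟩⟩
  let Rp := Localization.AtPrime p
  let Ap := Rp ⊗[R] A
  let k := IsLocalRing.ResidueField Rp
  haveI : IsAzumaya Rp Ap := Groth.Agent.S19588.result R Rp A
  haveI : Module.Free Rp Ap := Module.free_of_flat_of_isLocalRing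
  haveI : IsAzumaya k (k ⊗[Rp] Ap) := Groth.Agent.S19588.result Rp k Ap
  haveI hsimple := Groth.Agent.H97.isSimpleRing_of_isAzumaya_field k (k ⊗[Rp] Ap)
  obtain ⟨r, hfin⟩ : ∃ r, Module.finrank k (k ⊗[Rp] Ap) = r ^ 2 := finrank_sq k (k ⊗[Rp] Ap)
  have hA : Module.finrank Rp Ap = r ^ 2 := by
    rw [← hfin]
    exact (Module.finrank_baseChange (R := k) (S := Rp) (M' := Ap)).symm
  have hr : 1 ≤ r := by
    have h0 : 0 < Module.finrank k (k ⊗[Rp] Ap) := Module.finrank_pos
    rw [hfin] at h0
    exact Nat.pos_of_ne_zero (by rintro rfl; simp at h0)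
  obtain ⟨xb, hsep, hdeg⟩ := exists_regular k (k ⊗[Rp] Ap) r hfin
  obtain ⟨ξp, rfl⟩ := EtSub.exists_one_tmul_eq (R := Rp) xb
  have hint : IsIntegral k ((1 : k) ⊗ₜ[Rp] ξp) := IsIntegral.of_finite k _
  obtain ⟨-, hmem⟩ := Groth.Agent.S5713.result Rp Ap r hA ξp
    (Subalgebra.isSeparable_iff.mpr (fun z hz => isSeparable_of_mem_adjoin _ hsep z hz))
    (by rw [finrank_adjoin_singleton _ hint, hdeg])
  obtain ⟨c, hc⟩ := (Submodule.mem_span_range_iff_exists_fun Rp).mp hmem
  obtain ⟨⟨ξ₀, s'⟩, hs'⟩ := IsLocalizedModule.surj p.primeCompl (TensorProduct.mk R Rp A 1) ξp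
  obtain ⟨s, hs⟩ := IsLocalization.exist_integer_multiples_of_finite p.primeCompl c
  have hs2 : ∀ i, ∃ n : R, algebraMap R Rp n = (s : R) • c i := fun i => hs i
  choose n hn using hs2
  set σ' : Rp := algebraMap R Rp (s' : R) with hσ'
  set σ : Rp := algebraMap R Rp (s : R) with hσ
  set T : Rp := σ' * σ with hT
  have hTunit : IsUnit T := (IsLocalization.map_units Rp s').mul (IsLocalization.map_units Rp s)
  let τ : R := (s' : R) * (s : R)
  have hτ : algebraMap R Rp τ = T := by simp [τ, T, σ', σ]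
  let ξ : A := (s : R) • ξ₀
  let ζ : Ap := (1 : Rp) ⊗ₜ[R] ξ
  have hζ : ζ = T • ξp := by
    show (1 : Rp) ⊗ₜ[R] ((s : R) • ξ₀) = T • ξp
    have h1 : (1 : Rp) ⊗ₜ[R] ξ₀ = (s' : R) • ξp := hs'.symm
    rw [TensorProduct.tmul_smul, h1, ← algebraMap_smul Rp (s : R), ← algebraMap_smul Rp (s' : R),
      smul_smul, mul_comm]
  let w : Fin r → R := fun i => n i * (s' : R) * τ ^ (r - 1 - (i : ℕ))
  set Q : R[X] := X ^ r - ∑ i : Fin r, C (w i) * X ^ (i : ℕ) with hQdef
  have hQdeg' : (∑ i : Fin r, C (w i) * X ^ (i : ℕ)).degree < (r : WithBot ℕ) :=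
    degree_sum_fin_lt w
  have hQ : Q.Monic := monic_X_pow_sub hQdeg'
  have hQnat : Q.natDegree = r := by
    apply natDegree_eq_of_degree_eq_some
    rw [hQdef, degree_sub_eq_left_of_degree_lt (by rwa [degree_X_pow]), degree_X_pow]
  have hrel : aeval ζ Q = 0 := by
    rw [hQdef, map_sub, map_pow, aeval_X, map_sum, sub_eq_zero]
    have h1 : ∀ i : Fin r, aeval ζ (C (w i) * X ^ (i : ℕ)) = T ^ r • (c i • ξp ^ (i : ℕ)) := by
      intro i
      rw [map_mul, aeval_C, map_pow, aeval_X, hζ, _root_.smul_pow, ← Algebra.smul_def,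
        ← algebraMap_smul Rp (w i), smul_smul, smul_smul]
      congr 1
      have hpow : T ^ r = T ^ (r - 1 - (i : ℕ)) * T ^ (i : ℕ) * T := by
        rw [← pow_add, ← pow_succ]
        congr 1
        have := i.2
        omega
      simp only [w, map_mul, map_pow, hτ, hn i, Algebra.smul_def]
      rw [hpow, hT]
      ring
    rw [Finset.sum_congr rfl (fun i _ => h1 i), ← Finset.smul_sum, hc, hζ, _root_.smul_pow]
  have h0 : (TensorProduct.mk R Rp A 1) (aeval ξ Q) = (TensorProduct.mk R Rp A 1) 0 := by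
    rw [map_zero]
    have h1 := Polynomial.aeval_algHom_apply
      (Algebra.TensorProduct.includeRight : A →ₐ[R] Rp ⊗[R] A) ξ Q
    show (Algebra.TensorProduct.includeRight : A →ₐ[R] Rp ⊗[R] A) (aeval ξ Q) = 0
    rw [← h1]
    exact hrel
  obtain ⟨t, ht⟩ := IsLocalizedModule.exists_of_eq (S := p.primeCompl)
    (f := TensorProduct.mk R Rp A 1) h0
  -- fibre facts
  set c₀ : k := algebraMap Rp k T with hc₀def
  have hc₀ : c₀ ≠ 0 := (hTunit.map (algebraMap Rp k)).ne_zero
  have hres : (1 : k) ⊗ₜ[Rp] ζ = c₀ • ((1 : k) ⊗ₜ[Rp] ξp) := by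
    rw [hζ, TensorProduct.tmul_smul, hc₀def, algebraMap_smul]
  have hadj : Algebra.adjoin k ({(1 : k) ⊗ₜ[Rp] ζ} : Set (k ⊗[Rp] Ap))
      = Algebra.adjoin k ({(1 : k) ⊗ₜ[Rp] ξp} : Set (k ⊗[Rp] Ap)) := by
    have h1 := adjoin_smul_eq (A := k ⊗[Rp] Ap) c₀ hc₀ ((1 : k) ⊗ₜ[Rp] ξp)
    have hres' : (1 : k) ⊗ₜ[Rp] ζ = c₀ • ((1 : k) ⊗ₜ[Rp] ξp) := hres
    rw [hres']
    exact h1
  have hintζ : IsIntegral k ((1 : k) ⊗ₜ[Rp] ζ) := IsIntegral.of_finite k _
  have hsepζ : (minpoly k ((1 : k) ⊗ₜ[Rp] ζ)).Separable :=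
    isSeparable_of_mem_adjoin _ hsep _ (by rw [← hadj]; exact Algebra.subset_adjoin rfl)
  have hdegζ : (minpoly k ((1 : k) ⊗ₜ[Rp] ζ)).natDegree = r := by
    rw [← finrank_adjoin_singleton _ hintζ, hadj, finrank_adjoin_singleton _ hint, hdeg]
  obtain ⟨hQsep, cc, BB, hBB⟩ := local_basis Rp Ap r hA ζ hsepζ hdegζ (Q.map (algebraMap R Rp))
    (hQ.map _) (by rw [hQ.natDegree_map, hQnat]) (by rw [aeval_map_algebraMap]; exact hrel)
  choose bs hbs using fun i =>
    IsLocalizedModule.surj p.primeCompl (TensorProduct.mk R Rp A 1) (cc i)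
  let wt : Fin r × Fin r → Rp := fun ij => algebraMap R Rp ((bs ij.1).2 : R)
  have hwt : ∀ ij, IsUnit (wt ij) := fun ij => IsLocalization.map_units Rp (bs ij.1).2
  refine ⟨r, ξ, Q, t, fun i => (bs i).1, hr, hQ, hQnat, t.2, (by rw [smul_zero] at ht; exact ht), ?_,
    BB.isUnitSMul hwt, fun i j => ?_⟩
  · rw [Polynomial.map_map] at hQsep
    have : algebraMap R k = (IsLocalRing.residue Rp).comp (algebraMap R Rp) := by
      rw [IsScalarTower.algebraMap_eq R Rp k, IsLocalRing.ResidueField.algebraMap_eq]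
    rw [this]
    exact hQsep
  · rw [Module.Basis.isUnitSMul_apply, hBB]
    show algebraMap R Rp ((bs i).2 : R) • (cc i * ζ ^ (j : ℕ)) = _
    rw [algebraMap_smul, ← smul_mul_assoc]
    have h1 : ((bs i).2 : R) • cc i = (1 : Rp) ⊗ₜ[R] (bs i).1 := hbs i
    rw [h1, Algebra.TensorProduct.tmul_pow, one_pow, Algebra.TensorProduct.tmul_mul_tmul, one_mul]

end StageI


section Cover

variable (R : Type u) [CommRing R] (A : Type u) [Ring A] [Algebra R A] [IsAzumaya R A]
  (p : Ideal R) [p.IsPrime]

theorem cover : ∃ f : R, f ∉ p ∧ ∃ (R' : Type u) (_ : CommRing R') (_ : Algebra R R')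
    (_ : Algebra (Localization.Away f) R') (_ : IsScalarTower R (Localization.Away f) R'),
    Module.Finite (Localization.Away f) R' ∧ Algebra.Etale (Localization.Away f) R' ∧
    Module.FaithfullyFlat (Localization.Away f) R' ∧ ∃ r : ℕ, 1 ≤ r ∧
      Nonempty ((R' ⊗[R] A) ≃ₐ[R'] Matrix (Fin r) (Fin r) R') := by
  classical
  obtain ⟨r, ξ, Q, t, b, hr, hQ, hQnat, ht, htQ, hQsep, BB, hBB⟩ := stageI R A p
  let Rp := Localization.AtPrime p
  let v : Fin r × Fin r → A := fun ij => b ij.1 * ξ ^ (ij.2 : ℕ)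
  have hbijp := bijective_map_of_basis p.primeCompl Rp v BB (fun ij => hBB ij.1 ij.2)
  haveI : Module.FinitePresentation R A := Module.finitePresentation_of_projective R A
  obtain ⟨g₀, hg₀, hbij⟩ := exists_bijective_map_powers p.primeCompl
    (Finsupp.mapRange.linearMap (Algebra.linearMap R Rp)) (TensorProduct.mk R Rp A 1)
    (Finsupp.linearCombination R v) hbijp
  let d : R := resultant Q (derivative Q)
  have hd : d ∉ p := by
    intro hdp
    apply resultant_ne_zero_of_separable (algebraMap R (IsLocalRing.ResidueField Rp)) Q hQ hQsep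
    rw [IsScalarTower.algebraMap_apply R Rp (IsLocalRing.ResidueField Rp),
      IsLocalRing.ResidueField.algebraMap_eq, IsLocalRing.residue_eq_zero_iff]
    exact (IsLocalization.AtPrime.to_map_mem_maximal_iff Rp p d).mpr hdp
  let f : R := g₀ * t * d
  have hf : f ∉ p := fun h => by
    rcases (‹p.IsPrime›.mem_or_mem h) with h1 | h1
    · rcases (‹p.IsPrime›.mem_or_mem h1) with h2 | h2
      · exact hg₀ h2
      · exact ht h2
    · exact hd h1
  refine ⟨f, hf, ?_⟩
  let S := Localization.Away f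
  let B := S ⊗[R] A
  haveI : IsAzumaya S B := Groth.Agent.S19588.result R S A
  have hfunit : IsUnit (algebraMap R S f) :=
    IsLocalization.map_units S (⟨f, Submonoid.mem_powers f⟩ : Submonoid.powers f)
  have htunit : IsUnit (algebraMap R S t) :=
    isUnit_of_dvd_unit (map_dvd _ ⟨g₀ * d, by ring⟩) hfunit
  have hdunit : IsUnit (algebraMap R S d) :=
    isUnit_of_dvd_unit (map_dvd _ ⟨g₀ * t, by ring⟩) hfunit
  haveI : Nontrivial S := by
    have hfRp : IsUnit (algebraMap R Rp f) :=
      IsLocalization.map_units Rp (⟨f, hf⟩ : p.primeCompl)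
    exact (IsLocalization.Away.lift f hfRp : S →+* Rp).domain_nontrivial
  have hbijS := hbij f ⟨t * d, by ring⟩
  have hbijS' : Function.Bijective (IsLocalizedModule.map (Submonoid.powers f)
      (Finsupp.mapRange.linearMap (Algebra.linearMap R S)) (TensorProduct.mk R S A 1)
      (Finsupp.linearCombination R v)) := by
    rw [LocalizedModule.coe_map_eq (S := Submonoid.powers f)
      (Finsupp.mapRange.linearMap (Algebra.linearMap R S)) (TensorProduct.mk R S A 1)
      (Finsupp.linearCombination R v)] at hbijS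
    have h1 := (Function.Bijective.of_comp_iff' (LinearEquiv.bijective _) _).mp hbijS
    exact (Function.Bijective.of_comp_iff _ (LinearEquiv.bijective _)).mp h1
  obtain ⟨BS, hBS⟩ := exists_basis_of_bijective_map (Submonoid.powers f) S v hbijS'
  -- the polynomial over `S`
  let QS : S[X] := Q.map (algebraMap R S)
  have hQS : QS.Monic := hQ.map _
  have hQSnat : QS.natDegree = r := by rw [hQ.natDegree_map, hQnat]
  have hQSsep : QS.Separable := separable_map_of_isUnit (algebraMap R S) Q hQ hdunit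
  let ξS : B := (1 : S) ⊗ₜ[R] ξ
  have hQSξ : aeval ξS QS = 0 := by
    rw [aeval_map_algebraMap]
    have h1 := Polynomial.aeval_algHom_apply
      (Algebra.TensorProduct.includeRight : A →ₐ[R] S ⊗[R] A) ξ Q
    show aeval ((Algebra.TensorProduct.includeRight : A →ₐ[R] S ⊗[R] A) ξ) Q = 0
    rw [h1]
    show (1 : S) ⊗ₜ[R] (aeval ξ Q) = 0
    have h2 : (algebraMap R S t) • ((1 : S) ⊗ₜ[R] (aeval ξ Q)) = 0 := by
      rw [algebraMap_smul, ← TensorProduct.tmul_smul, htQ, TensorProduct.tmul_zero]
    exact htunit.smul_eq_zero.mp h2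
  let E := AdjoinRoot QS
  haveI : Module.Free S E := hQS.free_adjoinRoot
  haveI : Module.Finite S E := hQS.finite_adjoinRoot
  haveI : Algebra.Etale S E := etale_adjoinRoot QS hQS hQSsep
  let pbb : Module.Basis (Fin r) S E :=
    (AdjoinRoot.powerBasis' hQS).basis.reindex (finCongr (by simp [hQSnat]))
  have hpbb : ∀ j : Fin r, pbb j = AdjoinRoot.root QS ^ (j : ℕ) := by
    intro j
    simp [pbb]
  haveI : Nontrivial E := nontrivial_of_ne _ _ (pbb.ne_zero ⟨0, hr⟩)
  let u : E →ₐ[S] B := Ideal.Quotient.liftₐ (Ideal.span {QS}) (aeval ξS) (by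
    intro a ha
    obtain ⟨q, rfl⟩ := Ideal.mem_span_singleton.mp ha
    rw [map_mul, hQSξ, zero_mul])
  have hu : u (AdjoinRoot.root QS) = ξS := by
    show Ideal.Quotient.liftₐ (Ideal.span {QS}) (aeval ξS) _ (Ideal.Quotient.mk _ X) = ξS
    rw [Ideal.Quotient.liftₐ_apply, Ideal.Quotient.lift_mk]
    exact aeval_X ξS
  have hcomm : ∀ x y : E, Commute (u.toRingHom x) (u.toRingHom y) := fun x y => by
    show u x * u y = u y * u x
    rw [← map_mul, ← map_mul, mul_comm]
  letI modE : Module E B := Module.compHom B (u.toRingHom.toOpposite hcomm)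
  have hmod : ∀ (e : E) (a : B), e • a = a * u e := fun e a => rfl
  haveI : IsScalarTower S E B :=
    ⟨fun c e a => by rw [hmod, hmod, map_smul, mul_smul_comm]⟩
  let v' : Fin r → B := fun i => (1 : S) ⊗ₜ[R] b i
  have hBSv : ∀ i j, BS (i, j) = pbb j • v' i := by
    intro i j
    rw [hBS, hpbb, hmod, map_pow, hu]
    show (1 : S) ⊗ₜ[R] (b i * ξ ^ (j : ℕ)) = ((1 : S) ⊗ₜ[R] b i) * ((1 : S) ⊗ₜ[R] ξ) ^ (j : ℕ)
    rw [Algebra.TensorProduct.tmul_pow, one_pow, Algebra.TensorProduct.tmul_mul_tmul, one_mul]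
  have hli : LinearIndependent E v' := by
    rw [Fintype.linearIndependent_iff]
    intro g hg i
    have h1 : ∑ ij : Fin r × Fin r, (pbb.repr (g ij.1) ij.2) • BS ij = 0 := by
      rw [Fintype.sum_prod_type, ← hg]
      refine Finset.sum_congr rfl fun i _ => ?_
      conv_rhs => rw [← pbb.sum_repr (g i), Finset.sum_smul]
      refine Finset.sum_congr rfl fun j _ => ?_
      rw [hBSv, smul_assoc]
    have h2 := Fintype.linearIndependent_iff.mp BS.linearIndependent _ h1
    apply pbb.repr.injective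
    ext j
    simpa using h2 (i, j)
  have hsp : ⊤ ≤ Submodule.span E (Set.range v') := by
    intro y _
    rw [← BS.sum_repr y]
    refine Submodule.sum_mem _ fun ij _ => ?_
    rw [show BS ij = pbb ij.2 • v' ij.1 from hBSv ij.1 ij.2, ← smul_assoc]
    exact Submodule.smul_mem _ _ (Submodule.subset_span ⟨ij.1, rfl⟩)
  let bE : Module.Basis (Fin r) E B := Module.Basis.mk hli hsp
  obtain ⟨e⟩ := assemble S B E r pbb u hmod bE hr
  let e0 : E ⊗[R] A ≃ₐ[E] E ⊗[S] B :=
    Algebra.TensorProduct.algEquivOfLinearEquivTensorProduct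
      (TensorProduct.AlgebraTensorModule.cancelBaseChange R S E E A).symm
      (fun a₁ a₂ b₁ b₂ => by
        rw [TensorProduct.AlgebraTensorModule.cancelBaseChange_symm_tmul,
          TensorProduct.AlgebraTensorModule.cancelBaseChange_symm_tmul,
          TensorProduct.AlgebraTensorModule.cancelBaseChange_symm_tmul,
          Algebra.TensorProduct.tmul_mul_tmul, Algebra.TensorProduct.tmul_mul_tmul, mul_one])
      (by
        rw [TensorProduct.AlgebraTensorModule.cancelBaseChange_symm_tmul]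
        rfl)
  exact ⟨E, inferInstance, inferInstance, inferInstance, inferInstance, inferInstance,
    inferInstance, inferInstance, r, hr, ⟨e0.trans e⟩⟩

end Cover

end Groth.Agent.H96.EtCover
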