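import Mathlib
import Groth.Agent.S5720

/-!
# A global faithfully flat splitting of an Azumaya algebra of constant rank
-/

set_option autoImplicit false
universe u

open TensorProduct

namespace Groth.Agent.H96.AzSplit

variable (R : Type u) [CommRing R] (A : Type u) [Ring A] [Algebra R A] [IsAzumaya R A]
  (n : ℕ) (hrk : ∀ p : PrimeSpectrum R, Module.rankAtStalk (R := R) A p = n ^ 2)

/-- The local splitting data on a basic open. -/
def Good (f : R) : Prop :=
  ∃ (T' : Type u) (_ : CommRing T') (_ : Algebra R T'), Module.Flat R T' ∧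
    (∀ P : PrimeSpectrum R, f ∉ P.asIdeal →
      ∃ Q : PrimeSpectrum T', Q.comap (algebraMap R T') = P) ∧
    Nonempty (T' ⊗[R] A ≃ₐ[T'] Matrix (Fin n) (Fin n) T')

include hrk in
theorem exists_good (p : Ideal R) [hp : p.IsPrime] : ∃ f : R, f ∉ p ∧ Good R A n f := by
  obtain ⟨f, hf, R', _, _, _, _, _, _, hff, r, _, ⟨φ⟩⟩ := Groth.Agent.S5720.result R A p
  refine ⟨f, hf, ?_⟩
  haveI : Module.Flat R R' := Module.Flat.trans R (Localization.Away f) R'
  have hsurj : ∀ P : PrimeSpectrum R, f ∉ P.asIdeal →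
      ∃ Q : PrimeSpectrum R', Q.comap (algebraMap R R') = P := by
    intro P hP
    have hdisj : Disjoint (Submonoid.powers f : Set R) (P.asIdeal : Set R) := by
      rw [Set.disjoint_left]
      rintro x ⟨k, rfl⟩ hx
      exact hP (P.isPrime.mem_of_pow_mem k hx)
    let Q₀ : Ideal (Localization.Away f) :=
      Ideal.map (algebraMap R (Localization.Away f)) P.asIdeal
    have hQ₀ : Q₀.IsPrime :=
      IsLocalization.isPrime_of_isPrime_disjoint (Submonoid.powers f) _ _ P.isPrime hdisj
    have hQ₀c : Q₀.comap (algebraMap R (Localization.Away f)) = P.asIdeal :=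
      IsLocalization.under_map_of_isPrime_disjoint (Submonoid.powers f) _ P.isPrime hdisj
    obtain ⟨Q, hQ⟩ := PrimeSpectrum.comap_surjective_of_faithfullyFlat
      (A := Localization.Away f) (B := R') ⟨Q₀, hQ₀⟩
    refine ⟨Q, ?_⟩
    apply PrimeSpectrum.ext
    show Q.asIdeal.comap (algebraMap R R') = P.asIdeal
    rw [IsScalarTower.algebraMap_eq R (Localization.Away f) R', ← Ideal.comap_comap]
    have : Q.asIdeal.comap (algebraMap (Localization.Away f) R') = Q₀ :=
      congrArg PrimeSpectrum.asIdeal hQ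
    rw [this, hQ₀c]
  obtain ⟨Q, hQ⟩ := hsurj ⟨p, hp⟩ hf
  haveI : Nontrivial R' := by
    by_contra hT
    rw [not_nontrivial_iff_subsingleton] at hT
    exact Q.isPrime.ne_top (Subsingleton.elim _ _)
  have h1 : Module.rankAtStalk (R := R') (R' ⊗[R] A) Q = n ^ 2 := by
    rw [Module.rankAtStalk_baseChange, hrk]
  have h2 : Module.rankAtStalk (R := R') (R' ⊗[R] A) Q = r ^ 2 := by
    rw [Module.rankAtStalk_eq_of_equiv φ.toLinearEquiv, Module.rankAtStalk_eq_finrank_of_free,
      Pi.natCast_apply, Module.finrank_matrix]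
    simp [sq]
  have hrn : r = n := by
    have : r ^ 2 = n ^ 2 := h2.symm.trans h1
    exact Nat.pow_left_injective (by norm_num) this
  subst hrn
  exact ⟨R', inferInstance, inferInstance, inferInstance, hsurj, ⟨φ⟩⟩

theorem flat_pi {ι : Type*} [Fintype ι] (M : ι → Type*) [∀ i, AddCommGroup (M i)]
    [∀ i, Module R (M i)] (h : ∀ i, Module.Flat R (M i)) : Module.Flat R (Π i, M i) := by
  classical
  haveI := h
  exact Module.Flat.of_linearEquiv (DFinsupp.linearEquivFunOnFintype (R := R) (M := M)).symm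

include hrk in
/-- An Azumaya algebra of constant rank `n²` is split by a faithfully flat extension. -/
theorem exists_splitting : ∃ (T : Type u) (_ : CommRing T) (_ : Algebra R T)
    (_ : Module.FaithfullyFlat R T), Nonempty (T ⊗[R] A ≃ₐ[T] Matrix (Fin n) (Fin n) T) := by
  classical
  have hspan : Ideal.span {f : R | Good R A n f} = ⊤ := by
    by_contra h
    obtain ⟨m, hm, hle⟩ := Ideal.exists_le_maximal _ h
    have := hm.isPrime
    obtain ⟨f, hf, hgood⟩ := exists_good R A n hrk m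
    exact hf (hle (Ideal.subset_span hgood))
  obtain ⟨G, hGsub, hGspan⟩ := (Ideal.span_eq_top_iff_finite _).mp hspan
  have hgood : ∀ i : {x // x ∈ G}, Good R A n (i : R) := fun i => hGsub i.2
  choose T' hT1 hT2 hflat hsurj hφ using hgood
  let T := Π i : {x // x ∈ G}, T' i
  haveI : Module.Flat R T := flat_pi R T' hflat
  have hff : Module.FaithfullyFlat R T := by
    apply Module.FaithfullyFlat.of_comap_surjective
    intro P
    obtain ⟨i, hi, hiP⟩ : ∃ i ∈ G, i ∉ P.asIdeal := by
      by_contra h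
      push Not at h
      have : Ideal.span (G : Set R) ≤ P.asIdeal := Ideal.span_le.mpr (fun x hx => h x hx)
      rw [hGspan] at this
      exact P.isPrime.ne_top (top_le_iff.mp this)
    obtain ⟨Q, hQ⟩ := hsurj ⟨i, hi⟩ P hiP
    let ev : T →+* T' ⟨i, hi⟩ := Pi.evalRingHom (fun j : {x // x ∈ G} => T' j) ⟨i, hi⟩
    refine ⟨⟨Q.asIdeal.comap ev, Ideal.comap_isPrime ev Q.asIdeal⟩, ?_⟩
    apply PrimeSpectrum.ext
    show (Q.asIdeal.comap ev).comap (algebraMap R T) = P.asIdeal
    rw [Ideal.comap_comap]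
    have : ev.comp (algebraMap R T) = algebraMap R (T' ⟨i, hi⟩) := by
      ext x
      rfl
    rw [this]
    exact congrArg PrimeSpectrum.asIdeal hQ
  refine ⟨T, inferInstance, inferInstance, hff, ?_⟩
  have φ : ∀ i : {x // x ∈ G}, T' i ⊗[R] A ≃ₐ[T' i] Matrix (Fin n) (Fin n) (T' i) :=
    fun i => (hφ i).some
  let E1 : T ⊗[R] A ≃ₐ[R] Π i : {x // x ∈ G}, A ⊗[R] T' i :=
    (Algebra.TensorProduct.comm R T A).trans
      (Algebra.TensorProduct.piRight R R A (fun i : {x // x ∈ G} => T' i))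
  let E2 : (Π i : {x // x ∈ G}, A ⊗[R] T' i) ≃ₐ[R]
      Π i : {x // x ∈ G}, Matrix (Fin n) (Fin n) (T' i) :=
    AlgEquiv.piCongrRight (fun i => (Algebra.TensorProduct.comm R A (T' i)).trans
      ((φ i).restrictScalars R))
  let E3 : (Π i : {x // x ∈ G}, Matrix (Fin n) (Fin n) (T' i)) ≃ₐ[R] Matrix (Fin n) (Fin n) T :=
    (Matrix.piAlgEquiv (n := Fin n) (β := fun i : {x // x ∈ G} => T' i) R).symm
  let Φ₀ : T ⊗[R] A ≃ₐ[R] Matrix (Fin n) (Fin n) T := (E1.trans E2).trans E3
  have hcomm : ∀ t : T, Φ₀ (algebraMap T (T ⊗[R] A) t) =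
      algebraMap T (Matrix (Fin n) (Fin n) T) t := by
    intro t
    have h1 : E1 (algebraMap T (T ⊗[R] A) t) = fun i => (1 : A) ⊗ₜ[R] t i := by
      rw [Algebra.TensorProduct.algebraMap_apply]
      rfl
    have h2 : E2 (fun i => (1 : A) ⊗ₜ[R] t i) =
        fun i => algebraMap (T' i) (Matrix (Fin n) (Fin n) (T' i)) (t i) := by
      funext i
      show (φ i) (Algebra.TensorProduct.comm R A (T' i) ((1 : A) ⊗ₜ[R] t i)) = _
      rw [Algebra.TensorProduct.comm_tmul]
      have : (t i) ⊗ₜ[R] (1 : A) = algebraMap (T' i) (T' i ⊗[R] A) (t i) := by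
        rw [Algebra.TensorProduct.algebraMap_apply]
        rfl
      rw [this, AlgEquiv.commutes]
    show E3 (E2 (E1 _)) = _
    rw [h1, h2]
    ext j k i
    show (algebraMap (T' i) (Matrix (Fin n) (Fin n) (T' i)) (t i)) j k = _
    rw [Matrix.algebraMap_matrix_apply, Matrix.algebraMap_matrix_apply]
    split_ifs <;> rfl
  exact ⟨AlgEquiv.ofRingEquiv (f := Φ₀.toRingEquiv) hcomm⟩

end Groth.Agent.H96.AzSplit
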