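import Groth.Agent.H96.QuadLift

/-!
# Descent of `W₂(k)`-liftings along a linearly split ring map

* `basic`, `exists_pmul`: for a flat lifting `(R', ι, π)` of `R` over `W₂(k)`, the additive
  injection `pm : R → R'`, `π x ↦ p x`, whose range is `ker π`.
* `frobLift_descend`: a Frobenius lift on `B'` induces one on `A'` when `A → B` has an `A`-linear
  retraction (transfer of the `p`-derivation `δ = (Φ - (·)^p)/p`).
* `lift_descend`: a flat lifting of `B` induces a flat lifting of `A`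
  (`A' = π_B⁻¹(A) / p·ker r`).
-/

set_option autoImplicit false
universe u v

namespace Groth.Agent.H96.W2Descent

variable (p : ℕ) [hp : Fact p.Prime] (k : Type u) [Field k] [CharP k p] [PerfectRing k p]

section Basic

variable (R R' : Type v) [CommRing R] [Algebra k R] [CommRing R']
  (ι : FrobAlg.W2 p k →+* R') (π : R' →+* R)

theorem basic (hR : FrobAlg.IsLift p k R R' ι π) :
    (p : R') * (p : R') = 0 ∧ (∀ b : R', π b = 0 ↔ ∃ c, c * (p : R') = b) ∧
      (∀ b : R', (p : R') * b = 0 → ∃ c, b = (p : R') * c) := by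
  have hkerk := QuadLift.ker_res p k
  have hpB : (p : R') = ι (p : FrobAlg.W2 p k) := (map_natCast ι p).symm
  have hpB2 : (p : R') * (p : R') = 0 := by
    rw [hpB, ← map_mul, Groth.Agent.H96.W2Flat.p_mul_p p k, map_zero]
  refine ⟨hpB2, ?_, ?_⟩
  · intro b
    rw [← RingHom.mem_ker, hR.ker_eq, hkerk, Ideal.map_span, Set.image_singleton, ← hpB,
      Ideal.mem_span_singleton']
  · intro b hb
    letI : Algebra (FrobAlg.W2 p k) R' := ι.toAlgebra
    have hfl : Module.Flat (FrobAlg.W2 p k) R' := hR.flat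
    obtain ⟨c, hc⟩ := (Groth.Agent.H96.W2Flat.w2_flat_iff p k R').1 hfl b (by
      rw [Nat.cast_smul_eq_nsmul, nsmul_eq_mul]; exact hb)
    exact ⟨c, by rw [hc, Nat.cast_smul_eq_nsmul, nsmul_eq_mul]⟩

theorem exists_pmul (hR : FrobAlg.IsLift p k R R' ι π) :
    ∃ pm : R →+ R', (∀ x, pm (π x) = (p : R') * x) ∧ Function.Injective pm ∧
      (∀ z, π z = 0 → ∃ a, pm a = z) := by
  obtain ⟨hpp, hker, hflat⟩ := basic p k R R' ι π hR
  have hwd : ∀ x y : R', π x = π y → (p : R') * x = p * y := by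
    intro x y hxy
    obtain ⟨c, hc⟩ := (hker (x - y)).1 (by rw [map_sub, hxy, sub_self])
    have h0 : (p : R') * (x - y) = 0 := by
      rw [← hc, mul_comm c, ← mul_assoc, hpp, zero_mul]
    linear_combination h0
  let f : R → R' := fun a => (p : R') * Function.surjInv hR.surj a
  have hf : ∀ x, f (π x) = (p : R') * x := fun x =>
    hwd _ _ (Function.surjInv_eq hR.surj (π x))
  have hadd : ∀ a b, f (a + b) = f a + f b := by
    intro a b
    obtain ⟨x, rfl⟩ := hR.surj a
    obtain ⟨y, rfl⟩ := hR.surj b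
    rw [← map_add, hf, hf, hf, mul_add]
  refine ⟨AddMonoidHom.mk' f hadd, hf, ?_, ?_⟩
  · rw [injective_iff_map_eq_zero]
    intro a ha
    change f a = 0 at ha
    obtain ⟨x, rfl⟩ := hR.surj a
    rw [hf] at ha
    obtain ⟨c, hc⟩ := hflat x ha
    exact (hker _).2 ⟨c, by rw [hc, mul_comm]⟩
  · intro z hz
    obtain ⟨c, hc⟩ := (hker z).1 hz
    exact ⟨π c, by change f (π c) = z; rw [hf, ← hc, mul_comm]⟩

end Basic

omit [PerfectRing k p] in
theorem res_sigma (a : FrobAlg.W2 p k) :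
    FrobAlg.res p k (FrobAlg.sigma p k a) = (FrobAlg.res p k a) ^ p := by
  rw [FrobAlg.res_apply, FrobAlg.res_apply, WittGrp.coeff_frob]

theorem frobLift_descend
    (A B : Type u) [CommRing A] [CommRing B] [Algebra k A] [Algebra k B] [Algebra A B]
    (r : B →ₗ[A] A) (hr : ∀ a : A, r (algebraMap A B a) = a)
    (A' B' : Type u) [CommRing A'] [CommRing B']
    (ιA : FrobAlg.W2 p k →+* A') (πA : A' →+* A) (hA : FrobAlg.IsLift p k A A' ιA πA)
    (ιB : FrobAlg.W2 p k →+* B') (πB : B' →+* B) (hB : FrobAlg.IsLift p k B B' ιB πB)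
    (φ' : A' →+* B') (hφι : φ'.comp ιA = ιB) (hφπ : πB.comp φ' = (algebraMap A B).comp πA)
    (ΦB : B' →+* B') (hΦB : FrobAlg.IsFrobLift p k B B' ιB πB ΦB) :
    ∃ ΦA : A' →+* A', FrobAlg.IsFrobLift p k A A' ιA πA ΦA := by
  classical
  obtain ⟨hppA, hkerA, hflatA⟩ := basic p k A A' ιA πA hA
  obtain ⟨hppB, hkerB, hflatB⟩ := basic p k B B' ιB πB hB
  obtain ⟨pmA, hpmA, hinjA, hexA⟩ := exists_pmul p k A A' ιA πA hA
  obtain ⟨pmB, hpmB, hinjB, hexB⟩ := exists_pmul p k B B' ιB πB hB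
  have hφπ' : ∀ x, πB (φ' x) = algebraMap A B (πA x) := fun x => by
    have := congrArg (fun f => f x) hφπ
    simpa only [RingHom.comp_apply] using this
  have hφι' : ∀ w, φ' (ιA w) = ιB w := fun w => by
    have := congrArg (fun f => f w) hφι
    simpa only [RingHom.comp_apply] using this
  have hpmA_mul : ∀ (z : A') (a : A), z * pmA a = pmA (πA z * a) := by
    intro z a
    obtain ⟨y, rfl⟩ := hA.surj a
    rw [← map_mul, hpmA, hpmA]; ring
  have hpmB_mul : ∀ (z : B') (b : B), z * pmB b = pmB (πB z * b) := by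
    intro z b
    obtain ⟨y, rfl⟩ := hB.surj b
    rw [← map_mul, hpmB, hpmB]; ring
  have hpmA_pow : ∀ (z : A') (a : A), pmA (πA z ^ p * a) = z ^ p * pmA a := fun z a => by
    rw [hpmA_mul, map_pow]
  have hpmA_sq : ∀ a b : A, pmA a * pmA b = 0 := by
    intro a b
    obtain ⟨x, rfl⟩ := hA.surj a
    obtain ⟨y, rfl⟩ := hA.surj b
    rw [hpmA, hpmA]; linear_combination (x * y) * hppA
  have hpmB_sq : ∀ a b : B, pmB a * pmB b = 0 := by
    intro a b
    obtain ⟨x, rfl⟩ := hB.surj a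
    obtain ⟨y, rfl⟩ := hB.surj b
    rw [hpmB, hpmB]; linear_combination (x * y) * hppB
  have hπpmA : ∀ a, πA (pmA a) = 0 := by
    intro a
    obtain ⟨x, rfl⟩ := hA.surj a
    rw [hpmA]; exact (hkerA _).2 ⟨x, mul_comm _ _⟩
  have hcompat : ∀ a : A, φ' (pmA a) = pmB (algebraMap A B a) := by
    intro a
    obtain ⟨x, rfl⟩ := hA.surj a
    rw [hpmA, map_mul, map_natCast, ← hφπ', hpmB]
  -- the `p`-derivation of `ΦB`
  have hδ : ∀ y : B', ∃ b : B, pmB b = ΦB y - y ^ p := fun y =>
    hexB _ (by rw [map_sub, hΦB.red, map_pow, sub_self])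
  choose δ hδ using hδ
  have hδadd : ∀ x y : A', ∃ t : A', (x + y) ^ p = x ^ p + y ^ p + (p : A') * t ∧
      δ (φ' (x + y)) = δ (φ' x) + δ (φ' y) - algebraMap A B (πA t) := by
    intro x y
    obtain ⟨t0, ht0⟩ := exists_add_pow_prime_eq hp.out x y
    refine ⟨x * y * t0, by rw [ht0]; ring, ?_⟩
    apply hinjB
    have h2 := congrArg φ' ht0
    simp only [map_add, map_mul, map_pow, map_natCast] at h2
    have h3 : pmB (algebraMap A B (πA (x * y * t0))) = (p : B') * (φ' x * φ' y * φ' t0) := by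
      rw [← hφπ', hpmB, map_mul, map_mul]
    rw [map_sub, map_add pmB, h3, hδ, hδ, hδ, map_add φ', map_add ΦB]
    linear_combination (-1 : B') * h2
  have hδmul : ∀ x y : A', δ (φ' (x * y)) =
      algebraMap A B (πA x ^ p) * δ (φ' y) + algebraMap A B (πA y ^ p) * δ (φ' x) := by
    intro x y
    apply hinjB
    have hX := hδ (φ' x)
    have hY := hδ (φ' y)
    have e1 : pmB (algebraMap A B (πA x ^ p) * δ (φ' y)) = φ' x ^ p * pmB (δ (φ' y)) := by
      rw [hpmB_mul]; simp only [map_pow, hφπ']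
    have e2 : pmB (algebraMap A B (πA y ^ p) * δ (φ' x)) = φ' y ^ p * pmB (δ (φ' x)) := by
      rw [hpmB_mul]; simp only [map_pow, hφπ']
    have hsq := hpmB_sq (δ (φ' x)) (δ (φ' y))
    rw [map_add pmB, e1, e2, hδ, map_mul φ', map_mul ΦB, hX, hY]
    rw [hX, hY] at hsq
    linear_combination hsq
  have hδ1 : δ 1 = 0 := by
    apply hinjB; rw [hδ, map_one, one_pow, sub_self, map_zero]
  have hδ0 : δ 0 = 0 := by
    apply hinjB; rw [hδ, map_zero, zero_pow hp.out.ne_zero, sub_self, map_zero]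
  let F : A' → A' := fun x => x ^ p + pmA (r (δ (φ' x)))
  have hF1 : F 1 = 1 := by
    show (1 : A') ^ p + pmA (r (δ (φ' 1))) = 1
    rw [map_one, hδ1, map_zero, map_zero, one_pow, add_zero]
  have hF0 : F 0 = 0 := by
    show (0 : A') ^ p + pmA (r (δ (φ' 0))) = 0
    rw [map_zero φ', hδ0, map_zero, map_zero, zero_pow hp.out.ne_zero, add_zero]
  have hFadd : ∀ x y, F (x + y) = F x + F y := by
    intro x y
    obtain ⟨t, ht, hδt⟩ := hδadd x y
    show (x + y) ^ p + pmA (r (δ (φ' (x + y)))) =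
      (x ^ p + pmA (r (δ (φ' x)))) + (y ^ p + pmA (r (δ (φ' y))))
    rw [hδt, map_sub, map_add, hr, map_sub, map_add, hpmA, ht]
    ring
  have hFmul : ∀ x y, F (x * y) = F x * F y := by
    intro x y
    show (x * y) ^ p + pmA (r (δ (φ' (x * y)))) =
      (x ^ p + pmA (r (δ (φ' x)))) * (y ^ p + pmA (r (δ (φ' y))))
    have e1 : r (algebraMap A B (πA x ^ p) * δ (φ' y)) = πA x ^ p * r (δ (φ' y)) := by
      rw [← Algebra.smul_def, map_smul, smul_eq_mul]
    have e2 : r (algebraMap A B (πA y ^ p) * δ (φ' x)) = πA y ^ p * r (δ (φ' x)) := by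
      rw [← Algebra.smul_def, map_smul, smul_eq_mul]
    rw [hδmul, map_add, e1, e2, map_add, hpmA_pow, hpmA_pow]
    have hsq := hpmA_sq (r (δ (φ' x))) (r (δ (φ' y)))
    linear_combination (-1 : A') * hsq
  let ΦA : A' →+* A' :=
    { toFun := F
      map_one' := hF1
      map_mul' := hFmul
      map_zero' := hF0
      map_add' := hFadd }
  have hc : ∀ w', πA (ιA w') = algebraMap k A (FrobAlg.res p k w') := fun w' => by
    have := congrArg (fun f => f w') hA.comm
    simpa only [RingHom.comp_apply] using this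
  refine ⟨ΦA, { toIsLift := hA, semi := ?_, red := ?_ }⟩
  · refine RingHom.ext fun w => ?_
    simp only [RingHom.comp_apply]
    show (ιA w) ^ p + pmA (r (δ (φ' (ιA w)))) = ιA (FrobAlg.sigma p k w)
    have he : πA (ιA (FrobAlg.sigma p k w) - ιA w ^ p) = 0 := by
      rw [map_sub, map_pow, hc, hc, res_sigma, map_pow, sub_self]
    obtain ⟨a, ha⟩ := hexA _ he
    have h1 : δ (φ' (ιA w)) = algebraMap A B a := by
      apply hinjB
      rw [hδ, ← hcompat, ha, map_sub, map_pow, hφι', hφι']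
      have := congrArg (fun f => f w) hΦB.semi
      simp only [RingHom.comp_apply] at this
      rw [this]
    rw [h1, hr, ha]; ring
  · intro x
    show πA (x ^ p + pmA (r (δ (φ' x)))) = πA x ^ p
    rw [map_add, hπpmA, add_zero, map_pow]

theorem lift_descend
    (A B : Type u) [CommRing A] [CommRing B] [Algebra k A] [Algebra k B] [Algebra A B]
    [IsScalarTower k A B]
    (r : B →ₗ[A] A) (hr : ∀ a : A, r (algebraMap A B a) = a)
    (B' : Type u) [CommRing B'] (ιB : FrobAlg.W2 p k →+* B') (πB : B' →+* B)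
    (hB : FrobAlg.IsLift p k B B' ιB πB) : FrobAlg.IsW2Liftable p k A := by
  classical
  obtain ⟨hppB, hkerB, hflatB⟩ := basic p k B B' ιB πB hB
  obtain ⟨pmB, hpmB, hinjB, hexB⟩ := exists_pmul p k B B' ιB πB hB
  have hαinj : Function.Injective (algebraMap A B) := fun a a' h => by
    rw [← hr a, ← hr a', h]
  have hpmB_mul : ∀ (z : B') (b : B), z * pmB b = pmB (πB z * b) := by
    intro z b
    obtain ⟨y, rfl⟩ := hB.surj b
    rw [← map_mul, hpmB, hpmB]; ring
  have hπpmB : ∀ b, πB (pmB b) = 0 := by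
    intro b
    obtain ⟨x, rfl⟩ := hB.surj b
    rw [hpmB]; exact (hkerB _).2 ⟨x, mul_comm _ _⟩
  have hpA : (p : A) = 0 := by
    rw [← map_natCast (algebraMap k A) p, CharP.cast_eq_zero k p, map_zero]
  let S : Subring B' := (algebraMap A B).range.comap πB
  have hS : ∀ x : S, algebraMap A B (r (πB x.1)) = πB x.1 := by
    intro x
    have hx : πB x.1 ∈ (algebraMap A B).range := x.2
    obtain ⟨a, ha⟩ := hx
    rw [← ha, hr]
  let I : Ideal S :=
    { carrier := {x | ∃ b : B, r b = 0 ∧ pmB b = x.1}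
      add_mem' := by
        rintro x y ⟨b, hb, hbx⟩ ⟨c, hc, hcy⟩
        exact ⟨b + c, by rw [map_add, hb, hc, add_zero], by rw [map_add, hbx, hcy]; rfl⟩
      zero_mem' := ⟨0, map_zero r, by rw [map_zero]; rfl⟩
      smul_mem' := by
        rintro s x ⟨b, hb, hbx⟩
        refine ⟨πB s.1 * b, ?_, ?_⟩
        · rw [← hS s, ← Algebra.smul_def, map_smul, hb, smul_zero]
        · rw [← hpmB_mul, hbx]; rfl }
  have hI : ∀ x : S, x ∈ I ↔ ∃ b : B, r b = 0 ∧ pmB b = x.1 := fun x => Iff.rfl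
  have hιS : ∀ w, ιB w ∈ S := by
    intro w
    show πB (ιB w) ∈ (algebraMap A B).range
    refine ⟨algebraMap k A (FrobAlg.res p k w), ?_⟩
    have := congrArg (fun f => f w) hB.comm
    simp only [RingHom.comp_apply] at this
    rw [this, ← IsScalarTower.algebraMap_apply]
  let ιS : FrobAlg.W2 p k →+* S := ιB.codRestrict S hιS
  let πS : S →+* A :=
    { toFun := fun x => r (πB x.1)
      map_one' := by
        show r (πB 1) = 1
        rw [map_one, ← map_one (algebraMap A B), hr]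
      map_mul' := by
        intro x y
        apply hαinj
        rw [map_mul (algebraMap A B), hS x, hS y, hS (x * y)]
        show πB (x.1 * y.1) = _
        rw [map_mul]
      map_zero' := by
        show r (πB 0) = 0
        rw [map_zero, map_zero]
      map_add' := by
        intro x y
        show r (πB (x.1 + y.1)) = _
        rw [map_add, map_add] }
  have hπS : ∀ x : S, πS x = r (πB x.1) := fun x => rfl
  have hπSI : ∀ x : S, x ∈ I → πS x = 0 := by
    intro x hx
    obtain ⟨b, _, hbx⟩ := (hI x).1 hx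
    rw [hπS, ← hbx, hπpmB, map_zero]
  let ιA' : FrobAlg.W2 p k →+* S ⧸ I := (Ideal.Quotient.mk I).comp ιS
  let πA' : S ⧸ I →+* A := Ideal.Quotient.lift I πS hπSI
  have hπA'mk : ∀ x : S, πA' (Ideal.Quotient.mk I x) = r (πB x.1) := fun x => by
    show Ideal.Quotient.lift I πS hπSI (Ideal.Quotient.mk I x) = _
    rw [Ideal.Quotient.lift_mk, hπS]
  -- key: elements of `S` killed by `πB` are multiples of `p` modulo `I`
  have hkey : ∀ x : S, πB x.1 = 0 →
      ∃ c' : S, Ideal.Quotient.mk I x = (p : S ⧸ I) * Ideal.Quotient.mk I c' := by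
    intro x hx
    obtain ⟨c, hc⟩ := (hkerB x.1).1 hx
    obtain ⟨c0, hc0⟩ := hB.surj (algebraMap A B (r (πB c)))
    let c' : S := ⟨c0, ⟨r (πB c), hc0.symm⟩⟩
    refine ⟨c', ?_⟩
    rw [← map_natCast (Ideal.Quotient.mk I) p, ← map_mul, Ideal.Quotient.eq, hI]
    refine ⟨πB c - algebraMap A B (r (πB c)), ?_, ?_⟩
    · rw [map_sub, hr, sub_self]
    · show pmB (πB c - algebraMap A B (r (πB c))) = x.1 - (p : B') * c0
      rw [map_sub, hpmB, ← hc0, hpmB, ← hc]
      ring
  have hkey2 : ∀ x : S, r (πB x.1) = 0 → πB x.1 = 0 := by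
    intro x hx
    rw [← hS x, hx, map_zero]
  refine ⟨S ⧸ I, inferInstance, ιA', πA', ?_⟩
  refine { flat := ?_, surj := ?_, ker_eq := ?_, comm := ?_ }
  · letI : Algebra (FrobAlg.W2 p k) (S ⧸ I) := ιA'.toAlgebra
    show Module.Flat (FrobAlg.W2 p k) (S ⧸ I)
    rw [Groth.Agent.H96.W2Flat.w2_flat_iff]
    intro m hm
    rw [Nat.cast_smul_eq_nsmul, nsmul_eq_mul] at hm
    obtain ⟨x, rfl⟩ := Ideal.Quotient.mk_surjective m
    rw [← map_natCast (Ideal.Quotient.mk I) p, ← map_mul, Ideal.Quotient.eq_zero_iff_mem,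
      hI] at hm
    obtain ⟨b, hb, hbx⟩ := hm
    have h1 : pmB b = pmB (πB x.1) := by
      rw [hbx, hpmB]; rfl
    have h2 : r (πB x.1) = 0 := by rw [← hinjB h1]; exact hb
    obtain ⟨c', hc'⟩ := hkey x (hkey2 x h2)
    exact ⟨Ideal.Quotient.mk I c', by rw [hc', Nat.cast_smul_eq_nsmul, nsmul_eq_mul]⟩
  · intro a
    obtain ⟨b', hb'⟩ := hB.surj (algebraMap A B a)
    refine ⟨Ideal.Quotient.mk I ⟨b', ⟨a, hb'.symm⟩⟩, ?_⟩
    rw [hπA'mk]
    show r (πB b') = a
    rw [hb', hr]
  · rw [QuadLift.ker_res, Ideal.map_span, Set.image_singleton, map_natCast]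
    ext m
    rw [RingHom.mem_ker, Ideal.mem_span_singleton']
    constructor
    · intro hm
      obtain ⟨x, rfl⟩ := Ideal.Quotient.mk_surjective m
      rw [hπA'mk] at hm
      obtain ⟨c', hc'⟩ := hkey x (hkey2 x hm)
      exact ⟨Ideal.Quotient.mk I c', by rw [hc', mul_comm]⟩
    · rintro ⟨c, rfl⟩
      rw [map_mul, map_natCast, hpA, mul_zero]
  · refine RingHom.ext fun w => ?_
    simp only [RingHom.comp_apply]
    show πA' (Ideal.Quotient.mk I (ιS w)) = _
    rw [hπA'mk]
    show r (πB (ιB w)) = _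
    have := congrArg (fun f => f w) hB.comm
    simp only [RingHom.comp_apply] at this
    rw [this, IsScalarTower.algebraMap_apply k A B, hr]

end Groth.Agent.H96.W2Descent
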