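import Groth.Agent.H96.PolyFrobLift
import Groth.Agent.H96.W2Descent
import Mathlib.RingTheory.Regular.RegularSequence

/-!
# Frobenius liftability of complete intersections: the criterion by Frobenius residues

* `lift_torsion`: lifting a weakly regular sequence along a surjection `ρ : R' → R` with
  kernel `(π)`: `π g ∈ (rs') → g ∈ (π) + (rs')`.
* `flat_quotient`: `W₂(k)[x]/(f')` is flat over `W₂(k)` when the reductions form a regular sequence.
* `ci_iff` (= S13139).
-/

set_option autoImplicit false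
universe u

namespace Groth.Agent.H96.CIFrob

open MvPolynomial

theorem mem_smul_top_iff {R : Type*} [CommRing R] (I : Ideal R) (x : R) :
    x ∈ (I • ⊤ : Submodule R R) ↔ x ∈ I := by
  rw [show (I • ⊤ : Submodule R R) = I from Ideal.mul_top I]

theorem lift_torsion {R' R : Type*} [CommRing R'] [CommRing R] (ρ : R' →+* R)
    (hρ : Function.Surjective ρ) (π : R') (hker : RingHom.ker ρ = Ideal.span {π})
    (htors : ∀ x : R', π * x = 0 → ∃ c, x = π * c)
    (rs' : List R') (hreg : RingTheory.Sequence.IsWeaklyRegular R (rs'.map ρ)) :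
    ∀ g : R', π * g ∈ Ideal.ofList rs' → ∃ c, g - π * c ∈ Ideal.ofList rs' := by
  induction rs' using List.reverseRecOn with
  | nil =>
    intro g hg
    rw [Ideal.ofList_nil, Ideal.mem_bot] at hg
    obtain ⟨c, hc⟩ := htors g hg
    exact ⟨c, by rw [hc, sub_self]; exact Ideal.zero_mem _⟩
  | append_singleton l t ih =>
    rw [List.map_append, List.map_singleton, RingTheory.Sequence.isWeaklyRegular_append_iff,
      RingTheory.Sequence.isWeaklyRegular_singleton_iff] at hreg
    obtain ⟨hl, ht⟩ := hreg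
    intro g hg
    rw [Ideal.ofList_append, Ideal.ofList_singleton, Submodule.mem_sup] at hg
    obtain ⟨u, hu, w, hw, huw⟩ := hg
    obtain ⟨c, rfl⟩ := Ideal.mem_span_singleton'.1 hw
    have hπ : ρ π = 0 := by
      rw [← RingHom.mem_ker, hker]; exact Ideal.mem_span_singleton_self π
    have hρeq : ρ u + ρ c * ρ t = 0 := by
      have h0 := congrArg ρ huw
      rw [map_add, map_mul, map_mul, hπ, zero_mul] at h0
      exact h0
    have hρu : ρ u ∈ Ideal.ofList (l.map ρ) := by
      rw [← Ideal.map_ofList]; exact Ideal.mem_map_of_mem ρ hu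
    have h1 : ρ c ∈ Ideal.ofList (l.map ρ) := by
      rw [← mem_smul_top_iff, ← Submodule.Quotient.mk_eq_zero]
      have hinj : Function.Injective
          (fun x : R ⧸ (Ideal.ofList (l.map ρ) • ⊤ : Submodule R R) => ρ t • x) := ht
      apply hinj
      show ρ t • (Submodule.Quotient.mk (ρ c) :
        R ⧸ (Ideal.ofList (l.map ρ) • ⊤ : Submodule R R)) = ρ t • 0
      rw [smul_zero, ← Submodule.Quotient.mk_smul, Submodule.Quotient.mk_eq_zero,
        mem_smul_top_iff, smul_eq_mul]
      have h5 : ρ t * ρ c = -(ρ u) := by linear_combination hρeq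
      rw [h5]
      exact Ideal.neg_mem_iff _ |>.2 hρu
    obtain ⟨v, hv, hvc⟩ := (Ideal.mem_map_iff_of_surjective ρ hρ).1
      (by rw [Ideal.map_ofList]; exact h1)
    have h2 : c - v ∈ Ideal.span {π} := by
      rw [← hker, RingHom.mem_ker, map_sub, hvc, sub_self]
    obtain ⟨c', hc'⟩ := Ideal.mem_span_singleton'.1 h2
    have h3 : π * (g - c' * t) ∈ Ideal.ofList l := by
      have h4 : π * (g - c' * t) = u + v * t := by
        linear_combination (-1 : R') * huw - t * hc'
      rw [h4]
      exact Ideal.add_mem _ hu (Ideal.mul_mem_right _ _ hv)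
    obtain ⟨c'', hc''⟩ := ih hl _ h3
    refine ⟨c'', ?_⟩
    rw [Ideal.ofList_append, Ideal.ofList_singleton]
    have h6 : g - π * c'' = (g - c' * t - π * c'') + c' * t := by ring
    rw [h6]
    exact Ideal.add_mem _ (Ideal.mem_sup_left hc'')
      (Ideal.mem_sup_right (Ideal.mul_mem_left _ _ (Ideal.mem_span_singleton_self t)))

variable (p : ℕ) [hp : Fact p.Prime] (k : Type u) [Field k] [CharP k p] [PerfectRing k p]
variable {n m : ℕ}

local notation "R'" => MvPolynomial (Fin n) (FrobAlg.W2 p k)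
local notation "Rk" => MvPolynomial (Fin n) k

theorem torsion_poly (x : R') (hx : (p : R') * x = 0) : ∃ c, x = (p : R') * c := by
  have hfl : Module.Flat (FrobAlg.W2 p k) R' := inferInstance
  obtain ⟨c, hc⟩ := (Groth.Agent.H96.W2Flat.w2_flat_iff p k R').1 hfl x (by
    rw [Nat.cast_smul_eq_nsmul, nsmul_eq_mul]; exact hx)
  exact ⟨c, by rw [hc, Nat.cast_smul_eq_nsmul, nsmul_eq_mul]⟩

theorem ker_map_res : RingHom.ker (map (FrobAlg.res p k) : R' →+* Rk) =
    Ideal.span {(p : R')} := by
  rw [MvPolynomial.ker_map, QuadLift.ker_res, Ideal.map_span, Set.image_singleton, map_natCast]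

theorem ofList_ofFn {S : Type*} [CommRing S] (v : Fin m → S) :
    Ideal.ofList (List.ofFn v) = Ideal.span (Set.range v) := by
  show Ideal.span {r | r ∈ List.ofFn v} = Ideal.span (Set.range v)
  congr 1
  ext x
  exact List.mem_ofFn

theorem flat_quotient (f' : Fin m → R')
    (hreg : RingTheory.Sequence.IsWeaklyRegular Rk
      (List.ofFn fun i => map (FrobAlg.res p k) (f' i))) :
    ((Ideal.Quotient.mk (Ideal.span (Set.range f'))).comp
      (C : FrobAlg.W2 p k →+* R')).Flat := by
  have key := lift_torsion (map (FrobAlg.res p k) : R' →+* Rk)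
    (map_surjective _ (QuadLift.res_surj p k)) (p : R') (ker_map_res p k) (torsion_poly p k)
    (List.ofFn f') (by rw [List.map_ofFn]; exact hreg)
  rw [ofList_ofFn] at key
  suffices hMF : Module.Flat (FrobAlg.W2 p k) (R' ⧸ Ideal.span (Set.range f')) by
    have h1 : (algebraMap (FrobAlg.W2 p k) (R' ⧸ Ideal.span (Set.range f'))).Flat :=
      RingHom.flat_algebraMap_iff.mpr hMF
    exact h1
  rw [Groth.Agent.H96.W2Flat.w2_flat_iff]
  intro x hx
  rw [Nat.cast_smul_eq_nsmul, nsmul_eq_mul] at hx
  obtain ⟨g, rfl⟩ := Ideal.Quotient.mk_surjective x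
  rw [← map_natCast (Ideal.Quotient.mk (Ideal.span (Set.range f'))) p, ← map_mul,
    Ideal.Quotient.eq_zero_iff_mem] at hx
  obtain ⟨c, hc⟩ := key g hx
  refine ⟨Ideal.Quotient.mk _ c, ?_⟩
  rw [Nat.cast_smul_eq_nsmul, nsmul_eq_mul,
    ← map_natCast (Ideal.Quotient.mk (Ideal.span (Set.range f'))) p, ← map_mul, Ideal.Quotient.eq]
  exact hc

theorem map_span_range (f : Fin m → Rk) (f' : Fin m → R')
    (hf' : ∀ i, map (FrobAlg.res p k) (f' i) = f i) :
    (Ideal.span (Set.range f')).map (map (FrobAlg.res p k)) = Ideal.span (Set.range f) := by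
  rw [Ideal.map_span, ← Set.range_comp]
  congr 2
  funext i
  exact hf' i

theorem ci_iff (f : Fin m → Rk)
    (hreg : RingTheory.Sequence.IsRegular Rk (List.ofFn f)) :
    FrobAlg.IsFLiftable p k (Rk ⧸ Ideal.span (Set.range f)) ↔
    ∃ (f' : Fin m → R') (h : Fin n → R'),
      (∀ i, map (FrobAlg.res p k) (f' i) = f i) ∧
      ∀ i, FrobAlg.polyFrob p k (Fin n) (f' i) - f' i ^ p
        - (p : R') * ∑ j, pderiv j (f' i) ^ p * h j
        ∈ Ideal.span {(p : R')} * Ideal.span (Set.range f') := by
  classical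
  constructor
  · rintro ⟨B, instB, ι, π, Φ, hB⟩
    obtain ⟨ψ, hψC, hπψ, hsurj, hliftJ, hkerJ, hdiv⟩ :=
      QuadLift.exists_pres p k (Ideal.span (Set.range f)) B ι π hB.toIsLift
    obtain ⟨hppB, hkerB, hflatB⟩ := W2Descent.basic p k _ B ι π hB.toIsLift
    have hfJ : ∀ i, f i ∈ Ideal.span (Set.range f) := fun i => Ideal.subset_span ⟨i, rfl⟩
    choose f' hf'0 hf' using fun i => hliftJ (f i) (hfJ i)
    have hψp : ψ (p : R') = (p : B) := map_natCast ψ p
    have pp := QuadLift.pp_zero p k (σ := Fin n)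
    have hstep : ∀ g, ψ g = 0 → ∃ a : Fin m → R', ∃ z, ψ z = 0 ∧
        g = ∑ i, a i * f' i + (p : R') * z := by
      intro g hg
      obtain ⟨a0, ha0⟩ := (Ideal.mem_span_range_iff_exists_fun).1 (hkerJ g hg)
      choose a ha using fun i => map_surjective _ (QuadLift.res_surj p k) (a0 i)
      have h2 : map (FrobAlg.res p k) (g - ∑ i, a i * f' i) = 0 := by
        rw [map_sub, map_sum, ← ha0, sub_eq_zero]
        exact Finset.sum_congr rfl fun i _ => by rw [map_mul, ha, hf']
      obtain ⟨c, hc⟩ := (QuadLift.map_res_eq_zero_iff p k _).1 h2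
      have h3 : ψ ((p : R') * c) = 0 := by
        rw [mul_comm, hc, map_sub, hg, map_sum, zero_sub, neg_eq_zero]
        exact Finset.sum_eq_zero fun i _ => by rw [map_mul, hf'0, mul_zero]
      obtain ⟨z, hz0, hz⟩ := hdiv c h3
      exact ⟨a, z, hz0, by rw [← hz, mul_comm (p : R'), hc]; ring⟩
    have hkerψ : ∀ g, ψ g = 0 ↔ g ∈ Ideal.span (Set.range f') := by
      intro g
      constructor
      · intro hg
        obtain ⟨a, z, hz0, hgz⟩ := hstep g hg
        obtain ⟨b, z', _, hzz⟩ := hstep z hz0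
        have e1 : (p : R') * (∑ i, b i * f' i + (p : R') * z') =
            ∑ i, ((p : R') * b i) * f' i := by
          rw [mul_add, ← mul_assoc, pp, zero_mul, add_zero, Finset.mul_sum]
          exact Finset.sum_congr rfl fun i _ => by ring
        have e2 : g = ∑ i, (a i + (p : R') * b i) * f' i := by
          rw [hgz, hzz, e1, ← Finset.sum_add_distrib]
          exact Finset.sum_congr rfl fun i _ => by ring
        rw [e2]
        exact Ideal.sum_mem _ fun i _ => Ideal.mul_mem_left _ _ (Ideal.subset_span ⟨i, rfl⟩)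
      · intro hg
        have hle : Ideal.span (Set.range f') ≤ RingHom.ker ψ := by
          rw [Ideal.span_le]; rintro _ ⟨i, rfl⟩; exact hf'0 i
        exact hle hg
    -- the isomorphism `R'/J' ≃ B`
    let ψl : R' ⧸ Ideal.span (Set.range f') →+* B :=
      Ideal.Quotient.lift _ ψ (fun g hg => (hkerψ g).2 hg)
    have hψl : ∀ g, ψl (Ideal.Quotient.mk _ g) = ψ g := fun g => Ideal.Quotient.lift_mk _ _ _
    have hψlbij : Function.Bijective ψl := by
      constructor
      · rw [injective_iff_map_eq_zero]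
        intro x hx
        obtain ⟨g, rfl⟩ := Ideal.Quotient.mk_surjective x
        rw [hψl] at hx
        exact Ideal.Quotient.eq_zero_iff_mem.2 ((hkerψ g).1 hx)
      · intro b
        obtain ⟨g, hg⟩ := hsurj b
        exact ⟨Ideal.Quotient.mk _ g, by rw [hψl, hg]⟩
    let e : R' ⧸ Ideal.span (Set.range f') ≃+* B := RingEquiv.ofBijective ψl hψlbij
    have he : ∀ g, e (Ideal.Quotient.mk _ g) = ψ g := hψl
    have hes : ∀ g, e.symm (ψ g) = Ideal.Quotient.mk _ g := fun g => by
      rw [RingEquiv.symm_apply_eq, he]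
    let Φq : R' ⧸ Ideal.span (Set.range f') →+* R' ⧸ Ideal.span (Set.range f') :=
      e.symm.toRingHom.comp (Φ.comp e.toRingHom)
    have hΦq : ∀ g, Φq (Ideal.Quotient.mk _ g) = e.symm (Φ (ψ g)) := fun g => by
      show e.symm (Φ (e (Ideal.Quotient.mk _ g))) = _
      rw [he]
    have hflat' : ((Ideal.Quotient.mk (Ideal.span (Set.range f'))).comp
        (C : FrobAlg.W2 p k →+* R')).Flat := by
      suffices hMF : Module.Flat (FrobAlg.W2 p k) (R' ⧸ Ideal.span (Set.range f')) by
        have h1 : (algebraMap (FrobAlg.W2 p k) (R' ⧸ Ideal.span (Set.range f'))).Flat :=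
          RingHom.flat_algebraMap_iff.mpr hMF
        exact h1
      rw [Groth.Agent.H96.W2Flat.w2_flat_iff]
      intro x hx
      rw [Nat.cast_smul_eq_nsmul, nsmul_eq_mul] at hx
      obtain ⟨g, rfl⟩ := Ideal.Quotient.mk_surjective x
      rw [← map_natCast (Ideal.Quotient.mk (Ideal.span (Set.range f'))) p, ← map_mul,
        Ideal.Quotient.eq_zero_iff_mem, ← hkerψ, map_mul, hψp] at hx
      obtain ⟨b, hb⟩ := hflatB _ hx
      obtain ⟨c, rfl⟩ := hsurj b
      refine ⟨Ideal.Quotient.mk _ c, ?_⟩
      rw [Nat.cast_smul_eq_nsmul, nsmul_eq_mul,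
        ← map_natCast (Ideal.Quotient.mk (Ideal.span (Set.range f'))) p, ← map_mul,
        Ideal.Quotient.eq, ← hkerψ, map_sub, map_mul, hψp, hb, sub_self]
    have hsemi' : Φq.comp ((Ideal.Quotient.mk (Ideal.span (Set.range f'))).comp
        (C : FrobAlg.W2 p k →+* R')) =
        ((Ideal.Quotient.mk (Ideal.span (Set.range f'))).comp
          (C : FrobAlg.W2 p k →+* R')).comp (FrobAlg.sigma p k) := by
      refine RingHom.ext fun a => ?_
      simp only [RingHom.comp_apply]
      rw [hΦq, hψC]
      have h1 := congrArg (fun F => F a) hB.semi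
      simp only [RingHom.comp_apply] at h1
      rw [h1, ← hψC, hes]
    have hJmap := map_span_range p k f f' hf'
    have hred' : ∀ b, Ideal.quotientMap ((Ideal.span (Set.range f')).map (map (FrobAlg.res p k)))
        (map (FrobAlg.res p k)) Ideal.le_comap_map (Φq b) =
        (Ideal.quotientMap ((Ideal.span (Set.range f')).map (map (FrobAlg.res p k)))
          (map (FrobAlg.res p k)) Ideal.le_comap_map b) ^ p := by
      intro b
      obtain ⟨g, rfl⟩ := Ideal.Quotient.mk_surjective b
      obtain ⟨g₂, hg₂⟩ := hsurj (Φ (ψ g))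
      rw [hΦq, ← hg₂, hes, Ideal.quotientMap_mk, Ideal.quotientMap_mk, ← map_pow,
        Ideal.Quotient.eq, hJmap, ← Ideal.Quotient.eq, map_pow, ← hπψ, ← hπψ, hg₂, hB.red]
    obtain ⟨h, hh⟩ := (PolyFrobLift.main p k f' hflat').1 ⟨Φq, hsemi', hred'⟩
    exact ⟨f', h, hf', hh⟩
  · rintro ⟨f', h, hf', hh⟩
    have hregw : RingTheory.Sequence.IsWeaklyRegular Rk
        (List.ofFn fun i => map (FrobAlg.res p k) (f' i)) := by
      have : (fun i => map (FrobAlg.res p k) (f' i)) = f := funext hf'
      rw [this]; exact hreg.toIsWeaklyRegular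
    have hflat' := flat_quotient p k f' hregw
    obtain ⟨Φ, hsemi, hred⟩ := (PolyFrobLift.main p k f' hflat').2 ⟨h, hh⟩
    have hJmap := map_span_range p k f f' hf'
    have hle : Ideal.span (Set.range f') ≤
        (Ideal.span (Set.range f)).comap (map (FrobAlg.res p k)) := by
      rw [← Ideal.map_le_iff_le_comap, hJmap]
    let π : R' ⧸ Ideal.span (Set.range f') →+* Rk ⧸ Ideal.span (Set.range f) :=
      Ideal.quotientMap _ (map (FrobAlg.res p k)) hle
    have hπ : ∀ g, π (Ideal.Quotient.mk _ g) = Ideal.Quotient.mk _ (map (FrobAlg.res p k) g) :=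
      fun g => Ideal.quotientMap_mk
    have hpA : (p : Rk ⧸ Ideal.span (Set.range f)) = 0 := by
      rw [← map_natCast (Ideal.Quotient.mk (Ideal.span (Set.range f))) p,
        CharP.cast_eq_zero Rk p, map_zero]
    refine ⟨R' ⧸ Ideal.span (Set.range f'), inferInstance,
      (Ideal.Quotient.mk (Ideal.span (Set.range f'))).comp (C : FrobAlg.W2 p k →+* R'), π, Φ,
      ⟨⟨hflat', ?_, ?_, ?_⟩, hsemi, ?_⟩⟩
    · exact Ideal.quotientMap_surjective (map_surjective _ (QuadLift.res_surj p k))
    · rw [QuadLift.ker_res, Ideal.map_span, Set.image_singleton, map_natCast]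
      ext x
      rw [RingHom.mem_ker, Ideal.mem_span_singleton']
      constructor
      · intro hx
        obtain ⟨g, rfl⟩ := Ideal.Quotient.mk_surjective x
        rw [hπ, Ideal.Quotient.eq_zero_iff_mem, ← hJmap,
          Ideal.mem_map_iff_of_surjective _ (map_surjective _ (QuadLift.res_surj p k))] at hx
        obtain ⟨g', hg'J, hg'⟩ := hx
        obtain ⟨c, hc⟩ := (QuadLift.map_res_eq_zero_iff p k (g - g')).1
          (by rw [map_sub, hg', sub_self])
        refine ⟨Ideal.Quotient.mk _ c, ?_⟩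
        rw [← map_natCast (Ideal.Quotient.mk (Ideal.span (Set.range f'))) p, ← map_mul, hc,
          Ideal.Quotient.eq]
        have h7 : g - g' - g = -g' := by ring
        rw [h7]
        exact Ideal.neg_mem_iff _ |>.2 hg'J
      · rintro ⟨c, rfl⟩
        rw [map_mul, map_natCast, hpA, mul_zero]
    · refine RingHom.ext fun a => ?_
      simp only [RingHom.comp_apply]
      rw [hπ, map_C]
      rfl
    · intro b
      obtain ⟨g, rfl⟩ := Ideal.Quotient.mk_surjective b
      obtain ⟨g₂, hg₂⟩ := Ideal.Quotient.mk_surjective (Φ (Ideal.Quotient.mk _ g))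
      have h8 := hred (Ideal.Quotient.mk _ g)
      rw [← hg₂, Ideal.quotientMap_mk, Ideal.quotientMap_mk, ← map_pow, Ideal.Quotient.eq,
        hJmap] at h8
      rw [← hg₂, hπ, hπ, ← map_pow, Ideal.Quotient.eq]
      exact h8

end Groth.Agent.H96.CIFrob
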