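import Mathlib

/-!
# The centre of a finite algebra commutes with flat base change (surjectivity direction)

If `B` is an `A`-algebra, finite as an `A`-module, and `A'` is a flat `A`-algebra, then every
element of `A' ⊗[A] B` commuting with all `1 ⊗ b` comes from `A' ⊗[A] Z(B)`.
-/

set_option autoImplicit false

namespace Groth.Agent.H96.CenterBC

open TensorProduct

variable {A : Type*} [CommRing A] {B : Type*} [Ring B] [Algebra A B]

/-- commutator with `g`: `x ↦ x * g - g * x`. -/
noncomputable def comm (g : B) : B →ₗ[A] B := LinearMap.mulRight A g - LinearMap.mulLeft A g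

@[simp] theorem comm_apply (g x : B) : comm (A := A) g x = x * g - g * x := by
  simp [comm]

/-- all commutators with a finite family. -/
noncomputable def theta {n : ℕ} (g : Fin n → B) : B →ₗ[A] (Fin n → B) :=
  LinearMap.pi (fun i => comm (A := A) (g i))

theorem theta_apply {n : ℕ} (g : Fin n → B) (x : B) (i : Fin n) :
    theta (A := A) g x i = x * g i - g i * x := by
  simp [theta]

theorem mem_center_of_theta {n : ℕ} (g : Fin n → B)
    (hg : Submodule.span A (Set.range g) = ⊤) (x : B) (hx : theta (A := A) g x = 0) :
    x ∈ Subalgebra.center A B := by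
  rw [Subalgebra.mem_center_iff]
  intro y
  have hy : y ∈ Submodule.span A (Set.range g) := hg ▸ Submodule.mem_top
  induction hy using Submodule.span_induction with
  | mem y hy =>
    obtain ⟨i, rfl⟩ := hy
    have := congrFun hx i
    rw [theta_apply, Pi.zero_apply, sub_eq_zero] at this
    exact this.symm
  | zero => simp
  | add y z _ _ hy hz => rw [add_mul, mul_add, hy, hz]
  | smul a y _ hy => rw [smul_mul_assoc, mul_smul_comm, hy]

variable [Module.Finite A B] (A' : Type*) [CommRing A'] [Algebra A A'] [Module.Flat A A']

omit [Module.Finite A B] [Module.Flat A A'] in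
theorem map_eq_lTensor (y : A' ⊗[A] (Subalgebra.center A B)) :
    Algebra.TensorProduct.map (AlgHom.id A' A') (Subalgebra.center A B).val y =
      LinearMap.lTensor A' (Subalgebra.center A B).val.toLinearMap y := by
  induction y using TensorProduct.induction_on with
  | zero => simp
  | add x y hx hy => rw [map_add, map_add, hx, hy]
  | tmul a z => simp

/-- Central elements of `A' ⊗ B` come from `A' ⊗ Z(B)`. -/
theorem exists_of_central (x : A' ⊗[A] B)
    (hx : ∀ b : B, x * ((1 : A') ⊗ₜ[A] b) = ((1 : A') ⊗ₜ[A] b) * x) :
    ∃ y : A' ⊗[A] (Subalgebra.center A B),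
      Algebra.TensorProduct.map (AlgHom.id A' A') (Subalgebra.center A B).val y = x := by
  obtain ⟨n, g, hg⟩ := Module.Finite.exists_fin (R := A) (M := B)
  let θ : B →ₗ[A] (Fin n → B) := theta g
  have hex : Function.Exact ((LinearMap.ker θ).subtype.lTensor A') (θ.lTensor A') :=
    Module.Flat.lTensor_exact A' (LinearMap.exact_subtype_ker_map θ)
  have key : ∀ (w : A' ⊗[A] B) (i : Fin n),
      TensorProduct.piRight A A' A' (fun _ : Fin n => B) (θ.lTensor A' w) i =
        w * ((1 : A') ⊗ₜ[A] g i) - ((1 : A') ⊗ₜ[A] g i) * w := by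
    intro w i
    induction w using TensorProduct.induction_on with
    | zero => simp
    | add x y hx hy =>
      rw [map_add, map_add, Pi.add_apply, hx, hy, add_mul, mul_add]; abel
    | tmul a b =>
      rw [LinearMap.lTensor_tmul, TensorProduct.piRight_apply, TensorProduct.piRightHom_tmul]
      simp only [θ, theta_apply, Algebra.TensorProduct.tmul_mul_tmul, mul_one, one_mul,
        TensorProduct.tmul_sub]
  have hzero : θ.lTensor A' x = 0 := by
    apply (TensorProduct.piRight A A' A' (fun _ : Fin n => B)).injective
    rw [map_zero]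
    funext i
    rw [key, hx, sub_self, Pi.zero_apply]
  obtain ⟨y₀, hy₀⟩ := (hex x).mp hzero
  let ι : LinearMap.ker θ →ₗ[A] Subalgebra.center A B :=
    LinearMap.codRestrict (Subalgebra.toSubmodule (Subalgebra.center A B))
      (LinearMap.ker θ).subtype (fun k => mem_center_of_theta g hg k.1 k.2)
  refine ⟨ι.lTensor A' y₀, ?_⟩
  rw [map_eq_lTensor, ← LinearMap.comp_apply, ← LinearMap.lTensor_comp, ← hy₀]
  rfl

end Groth.Agent.H96.CenterBC
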