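import Mathlib
import Groth.Agent.H96.CenterBC
import Groth.Agent.H96.AzDescent

/-!
# Algebras that become `Mat_n × Mat_n` after faithfully flat base change

If `B` is an `A`-algebra and `A' ⊗[A] B ≃ Mat_n(A') × Mat_n(A')` for a faithfully flat `A'`, then
the centre `Z` of `B` is finite étale of rank `2` over `A`, and `B` is Azumaya over `Z`.
-/

set_option autoImplicit false
set_option linter.style.haveILetI false
set_option linter.unusedSectionVars false

namespace Groth.Agent.H96.CliffAz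

open TensorProduct

section Descent

variable {A : Type*} [CommRing A] {A' : Type*} [CommRing A'] [Algebra A A']
  [Module.FaithfullyFlat A A']
  {S : Type*} [CommRing S] [Algebra A S] {B : Type*} [Ring B] [Algebra A B] [Algebra S B]
  [IsScalarTower A S B] [FaithfulSMul S B]
  {n : ℕ} [NeZero n]

/-- If `A' ⊗[A] B` is a matrix algebra over `S ⊗[A] A'` compatibly with `S`, then `B` is Azumaya
over `S`. -/
theorem isAzumaya_of_matrix (Ξ' : A' ⊗[A] B ≃+* Matrix (Fin n) (Fin n) (S ⊗[A] A'))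
    (hΞ : ∀ (a : A') (s : S), Ξ' (a ⊗ₜ[A] algebraMap S B s) =
      Matrix.scalar (Fin n) (s ⊗ₜ[A] a)) : IsAzumaya S B := by
  let φ₀ : B →+* Matrix (Fin n) (Fin n) (S ⊗[A] A') :=
    Ξ'.toRingHom.comp (Algebra.TensorProduct.includeRight : B →ₐ[A] A' ⊗[A] B).toRingHom
  have hφ₀ : ∀ b, φ₀ b = Ξ' ((1 : A') ⊗ₜ[A] b) := fun b => rfl
  let φ : B →ₐ[S] Matrix (Fin n) (Fin n) (S ⊗[A] A') :=
    { φ₀ with
      commutes' := by
        intro s
        show φ₀ (algebraMap S B s) = _
        rw [hφ₀, hΞ, Matrix.algebraMap_eq_diagonal, Matrix.scalar_apply]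
        congr 1 }
  have hφ : ∀ b, φ b = Ξ' ((1 : A') ⊗ₜ[A] b) := fun b => rfl
  let Ψ : (S ⊗[A] A') ⊗[S] B →ₐ[S ⊗[A] A'] Matrix (Fin n) (Fin n) (S ⊗[A] A') :=
    Algebra.TensorProduct.lift (Algebra.ofId (S ⊗[A] A') _) φ
      (fun x y => Algebra.commute_algebraMap_left _ _)
  have hΨ_tmul : ∀ (s' : S ⊗[A] A') (b : B), Ψ (s' ⊗ₜ[S] b) =
      (Algebra.ofId (S ⊗[A] A') (Matrix (Fin n) (Fin n) (S ⊗[A] A'))) s' * φ b :=
    fun s' b => Algebra.TensorProduct.lift_tmul _ _ _ _ _
  let κ : A' ⊗[A] B →ₗ[A] (S ⊗[A] A') ⊗[S] B :=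
    TensorProduct.lift
      { toFun := fun a =>
          { toFun := fun b => ((1 : S) ⊗ₜ[A] a) ⊗ₜ[S] b
            map_add' := fun b b' => TensorProduct.tmul_add _ _ _
            map_smul' := fun r b => by simp }
        map_add' := fun a a' => by
          ext b
          simp [TensorProduct.tmul_add, TensorProduct.add_tmul]
        map_smul' := fun r a => by
          ext b
          simp [TensorProduct.smul_tmul'] }
  have hκ_tmul : ∀ a b, κ (a ⊗ₜ[A] b) = ((1 : S) ⊗ₜ[A] a) ⊗ₜ[S] b := fun a b => rfl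
  have hΨκ : ∀ x, Ψ (κ x) = Ξ' x := by
    intro x
    induction x using TensorProduct.induction_on with
    | zero => simp
    | add x y hx hy => rw [map_add, map_add, map_add, hx, hy]
    | tmul a b =>
      rw [hκ_tmul, hΨ_tmul, hφ]
      have h1 : (Algebra.ofId (S ⊗[A] A') (Matrix (Fin n) (Fin n) (S ⊗[A] A')))
          ((1 : S) ⊗ₜ[A] a) = Ξ' (a ⊗ₜ[A] algebraMap S B 1) := by
        rw [hΞ, Algebra.ofId_apply, Matrix.algebraMap_eq_diagonal, Matrix.scalar_apply]
        rfl
      rw [h1, ← map_mul, map_one, Algebra.TensorProduct.tmul_mul_tmul, mul_one, one_mul]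
  have hκ_surj : Function.Surjective κ := by
    intro y
    induction y using TensorProduct.induction_on with
    | zero => exact ⟨0, map_zero _⟩
    | add x y hx hy =>
      obtain ⟨x', rfl⟩ := hx
      obtain ⟨y', rfl⟩ := hy
      exact ⟨x' + y', map_add _ _ _⟩
    | tmul s' b =>
      induction s' using TensorProduct.induction_on with
      | zero => exact ⟨0, by simp⟩
      | add x y hx hy =>
        obtain ⟨x', hx'⟩ := hx
        obtain ⟨y', hy'⟩ := hy
        exact ⟨x' + y', by rw [map_add, hx', hy', TensorProduct.add_tmul]⟩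
      | tmul s a =>
        refine ⟨a ⊗ₜ[A] (s • b), ?_⟩
        rw [hκ_tmul, ← TensorProduct.smul_tmul, TensorProduct.smul_tmul', smul_eq_mul, mul_one]
  have hκ_inj : Function.Injective κ := by
    intro x x' h
    apply Ξ'.injective
    rw [← hΨκ, ← hΨκ, h]
  have hΨ : Function.Bijective Ψ := by
    have hcomp : Function.Bijective (⇑Ψ ∘ ⇑κ) := by
      have : ⇑Ψ ∘ ⇑κ = ⇑Ξ' := funext hΨκ
      rw [this]
      exact Ξ'.bijective
    exact (Function.Bijective.of_comp_iff Ψ ⟨hκ_inj, hκ_surj⟩).mp hcomp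
  let e : (S ⊗[A] A') ⊗[S] B ≃ₐ[S ⊗[A] A'] Matrix (Fin n) (Fin n) (S ⊗[A] A') :=
    AlgEquiv.ofBijective Ψ hΨ
  haveI : IsAzumaya (S ⊗[A] A') (Matrix (Fin n) (Fin n) (S ⊗[A] A')) := IsAzumaya.matrix _ _
  haveI : IsAzumaya (S ⊗[A] A') ((S ⊗[A] A') ⊗[S] B) := IsAzumaya.of_AlgEquiv _ _ _ e.symm
  exact AzDescent.isAzumaya_of_faithfullyFlat S (S ⊗[A] A') B

end Descent

section Centre

variable {A : Type*} [CommRing A] {A' : Type*} [CommRing A'] [Algebra A A']
  [Module.Flat A A']
  {S : Type*} [CommRing S] [Algebra A S] {B : Type*} [Ring B] [Algebra A B] [Algebra S B]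
  [IsScalarTower A S B] [FaithfulSMul S B] [Module.Finite A B]
  {n : ℕ} [NeZero n]
  {T : Type*} [CommRing T] [Algebra A' T]

/-- the base change of `S → B`. -/
noncomputable def jmap : A' ⊗[A] S →ₐ[A'] A' ⊗[A] B :=
  Algebra.TensorProduct.map (AlgHom.id A' A') (IsScalarTower.toAlgHom A S B)

omit [Module.Flat A A'] [FaithfulSMul S B] [Module.Finite A B] in
theorem jmap_tmul (a : A') (s : S) :
    jmap (A := A) (A' := A') (S := S) (B := B) (a ⊗ₜ[A] s) = a ⊗ₜ[A] algebraMap S B s := by
  simp [jmap]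

omit [Module.Flat A A'] [FaithfulSMul S B] [Module.Finite A B] in
theorem jmap_eq_lTensor (y : A' ⊗[A] S) :
    jmap (A := A) (A' := A') (S := S) (B := B) y =
      LinearMap.lTensor A' (IsScalarTower.toAlgHom A S B).toLinearMap y := by
  induction y using TensorProduct.induction_on with
  | zero => simp
  | add x y hx hy => rw [map_add, map_add, hx, hy]
  | tmul a z => simp [jmap]

omit [Module.Finite A B] in
theorem jmap_injective : Function.Injective (jmap (A := A) (A' := A') (S := S) (B := B)) := by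
  have h1 : Function.Injective (LinearMap.lTensor A' (IsScalarTower.toAlgHom A S B).toLinearMap) :=
    Module.Flat.lTensor_preserves_injective_linearMap _
      (FaithfulSMul.algebraMap_injective S B)
  intro x y h
  apply h1
  rw [← jmap_eq_lTensor, ← jmap_eq_lTensor, h]

omit [Module.Flat A A'] [FaithfulSMul S B] [Module.Finite A B] in
theorem jmap_central (y : A' ⊗[A] S) (w : A' ⊗[A] B) :
    jmap (A := A) (A' := A') (S := S) (B := B) y * w = w * jmap y := by
  induction y using TensorProduct.induction_on with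
  | zero => simp
  | add x y hx hy => rw [map_add, add_mul, mul_add, hx, hy]
  | tmul a s =>
    induction w using TensorProduct.induction_on with
    | zero => simp
    | add x y hx hy => rw [mul_add, add_mul, hx, hy]
    | tmul a' b =>
      rw [jmap_tmul, Algebra.TensorProduct.tmul_mul_tmul, Algebra.TensorProduct.tmul_mul_tmul,
        mul_comm a a', Algebra.commutes]

omit [FaithfulSMul S B] in
/-- Central elements of `A' ⊗ B` come from `A' ⊗ S`, if `S` surjects linearly onto the centre. -/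
theorem exists_jmap_eq (σ : Subalgebra.center A B →ₗ[A] S)
    (hσ : ∀ z, algebraMap S B (σ z) = z) (x : A' ⊗[A] B) (hx : ∀ w, x * w = w * x) :
    ∃ y : A' ⊗[A] S, jmap y = x := by
  obtain ⟨y₀, hy₀⟩ := CenterBC.exists_of_central A' x (fun b => hx _)
  refine ⟨σ.lTensor A' y₀, ?_⟩
  rw [jmap_eq_lTensor, ← LinearMap.comp_apply, ← LinearMap.lTensor_comp, ← hy₀,
    CenterBC.map_eq_lTensor]
  congr 2
  apply LinearMap.ext
  intro z
  exact hσ z

variable (Ξ : A' ⊗[A] B ≃ₐ[A'] Matrix (Fin n) (Fin n) T)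

omit [Module.Flat A A'] [FaithfulSMul S B] [Module.Finite A B] in
theorem exists_scalar (y : A' ⊗[A] S) :
    ∃ t : T, Ξ (jmap y) = Matrix.scalar (Fin n) t := by
  have h : Ξ (jmap y) ∈ Set.center (Matrix (Fin n) (Fin n) T) := by
    rw [Semigroup.mem_center_iff]
    intro g
    obtain ⟨w, rfl⟩ := Ξ.surjective g
    rw [← map_mul, ← map_mul, jmap_central]
  rw [Matrix.center_eq_range] at h
  obtain ⟨t, ht⟩ := h
  exact ⟨t, ht.symm⟩

/-- the `(0,0)` entry. -/
noncomputable def zeta₀ (y : A' ⊗[A] S) : T := Ξ (jmap y) 0 0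

omit [Module.Flat A A'] [FaithfulSMul S B] [Module.Finite A B] in
theorem scalar_zeta₀ (y : A' ⊗[A] S) :
    Ξ (jmap y) = Matrix.scalar (Fin n) (zeta₀ Ξ y) := by
  obtain ⟨t, ht⟩ := exists_scalar Ξ y
  have : zeta₀ Ξ y = t := by
    unfold zeta₀
    rw [ht, Matrix.scalar_apply, Matrix.diagonal_apply_eq]
  rw [this, ht]

omit [Module.Flat A A'] [FaithfulSMul S B] [Module.Finite A B] in
theorem scalar_injective : Function.Injective (Matrix.scalar (Fin n) : T →+* _) := by
  intro t t' h
  have := congrFun (congrFun h 0) 0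
  rwa [Matrix.scalar_apply, Matrix.scalar_apply, Matrix.diagonal_apply_eq,
    Matrix.diagonal_apply_eq] at this

/-- the comparison map `A' ⊗ S → T`. -/
noncomputable def zeta : A' ⊗[A] S →ₐ[A'] T where
  toFun := zeta₀ Ξ
  map_one' := by
    unfold zeta₀
    rw [map_one, map_one, Matrix.one_apply_eq]
  map_mul' x y := by
    apply scalar_injective (n := n)
    rw [map_mul, ← scalar_zeta₀, ← scalar_zeta₀, ← scalar_zeta₀, map_mul, map_mul]
  map_zero' := by
    unfold zeta₀
    rw [map_zero, map_zero, Matrix.zero_apply]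
  map_add' x y := by
    unfold zeta₀
    rw [map_add, map_add, Matrix.add_apply]
  commutes' a := by
    show zeta₀ Ξ _ = _
    unfold zeta₀
    rw [AlgHom.commutes, AlgEquiv.commutes, Matrix.algebraMap_matrix_apply, if_pos rfl]

omit [Module.Flat A A'] [FaithfulSMul S B] [Module.Finite A B] in
theorem scalar_zeta (y : A' ⊗[A] S) :
    Ξ (jmap y) = Matrix.scalar (Fin n) (zeta Ξ y) := scalar_zeta₀ Ξ y

theorem zeta_bijective (σ : Subalgebra.center A B →ₗ[A] S)
    (hσ : ∀ z, algebraMap S B (σ z) = z) : Function.Bijective (zeta (S := S) Ξ) := by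
  constructor
  · intro y y' h
    apply jmap_injective (A := A) (A' := A') (S := S) (B := B)
    apply Ξ.injective
    rw [scalar_zeta, scalar_zeta, h]
  · intro t
    have hc : ∀ w, Ξ.symm (Matrix.scalar (Fin n) t) * w = w * Ξ.symm (Matrix.scalar (Fin n) t) := by
      intro w
      apply Ξ.injective
      rw [map_mul, map_mul, AlgEquiv.apply_symm_apply]
      have h : Matrix.scalar (Fin n) t ∈ Set.center (Matrix (Fin n) (Fin n) T) := by
        rw [Matrix.center_eq_range]
        exact ⟨t, rfl⟩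
      rw [Semigroup.mem_center_iff] at h
      exact (h _).symm
    obtain ⟨y, hy⟩ := exists_jmap_eq (A' := A') σ hσ _ hc
    refine ⟨y, ?_⟩
    apply scalar_injective (n := n)
    rw [← scalar_zeta, hy, AlgEquiv.apply_symm_apply]

/-- the comparison isomorphism `A' ⊗ S ≃ T`. -/
noncomputable def zetaEquiv (σ : Subalgebra.center A B →ₗ[A] S)
    (hσ : ∀ z, algebraMap S B (σ z) = z) : A' ⊗[A] S ≃ₐ[A'] T :=
  AlgEquiv.ofBijective (zeta (S := S) Ξ) (zeta_bijective Ξ σ hσ)

theorem scalar_zetaEquiv (σ : Subalgebra.center A B →ₗ[A] S)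
    (hσ : ∀ z, algebraMap S B (σ z) = z) (y : A' ⊗[A] S) :
    Ξ (jmap y) = Matrix.scalar (Fin n) (zetaEquiv Ξ σ hσ y) := scalar_zeta Ξ y

end Centre

section Main

variable {A : Type*} [CommRing A] {A' : Type*} [CommRing A'] [Algebra A A']
  {B : Type*} [Ring B] [Algebra A B] {n : ℕ}

/-- `Mat_n(A' × A') → Mat_n(A') × Mat_n(A')`, with `A' × A'` written as `Fin 2 → A'`. -/
noncomputable def thetaHom : Matrix (Fin n) (Fin n) (Fin 2 → A') →ₐ[A']
    Matrix (Fin n) (Fin n) A' × Matrix (Fin n) (Fin n) A' :=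
  AlgHom.prod ((Pi.evalAlgHom A' (fun _ : Fin 2 => A') 0).mapMatrix)
    ((Pi.evalAlgHom A' (fun _ : Fin 2 => A') 1).mapMatrix)

theorem thetaHom_fst (M : Matrix (Fin n) (Fin n) (Fin 2 → A')) (i j : Fin n) :
    (thetaHom M).1 i j = M i j 0 := rfl

theorem thetaHom_snd (M : Matrix (Fin n) (Fin n) (Fin 2 → A')) (i j : Fin n) :
    (thetaHom M).2 i j = M i j 1 := rfl

theorem thetaHom_bijective : Function.Bijective (thetaHom (A' := A') (n := n)) := by
  constructor
  · intro M N h
    ext i j k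
    fin_cases k
    · have := congrFun (congrFun (congrArg Prod.fst h) i) j
      rwa [thetaHom_fst, thetaHom_fst] at this
    · have := congrFun (congrFun (congrArg Prod.snd h) i) j
      rwa [thetaHom_snd, thetaHom_snd] at this
  · rintro ⟨M₁, M₂⟩
    refine ⟨Matrix.of fun i j => ![M₁ i j, M₂ i j], ?_⟩
    apply Prod.ext
    · ext i j
      rw [thetaHom_fst]; rfl
    · ext i j
      rw [thetaHom_snd]; rfl

variable [Module.FaithfullyFlat A A'] [NeZero n]

/-- **Main theorem.**  If `A' ⊗[A] B ≃ Mat_n(A') × Mat_n(A')` for a faithfully flat `A'`, then the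
centre `Z` of `B` is finite étale of rank `2` over `A`, and `B` is Azumaya over `Z`. -/
theorem main (e₁ : A' ⊗[A] B ≃ₐ[A'] Matrix (Fin n) (Fin n) A' × Matrix (Fin n) (Fin n) A') :
    letI : Algebra ↥(Subalgebra.center A B) B :=
      (Subalgebra.center A B).val.toRingHom.toAlgebra'
        (fun c x => (Subalgebra.mem_center_iff.mp c.2 x).symm)
    Algebra.Etale A ↥(Subalgebra.center A B) ∧
      Module.Finite A ↥(Subalgebra.center A B) ∧
      Module.Projective A ↥(Subalgebra.center A B) ∧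
      (∀ p : PrimeSpectrum A, Module.rankAtStalk ↥(Subalgebra.center A B) p = 2) ∧
      IsAzumaya ↥(Subalgebra.center A B) B := by
  letI algZB : Algebra ↥(Subalgebra.center A B) B :=
    (Subalgebra.center A B).val.toRingHom.toAlgebra'
      (fun c x => (Subalgebra.mem_center_iff.mp c.2 x).symm)
  haveI : @IsScalarTower A ↥(Subalgebra.center A B) B _ algZB.toSMul _ :=
    IsScalarTower.of_algebraMap_eq (fun a => rfl)
  haveI : @FaithfulSMul ↥(Subalgebra.center A B) B algZB.toSMul :=
    (faithfulSMul_iff_algebraMap_injective _ _).mpr Subtype.val_injective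
  haveI : Module.Finite A B := by
    haveI : Module.Finite A' (A' ⊗[A] B) := Module.Finite.equiv e₁.symm.toLinearEquiv
    exact Module.Finite.of_finite_tensorProduct_of_faithfullyFlat A'
  let θe : Matrix (Fin n) (Fin n) (Fin 2 → A') ≃ₐ[A']
      Matrix (Fin n) (Fin n) A' × Matrix (Fin n) (Fin n) A' :=
    AlgEquiv.ofBijective thetaHom thetaHom_bijective
  let Ξ : A' ⊗[A] B ≃ₐ[A'] Matrix (Fin n) (Fin n) (Fin 2 → A') := e₁.trans θe.symm
  let σ : ↥(Subalgebra.center A B) →ₗ[A] ↥(Subalgebra.center A B) := LinearMap.id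
  have hσ : ∀ z, algebraMap ↥(Subalgebra.center A B) B (σ z) = z := fun z => rfl
  let ζ : A' ⊗[A] ↥(Subalgebra.center A B) ≃ₐ[A'] (Fin 2 → A') := zetaEquiv Ξ σ hσ
  have hζ : ∀ y, Ξ (jmap y) = Matrix.scalar (Fin n) (ζ y) := scalar_zetaEquiv Ξ σ hσ
  haveI : Algebra.Etale A' (A' ⊗[A] ↥(Subalgebra.center A B)) := Algebra.Etale.of_equiv ζ.symm
  haveI : Module.Finite A' (A' ⊗[A] ↥(Subalgebra.center A B)) :=
    Module.Finite.equiv ζ.symm.toLinearEquiv
  haveI : Module.Projective A' (A' ⊗[A] ↥(Subalgebra.center A B)) :=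
    Module.Projective.of_equiv ζ.symm.toLinearEquiv
  have hEt : Algebra.Etale A ↥(Subalgebra.center A B) :=
    Algebra.Etale.of_etale_tensorProduct_of_faithfullyFlat A'
  have hFin : Module.Finite A ↥(Subalgebra.center A B) :=
    Module.Finite.of_finite_tensorProduct_of_faithfullyFlat A'
  have hProj : Module.Projective A ↥(Subalgebra.center A B) :=
    AzDescent.projective_of_faithfullyFlat A A' _
  refine ⟨hEt, hFin, hProj, ?_, ?_⟩
  · intro p
    obtain ⟨p', rfl⟩ := PrimeSpectrum.comap_surjective_of_faithfullyFlat (B := A') p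
    haveI : Nontrivial A' := PrimeSpectrum.nonempty_iff_nontrivial.mp ⟨p'⟩
    rw [← Module.rankAtStalk_baseChange, Module.rankAtStalk_eq_of_equiv ζ.toLinearEquiv,
      Module.rankAtStalk_eq_finrank_of_free]
    simp
  · let ρ : (Fin 2 → A') ≃+* ↥(Subalgebra.center A B) ⊗[A] A' :=
      ζ.symm.toRingEquiv.trans (Algebra.TensorProduct.comm A A' _).toRingEquiv
    let Ξ' : A' ⊗[A] B ≃+* Matrix (Fin n) (Fin n) (↥(Subalgebra.center A B) ⊗[A] A') :=
      Ξ.toRingEquiv.trans ρ.mapMatrix
    apply isAzumaya_of_matrix (A' := A') Ξ'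
    intro a s
    show ρ.mapMatrix (Ξ (a ⊗ₜ[A] algebraMap ↥(Subalgebra.center A B) B s)) = _
    rw [← jmap_tmul, hζ, RingEquiv.mapMatrix_apply, Matrix.scalar_apply,
      Matrix.diagonal_map (map_zero _), Matrix.scalar_apply]
    congr 1
    funext _
    show (Algebra.TensorProduct.comm A A' _) (ζ.symm (ζ (a ⊗ₜ[A] s))) = _
    rw [AlgEquiv.symm_apply_apply, Algebra.TensorProduct.comm_tmul]

end Main

end Groth.Agent.H96.CliffAz
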