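import Groth.Prelude.Def_W4c6equivkfinstabCyc
import Mathlib.RingTheory.Polynomial.Cyclotomic.Roots
import Mathlib.RingTheory.RootsOfUnity.Complex
import Mathlib.Algebra.Ring.GeomSum
import Mathlib.GroupTheory.OrderOfElement
import Mathlib.GroupTheory.SpecificGroups.Cyclic

/-!
In the cyclotomic quotient `Λ[C]/(Φ_n)` of the group ring of a finite cyclic group `C` of order `n`
invertible in `Λ`, the element `1 - [c]` is a unit for every `c ≠ 0`.
-/

set_option autoImplicit false

namespace Groth.Agent.H96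

open Polynomial W4c6equivkfinstab

/-- `Φ_n ∣ Σ_{i<d} X^{ji}` in `ℤ[X]` if `n ∣ j d` and `n ∤ j`. -/
theorem cyclotomic_dvd_geom_sum (n j d : ℕ) (hn : 0 < n) (h1 : n ∣ j * d) (h2 : ¬ n ∣ j) :
    cyclotomic n ℤ ∣ ∑ i ∈ Finset.range d, ((X : ℤ[X]) ^ j) ^ i := by
  have hprime : Prime (cyclotomic n ℤ) := (cyclotomic.irreducible hn).prime
  have hdvd : cyclotomic n ℤ ∣ (∑ i ∈ Finset.range d, ((X : ℤ[X]) ^ j) ^ i) * (X ^ j - 1) := by
    rw [geom_sum_mul, ← pow_mul]
    obtain ⟨m, hm⟩ := h1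
    rw [hm, pow_mul]
    refine dvd_trans (cyclotomic.dvd_X_pow_sub_one n ℤ) ?_
    have := sub_dvd_pow_sub_pow ((X : ℤ[X]) ^ n) 1 m
    rwa [one_pow] at this
  rcases hprime.dvd_or_dvd hdvd with h | h
  · exact h
  · exfalso
    have hζ : IsPrimitiveRoot (Complex.exp (2 * Real.pi * Complex.I / n)) n :=
      Complex.isPrimitiveRoot_exp n hn.ne'
    have h3 := Polynomial.map_dvd (Int.castRingHom ℂ) h
    rw [map_cyclotomic] at h3
    have h4 : (cyclotomic n ℂ).IsRoot (Complex.exp (2 * Real.pi * Complex.I / n)) :=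
      hζ.isRoot_cyclotomic hn
    have h5 := h4.dvd h3
    rw [IsRoot.def, Polynomial.map_sub, Polynomial.map_pow, map_X, Polynomial.map_one, eval_sub,
      eval_pow, eval_X, eval_one, sub_eq_zero] at h5
    exact h2 ((hζ.pow_eq_one_iff_dvd j).mp h5)

variable (Λ : Type*) [CommRing Λ] (C : Type*) [AddCommGroup C]

theorem isUnit_one_sub_single [Finite C] [IsAddCyclic C] (hu : IsUnit ((Nat.card C : ℕ) : Λ))
    (c : C) (hc : c ≠ 0) :
    IsUnit ((1 : CycQuot Λ C) -
      Ideal.Quotient.mk (cycIdeal Λ C) (AddMonoidAlgebra.single c 1)) := by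
  obtain ⟨g, hg⟩ := IsAddCyclic.exists_generator (α := C)
  have hn : 0 < Nat.card C := Nat.card_pos
  obtain ⟨j, hj⟩ : ∃ j : ℕ, j • g = c :=
    (AddSubmonoid.mem_multiples_iff _ _).mp
      ((isOfFinAddOrder_of_finite g).mem_multiples_iff_mem_zmultiples.mpr (hg c))
  have hgord : addOrderOf g = Nat.card C := addOrderOf_eq_card_of_forall_mem_zmultiples hg
  obtain ⟨d, hd⟩ : ∃ d, d = addOrderOf c := ⟨_, rfl⟩
  have hdc : d • c = 0 := by rw [hd]; exact addOrderOf_nsmul_eq_zero c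
  have hdn : d ∣ Nat.card C := by rw [hd]; exact addOrderOf_dvd_natCard c
  have h1 : Nat.card C ∣ j * d := by
    rw [← hgord]
    apply addOrderOf_dvd_of_nsmul_eq_zero
    rw [mul_nsmul, hj, hdc]
  have h2 : ¬ Nat.card C ∣ j := by
    intro h
    apply hc
    rw [← hj]
    rw [← hgord] at h
    exact addOrderOf_dvd_iff_nsmul_eq_zero.mp h
  have hdvd := cyclotomic_dvd_geom_sum (Nat.card C) j d hn h1 h2
  -- transport to `Λ[C]`
  have hgtop : AddSubgroup.zmultiples g = ⊤ := by
    rw [eq_top_iff]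
    intro x _
    exact hg x
  have hmem : Polynomial.aeval (AddMonoidAlgebra.single g (1 : Λ))
      (Polynomial.cyclotomic (Nat.card C) Λ) ∈ cycIdeal Λ C :=
    Ideal.subset_span ⟨g, hgtop, rfl⟩
  have hsum : (∑ i ∈ Finset.range d, (AddMonoidAlgebra.single c (1 : Λ)) ^ i) ∈ cycIdeal Λ C := by
    have h3 := Polynomial.map_dvd (Int.castRingHom Λ) hdvd
    rw [map_cyclotomic_int] at h3
    obtain ⟨q, hq⟩ := h3
    have h4 := congrArg (Polynomial.aeval (AddMonoidAlgebra.single g (1 : Λ))) hq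
    rw [Polynomial.map_sum, map_sum, map_mul] at h4
    have h5 : ∀ i, Polynomial.aeval (AddMonoidAlgebra.single g (1 : Λ))
        (Polynomial.map (Int.castRingHom Λ) (((X : ℤ[X]) ^ j) ^ i)) =
        (AddMonoidAlgebra.single c (1 : Λ)) ^ i := by
      intro i
      rw [Polynomial.map_pow, Polynomial.map_pow, map_X, map_pow, map_pow, aeval_X,
        AddMonoidAlgebra.single_pow, hj, one_pow]
    simp only [h5] at h4
    rw [h4]
    exact Ideal.mul_mem_right _ _ hmem
  -- the computation in the quotient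
  obtain ⟨y, hy⟩ : ∃ y : CycQuot Λ C,
    y = Ideal.Quotient.mk (cycIdeal Λ C) (AddMonoidAlgebra.single c 1) := ⟨_, rfl⟩
  rw [← hy]
  have hsum' : ∑ i ∈ Finset.range d, y ^ i = 0 := by
    have := (Ideal.Quotient.eq_zero_iff_mem).mpr hsum
    rw [map_sum] at this
    rw [← this]
    refine Finset.sum_congr rfl fun i _ => ?_
    rw [hy, map_pow]
  have hprod : (1 - y) * (∑ i ∈ Finset.range d, ∑ l ∈ Finset.range i, y ^ l) = (d : CycQuot Λ C) := by
    rw [Finset.mul_sum]
    have h6 : ∀ i ∈ Finset.range d, (1 - y) * ∑ l ∈ Finset.range i, y ^ l = 1 - y ^ i :=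
      fun i _ => mul_neg_geom_sum y i
    rw [Finset.sum_congr rfl h6, Finset.sum_sub_distrib, hsum', sub_zero]
    simp
  have hdu : IsUnit ((d : ℕ) : CycQuot Λ C) := by
    obtain ⟨e, he⟩ := hdn
    have h7 : IsUnit ((d : ℕ) : Λ) := by
      rw [he, Nat.cast_mul] at hu
      exact isUnit_of_mul_isUnit_left hu
    have := h7.map (algebraMap Λ (CycQuot Λ C))
    rwa [map_natCast] at this
  rw [← hprod] at hdu
  exact isUnit_of_mul_isUnit_left hdu


variable (M : Type*) [AddCommGroup M]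

theorem quotMap_single (B : AddSubgroup M) (m : M) (r : Λ) :
    quotMap Λ M B (AddMonoidAlgebra.single m r) =
      AddMonoidAlgebra.single (QuotientAddGroup.mk' B m) r :=
  AddMonoidAlgebra.mapDomain_single

theorem quotMap_surjective (B : AddSubgroup M) : Function.Surjective (quotMap Λ M B) := by
  intro y
  induction y using AddMonoidAlgebra.induction_linear with
  | zero => exact ⟨0, map_zero _⟩
  | add x y hx hy =>
    obtain ⟨a, rfl⟩ := hx
    obtain ⟨b, rfl⟩ := hy
    exact ⟨a + b, map_add _ _ _⟩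
  | single m r =>
    obtain ⟨m', rfl⟩ := QuotientAddGroup.mk'_surjective B m
    exact ⟨AddMonoidAlgebra.single m' r, quotMap_single Λ M B m' r⟩

theorem cycQuotMap_surjective (B : AddSubgroup M) : Function.Surjective (cycQuotMap Λ M B) :=
  Ideal.Quotient.mk_surjective.comp (quotMap_surjective Λ M B)

theorem quotMap_one_sub_single_of_mem (B : AddSubgroup M) (b : M) (hb : b ∈ B) :
    quotMap Λ M B (1 - AddMonoidAlgebra.single b 1) = 0 := by
  rw [map_sub, map_one, quotMap_single, QuotientAddGroup.mk'_apply,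
    (QuotientAddGroup.eq_zero_iff b).mpr hb, ← AddMonoidAlgebra.one_def, sub_self]

/-- for `b ∉ B` there is `v` with `cycQuotMap ((1 - [b]) * v) = 1`. -/
theorem exists_cycQuotMap_one_sub_mul (B : AddSubgroup M) [B.FiniteIndex] [IsAddCyclic (M ⧸ B)]
    (hu : IsUnit ((B.index : ℕ) : Λ)) (b : M) (hb : b ∉ B) :
    ∃ v : AddMonoidAlgebra Λ M,
      cycQuotMap Λ M B ((1 - AddMonoidAlgebra.single b 1) * v) = 1 := by
  have hc : (QuotientAddGroup.mk' B b : M ⧸ B) ≠ 0 := by
    rw [Ne, QuotientAddGroup.mk'_apply, QuotientAddGroup.eq_zero_iff]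
    exact hb
  obtain ⟨u, hu'⟩ := isUnit_one_sub_single Λ (M ⧸ B) hu _ hc
  obtain ⟨v, hv⟩ := cycQuotMap_surjective Λ M B (↑u⁻¹)
  refine ⟨v, ?_⟩
  have h1 : cycQuotMap Λ M B (1 - AddMonoidAlgebra.single b 1) = u := by
    rw [hu', map_sub, map_one]
    congr 1
    show Ideal.Quotient.mk _ (quotMap Λ M B (AddMonoidAlgebra.single b 1)) = _
    rw [quotMap_single]
  rw [map_mul, hv, h1, Units.mul_inv]

end Groth.Agent.H96
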