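import Groth.Prelude.Def_W4c6equivkfinstabCyc
import Groth.Agent.H96.CycUnit
import Mathlib.Analysis.Fourier.FiniteAbelian.PontryaginDuality
import Mathlib.RingTheory.IntegralDomain
import Mathlib.RingTheory.Polynomial.Cyclotomic.Roots
import Mathlib.GroupTheory.QuotientGroup.Basic
import Mathlib.RingTheory.Ideal.Quotient.Operations
import Mathlib.Algebra.MonoidAlgebra.Module
import Mathlib.Tactic.Ring
import Mathlib.Tactic.Linarith

/-!
Decomposition of the group ring `Λ[A]` of a finite commutative group (order invertible in `Λ`)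
as the product of the cyclotomic quotients of the group rings of its cyclic quotients.
-/

set_option autoImplicit false

namespace Groth.Agent.H96.CycDecomp

open Polynomial W4c6equivkfinstab Groth.Agent.H96

section Iso

variable (Λ : Type*) [CommRing Λ] {C C' : Type*} [AddCommGroup C] [AddCommGroup C']

theorem mapDomain_mem_cycIdeal (e : C ≃+ C') {y : AddMonoidAlgebra Λ C} (hy : y ∈ cycIdeal Λ C) :
    AddMonoidAlgebra.mapDomainRingHom Λ (e : C →+ C') y ∈ cycIdeal Λ C' := by
  have hle : cycIdeal Λ C ≤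
      Ideal.comap (AddMonoidAlgebra.mapDomainRingHom Λ (e : C →+ C')) (cycIdeal Λ C') := by
    refine Ideal.span_le.mpr ?_
    rintro x ⟨g, hg, rfl⟩
    rw [SetLike.mem_coe, Ideal.mem_comap]
    refine Ideal.subset_span ⟨e g, ?_, ?_⟩
    · rw [eq_top_iff]
      intro c' _
      obtain ⟨c, rfl⟩ := e.surjective c'
      have hc : c ∈ AddSubgroup.zmultiples g := by rw [hg]; trivial
      obtain ⟨k, rfl⟩ := AddSubgroup.mem_zmultiples_iff.mp hc
      exact AddSubgroup.mem_zmultiples_iff.mpr ⟨k, (map_zsmul e k g).symm⟩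
    · rw [Polynomial.aeval_def, Polynomial.hom_eval₂, Nat.card_congr e.toEquiv,
        Polynomial.aeval_def]
      congr 1
      · refine RingHom.ext fun r => ?_
        exact AddMonoidAlgebra.mapDomain_algebraMap Λ (e : C →+ C') r
      · exact AddMonoidAlgebra.mapDomain_single
  exact hle hy

theorem mapDomain_symm_mapDomain (e : C ≃+ C') (y : AddMonoidAlgebra Λ C) :
    AddMonoidAlgebra.mapDomainRingHom Λ (e.symm : C' →+ C)
      (AddMonoidAlgebra.mapDomainRingHom Λ (e : C →+ C') y) = y := by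
  induction y using AddMonoidAlgebra.induction_linear with
  | zero => simp
  | add a b ha hb => rw [map_add, map_add, ha, hb]
  | single c r =>
    show AddMonoidAlgebra.mapDomain _ (AddMonoidAlgebra.mapDomain _ _) = _
    rw [AddMonoidAlgebra.mapDomain_single, AddMonoidAlgebra.mapDomain_single]
    simp

theorem mapDomain_mem_cycIdeal_iff (e : C ≃+ C') (y : AddMonoidAlgebra Λ C) :
    AddMonoidAlgebra.mapDomainRingHom Λ (e : C →+ C') y ∈ cycIdeal Λ C' ↔ y ∈ cycIdeal Λ C := by
  refine ⟨fun h => ?_, mapDomain_mem_cycIdeal Λ e⟩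
  have h2 := mapDomain_mem_cycIdeal Λ e.symm h
  rwa [mapDomain_symm_mapDomain] at h2

end Iso

section Compat

variable (Λ : Type*) [CommRing Λ] (M : Type*) [AddCommGroup M]

theorem cycQuotMap_eq_zero_iff_of_le (B₀ B : AddSubgroup M) (h : B₀ ≤ B)
    (x : AddMonoidAlgebra Λ M) :
    cycQuotMap Λ (M ⧸ B₀) (B.map (QuotientAddGroup.mk' B₀)) (quotMap Λ M B₀ x) = 0 ↔
      cycQuotMap Λ M B x = 0 := by
  have hcomp : ∀ x : AddMonoidAlgebra Λ M, AddMonoidAlgebra.mapDomainRingHom Λ
      ((QuotientAddGroup.quotientQuotientEquivQuotient B₀ B h : _ ≃+ _) : _ →+ _)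
      (quotMap Λ (M ⧸ B₀) (B.map (QuotientAddGroup.mk' B₀)) (quotMap Λ M B₀ x)) =
        quotMap Λ M B x := by
    intro x
    induction x using AddMonoidAlgebra.induction_linear with
    | zero => simp
    | add a b ha hb => rw [map_add, map_add, map_add, map_add, ha, hb]
    | single m r =>
      rw [quotMap_single, quotMap_single, quotMap_single]
      show AddMonoidAlgebra.mapDomain _ _ = _
      rw [AddMonoidAlgebra.mapDomain_single]
      rfl
  show Ideal.Quotient.mk _ _ = 0 ↔ Ideal.Quotient.mk _ _ = 0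
  rw [Ideal.Quotient.eq_zero_iff_mem, Ideal.Quotient.eq_zero_iff_mem, ← hcomp x,
    mapDomain_mem_cycIdeal_iff]

end Compat

section Norm

variable (k : Type*) [CommRing k] {A : Type*} [AddCommGroup A]

/-- The geometric sum `Σ_{i < ord a} [a]^i`, the sum of the elements of the subgroup spanned
by `a`. -/
noncomputable def Na (a : A) : AddMonoidAlgebra k A :=
  ∑ i ∈ Finset.range (addOrderOf a), (AddMonoidAlgebra.single a (1 : k)) ^ i

theorem single_mul_Na (a : A) : AddMonoidAlgebra.single a (1 : k) * Na k a = Na k a := by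
  have h := mul_neg_geom_sum (AddMonoidAlgebra.single a (1 : k)) (addOrderOf a)
  rw [AddMonoidAlgebra.single_pow, addOrderOf_nsmul_eq_zero, one_pow, ← AddMonoidAlgebra.one_def,
    sub_self, sub_mul, one_mul, sub_eq_zero] at h
  exact h.symm

theorem single_mul_Na_of_mem [Finite A] (a z : A) (hz : z ∈ AddSubgroup.zmultiples a) :
    AddMonoidAlgebra.single z (1 : k) * Na k a = Na k a := by
  obtain ⟨j, rfl⟩ : ∃ j : ℕ, j • a = z :=
    (AddSubmonoid.mem_multiples_iff _ _).mp
      ((isOfFinAddOrder_of_finite a).mem_multiples_iff_mem_zmultiples.mpr hz)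
  clear hz
  induction j with
  | zero => rw [zero_nsmul, ← AddMonoidAlgebra.one_def, one_mul]
  | succ j ih =>
    have h2 : AddMonoidAlgebra.single ((j + 1) • a) (1 : k) =
        AddMonoidAlgebra.single (j • a) 1 * AddMonoidAlgebra.single a 1 := by
      rw [AddMonoidAlgebra.single_mul_single, one_mul, succ_nsmul]
    rw [h2, mul_assoc, single_mul_Na, ih]

theorem mul_Na_eq_zero_of_quotMap [Finite A] (a : A) (x : AddMonoidAlgebra k A)
    (hx : quotMap k A (AddSubgroup.zmultiples a) x = 0) : x * Na k a = 0 := by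
  let τ : AddMonoidAlgebra k (A ⧸ AddSubgroup.zmultiples a) →ₗ[k] AddMonoidAlgebra k A :=
    (AddMonoidAlgebra.basis (A ⧸ AddSubgroup.zmultiples a) k).constr k
      (fun q => AddMonoidAlgebra.single (Quotient.out q) (1 : k) * Na k a)
  have hτ : ∀ y : AddMonoidAlgebra k A,
      τ (quotMap k A (AddSubgroup.zmultiples a) y) = y * Na k a := by
    intro y
    induction y using AddMonoidAlgebra.induction_linear with
    | zero => simp
    | add u v hu hv => rw [map_add, map_add, hu, hv, add_mul]
    | single c r =>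
      rw [quotMap_single]
      have h1 : AddMonoidAlgebra.single (QuotientAddGroup.mk' (AddSubgroup.zmultiples a) c) r =
          r • (AddMonoidAlgebra.basis (A ⧸ AddSubgroup.zmultiples a) k)
            (QuotientAddGroup.mk' (AddSubgroup.zmultiples a) c) := by
        rw [AddMonoidAlgebra.basis_apply, AddMonoidAlgebra.smul_single', mul_one]
      rw [h1, map_smul, Module.Basis.constr_basis]
      obtain ⟨z, hz⟩ := QuotientAddGroup.mk_out_eq_add (AddSubgroup.zmultiples a) c
      rw [QuotientAddGroup.mk'_apply, hz]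
      have h2 : AddMonoidAlgebra.single (c + (z : A)) (1 : k) =
          AddMonoidAlgebra.single c 1 * AddMonoidAlgebra.single (z : A) 1 := by
        rw [AddMonoidAlgebra.single_mul_single, one_mul]
      rw [h2, mul_assoc, single_mul_Na_of_mem k a z z.2]
      have h3 : AddMonoidAlgebra.single c r = r • AddMonoidAlgebra.single c (1 : k) := by
        rw [AddMonoidAlgebra.smul_single', mul_one]
      rw [h3, smul_mul_assoc]
  rw [← hτ, hx, map_zero]

/-- The product over `a ∈ S` of `ord a - N_a`. -/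
noncomputable def Pk (S : Finset A) : AddMonoidAlgebra k A :=
  ∏ a ∈ S, (((addOrderOf a : ℕ) : AddMonoidAlgebra k A) - Na k a)

theorem mul_Pk (S : Finset A) (x : AddMonoidAlgebra k A) (hx : ∀ a ∈ S, x * Na k a = 0) :
    x * Pk k S = ((∏ a ∈ S, addOrderOf a : ℕ) : AddMonoidAlgebra k A) * x := by
  classical
  induction S using Finset.induction_on with
  | empty => simp [Pk]
  | insert a S ha ih =>
    have ih' := ih (fun b hb => hx b (Finset.mem_insert_of_mem hb))
    have ha' := hx a (Finset.mem_insert_self a S)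
    have e1 : Pk k (insert a S) =
        (((addOrderOf a : ℕ) : AddMonoidAlgebra k A) - Na k a) * Pk k S := by
      unfold Pk
      rw [Finset.prod_insert ha]
    have e2 : x * (((addOrderOf a : ℕ) : AddMonoidAlgebra k A) - Na k a) =
        ((addOrderOf a : ℕ) : AddMonoidAlgebra k A) * x := by
      rw [mul_sub, ha', sub_zero, mul_comm]
    rw [e1, ← mul_assoc, e2, mul_assoc, ih', Finset.prod_insert ha, Nat.cast_mul, mul_assoc]

end Norm

section Char

set_option linter.unusedSectionVars false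

variable {A : Type*} [AddCommGroup A] [Finite A]

/-- Evaluation of an integral group-ring element at a complex character. -/
noncomputable def ev (ψ : AddChar A ℂ) : AddMonoidAlgebra ℤ A →ₐ[ℤ] ℂ :=
  AddMonoidAlgebra.lift ℤ ℂ A ψ.toMonoidHom

theorem ev_single (ψ : AddChar A ℂ) (a : A) : ev ψ (AddMonoidAlgebra.single a 1) = ψ a := by
  rw [ev, AddMonoidAlgebra.lift_single, one_smul, AddChar.toMonoidHom_apply, toAdd_ofAdd]

theorem eq_zero_of_forall_ev (y : AddMonoidAlgebra ℤ A) (h : ∀ ψ : AddChar A ℂ, ev ψ y = 0) :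
    y = 0 := by
  classical
  cases nonempty_fintype A
  have h1 : ∀ ψ : AddChar A ℂ, ev ψ y = ∑ a : A, (y.coeff a : ℂ) * ψ a := by
    intro ψ
    rw [ev, AddMonoidAlgebra.lift_apply, Finsupp.sum_fintype]
    · refine Finset.sum_congr rfl fun a _ => ?_
      rw [zsmul_eq_mul, AddChar.toMonoidHom_apply, toAdd_ofAdd]
    · intro a
      exact zero_smul _ _
  ext b
  have key : ∑ ψ : AddChar A ℂ, ψ (-b) * ev ψ y = (Fintype.card A : ℂ) * (y.coeff b : ℂ) := by
    calc ∑ ψ : AddChar A ℂ, ψ (-b) * ev ψ y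
        = ∑ ψ : AddChar A ℂ, ∑ a : A, (y.coeff a : ℂ) * ψ (a - b) := by
          refine Finset.sum_congr rfl fun ψ _ => ?_
          rw [h1, Finset.mul_sum]
          refine Finset.sum_congr rfl fun a _ => ?_
          rw [sub_eq_add_neg, AddChar.map_add_eq_mul]; ring
      _ = ∑ a : A, (y.coeff a : ℂ) * ∑ ψ : AddChar A ℂ, ψ (a - b) := by
          rw [Finset.sum_comm]
          refine Finset.sum_congr rfl fun a _ => ?_
          rw [Finset.mul_sum]
      _ = ∑ a : A, (y.coeff a : ℂ) * (if a - b = 0 then (Fintype.card A : ℂ) else 0) := by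
          refine Finset.sum_congr rfl fun a _ => ?_
          rw [AddChar.sum_apply_eq_ite]
      _ = (Fintype.card A : ℂ) * (y.coeff b : ℂ) := by
          rw [Finset.sum_eq_single b]
          · rw [sub_self, if_pos rfl, mul_comm]
          · intro a _ hab
            rw [if_neg (sub_ne_zero.mpr hab), mul_zero]
          · intro hb; exact absurd (Finset.mem_univ b) hb
  have h0 : (Fintype.card A : ℂ) * (y.coeff b : ℂ) = 0 := by
    rw [← key]
    exact Finset.sum_eq_zero fun ψ _ => by rw [h ψ, mul_zero]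
  have hc : (Fintype.card A : ℂ) ≠ 0 := Nat.cast_ne_zero.mpr Fintype.card_ne_zero
  have h2 := (mul_eq_zero.mp h0).resolve_left hc
  simpa using h2

theorem ev_Na_of_apply_eq_one (ψ : AddChar A ℂ) (a : A) (h : ψ a = 1) :
    ev ψ (Na ℤ a) = (addOrderOf a : ℂ) := by
  rw [Na, map_sum]
  simp only [map_pow, ev_single, h, one_pow]
  simp

theorem ev_Pk_eq_zero (ψ : AddChar A ℂ) (S : Finset A) (a : A) (ha : a ∈ S) (h : ψ a = 1) :
    ev ψ (Pk ℤ S) = 0 := by
  rw [Pk, map_prod]
  refine Finset.prod_eq_zero ha ?_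
  rw [map_sub, map_natCast, ev_Na_of_apply_eq_one ψ a h, sub_self]

theorem exists_ne_zero_of_not_injective (ψ : AddChar A ℂ) (h : ¬ Function.Injective ψ) :
    ∃ a : A, a ≠ 0 ∧ ψ a = 1 := by
  have hunit : ∀ a : A, ψ a ≠ 0 := by
    intro a h0
    have h1 : ψ (a + -a) = 1 := by rw [add_neg_cancel, AddChar.map_zero_eq_one]
    rw [AddChar.map_add_eq_mul, h0, zero_mul] at h1
    exact zero_ne_one h1
  by_contra hcon
  apply h
  intro c c' hcc
  by_contra hne
  apply hcon
  refine ⟨c - c', sub_ne_zero.mpr hne, ?_⟩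
  have h1 : ψ (c - c') * ψ c' = 1 * ψ c' := by
    rw [← AddChar.map_add_eq_mul, sub_add_cancel, hcc, one_mul]
  exact mul_right_cancel₀ (hunit c') h1

theorem isAddCyclic_of_injective (ψ : AddChar A ℂ) (h : Function.Injective ψ) : IsAddCyclic A := by
  have hcyc : IsCyclic (Multiplicative A) := by
    refine isCyclic_of_injective_ringHom ψ.toMonoidHom (fun x y hxy => ?_)
    rw [AddChar.toMonoidHom_apply, AddChar.toMonoidHom_apply] at hxy
    exact Multiplicative.toAdd.injective (h hxy)
  exact isCyclic_multiplicative_iff.mp hcyc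

theorem ev_cyclotomic_eq_zero (ψ : AddChar A ℂ) (h : Function.Injective ψ) (g : A)
    (hg : AddSubgroup.zmultiples g = ⊤) :
    ev ψ (Polynomial.aeval (AddMonoidAlgebra.single g (1 : ℤ)) (cyclotomic (Nat.card A) ℤ)) = 0 := by
  rw [← Polynomial.aeval_algHom_apply, ev_single]
  have hord : addOrderOf g = Nat.card A :=
    addOrderOf_eq_card_of_forall_mem_zmultiples (fun x => by rw [hg]; trivial)
  have hprim : IsPrimitiveRoot (ψ g) (Nat.card A) := by
    refine ⟨?_, fun l hl => ?_⟩
    · rw [← AddChar.map_nsmul_eq_pow, ← hord, addOrderOf_nsmul_eq_zero, AddChar.map_zero_eq_one]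
    · rw [← AddChar.map_nsmul_eq_pow, ← AddChar.map_zero_eq_one ψ] at hl
      have h3 := h hl
      rw [← hord]
      exact addOrderOf_dvd_of_nsmul_eq_zero h3
  have hroot := hprim.isRoot_cyclotomic Nat.card_pos
  rw [Polynomial.aeval_def, Polynomial.eval₂_eq_eval_map, algebraMap_int_eq, map_cyclotomic_int]
  exact hroot

theorem Pk_int_eq_zero_of_not_cyclic (S : Finset A) (hS : ∀ a : A, a ≠ 0 → a ∈ S)
    (hA : ¬ IsAddCyclic A) : Pk ℤ S = 0 := by
  apply eq_zero_of_forall_ev
  intro ψ
  have hψ : ¬ Function.Injective ψ := fun h => hA (isAddCyclic_of_injective ψ h)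
  obtain ⟨a, ha, h1⟩ := exists_ne_zero_of_not_injective ψ hψ
  exact ev_Pk_eq_zero ψ S a (hS a ha) h1

theorem cyclotomic_mul_Pk_int (S : Finset A) (hS : ∀ a : A, a ≠ 0 → a ∈ S) (g : A)
    (hg : AddSubgroup.zmultiples g = ⊤) :
    Polynomial.aeval (AddMonoidAlgebra.single g (1 : ℤ)) (cyclotomic (Nat.card A) ℤ) * Pk ℤ S
      = 0 := by
  apply eq_zero_of_forall_ev
  intro ψ
  rw [map_mul]
  by_cases hψ : Function.Injective ψ
  · rw [ev_cyclotomic_eq_zero ψ hψ g hg, zero_mul]
  · obtain ⟨a, ha, h1⟩ := exists_ne_zero_of_not_injective ψ hψ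
    rw [ev_Pk_eq_zero ψ S a (hS a ha) h1, mul_zero]

variable (Λ : Type*) [CommRing Λ]

theorem map_Na (a : A) :
    AddMonoidAlgebra.mapRingHom A (Int.castRingHom Λ) (Na ℤ a) = Na Λ a := by
  simp [Na, map_sum, AddMonoidAlgebra.mapRingHom_single]

theorem map_Pk (S : Finset A) :
    AddMonoidAlgebra.mapRingHom A (Int.castRingHom Λ) (Pk ℤ S) = Pk Λ S := by
  simp [Pk, map_prod, map_sub, map_natCast, map_Na]

theorem map_aeval_cyclotomic (g : A) (n : ℕ) :
    AddMonoidAlgebra.mapRingHom A (Int.castRingHom Λ)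
      (Polynomial.aeval (AddMonoidAlgebra.single g (1 : ℤ)) (cyclotomic n ℤ)) =
      Polynomial.aeval (AddMonoidAlgebra.single g (1 : Λ)) (cyclotomic n Λ) := by
  rw [← map_cyclotomic_int n Λ, Polynomial.aeval_def, Polynomial.aeval_def, Polynomial.hom_eval₂,
    Polynomial.eval₂_map, AddMonoidAlgebra.mapRingHom_single, map_one]
  congr 1
  exact RingHom.ext_int _ _

theorem Pk_eq_zero_of_not_cyclic (S : Finset A) (hS : ∀ a : A, a ≠ 0 → a ∈ S)
    (hA : ¬ IsAddCyclic A) : Pk Λ S = 0 := by
  rw [← map_Pk, Pk_int_eq_zero_of_not_cyclic S hS hA, map_zero]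

theorem cyclotomic_mul_Pk (S : Finset A) (hS : ∀ a : A, a ≠ 0 → a ∈ S) (g : A)
    (hg : AddSubgroup.zmultiples g = ⊤) :
    Polynomial.aeval (AddMonoidAlgebra.single g (1 : Λ)) (cyclotomic (Nat.card A) Λ) * Pk Λ S
      = 0 := by
  rw [← map_Pk, ← map_aeval_cyclotomic, ← map_mul, cyclotomic_mul_Pk_int S hS g hg, map_zero]

theorem eq_zero_of_forall_quotMap_zmultiples (hA : IsUnit ((Nat.card A : ℕ) : Λ))
    (x : AddMonoidAlgebra Λ A)
    (h1 : ∀ a : A, a ≠ 0 → quotMap Λ A (AddSubgroup.zmultiples a) x = 0)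
    (h2 : IsAddCyclic A → x ∈ cycIdeal Λ A) : x = 0 := by
  classical
  cases nonempty_fintype A
  let S : Finset A := Finset.univ.erase 0
  have hS : ∀ a : A, a ≠ 0 → a ∈ S := fun a ha => Finset.mem_erase.mpr ⟨ha, Finset.mem_univ a⟩
  have hS' : ∀ a ∈ S, a ≠ 0 := fun a ha => (Finset.mem_erase.mp ha).1
  have hmul := mul_Pk Λ S x (fun a ha => mul_Na_eq_zero_of_quotMap Λ a x (h1 a (hS' a ha)))
  have hzero : x * Pk Λ S = 0 := by
    by_cases hc : IsAddCyclic A
    · have hx := h2 hc
      refine Submodule.span_induction (p := fun y _ => y * Pk Λ S = 0) ?_ ?_ ?_ ?_ hx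
      · rintro y ⟨g, hg, rfl⟩
        exact cyclotomic_mul_Pk Λ S hS g hg
      · exact zero_mul _
      · intro y z _ _ hy hz
        rw [add_mul, hy, hz, add_zero]
      · intro r y _ hy
        rw [smul_eq_mul, mul_assoc, hy, mul_zero]
    · rw [Pk_eq_zero_of_not_cyclic Λ S hS hc, mul_zero]
  rw [hzero] at hmul
  have hunit : IsUnit (((∏ a ∈ S, addOrderOf a : ℕ)) : AddMonoidAlgebra Λ A) := by
    have hdvd : (∏ a ∈ S, addOrderOf a) ∣ (Nat.card A) ^ S.card := by
      rw [← Finset.prod_const]
      exact Finset.prod_dvd_prod_of_dvd _ _ (fun a _ => addOrderOf_dvd_natCard a)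
    have h3 : IsUnit (((Nat.card A) ^ S.card : ℕ) : Λ) := by
      rw [Nat.cast_pow]
      exact hA.pow _
    have h4 : IsUnit ((∏ a ∈ S, addOrderOf a : ℕ) : Λ) :=
      isUnit_of_dvd_unit (Nat.cast_dvd_cast hdvd) h3
    have h5 := h4.map (algebraMap Λ (AddMonoidAlgebra Λ A))
    rwa [map_natCast] at h5
  exact (hunit.mul_right_eq_zero).mp hmul.symm

end Char

section Main

universe u v

variable (Λ : Type u) [CommRing Λ]

theorem inj_aux : ∀ (n : ℕ) (A : Type v) [AddCommGroup A] [Finite A], Nat.card A = n →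
    IsUnit ((n : ℕ) : Λ) → ∀ x : AddMonoidAlgebra Λ A,
      (∀ B : AddSubgroup A, IsAddCyclic (A ⧸ B) → cycQuotMap Λ A B x = 0) → x = 0 := by
  intro n
  induction n using Nat.strong_induction_on with
  | _ n ih =>
    intro A _ _ hcard hunit x hx
    subst hcard
    apply eq_zero_of_forall_quotMap_zmultiples Λ hunit x
    · intro a ha
      have hlt : Nat.card (A ⧸ AddSubgroup.zmultiples a) < Nat.card A := by
        have h1 := AddSubgroup.card_eq_card_quotient_mul_card_addSubgroup (AddSubgroup.zmultiples a)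
        have h2 : 1 < Nat.card (AddSubgroup.zmultiples a) := by
          rw [AddSubgroup.one_lt_card_iff_ne_bot]
          intro hbot
          apply ha
          have h3 : a ∈ AddSubgroup.zmultiples a := AddSubgroup.mem_zmultiples a
          rw [hbot] at h3
          exact AddSubgroup.mem_bot.mp h3
        have h3 : 0 < Nat.card (A ⧸ AddSubgroup.zmultiples a) := Nat.card_pos
        nlinarith
      have hu' : IsUnit ((Nat.card (A ⧸ AddSubgroup.zmultiples a) : ℕ) : Λ) := by
        have h1 := AddSubgroup.card_eq_card_quotient_mul_card_addSubgroup (AddSubgroup.zmultiples a)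
        rw [h1, Nat.cast_mul] at hunit
        exact isUnit_of_mul_isUnit_left hunit
      apply ih (Nat.card (A ⧸ AddSubgroup.zmultiples a)) hlt (A ⧸ AddSubgroup.zmultiples a) rfl hu'
      intro C hC
      have hmap : (C.comap (QuotientAddGroup.mk' (AddSubgroup.zmultiples a))).map
          (QuotientAddGroup.mk' (AddSubgroup.zmultiples a)) = C :=
        AddSubgroup.map_comap_eq_self_of_surjective
          (QuotientAddGroup.mk'_surjective (AddSubgroup.zmultiples a)) C
      have hle : AddSubgroup.zmultiples a ≤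
          C.comap (QuotientAddGroup.mk' (AddSubgroup.zmultiples a)) := by
        intro b hb
        rw [AddSubgroup.mem_comap, QuotientAddGroup.mk'_apply,
          (QuotientAddGroup.eq_zero_iff b).mpr hb]
        exact C.zero_mem
      generalize C.comap (QuotientAddGroup.mk' (AddSubgroup.zmultiples a)) = B at hmap hle
      subst hmap
      rw [cycQuotMap_eq_zero_iff_of_le Λ A (AddSubgroup.zmultiples a) B hle]
      apply hx
      exact isAddCyclic_of_surjective
        (QuotientAddGroup.quotientQuotientEquivQuotient (AddSubgroup.zmultiples a) B hle)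
        (QuotientAddGroup.quotientQuotientEquivQuotient (AddSubgroup.zmultiples a) B hle).surjective
    · intro hc
      have hbot : IsAddCyclic (A ⧸ (⊥ : AddSubgroup A)) :=
        isAddCyclic_of_surjective (QuotientAddGroup.quotientBot (G := A)).symm
          (QuotientAddGroup.quotientBot (G := A)).symm.surjective
      have h0 := hx ⊥ hbot
      have h1 : quotMap Λ A ⊥ x ∈ cycIdeal Λ (A ⧸ (⊥ : AddSubgroup A)) :=
        Ideal.Quotient.eq_zero_iff_mem.mp h0
      have h2 := mapDomain_mem_cycIdeal Λ (QuotientAddGroup.quotientBot (G := A)) h1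
      have h3 : ∀ x : AddMonoidAlgebra Λ A, AddMonoidAlgebra.mapDomainRingHom Λ
          ((QuotientAddGroup.quotientBot (G := A) : _ ≃+ _) : _ →+ _) (quotMap Λ A ⊥ x) = x := by
        intro x
        induction x using AddMonoidAlgebra.induction_linear with
        | zero => simp
        | add u v hu hv => rw [map_add, map_add, hu, hv]
        | single c r =>
          rw [quotMap_single]
          show AddMonoidAlgebra.mapDomain _ _ = _
          rw [AddMonoidAlgebra.mapDomain_single]
          rfl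
      rwa [h3] at h2

variable (A : Type v) [AddCommGroup A] [Finite A]

theorem isCoprime_ker (hA : IsUnit ((Nat.card A : ℕ) : Λ)) (B B' : AddSubgroup A)
    [IsAddCyclic (A ⧸ B)] [IsAddCyclic (A ⧸ B')] (hne : B ≠ B') :
    IsCoprime (RingHom.ker (cycQuotMap Λ A B)) (RingHom.ker (cycQuotMap Λ A B')) := by
  have hunitB : ∀ D : AddSubgroup A, IsUnit ((D.index : ℕ) : Λ) := fun D => by
    obtain ⟨c, hc⟩ := D.index_dvd_card
    rw [hc, Nat.cast_mul] at hA
    exact isUnit_of_mul_isUnit_left hA
  rw [Ideal.isCoprime_iff_exists]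
  have key : ∀ (D D' : AddSubgroup A) [IsAddCyclic (A ⧸ D')] (b : A), b ∈ D → b ∉ D' →
      ∃ u, u ∈ RingHom.ker (cycQuotMap Λ A D) ∧ 1 - u ∈ RingHom.ker (cycQuotMap Λ A D') := by
    intro D D' _ b hb hb'
    obtain ⟨v, hv⟩ := exists_cycQuotMap_one_sub_mul Λ A D' (hunitB D') b hb'
    refine ⟨(1 - AddMonoidAlgebra.single b 1) * v, ?_, ?_⟩
    · rw [RingHom.mem_ker, map_mul]
      have h0 : cycQuotMap Λ A D (1 - AddMonoidAlgebra.single b 1) = 0 := by
        show Ideal.Quotient.mk _ (quotMap Λ A D (1 - AddMonoidAlgebra.single b 1)) = 0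
        rw [quotMap_one_sub_single_of_mem Λ A D b hb, map_zero]
      rw [h0, zero_mul]
    · rw [RingHom.mem_ker, map_sub, map_one, hv, sub_self]
  by_cases hle : B ≤ B'
  · have hne' : ¬ B' ≤ B := fun h => hne (le_antisymm hle h)
    obtain ⟨b', hb', hb'B⟩ := SetLike.not_le_iff_exists.mp hne'
    obtain ⟨u, hu1, hu2⟩ := key B' B b' hb' hb'B
    exact ⟨1 - u, hu2, u, hu1, by ring⟩
  · obtain ⟨b, hb, hbB'⟩ := SetLike.not_le_iff_exists.mp hle
    obtain ⟨u, hu1, hu2⟩ := key B B' b hb hbB'
    exact ⟨u, hu1, 1 - u, hu2, by ring⟩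

theorem bijective_pi_cycQuotMap (hA : IsUnit ((Nat.card A : ℕ) : Λ)) :
    Function.Bijective (RingHom.pi fun B : {B : AddSubgroup A // IsAddCyclic (A ⧸ B)} =>
      cycQuotMap Λ A B.1) := by
  constructor
  · rw [injective_iff_map_eq_zero]
    intro x hx
    apply inj_aux Λ (Nat.card A) A rfl hA x
    intro B hB
    exact congrFun hx ⟨B, hB⟩
  · intro y
    choose z hz using fun B : {B : AddSubgroup A // IsAddCyclic (A ⧸ B)} =>
      cycQuotMap_surjective Λ A B.1 (y B)
    have hpair : Pairwise (Function.onFun IsCoprime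
        (fun B : {B : AddSubgroup A // IsAddCyclic (A ⧸ B)} =>
          RingHom.ker (cycQuotMap Λ A B.1))) := by
      intro B B' hne
      have := B.2
      have := B'.2
      exact isCoprime_ker Λ A hA B.1 B'.1 (fun h => hne (Subtype.ext h))
    obtain ⟨r, hr⟩ := Ideal.exists_forall_sub_mem_ideal hpair z
    refine ⟨r, funext fun B => ?_⟩
    have h1 := hr B
    rw [RingHom.mem_ker, map_sub, sub_eq_zero] at h1
    show cycQuotMap Λ A B.1 r = y B
    rw [h1, hz]

end Main

end Groth.Agent.H96.CycDecomp
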