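import Mathlib
import Groth.Prelude.Def_SGA3b

/-!
# A Hopf algebra with a basis of group-like elements forming a subgroup is diagonalisable;
atoms of finitely many idempotents.
-/

set_option autoImplicit false
set_option linter.style.haveILetI false
universe u

namespace Groth.Agent.H96.DiagBasis

open TensorProduct Coalgebra

section Diag

variable (T : Type u) [CommRing T] (H : Type u) [CommRing H] [HopfAlgebra T H]

/-- If a subgroup of the group-like elements is a basis, the Hopf algebra is diagonalisable. -/
theorem isDiag_of_basis (M : Subgroup (GroupLike T H)) (b : Module.Basis M T H)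
    (hb : ∀ m : M, b m = (m : GroupLike T H).val) : SGA3b.IsDiag T H := by
  let F : MonoidAlgebra T M →ₐc[T] H :=
    (MonoidAlgebra.liftGroupLikeBialgHom (R := T) (A := H)).comp
      (MonoidAlgebra.mapDomainBialgHom T M.subtype)
  have hF : ∀ m : M, F (MonoidAlgebra.single m 1) = (m : GroupLike T H).val := by
    intro m
    simp [F]
  have hlin : (F : MonoidAlgebra T M →ₗ[T] H) =
      ((MonoidAlgebra.basis M T).equiv b (Equiv.refl M)).toLinearMap := by
    apply (MonoidAlgebra.basis M T).ext
    intro m
    have h1 : (MonoidAlgebra.basis M T) m = MonoidAlgebra.single m 1 := by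
      simp [MonoidAlgebra.basis]
    rw [LinearEquiv.coe_coe, Module.Basis.equiv_apply, h1]
    change F (MonoidAlgebra.single m 1) = _
    rw [hF, Equiv.refl_apply, hb]
  have hbij : Function.Bijective F := by
    have : (F : MonoidAlgebra T M → H) =
        ((MonoidAlgebra.basis M T).equiv b (Equiv.refl M)) := by
      funext x
      exact LinearMap.congr_fun hlin x
    rw [this]
    exact LinearEquiv.bijective _
  exact ⟨M, inferInstance, ⟨(BialgEquiv.ofBijective F hbij).symm⟩⟩

end Diag

section Atom

variable {T : Type*} [CommRing T] [Nontrivial T]

theorem exists_atom (s : Finset T) (hs : ∀ f ∈ s, IsIdempotentElem f) :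
    ∃ e : T, IsIdempotentElem e ∧ e ≠ 0 ∧ ∀ f ∈ s, e * f = 0 ∨ e * f = e := by
  classical
  induction s using Finset.induction_on with
  | empty => exact ⟨1, IsIdempotentElem.one, one_ne_zero, by simp⟩
  | insert a s ha ih =>
    obtain ⟨e, he, hne, hall⟩ := ih (fun f hf => hs f (Finset.mem_insert_of_mem hf))
    have hida : IsIdempotentElem a := hs a (Finset.mem_insert_self a s)
    by_cases hea : e * a = 0
    · refine ⟨e, he, hne, fun f hf => ?_⟩
      rcases Finset.mem_insert.mp hf with rfl | hf
      · exact Or.inl hea
      · exact hall f hf
    · refine ⟨e * a, he.mul hida, hea, fun f hf => ?_⟩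
      rcases Finset.mem_insert.mp hf with rfl | hf
      · right
        rw [mul_assoc, hida.eq]
      · rcases hall f hf with h | h
        · left
          rw [mul_right_comm, h, zero_mul]
        · right
          rw [mul_right_comm, h]

end Atom

end Groth.Agent.H96.DiagBasis
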