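import Mathlib
import Groth.Prelude.Def_CartDual
import Groth.Prelude.Def_CartDual2

/-!
# The basis of group-like elements of a Hopf algebra whose dual is split
-/

set_option autoImplicit false
set_option linter.style.haveILetI false
set_option linter.unusedSectionVars false
universe u

namespace Groth.Agent.H96.GrpLikeBasis

open TensorProduct Coalgebra WithConv

variable (T : Type u) [CommRing T] (H : Type u) [CommRing H] [HopfAlgebra T H]
  [Module.Finite T H] [Module.Projective T H]

/-- the pairing `D ⊗ D` with `H ⊗ H` separates points. -/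
theorem eq_zero_of_forall_ev₂ (t : H ⊗[T] H)
    (h : ∀ x x' : CartDual.D T H, CartDual.ev₂ T H (x ⊗ₜ x') t = 0) : t = 0 := by
  rw [← Module.forall_dual_apply_eq_zero_iff T]
  intro f
  obtain ⟨y, rfl⟩ := (CartDual.ev₂ T H).surjective f
  induction y using TensorProduct.induction_on with
  | zero => simp
  | tmul x x' => exact h x x'
  | add y y' hy hy' => rw [map_add, LinearMap.add_apply, hy, hy', add_zero]

theorem ev₂_tmul_comul (x x' : CartDual.D T H) (b : H) :
    CartDual.ev₂ T H (x ⊗ₜ x') (comul (R := T) b) = (x * x') b := by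
  rw [CartDual.ev₂_tmul_eq', LinearMap.convMul_apply]
  rfl

variable {ι : Type} [Fintype ι] [DecidableEq ι]
variable (ψ : CartDual.D T H ≃ₐ[T] (ι → T))

/-- The identification of the dual of `ι → T` with `H`. -/
noncomputable def eH : Module.Dual T (ι → T) ≃ₗ[T] H :=
  (((CartDual.toDual T H).symm ≪≫ₗ ψ.toLinearEquiv).dualMap) ≪≫ₗ (Module.evalEquiv T H).symm

lemma apply_eH (ℓ : Module.Dual T (ι → T)) (x : CartDual.D T H) :
    x (eH T H ψ ℓ) = ℓ (ψ x) := by
  change x.ofConv ((Module.evalEquiv T H).symm _) = _
  rw [Module.apply_evalEquiv_symm_apply]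
  rfl

/-- The basis of `H` dual to the split structure of the dual. -/
noncomputable def gB : Module.Basis ι T H := ((Pi.basisFun T ι).dualBasis).map (eH T H ψ)

lemma apply_gB (x : CartDual.D T H) (k : ι) : x (gB T H ψ k) = ψ x k := by
  rw [gB, Module.Basis.map_apply, apply_eH]
  simp [Module.Basis.dualBasis_apply]

lemma isGroupLikeElem_gB (k : ι) : IsGroupLikeElem T (gB T H ψ k) where
  counit_eq_one := by
    have h := apply_gB T H ψ (1 : CartDual.D T H) k
    rw [map_one, Pi.one_apply] at h
    exact h
  comul_eq_tmul_self := by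
    rw [← sub_eq_zero]
    apply eq_zero_of_forall_ev₂
    intro x x'
    rw [map_sub, ev₂_tmul_comul, apply_gB, map_mul, Pi.mul_apply, CartDual.ev₂_tmul, apply_gB,
      apply_gB, sub_self]

section Coef

variable {T H}

/-- Evaluation at a group-like element is an algebra map on the dual. -/
noncomputable def evalGL (p : H) (hp : IsGroupLikeElem T p) : CartDual.D T H →ₐ[T] T where
  toFun x := x p
  map_one' := by
    change algebraMap T T (counit (R := T) p) = 1
    rw [hp.counit_eq_one, map_one]
  map_mul' x y := by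
    change (x * y) p = x p * y p
    rw [LinearMap.convMul_apply, hp.comul_eq_tmul_self]
    rfl
  map_zero' := rfl
  map_add' x y := rfl
  commutes' r := by
    change algebraMap T (CartDual.D T H) r p = _
    rw [LinearMap.convAlgebraMap_apply, hp.counit_eq_one, map_one, Algebra.algebraMap_self,
      RingHom.id_apply, smul_eq_mul, mul_one]

@[simp] lemma evalGL_apply (p : H) (hp : IsGroupLikeElem T p) (x : CartDual.D T H) :
    evalGL p hp x = x p := rfl

variable {ψ} in
/-- The coefficients of a group-like element in the basis `gB`. -/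
noncomputable def coef (ψ : CartDual.D T H ≃ₐ[T] (ι → T)) (p : H) (hp : IsGroupLikeElem T p)
    (k : ι) : T :=
  evalGL p hp (ψ.symm (Pi.single k 1))

lemma coef_idem (p : H) (hp : IsGroupLikeElem T p) (k : ι) :
    IsIdempotentElem (coef ψ p hp k) := by
  change coef ψ p hp k * coef ψ p hp k = coef ψ p hp k
  rw [coef, ← map_mul, ← map_mul, ← Pi.single_mul, one_mul]

lemma coef_orth (p : H) (hp : IsGroupLikeElem T p) {k l : ι} (hkl : k ≠ l) :
    coef ψ p hp k * coef ψ p hp l = 0 := by
  rw [coef, coef, ← map_mul, ← map_mul]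
  have : (Pi.single k 1 * Pi.single l 1 : ι → T) = 0 := by
    funext i
    by_cases hik : i = k
    · subst hik
      simp [Pi.single_eq_of_ne hkl]
    · simp [Pi.single_eq_of_ne hik]
  rw [this, map_zero, map_zero]

lemma coef_sum (p : H) (hp : IsGroupLikeElem T p) : ∑ k, coef ψ p hp k = 1 := by
  simp only [coef]
  rw [← map_sum, ← map_sum]
  have : (∑ k, Pi.single k 1 : ι → T) = 1 := by
    funext i
    simp [Finset.sum_apply, Pi.single_apply]
  rw [this, map_one, map_one]

lemma eq_sum_coef (p : H) (hp : IsGroupLikeElem T p) :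
    p = ∑ k, coef ψ p hp k • gB T H ψ k := by
  rw [← sub_eq_zero, ← Module.forall_dual_apply_eq_zero_iff T]
  intro f
  rw [map_sub, sub_eq_zero, map_sum]
  have h1 : ψ (toConv f) = ∑ k, (ψ (toConv f) k) • (Pi.single k 1 : ι → T) := by
    funext i
    simp [Finset.sum_apply, Pi.single_apply]
  have h2 : f p = evalGL p hp (ψ.symm (ψ (toConv f))) := by
    rw [AlgEquiv.symm_apply_apply]
    rfl
  rw [h2, h1, map_sum, map_sum]
  refine Finset.sum_congr rfl (fun k _ => ?_)
  rw [map_smul, map_smul, map_smul, smul_eq_mul, smul_eq_mul]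
  have h3 : f (gB T H ψ k) = ψ (toConv f) k := apply_gB T H ψ (toConv f) k
  rw [h3, mul_comm]
  rfl

end Coef

end Groth.Agent.H96.GrpLikeBasis
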