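import Mathlib
import Groth.Agent.H96.DiagBasis
import Groth.Agent.H96.GrpLikeBasis

/-!
# A finite Hopf algebra with split dual becomes diagonalisable on a clopen piece
-/

set_option autoImplicit false
set_option linter.style.haveILetI false
set_option linter.unusedSectionVars false
universe u

namespace Groth.Agent.H96.DiagLocal

open TensorProduct Coalgebra WithConv Groth.Agent.H96.GrpLikeBasis Groth.Agent.H96.DiagBasis

section

variable (T : Type u) [CommRing T] (H : Type u) [CommRing H] [HopfAlgebra T H]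
variable (T' : Type u) [CommRing T'] [Algebra T T']

lemma isGroupLikeElem_one_tmul {g : H} (hg : IsGroupLikeElem T g) :
    IsGroupLikeElem T' ((1 : T') ⊗ₜ[T] g) where
  counit_eq_one := by
    rw [TensorProduct.counit_tmul, hg.counit_eq_one]
    simp
  comul_eq_tmul_self := by
    rw [TensorProduct.comul_tmul, hg.comul_eq_tmul_self, CommSemiring.comul_apply]
    simp

end

section

variable (T : Type u) [CommRing T] (H : Type u) [CommRing H] [HopfAlgebra T H]
  [Module.Finite T H] [Module.Projective T H]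
variable {ι : Type} [Fintype ι] [DecidableEq ι]
variable (ψ : CartDual.D T H ≃ₐ[T] (ι → T))
variable (T' : Type u) [CommRing T'] [Algebra T T'] [Nontrivial T']

/-- If the coefficients of `p` become `0` or `1` in `T'`, then `1 ⊗ p` is a basis vector. -/
lemma exists_one_tmul_eq (p : H) (hp : IsGroupLikeElem T p)
    (h01 : ∀ k, algebraMap T T' (coef ψ p hp k) = 0 ∨ algebraMap T T' (coef ψ p hp k) = 1) :
    ∃ κ : ι, (1 : T') ⊗ₜ[T] p = (1 : T') ⊗ₜ[T] gB T H ψ κ := by
  have hex : ∃ κ, algebraMap T T' (coef ψ p hp κ) = 1 := by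
    by_contra hcon
    push_neg at hcon
    have h0 : ∀ k, algebraMap T T' (coef ψ p hp k) = 0 := fun k =>
      (h01 k).resolve_right (hcon k)
    have h1 := congrArg (algebraMap T T') (coef_sum ψ p hp)
    rw [map_sum, map_one, Finset.sum_eq_zero (fun k _ => h0 k)] at h1
    exact zero_ne_one h1
  obtain ⟨κ, hκ⟩ := hex
  refine ⟨κ, ?_⟩
  have hz : ∀ l, l ≠ κ → algebraMap T T' (coef ψ p hp l) = 0 := by
    intro l hl
    have := congrArg (algebraMap T T') (coef_orth ψ p hp hl)
    rw [map_mul, hκ, mul_one, map_zero] at this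
    exact this
  conv_lhs => rw [eq_sum_coef ψ p hp]
  rw [TensorProduct.tmul_sum]
  rw [Finset.sum_eq_single κ]
  · rw [TensorProduct.tmul_smul, TensorProduct.smul_tmul', Algebra.smul_def, mul_one, hκ]
  · intro l _ hl
    rw [TensorProduct.tmul_smul, TensorProduct.smul_tmul', Algebra.smul_def, mul_one, hz l hl,
      TensorProduct.zero_tmul]
  · intro h
    exact absurd (Finset.mem_univ κ) h

/-- Diagonalisability after a base change trivialising the structure idempotents. -/
theorem isDiag_baseChange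
    (h01 : ∀ (p : H) (hp : IsGroupLikeElem T p),
      (p = 1 ∨ (∃ i j, p = gB T H ψ i * gB T H ψ j) ∨
        (∃ i, p = HopfAlgebra.antipode T (gB T H ψ i))) →
      ∀ k, algebraMap T T' (coef ψ p hp k) = 0 ∨ algebraMap T T' (coef ψ p hp k) = 1) :
    SGA3b.IsDiag T' (T' ⊗[T] H) := by
  classical
  have hgl : ∀ k, IsGroupLikeElem T (gB T H ψ k) := isGroupLikeElem_gB T H ψ
  let g' : ι → GroupLike T' (T' ⊗[T] H) := fun k =>
    ⟨(1 : T') ⊗ₜ[T] gB T H ψ k, isGroupLikeElem_one_tmul T H T' (hgl k)⟩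
  have hg'val : ∀ k, (g' k).val = (1 : T') ⊗ₜ[T] gB T H ψ k := fun k => rfl
  let b' : Module.Basis ι T' (T' ⊗[T] H) := (gB T H ψ).baseChange T'
  have hb' : ∀ k, b' k = (1 : T') ⊗ₜ[T] gB T H ψ k := fun k =>
    Module.Basis.baseChange_apply T' (gB T H ψ) k
  have hinj : Function.Injective g' := by
    intro k l hkl
    apply b'.injective
    rw [hb', hb']
    exact congrArg GroupLike.val hkl
  let M : Subgroup (GroupLike T' (T' ⊗[T] H)) :=
    { carrier := Set.range g'
      mul_mem' := by
        rintro _ _ ⟨i, rfl⟩ ⟨j, rfl⟩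
        obtain ⟨κ, hκ⟩ := exists_one_tmul_eq T H ψ T' _ ((hgl i).mul (hgl j))
          (h01 _ ((hgl i).mul (hgl j)) (Or.inr (Or.inl ⟨i, j, rfl⟩)))
        refine ⟨κ, ?_⟩
        apply GroupLike.val_injective
        rw [GroupLike.val_mul, hg'val, hg'val, hg'val, Algebra.TensorProduct.tmul_mul_tmul,
          one_mul, hκ]
      one_mem' := by
        obtain ⟨κ, hκ⟩ := exists_one_tmul_eq T H ψ T' 1 IsGroupLikeElem.one
          (h01 _ IsGroupLikeElem.one (Or.inl rfl))
        refine ⟨κ, ?_⟩
        apply GroupLike.val_injective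
        rw [GroupLike.val_one, hg'val, ← hκ, Algebra.TensorProduct.one_def]
      inv_mem' := by
        rintro _ ⟨i, rfl⟩
        obtain ⟨κ, hκ⟩ := exists_one_tmul_eq T H ψ T' _ (hgl i).antipode
          (h01 _ (hgl i).antipode (Or.inr (Or.inr ⟨i, rfl⟩)))
        refine ⟨κ, ?_⟩
        symm
        apply inv_eq_of_mul_eq_one_right
        apply GroupLike.val_injective
        rw [GroupLike.val_mul, hg'val, hg'val, ← hκ, Algebra.TensorProduct.tmul_mul_tmul,
          one_mul, (hgl i).mul_antipode_cancel, GroupLike.val_one, Algebra.TensorProduct.one_def] }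
  let eqv : ι ≃ M := Equiv.ofBijective (fun k => ⟨g' k, ⟨k, rfl⟩⟩)
    ⟨fun k l hkl => hinj (congrArg Subtype.val hkl), fun ⟨m, ⟨k, hk⟩⟩ => ⟨k, Subtype.ext hk⟩⟩
  let b : Module.Basis M T' (T' ⊗[T] H) := b'.reindex eqv
  refine isDiag_of_basis T' (T' ⊗[T] H) M b (fun m => ?_)
  obtain ⟨k, rfl⟩ := eqv.surjective m
  rw [Module.Basis.reindex_apply, Equiv.symm_apply_apply, hb']
  rfl

end

end Groth.Agent.H96.DiagLocal
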