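import Mathlib
import Groth.Prelude.Def_CartDual
import Groth.Prelude.Def_CartDual2

/-!
# Base change of the dual bialgebra

For a finite projective cocommutative bialgebra `B` over `R` and an `R`-algebra `S`,
`S ⊗[R] D R B ≃ₐ[S] D S (S ⊗[R] B)`.
-/

set_option autoImplicit false
set_option linter.style.haveILetI false
universe u

namespace Groth.Agent.H96.DualBC

open TensorProduct Coalgebra WithConv

section BaseChange

variable (R : Type u) [CommRing R] (S : Type u) [CommRing S] [Algebra R S]
variable (B : Type u) [CommRing B] [Bialgebra R B]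

/-- Base change of a linear functional. -/
noncomputable def bc (φ : B →ₗ[R] R) : S ⊗[R] B →ₗ[S] S :=
  (AlgebraTensorModule.rid R S S).toLinearMap ∘ₗ (φ.baseChange S)

@[simp] lemma bc_tmul (φ : B →ₗ[R] R) (c : S) (a : B) : bc R S B φ (c ⊗ₜ a) = φ a • c := by
  simp [bc]

lemma bc_add (φ ψ : B →ₗ[R] R) : bc R S B (φ + ψ) = bc R S B φ + bc R S B ψ := by
  apply TensorProduct.AlgebraTensorModule.ext
  intro c a
  simp [add_smul]

lemma bc_smul (r : R) (φ : B →ₗ[R] R) : bc R S B (r • φ) = algebraMap R S r • bc R S B φ := by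
  apply TensorProduct.AlgebraTensorModule.ext
  intro c a
  simp [Algebra.smul_def, mul_assoc]

lemma bc_mul (φ ψ : CartDual.D R B) :
    toConv (bc R S B (φ * ψ).ofConv) = toConv (bc R S B φ.ofConv) * toConv (bc R S B ψ.ofConv) := by
  have key : ∀ (c : S) (t : B ⊗[R] B),
      LinearMap.mul' S S (TensorProduct.map (bc R S B φ.ofConv) (bc R S B ψ.ofConv)
        (AlgebraTensorModule.tensorTensorTensorComm R S R S S S B B
          (((1 : S) ⊗ₜ[S] (c : S)) ⊗ₜ[R] t))) =
      LinearMap.mul' R R (TensorProduct.map φ.ofConv ψ.ofConv t) • (c : S) := by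
    intro c t
    induction t using TensorProduct.induction_on with
    | zero => simp
    | tmul a b =>
      simp [Algebra.smul_def]
      ring
    | add x y hx hy =>
      simp only [tmul_add, map_add, hx, hy, add_smul]
  apply WithConv.ext
  apply TensorProduct.AlgebraTensorModule.ext
  intro c a
  change bc R S B (φ * ψ).ofConv (c ⊗ₜ[R] a) =
    LinearMap.mul' S S (TensorProduct.map (bc R S B φ.ofConv) (bc R S B ψ.ofConv)
      (comul (R := S) (c ⊗ₜ[R] a)))
  rw [TensorProduct.comul_tmul, CommSemiring.comul_apply, key, bc_tmul]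
  rfl

lemma bc_one : toConv (bc R S B (1 : CartDual.D R B).ofConv) = 1 := by
  apply WithConv.ext
  apply TensorProduct.AlgebraTensorModule.ext
  intro c a
  change bc R S B (1 : CartDual.D R B).ofConv (c ⊗ₜ[R] a) =
    algebraMap S S (counit (R := S) (c ⊗ₜ[R] a))
  rw [bc_tmul, TensorProduct.counit_tmul]
  rfl

/-- Base change of functionals as a ring homomorphism of convolution algebras. -/
noncomputable def bcHom : CartDual.D R B →+* CartDual.D S (S ⊗[R] B) where
  toFun x := toConv (bc R S B x.ofConv)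
  map_one' := bc_one R S B
  map_mul' := bc_mul R S B
  map_zero' := by
    apply WithConv.ext
    apply TensorProduct.AlgebraTensorModule.ext
    intro c a
    simp
  map_add' x y := by
    apply WithConv.ext
    change bc R S B (x.ofConv + y.ofConv) = _
    rw [bc_add]
    rfl

@[simp] lemma bcHom_apply_tmul (x : CartDual.D R B) (c : S) (a : B) :
    bcHom R S B x (c ⊗ₜ a) = x a • c := bc_tmul R S B x.ofConv c a

lemma bcHom_smul (r : R) (x : CartDual.D R B) :
    bcHom R S B (r • x) = algebraMap R S r • bcHom R S B x := by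
  apply WithConv.ext
  change bc R S B (r • x.ofConv) = _
  rw [bc_smul]
  rfl

end BaseChange

section Equiv

variable (R : Type u) [CommRing R] (S : Type u) [CommRing S] [Algebra R S]
variable (B : Type u) [CommRing B] [Bialgebra R B]

instance instTower : IsScalarTower R S (CartDual.D S (S ⊗[R] B)) :=
  ⟨fun r s x => by
    apply WithConv.ext
    show (r • s) • x.ofConv = r • (s • x.ofConv)
    exact smul_assoc r s x.ofConv⟩

/-- `bcHom` as an `R`-linear map. -/
noncomputable def bcLin : CartDual.D R B →ₗ[R] CartDual.D S (S ⊗[R] B) where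
  toFun := bcHom R S B
  map_add' := map_add _
  map_smul' r x := by
    rw [bcHom_smul, algebraMap_smul]
    rfl

/-- The comparison map `S ⊗[R] D R B → D S (S ⊗[R] B)`. -/
noncomputable def cmpLin : S ⊗[R] CartDual.D R B →ₗ[S] CartDual.D S (S ⊗[R] B) :=
  LinearMap.liftBaseChange S (bcLin R S B)

lemma cmpLin_tmul (s : S) (x : CartDual.D R B) :
    cmpLin R S B (s ⊗ₜ x) = s • bcHom R S B x :=
  LinearMap.liftBaseChange_tmul ..

lemma cmpLin_tmul_apply (s : S) (x : CartDual.D R B) (c : S) (a : B) :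
    cmpLin R S B (s ⊗ₜ x) (c ⊗ₜ a) = s * (x a • c) := by
  rw [cmpLin_tmul]
  change s • (bcHom R S B x (c ⊗ₜ a)) = _
  rw [bcHom_apply_tmul, smul_eq_mul]

variable [Module.Finite R B] [Module.Projective R B]

lemma cmpLin_bijective : Function.Bijective (cmpLin R S B) := by
  let e₁ : S ⊗[R] CartDual.D R B ≃ₗ[R] Module.Dual R B ⊗[R] S :=
    TensorProduct.congr (LinearEquiv.refl R S) (CartDual.toDual R B) ≪≫ₗ
      TensorProduct.comm R S (Module.Dual R B)
  let e₂ : Module.Dual R B ⊗[R] S ≃ₗ[R] (B →ₗ[R] S) := dualTensorHomEquiv R B S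
  let e₃ : (B →ₗ[R] S) ≃ₗ[S] (S ⊗[R] B →ₗ[S] S) := LinearMap.liftBaseChangeEquiv S
  let e₄ : (S ⊗[R] B →ₗ[S] S) ≃ₗ[S] CartDual.D S (S ⊗[R] B) := (CartDual.toDual S (S ⊗[R] B)).symm
  have h : ∀ t, cmpLin R S B t = e₄ (e₃ (e₂ (e₁ t))) := by
    intro t
    induction t using TensorProduct.induction_on with
    | zero => simp
    | tmul s x =>
      apply WithConv.ext
      apply TensorProduct.AlgebraTensorModule.ext
      intro c a
      have h1 : (cmpLin R S B (s ⊗ₜ x)).ofConv (c ⊗ₜ a) = s * (x a • c) :=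
        cmpLin_tmul_apply R S B s x c a
      rw [h1]
      simp only [e₁, e₂, e₃, e₄, LinearEquiv.trans_apply, TensorProduct.congr_tmul,
        LinearEquiv.refl_apply, TensorProduct.comm_tmul, dualTensorHomEquiv,
        LinearEquiv.ofBijective_apply, dualTensorHom_apply]
      change _ = (LinearMap.liftBaseChange S _) (c ⊗ₜ a)
      rw [LinearMap.liftBaseChange_tmul]
      simp [Algebra.smul_def, CartDual.coe_apply]
      ring
    | add t t' ht ht' => simp only [map_add, ht, ht']
  have hf : (cmpLin R S B : _ → _) = e₄ ∘ e₃ ∘ e₂ ∘ e₁ := funext h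
  rw [hf]
  exact e₄.bijective.comp (e₃.bijective.comp (e₂.bijective.comp e₁.bijective))

/-- `S ⊗[R] D R B ≃ₐ[S] D S (S ⊗[R] B)`. -/
noncomputable def cmpEquiv : S ⊗[R] CartDual.D R B ≃ₐ[S] CartDual.D S (S ⊗[R] B) :=
  Algebra.TensorProduct.algEquivOfLinearEquivTensorProduct
    (LinearEquiv.ofBijective (cmpLin R S B) (cmpLin_bijective R S B))
    (fun a₁ a₂ b₁ b₂ => by
      simp only [LinearEquiv.ofBijective_apply, cmpLin_tmul, map_mul]
      rw [smul_mul_smul_comm])
    (by
      simp only [LinearEquiv.ofBijective_apply, cmpLin_tmul, map_one, one_smul])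

lemma cmpEquiv_tmul (s : S) (x : CartDual.D R B) :
    cmpEquiv R S B (s ⊗ₜ x) = s • bcHom R S B x := cmpLin_tmul R S B s x

/-- Étaleness of the dual descends along faithfully flat base change. -/
theorem etale_of_faithfullyFlat [Coalgebra.IsCocomm R B] [Module.FaithfullyFlat R S]
    (h : Algebra.Etale S (CartDual.D S (S ⊗[R] B))) : Algebra.Etale R (CartDual.D R B) := by
  have e : (S ⊗[R] CartDual.D R B) ≃ₐ[S] CartDual.D S (S ⊗[R] B) := cmpEquiv R S B
  haveI : Algebra.Etale S (S ⊗[R] CartDual.D R B) := Algebra.Etale.of_equiv (A := CartDual.D S (S ⊗[R] B)) (B := S ⊗[R] CartDual.D R B) e.symm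
  exact Algebra.Etale.of_etale_tensorProduct_of_faithfullyFlat S

/-- Étaleness of the dual is stable under base change. -/
theorem etale_baseChange [Coalgebra.IsCocomm R B]
    (h : Algebra.Etale R (CartDual.D R B)) : Algebra.Etale S (CartDual.D S (S ⊗[R] B)) := by
  haveI : Algebra.Etale S (S ⊗[R] CartDual.D R B) := inferInstance
  have e : (S ⊗[R] CartDual.D R B) ≃ₐ[S] CartDual.D S (S ⊗[R] B) := cmpEquiv R S B
  exact Algebra.Etale.of_equiv (A := S ⊗[R] CartDual.D R B) (B := CartDual.D S (S ⊗[R] B)) e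

end Equiv

end Groth.Agent.H96.DualBC
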