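import Mathlib
import Groth.Prelude.Def_CartDual
import Groth.Prelude.Def_CartDual2
import Groth.Agent.H96.DualBC

/-!
# Cartier duals: base change, transposes and biduality as bialgebra isomorphisms
-/

set_option autoImplicit false
set_option linter.style.haveILetI false
set_option linter.unusedSectionVars false
universe u

namespace Groth.Agent.H96.DualBialg

open TensorProduct Coalgebra CartDual

section Transpose

variable (R : Type u) [CommRing R] {A B : Type u} [Ring A] [Bialgebra R A] [Ring B] [Bialgebra R B]
  [Module.Finite R A] [Module.Projective R A] [Module.Finite R B] [Module.Projective R B]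

/-- The transpose of a bialgebra isomorphism. -/
noncomputable def transposeEquiv (e : A ≃ₐc[R] B) : D R B ≃ₐc[R] D R A :=
  BialgEquiv.ofBialgHom (transpose R (e : A →ₐc[R] B)) (transpose R (e.symm : B →ₐc[R] A))
    (by
      apply BialgHom.ext
      intro x
      apply WithConv.ext
      apply LinearMap.ext
      intro a
      change x.ofConv (e.symm (e a)) = x.ofConv a
      rw [BialgEquiv.symm_apply_apply])
    (by
      apply BialgHom.ext
      intro x
      apply WithConv.ext
      apply LinearMap.ext
      intro b
      change x.ofConv (e (e.symm b)) = x.ofConv b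
      rw [BialgEquiv.apply_symm_apply])

end Transpose

section Eval

variable (R : Type u) [CommRing R] (A : Type u) [Ring A] [Bialgebra R A]
  [Module.Finite R A] [Module.Projective R A]

lemma eval_bijective : Function.Bijective (CartDual.eval R A) := by
  have h1 : Function.Bijective (Module.Dual.eval R A) := Module.bijective_dual_eval R A
  have h2 : (CartDual.eval R A : A → D R (D R A)) =
      (toDual R (D R A)).symm ∘ ((toDual R A).dualMap) ∘ (Module.Dual.eval R A) := by
    funext a
    rfl
  rw [h2]
  exact (toDual R (D R A)).symm.bijective.comp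
    (((toDual R A).dualMap).bijective.comp h1)

/-- Biduality as a bialgebra isomorphism. -/
noncomputable def evalEquiv : A ≃ₐc[R] D R (D R A) := by
  exact BialgEquiv.ofBijective (R := R) (A := A) (B := D R (D R A)) (CartDual.eval R A)
    (eval_bijective R A)

end Eval

section BaseChange

open DualBC

variable (R : Type u) [CommRing R] (S : Type u) [CommRing S] [Algebra R S]
variable (B : Type u) [CommRing B] [Bialgebra R B] [Module.Finite R B] [Module.Projective R B]

lemma ev₂_map_cmp (t : D R B ⊗[R] D R B) (c₁ c₂ : S) (b₁ b₂ : B) :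
    ev₂ S (S ⊗[R] B) (TensorProduct.map (cmpEquiv R S B).toLinearMap (cmpEquiv R S B).toLinearMap
      (AlgebraTensorModule.tensorTensorTensorComm R S R S S S (D R B) (D R B)
        (((1 : S) ⊗ₜ[S] (1 : S)) ⊗ₜ[R] t))) ((c₁ ⊗ₜ[R] b₁) ⊗ₜ[S] (c₂ ⊗ₜ[R] b₂)) =
      ev₂ R B t (b₁ ⊗ₜ b₂) • (c₁ * c₂) := by
  induction t using TensorProduct.induction_on with
  | zero => simp
  | tmul x₁ x₂ =>
    rw [AlgebraTensorModule.tensorTensorTensorComm_tmul, TensorProduct.map_tmul]
    simp only [AlgEquiv.toLinearMap_apply]
    rw [cmpEquiv_tmul, cmpEquiv_tmul, one_smul, one_smul, ev₂_tmul, ev₂_tmul,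
      bcHom_apply_tmul, bcHom_apply_tmul, smul_mul_smul_comm]
  | add x y hx hy =>
    simp only [tmul_add, map_add, LinearMap.add_apply, hx, hy, add_smul]

/-- The comparison `S ⊗ D R B ≃ D S (S ⊗ B)` as a bialgebra isomorphism. -/
noncomputable def cmpBialg : S ⊗[R] D R B ≃ₐc[S] D S (S ⊗[R] B) := by
  refine BialgEquiv.ofAlgEquiv (R := S) (A := S ⊗[R] D R B) (B := D S (S ⊗[R] B))
    (cmpEquiv R S B) ?_ ?_
  · apply AlgHom.ext
    intro z
    induction z using TensorProduct.induction_on with
    | zero => simp
    | tmul s x =>
      simp only [AlgHom.comp_apply, Bialgebra.counitAlgHom_apply]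
      change counit (R := S) (cmpEquiv R S B (s ⊗ₜ[R] x)) = _
      rw [cmpEquiv_tmul, TensorProduct.counit_tmul, CommSemiring.counit_apply,
        CartDual.coalgebra_counit_apply, CartDual.coalgebra_counit_apply]
      change s • (bcHom R S B x) (1 : S ⊗[R] B) = _
      rw [Algebra.TensorProduct.one_def, bcHom_apply_tmul, smul_eq_mul, Algebra.smul_def,
        Algebra.smul_def, mul_one, mul_comm]
    | add x y hx hy => rw [map_add, map_add, hx, hy]
  · apply AlgHom.ext
    intro z
    induction z using TensorProduct.induction_on with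
    | zero => simp
    | tmul s x =>
      have h1 : s ⊗ₜ[R] x = s • ((1 : S) ⊗ₜ[R] x) := by
        rw [smul_tmul', smul_eq_mul, mul_one]
      rw [h1, map_smul, map_smul]
      congr 1
      simp only [AlgHom.comp_apply, Bialgebra.comulAlgHom_apply]
      apply (ev₂ S (S ⊗[R] B)).injective
      apply TensorProduct.ext'
      intro a b
      rw [TensorProduct.comul_tmul, CommSemiring.comul_apply]
      change ev₂ S (S ⊗[R] B) (TensorProduct.map (cmpEquiv R S B).toLinearMap
        (cmpEquiv R S B).toLinearMap _) (a ⊗ₜ[S] b) =
        ev₂ S (S ⊗[R] B) (comul (R := S) (cmpEquiv R S B ((1 : S) ⊗ₜ[R] x))) (a ⊗ₜ[S] b)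
      rw [ev₂_coalgebra_comul_tmul, cmpEquiv_tmul, one_smul]
      induction a using TensorProduct.induction_on with
      | zero => simp
      | tmul c₁ b₁ =>
        induction b using TensorProduct.induction_on with
        | zero => simp
        | tmul c₂ b₂ =>
          rw [ev₂_map_cmp, ev₂_coalgebra_comul_tmul, Algebra.TensorProduct.tmul_mul_tmul,
            bcHom_apply_tmul]
        | add y y' hy hy' => rw [tmul_add, map_add, hy, hy', mul_add, map_add]
      | add y y' hy hy' => rw [add_tmul, map_add, hy, hy', add_mul, map_add]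
    | add x y hx hy => rw [map_add, map_add, hx, hy]

end BaseChange

end Groth.Agent.H96.DualBialg
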