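import Mathlib
import Groth.Prelude.Def_CartDual
import Groth.Prelude.Def_CartDual2

/-!
# The dual of a group algebra; transport of duals along bialgebra isomorphisms
-/

set_option autoImplicit false
set_option linter.style.haveILetI false
universe u

namespace Groth.Agent.H96.DualGA

open TensorProduct Coalgebra WithConv

section Congr

variable (S : Type u) [CommRing S] {A A' : Type u} [CommRing A] [Bialgebra S A]
  [CommRing A'] [Bialgebra S A']

/-- Cocommutativity transfers along coalgebra isomorphisms. -/
theorem isCocomm_of_equiv (e : A ≃ₐc[S] A') [IsCocomm S A'] : IsCocomm S A := by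
  constructor
  apply LinearMap.ext
  intro a
  have h1 : comul (R := S) (e a) = TensorProduct.map (e : A →ₗ[S] A') (e : A →ₗ[S] A') (comul a) := by
    have := LinearMap.congr_fun (CoalgHomClass.map_comp_comul (e : A →ₗc[S] A')) a
    exact this.symm
  have h2 : TensorProduct.comm S A' A' (comul (R := S) (e a)) = comul (R := S) (e a) :=
    LinearMap.congr_fun (IsCocomm.comm_comp_comul (R := S) (A := A')) (e a)
  have hinj : Function.Injective (TensorProduct.map (e : A →ₗ[S] A') (e : A →ₗ[S] A')) := by
    have : (TensorProduct.map (e : A →ₗ[S] A') (e : A →ₗ[S] A')) =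
        (TensorProduct.congr e.toLinearEquiv e.toLinearEquiv).toLinearMap := by
      apply TensorProduct.ext'
      intro x y
      rfl
    rw [this]
    exact (TensorProduct.congr e.toLinearEquiv e.toLinearEquiv).injective
  apply hinj
  simp only [LinearMap.coe_comp, LinearEquiv.coe_coe, Function.comp_apply]
  rw [← h1, ← h2, h1]
  generalize comul (R := S) a = t
  induction t using TensorProduct.induction_on with
  | zero => simp
  | tmul x y => simp
  | add x y hx hy => simp only [map_add, hx, hy]

/-- The dual algebras of isomorphic bialgebras are isomorphic. -/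
noncomputable def dualCongr (e : A ≃ₐc[S] A') : CartDual.D S A' ≃ₐ[S] CartDual.D S A where
  toFun x := toConv (x.ofConv ∘ₗ (e : A →ₗ[S] A'))
  invFun y := toConv (y.ofConv ∘ₗ (e.symm : A' →ₗ[S] A))
  left_inv x := by
    apply WithConv.ext
    apply LinearMap.ext
    intro a
    simp
  right_inv y := by
    apply WithConv.ext
    apply LinearMap.ext
    intro a
    simp
  map_mul' x y := by
    apply WithConv.ext
    exact LinearMap.convMul_comp_coalgHom_distrib x y (e : A →ₗc[S] A')
  map_add' x y := by
    apply WithConv.ext
    apply LinearMap.ext
    intro a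
    rfl
  commutes' r := by
    apply WithConv.ext
    apply LinearMap.ext
    intro a
    change algebraMap S (CartDual.D S A') r (e a) = algebraMap S (CartDual.D S A) r a
    rw [LinearMap.convAlgebraMap_apply, LinearMap.convAlgebraMap_apply]
    congr 2
    exact LinearMap.congr_fun (CoalgHomClass.counit_comp (e : A →ₗc[S] A')) a

end Congr

section GA

variable (S : Type u) [CommRing S] (M : Type u) [CommGroup M]

/-- The dual of the group algebra of a finite group is the algebra of functions. -/
noncomputable def gaEquiv [Finite M] : CartDual.D S (MonoidAlgebra S M) ≃ₐ[S] (M → S) :=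
  haveI : Fintype M := Fintype.ofFinite M
  AlgEquiv.ofLinearEquiv
    ((CartDual.toDual S (MonoidAlgebra S M)) ≪≫ₗ ((MonoidAlgebra.basis M S).constr S).symm)
    (by
      funext g
      simp [Module.Basis.constr_symm_apply, MonoidAlgebra.basis, CartDual.coe_apply])
    (by
      intro x y
      funext g
      simp only [LinearEquiv.trans_apply, Module.Basis.constr_symm_apply, Pi.mul_apply,
        CartDual.toDual_apply]
      have hb : (MonoidAlgebra.basis M S) g = MonoidAlgebra.single g 1 := by
        simp [MonoidAlgebra.basis]
      rw [hb]
      change (x * y) (MonoidAlgebra.single g 1) = _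
      rw [LinearMap.convMul_apply, MonoidAlgebra.comul_single, CommSemiring.comul_apply]
      simp)

instance [Finite M] : Module.Finite S (MonoidAlgebra S M) :=
  Module.Finite.of_basis (MonoidAlgebra.basis M S)

instance : Module.Free S (MonoidAlgebra S M) :=
  Module.Free.of_basis (MonoidAlgebra.basis M S)

theorem finite_of_finite [Nontrivial S] [Module.Finite S (MonoidAlgebra S M)] : Finite M :=
  Module.Finite.finite_basis (MonoidAlgebra.basis M S)

end GA

section Main

variable (S : Type u) [CommRing S] {A : Type u} [CommRing A] [Bialgebra S A]
  (M : Type u) [CommGroup M]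

/-- The dual of a finite diagonalisable bialgebra is étale. -/
theorem etale_dual_of_equiv [IsCocomm S A] [Finite M] (e : A ≃ₐc[S] MonoidAlgebra S M) :
    Algebra.Etale S (CartDual.D S A) := by
  have e1 : CartDual.D S (MonoidAlgebra S M) ≃ₐ[S] CartDual.D S A := dualCongr S e
  have e2 : CartDual.D S (MonoidAlgebra S M) ≃ₐ[S] (M → S) := gaEquiv S M
  haveI : Algebra.Etale S (M → S) := inferInstance
  exact Algebra.Etale.of_equiv (A := M → S) (B := CartDual.D S A) (e2.symm.trans e1)

end Main

end Groth.Agent.H96.DualGA
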