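import Mathlib
import Groth.Prelude.Def_CartDual
import Groth.Prelude.Def_CartDual2
import Groth.Agent.H96.DualBC

/-!
# Auxiliary lemmas on duals: transposes of coalgebra maps, functionals with values in an ideal
-/

set_option autoImplicit false
set_option linter.style.haveILetI false
universe u

namespace Groth.Agent.H96.DualRig

open TensorProduct Coalgebra WithConv

section Transpose

variable (R : Type u) [CommRing R] {X Y : Type u} [AddCommGroup X] [Module R X] [Coalgebra R X]
  [AddCommGroup Y] [Module R Y] [Coalgebra R Y]

/-- The transpose of a coalgebra map is an algebra map between the convolution algebras. -/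
noncomputable def transposeAlg (h : X →ₗc[R] Y) : CartDual.D R Y →ₐ[R] CartDual.D R X where
  toFun x := toConv (x.ofConv ∘ₗ h.toLinearMap)
  map_one' := by
    apply WithConv.ext
    apply LinearMap.ext
    intro a
    change algebraMap R R (counit (R := R) (h a)) = algebraMap R R (counit (R := R) a)
    congr 1
    exact LinearMap.congr_fun (CoalgHomClass.counit_comp h) a
  map_mul' x y := by
    apply WithConv.ext
    exact LinearMap.convMul_comp_coalgHom_distrib x y h
  map_zero' := by
    apply WithConv.ext
    apply LinearMap.ext
    intro a
    rfl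
  map_add' x y := by
    apply WithConv.ext
    apply LinearMap.ext
    intro a
    rfl
  commutes' r := by
    apply WithConv.ext
    apply LinearMap.ext
    intro a
    change algebraMap R (CartDual.D R Y) r (h a) = algebraMap R (CartDual.D R X) r a
    rw [LinearMap.convAlgebraMap_apply, LinearMap.convAlgebraMap_apply]
    congr 2
    exact LinearMap.congr_fun (CoalgHomClass.counit_comp h) a

@[simp] lemma transposeAlg_apply (h : X →ₗc[R] Y) (x : CartDual.D R Y) (a : X) :
    transposeAlg R h x a = x (h a) := rfl

end Transpose

section ValM

variable (R : Type u) [CommRing R] (I : Ideal R) (X : Type u) [AddCommGroup X] [Module R X]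
  [Coalgebra R X] [Module.Finite R X] [Module.Free R X]

/-- A functional with values in `I` on a finite free module lies in `I · D`. -/
theorem mem_map_of_forall_apply_mem (y : CartDual.D R X) (hy : ∀ a, y a ∈ I) :
    y ∈ I.map (algebraMap R (CartDual.D R X)) := by
  classical
  let b := Module.Free.chooseBasis R X
  have hsum : y = ∑ i, (y (b i)) • (toConv (b.coord i) : CartDual.D R X) := by
    apply WithConv.ext
    have := (Module.Basis.sum_dual_apply_smul_coord b y.ofConv).symm
    rw [this]
    simp [CartDual.coe_apply]
  rw [hsum]
  refine Ideal.sum_mem _ (fun i _ => ?_)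
  rw [Algebra.smul_def, Algebra.commutes]
  exact Ideal.mul_mem_left _ _ (Ideal.mem_map_of_mem _ (hy (b i)))

end ValM

section Quot

variable (R : Type u) [CommRing R] (I : Ideal R) (M : Type u) [AddCommGroup M] [Module R M]

theorem mem_smul_top_of_one_tmul_eq_zero (b : M) (h : (1 : R ⧸ I) ⊗ₜ[R] b = 0) :
    b ∈ I • (⊤ : Submodule R M) := by
  have := congrArg (TensorProduct.quotTensorEquivQuotSMul M I) h
  rw [TensorProduct.quotTensorEquivQuotSMul_mk_one_tmul, map_zero] at this
  exact (Submodule.Quotient.mk_eq_zero _).mp this

theorem apply_mem_of_mem_smul_top (f : M →ₗ[R] R) {b : M} (hb : b ∈ I • (⊤ : Submodule R M)) :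
    f b ∈ I := by
  refine Submodule.smul_induction_on hb (fun r hr n _ => ?_) (fun x y hx hy => ?_)
  · rw [map_smul, smul_eq_mul]; exact I.mul_mem_right _ hr
  · rw [map_add]; exact I.add_mem hx hy

end Quot

end Groth.Agent.H96.DualRig
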