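import Mathlib

set_option autoImplicit false
set_option linter.style.haveILetI false

universe u

open CategoryTheory CategoryTheory.Limits AlgebraicGeometry

namespace Groth.Agent.H96.EF_A0

set_option backward.isDefEq.respectTransparency false in
theorem key {Z' S' : Scheme.{u}} (π : Z' ⟶ S') (V : Z'.Opens) :
    (V.ι ≫ π).appTop ≫ V.topIso.hom = π.appLE ⊤ V le_top := by
  have h1 : (V.ι ≫ π).appTop = π.appLE ⊤ V le_top ≫ V.ι.appLE V ⊤ V.ι_preimage_self.ge := by
    rw [Scheme.Hom.appLE_comp_appLE, Scheme.Hom.appTop, Scheme.Hom.app_eq_appLE]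
    rfl
  rw [h1, Category.assoc]
  have h2 : V.ι.appLE V ⊤ V.ι_preimage_self.ge ≫ V.topIso.hom = 𝟙 _ := by
    rw [Scheme.Opens.ι_appLE, Scheme.Opens.topIso_hom, ← Functor.map_comp]
    exact Z'.presheaf.map_id _
  rw [h2, Category.comp_id]

/-- (EF-A0) for helper79's S4101. -/
theorem projective_of_prelude {Z' S' : Scheme.{u}} (π : Z' ⟶ S') (V : Z'.Opens)
    (h : letI := (V.ι ≫ π).appTop.hom.toAlgebra; Module.Projective Γ(S', ⊤) Γ(↑V, ⊤)) :
    letI := (π.appLE ⊤ V le_top).hom.toAlgebra; Module.Projective Γ(S', ⊤) Γ(Z', V) := by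
  letI a1 : Algebra Γ(S', ⊤) Γ(↑V, ⊤) := (V.ι ≫ π).appTop.hom.toAlgebra
  letI a2 : Algebra Γ(S', ⊤) Γ(Z', V) := (π.appLE ⊤ V le_top).hom.toAlgebra
  have hp : Module.Projective Γ(S', ⊤) Γ(↑V, ⊤) := h
  let e0 : Γ(↑V, ⊤) ≃+* Γ(Z', V) := V.topIso.commRingCatIsoToRingEquiv
  let e : Γ(↑V, ⊤) ≃ₗ[Γ(S', ⊤)] Γ(Z', V) :=
    { e0 with
      map_smul' := by
        intro r x
        change e0 ((V.ι ≫ π).appTop.hom r * x) = (π.appLE ⊤ V le_top).hom r * e0 x
        rw [map_mul]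
        congr 1
        have := congrArg (fun f => f.hom r) (key π V)
        exact this }
  exact Module.Projective.of_equiv e

end Groth.Agent.H96.EF_A0
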