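import Groth.Agent.H49.IdealDescent

set_option autoImplicit false
set_option linter.style.haveILetI false

universe u

open CategoryTheory CategoryTheory.Limits AlgebraicGeometry

namespace Groth.Agent.H96.EF_C

open Groth.Agent

/-- (EF-C) for helper79's S4101: a family of surjections from affine schemes onto the members of an
affine open cover satisfies the finite-chart covering condition `FinCov`. -/
theorem finCov_of_affine_surj {S : Scheme.{u}} {ι : Type u} (U : ι → S.Opens)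
    (hU : ∀ i, IsAffineOpen (U i)) (hcov : ∀ s : S, ∃ i, s ∈ U i) (S' : ι → Scheme.{u})
    (hS' : ∀ i, IsAffine (S' i)) (g : ∀ i, S' i ⟶ (U i : Scheme.{u}))
    (hsurj : ∀ i, Surjective (g i)) :
    H49.IdealDescent.FinCov (fun i => g i ≫ (U i).ι) := by
  classical
  intro W hW
  -- local data at each point of `W`
  have hloc : ∀ x : W, ∃ (i : ι) (D : S.Opens), IsAffineOpen D ∧ x.1 ∈ D ∧ D ≤ W ⊓ U i := by
    intro x
    obtain ⟨i, hi⟩ := hcov x.1
    have hx : x.1 ∈ ((W ⊓ U i : S.Opens) : Set S) := ⟨x.2, hi⟩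
    obtain ⟨_, ⟨D, hD, rfl⟩, hxD, hDW⟩ :=
      S.isBasis_affineOpens.exists_subset_of_mem_open hx (W ⊓ U i).2
    exact ⟨i, D, hD, hxD, hDW⟩
  choose idx D hDaff hxD hDle using hloc
  -- the charts
  have hchart : ∀ x : W, IsAffineOpen ((g (idx x)) ⁻¹ᵁ ((U (idx x)).ι ⁻¹ᵁ D x)) := by
    intro x
    haveI : IsAffine (S' (idx x)) := hS' _
    haveI : IsAffine ((U (idx x) : S.Opens) : Scheme.{u}) := hU _
    have h1 : IsAffineOpen ((U (idx x)).ι ⁻¹ᵁ D x) :=
      (hDaff x).preimage_of_isOpenImmersion _ (by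
        rw [Scheme.Opens.opensRange_ι]
        exact (hDle x).trans inf_le_right)
    exact h1.preimage (g (idx x))
  let ch : W → H49.IdealDescent.Chart (fun i => g i ≫ (U i).ι) W := fun x =>
    { i := idx x
      V := ⟨(g (idx x)) ⁻¹ᵁ ((U (idx x)).ι ⁻¹ᵁ D x), hchart x⟩
      le := by
        intro y hy
        exact ((hDle x) hy).1 }
  -- finite subcover
  obtain ⟨t, ht⟩ := hW.isCompact.elim_finite_subcover (fun x : W => ((D x : S.Opens) : Set S))
    (fun x => (D x).2) (by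
      intro x hx
      exact Set.mem_iUnion.mpr ⟨⟨x, hx⟩, hxD ⟨x, hx⟩⟩)
  refine ⟨t.card, fun k => ch (t.equivFin.symm k).1, ?_⟩
  intro x hx
  obtain ⟨x', hx'⟩ := Set.mem_iUnion.mp (ht hx)
  obtain ⟨hx't, hxD'⟩ := Set.mem_iUnion.mp hx'
  refine ⟨t.equivFin ⟨x', hx't⟩, ?_⟩
  beta_reduce
  rw [Equiv.symm_apply_apply]
  have hxU : x ∈ U (idx x') := ((hDle x') hxD').2
  obtain ⟨y, hy⟩ := (hsurj (idx x')).surj ⟨x, hxU⟩
  refine ⟨y, ?_, ?_⟩
  · change ((U (idx x')).ι (g (idx x') y)) ∈ D x'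
    rw [hy]
    exact hxD'
  · change ((U (idx x')).ι (g (idx x') y)) = x
    rw [hy]
    rfl

end Groth.Agent.H96.EF_C
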