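import Groth.Agent.H79.ContentIdeal

set_option autoImplicit false
set_option linter.style.haveILetI false

universe u

open CategoryTheory CategoryTheory.Limits
open Groth.Agent.H79.ContentIdeal

namespace Groth.Agent.H96.EF_FP1

/-- (EF-FP1) for helper79's S4101: the content ideal of a finitely generated ideal of a projective
algebra is finitely generated. -/
theorem content_fg {A B : Type u} [CommRing A] [CommRing B] (φ : A →+* B)
    (hproj : letI := φ.toAlgebra; Module.Projective A B) (K : Ideal B) (hK : K.FG) :
    (content φ K).FG := by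
  classical
  letI := φ.toAlgebra
  obtain ⟨s, hs⟩ := Module.projective_def'.mp hproj
  obtain ⟨t, ht⟩ := hK
  let T : Finset A := t.biUnion (fun x => (s x).support.image (fun y => s x y))
  have hxK : ∀ x ∈ t, x ∈ K := by
    intro x hx
    rw [← ht]
    exact Ideal.subset_span hx
  have hrec : ∀ x : B, x = Finsupp.linearCombination A id (s x) := by
    intro x
    have := congrArg (fun F : B →ₗ[A] B => F x) hs
    exact this.symm
  have key : ∀ k ∈ K, ∀ l : B →ₗ[A] A, l k ∈ Ideal.span (T : Set A) := by
    intro k hk
    rw [← ht] at hk
    induction hk using Submodule.span_induction with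
    | mem x hx =>
      intro l
      rw [hrec x, Finsupp.linearCombination_apply, Finsupp.sum, map_sum]
      refine Ideal.sum_mem _ fun y hy => ?_
      rw [map_smul, smul_eq_mul]
      refine Ideal.mul_mem_right _ _ (Ideal.subset_span ?_)
      simp only [T, Finset.coe_biUnion, Finset.coe_image, Set.mem_iUnion, Set.mem_image,
        Finset.mem_coe]
      exact ⟨x, hx, y, hy, rfl⟩
    | zero => intro l; rw [map_zero]; exact Ideal.zero_mem _
    | add a b _ _ ha hb => intro l; rw [map_add]; exact Ideal.add_mem _ (ha l) (hb l)
    | smul b k _ hk =>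
      intro l
      have := hk (l ∘ₗ LinearMap.mulLeft A b)
      simpa using this
  refine ⟨T, le_antisymm ?_ ?_⟩
  · rw [Ideal.span_le]
    intro a ha
    simp only [T, Finset.coe_biUnion, Finset.coe_image, Set.mem_iUnion, Set.mem_image,
      Finset.mem_coe] at ha
    obtain ⟨x, hx, y, _, rfl⟩ := ha
    exact mem_content φ K ((Finsupp.lapply y) ∘ₗ s) x (hxK x hx)
  · unfold content
    refine iSup_le fun l => ?_
    rintro _ ⟨k, hk, rfl⟩
    exact key k hk l

end Groth.Agent.H96.EF_FP1
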