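import Mathlib

set_option autoImplicit false
set_option linter.style.haveILetI false

universe u

open CategoryTheory CategoryTheory.Limits AlgebraicGeometry

namespace Groth.Agent.H96.EF_L3

/-- (EF-L3) for helper79's S4101: the base change of a closed immersion `j` along `a` is an
isomorphism iff `a` factors through `j`, i.e. iff `j.ker ≤ a.ker`. -/
theorem isIso_snd_iff {Y Z ZT : Scheme.{u}} (j : Y ⟶ Z) [IsClosedImmersion j] (a : ZT ⟶ Z) :
    IsIso (pullback.snd j a) ↔ j.ker ≤ a.ker := by
  constructor
  · intro h
    have h1 : a = inv (pullback.snd j a) ≫ pullback.fst j a ≫ j := by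
      rw [pullback.condition, IsIso.inv_hom_id_assoc]
    rw [h1]
    refine le_trans ?_ (Scheme.Hom.le_ker_comp _ _)
    exact Scheme.Hom.le_ker_comp _ _
  · intro h
    let a' : ZT ⟶ Y := IsClosedImmersion.lift j a h
    have ha' : a' ≫ j = a := IsClosedImmersion.lift_fac j a h
    let σ : ZT ⟶ pullback j a := pullback.lift a' (𝟙 _) (by rw [ha', Category.id_comp])
    have hσ : σ ≫ pullback.snd j a = 𝟙 _ := pullback.lift_snd _ _ _
    haveI : Mono (pullback.snd j a) := inferInstance
    have hσ' : pullback.snd j a ≫ σ = 𝟙 _ := by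
      rw [← cancel_mono (pullback.snd j a), Category.assoc, hσ, Category.comp_id,
        Category.id_comp]
    exact ⟨σ, hσ', hσ⟩

end Groth.Agent.H96.EF_L3
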