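import Mathlib
import Groth.Prelude.Def_PBC
import Groth.Prelude.Def_ProEtS
import Groth.Agent.H23.EpsDefs
import Groth.Agent.H23.WCDefs
import Groth.Agent.H23.WC_P

set_option autoImplicit false
set_option backward.isDefEq.respectTransparency.types false
universe u
open CategoryTheory CategoryTheory.Limits AlgebraicGeometry Opposite
open Groth.Agent.H23.EpsDefs Groth.Agent.H23.WCDefs

namespace Groth.Agent.H96.Eps_E1b

variable (X : Scheme.{u})

/-- restriction of a representative. -/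
theorem map_rep (F : X.Etaleᵒᵖ ⥤ AddCommGrpCat.{u + 1}) {W W' : X.ProEt} (h : W' ⟶ W)
    {V : X.Etale} (φ : W ⟶ (ProEtS.eps X).obj V) (s : F.obj (op V)) :
    ((lanE X F).map h.op).hom (((lanE X F).map φ.op).hom (lanUE X F V s)) =
      ((lanE X F).map (h ≫ φ).op).hom (lanUE X F V s) := by
  rw [op_comp, Functor.map_comp]
  rfl

/-- change of representative along `a : V'' ⟶ V`. -/
theorem rep_comp (F : X.Etaleᵒᵖ ⥤ AddCommGrpCat.{u + 1}) (hR : RepAPI X F) {W : X.ProEt}
    {V V'' : X.Etale} (ψ : W ⟶ (ProEtS.eps X).obj V'') (a : V'' ⟶ V) (s : F.obj (op V)) :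
    ((lanE X F).map (ψ ≫ (ProEtS.eps X).map a).op).hom (lanUE X F V s) =
      ((lanE X F).map ψ.op).hom (lanUE X F V'' ((F.map a.op).hom s)) := by
  rw [← hR.r0 a s, op_comp, Functor.map_comp]
  rfl

/-- (E1b) the Kan extension presheaf turns finite disjoint open covers into products. -/
theorem bijective_restrict_lanE (F : EtCoh.Ab X) (hR : RepAPI X F.obj) (hC : CoprodAPI X F)
    (W : X.ProEt) {n : ℕ} (Wk : Fin n → W.left.Opens)
    (hdisj : Pairwise (fun k l => Disjoint (Wk k : Set ↥W.left) (Wk l)))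
    (hcov : (⋃ k, (Wk k : Set ↥W.left)) = Set.univ) :
    Function.Bijective (fun (x : (lanE X F.obj).obj (op W)) (k : Fin n) =>
      ((lanE X F.obj).map (openIncl W (Wk k)).op).hom x) := by
  constructor
  · intro x x' hxx'
    obtain ⟨V, φ, s, rfl⟩ := hR.r1 W x
    obtain ⟨V', φ', s', rfl⟩ := hR.r1 W x'
    have hk : ∀ k, ∃ (V'' : X.Etale) (ψ : openObj W (Wk k) ⟶ (ProEtS.eps X).obj V'')
        (a : V'' ⟶ V) (a' : V'' ⟶ V'),
        ψ ≫ (ProEtS.eps X).map a = openIncl W (Wk k) ≫ φ ∧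
        ψ ≫ (ProEtS.eps X).map a' = openIncl W (Wk k) ≫ φ' ∧
        (F.obj.map a.op).hom s = (F.obj.map a'.op).hom s' := by
      intro k
      have h1 := congrFun hxx' k
      simp only at h1
      rw [map_rep, map_rep] at h1
      exact hR.r2 _ _ _ s s' h1
    choose Vk ψk ak ak' h1 h2 h3 using hk
    obtain ⟨V'', ι, hbij, hdesc⟩ := hC Vk
    obtain ⟨a, ha⟩ := hdesc V ak
    obtain ⟨a', ha'⟩ := hdesc V' ak'
    obtain ⟨ψ, hψ⟩ := Groth.Agent.H23.WC_P.exists_desc W Wk hdisj hcov
      (fun k => ψk k ≫ (ProEtS.eps X).map (ι k))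
    have e1 : ψ ≫ (ProEtS.eps X).map a = φ := by
      apply Groth.Agent.H23.WC_P.hom_ext_of_cover W Wk hcov
      intro k
      rw [← Category.assoc, hψ k, Category.assoc, ← Functor.map_comp, ha k, h1 k]
    have e2 : ψ ≫ (ProEtS.eps X).map a' = φ' := by
      apply Groth.Agent.H23.WC_P.hom_ext_of_cover W Wk hcov
      intro k
      rw [← Category.assoc, hψ k, Category.assoc, ← Functor.map_comp, ha' k, h2 k]
    have e3 : (F.obj.map a.op).hom s = (F.obj.map a'.op).hom s' := by
      apply hbij.1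
      funext k
      show (F.obj.map (ι k).op).hom ((F.obj.map a.op).hom s) =
        (F.obj.map (ι k).op).hom ((F.obj.map a'.op).hom s')
      have q1 : (F.obj.map (ι k).op).hom ((F.obj.map a.op).hom s) =
          (F.obj.map (ak k).op).hom s := by
        rw [← ha k, op_comp, Functor.map_comp]; rfl
      have q2 : (F.obj.map (ι k).op).hom ((F.obj.map a'.op).hom s') =
          (F.obj.map (ak' k).op).hom s' := by
        rw [← ha' k, op_comp, Functor.map_comp]; rfl
      rw [q1, q2]
      exact h3 k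
    rw [← e1, ← e2, rep_comp X F.obj hR, rep_comp X F.obj hR, e3]
  · intro x
    have hk : ∀ k, ∃ (V : X.Etale) (φ : openObj W (Wk k) ⟶ (ProEtS.eps X).obj V)
        (s : F.obj.obj (op V)), x k = ((lanE X F.obj).map φ.op).hom (lanUE X F.obj V s) :=
      fun k => hR.r1 _ (x k)
    choose Vk φk sk hx using hk
    obtain ⟨V, ι, hbij, hdesc⟩ := hC Vk
    obtain ⟨s, hs⟩ := hbij.2 sk
    obtain ⟨φ, hφ⟩ := Groth.Agent.H23.WC_P.exists_desc W Wk hdisj hcov
      (fun k => φk k ≫ (ProEtS.eps X).map (ι k))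
    refine ⟨((lanE X F.obj).map φ.op).hom (lanUE X F.obj V s), ?_⟩
    funext k
    show ((lanE X F.obj).map (openIncl W (Wk k)).op).hom _ = x k
    rw [map_rep, hφ k, rep_comp X F.obj hR, hx k]
    have := congrFun hs k
    simp only at this
    rw [this]

end Groth.Agent.H96.Eps_E1b
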