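import Mathlib
import Groth.Prelude.Def_AzInv
import Groth.Agent.H96.AzSplitEt
import Groth.Agent.H96.AzInvInner
import Groth.Agent.H96.AzInvUnitary
import Groth.Agent.H96.EtCover
import Groth.Agent.S19588

/-!
# Etale-local normal form of an involution of the first kind: `x ↦ u xᵀ u⁻¹` on matrices
-/

set_option autoImplicit false
set_option linter.style.haveILetI false
set_option linter.unusedSectionVars false
universe u w

open TensorProduct Polynomial

namespace Groth.Agent.H96.InvSplit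

section Generic

/-- Non-commutative version of `Algebra.TensorProduct.cancelBaseChange`. -/
noncomputable def cancelBC (R S T : Type*) [CommRing R] [CommRing S] [CommRing T] [Algebra R S]
    (A : Type*) [CommRing A] [Algebra R T] [Algebra R A] [Algebra T A] [IsScalarTower R T A]
    [Algebra S A] [IsScalarTower R S A] [Algebra S T] [IsScalarTower S T A]
    (B : Type*) [Ring B] [Algebra R B] : A ⊗[S] (S ⊗[R] B) ≃ₐ[T] A ⊗[R] B :=
  AlgEquiv.symm <| AlgEquiv.ofLinearEquiv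
    (TensorProduct.AlgebraTensorModule.cancelBaseChange R S T A B).symm
    (by simp [Algebra.TensorProduct.one_def]) <|
      LinearMap.map_mul_of_map_mul_tmul (fun _ _ _ _ ↦ by simp)

theorem cancelBC_symm_tmul (R S T : Type*) [CommRing R] [CommRing S] [CommRing T] [Algebra R S]
    (A : Type*) [CommRing A] [Algebra R T] [Algebra R A] [Algebra T A] [IsScalarTower R T A]
    [Algebra S A] [IsScalarTower R S A] [Algebra S T] [IsScalarTower S T A]
    (B : Type*) [Ring B] [Algebra R B] (a : A) (b : B) :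
    (cancelBC R S T A B).symm (a ⊗ₜ[R] b) = a ⊗ₜ[S] ((1 : S) ⊗ₜ[R] b) :=
  TensorProduct.AlgebraTensorModule.cancelBaseChange_symm_tmul R S T a b

/-- `T ⊗[R] M_n(R) ≃ M_n(T)` as `T`-algebras. -/
noncomputable def matEquiv (R : Type*) (T : Type*) [CommRing R] [CommRing T] [Algebra R T] (n : ℕ) :
    T ⊗[R] Matrix (Fin n) (Fin n) R ≃ₐ[T] Matrix (Fin n) (Fin n) T :=
  AlgEquiv.ofRingEquiv (f := (matrixEquivTensor (Fin n) R T).symm.toRingEquiv) (by
    intro x
    show (matrixEquivTensor (Fin n) R T).symm (x ⊗ₜ[R] 1) = _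
    rw [matrixEquivTensor_apply_symm]
    ext i j
    simp [Matrix.algebraMap_matrix_apply, Matrix.one_apply, Matrix.smul_apply])

theorem matEquiv_tmul (R : Type*) (T : Type*) [CommRing R] [CommRing T] [Algebra R T] (n : ℕ)
    (y : T) (M : Matrix (Fin n) (Fin n) R) :
    matEquiv R T n (y ⊗ₜ[R] M) = y • M.map (algebraMap R T) :=
  matrixEquivTensor_apply_symm _ _ _ y M

theorem separable_sq_add_one (R : Type*) [CommRing R] (c : R) (hc : 2 * c = 1) :
    (X ^ 2 + 1 : R[X]).Separable := by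
  refine ⟨1, - C c * X, ?_⟩
  have h : (C (2 : R) * C c : R[X]) = 1 := by rw [← C_mul, hc, C_1]
  simp only [derivative_add, derivative_X_pow, derivative_one, add_zero, Nat.cast_ofNat]
  have h2 : (C (2 : R) : R[X]) = 2 := map_ofNat C 2
  rw [h2] at h ⊢
  linear_combination (-X ^ 2) * h

end Generic


section AdjoinI

variable (R : Type u) [CommRing R]

theorem monic_sq_add_one : (X ^ 2 + 1 : R[X]).Monic := by
  have := monic_X_pow_add_C (1 : R) (n := 2) (by norm_num)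
  simpa using this

theorem RI_etale (c : R) (hc : 2 * c = 1) :
    Algebra.Etale R (AdjoinRoot (X ^ 2 + 1 : R[X])) :=
  Groth.Agent.H96.EtCover.etale_adjoinRoot _ (monic_sq_add_one R) (separable_sq_add_one R c hc)

theorem RI_faithfullyFlat [Nontrivial R] :
    Module.FaithfullyFlat R (AdjoinRoot (X ^ 2 + 1 : R[X])) := by
  have hm := monic_sq_add_one R
  let b := AdjoinRoot.powerBasis' hm
  haveI : Module.Free R (AdjoinRoot (X ^ 2 + 1 : R[X])) := Module.Free.of_basis b.basis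
  have hdeg : (X ^ 2 + 1 : R[X]).natDegree = 2 := by
    have := natDegree_X_pow_add_C (n := 2) (r := (1 : R))
    simpa using this
  have hdim : b.dim = 2 := by rw [AdjoinRoot.powerBasis'_dim, hdeg]
  haveI : Nontrivial (AdjoinRoot (X ^ 2 + 1 : R[X])) :=
    ⟨⟨b.basis ⟨0, by rw [hdim]; norm_num⟩, 0, b.basis.ne_zero _⟩⟩
  infer_instance

theorem RI_root_sq :
    (AdjoinRoot.root (X ^ 2 + 1 : R[X])) * AdjoinRoot.root (X ^ 2 + 1 : R[X]) = -1 := by
  have h : (AdjoinRoot.mk (X ^ 2 + 1 : R[X])) (X ^ 2 + 1) = 0 := AdjoinRoot.mk_self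
  rw [map_add, map_pow, AdjoinRoot.mk_X, map_one] at h
  linear_combination h

end AdjoinI

section Alpha

variable {T : Type u} [CommRing T] {n : ℕ}
  (σ : Matrix (Fin n) (Fin n) T → Matrix (Fin n) (Fin n) T)
  (hσ_add : ∀ x y, σ (x + y) = σ x + σ y) (hσ_mul : ∀ x y, σ (x * y) = σ y * σ x)
  (hσ_inv : ∀ x, σ (σ x) = x)
  (hσ_alg : ∀ c : T, σ (algebraMap T _ c) = algebraMap T _ c)

/-- The algebra automorphism `x ↦ σ xᵀ`. -/
def alpha : Matrix (Fin n) (Fin n) T ≃ₐ[T] Matrix (Fin n) (Fin n) T where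
  toFun x := σ x.transpose
  invFun y := (σ y).transpose
  left_inv x := by simp [hσ_inv]
  right_inv y := by simp [hσ_inv]
  map_mul' x y := by rw [Matrix.transpose_mul, hσ_mul]
  map_add' x y := by rw [Matrix.transpose_add, hσ_add]
  commutes' c := by
    have : (algebraMap T (Matrix (Fin n) (Fin n) T) c).transpose = algebraMap T _ c := by
      rw [Matrix.algebraMap_eq_diagonal, Matrix.diagonal_transpose]
    rw [this, hσ_alg]

theorem alpha_apply (x : Matrix (Fin n) (Fin n) T) :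
    alpha σ hσ_add hσ_mul hσ_inv hσ_alg x = σ x.transpose := rfl

/-- Skolem–Noether, Zariski-locally, in matrix form. -/
theorem exists_conj (hn : 0 < n) (α : Matrix (Fin n) (Fin n) T ≃ₐ[T] Matrix (Fin n) (Fin n) T) :
    ∃ (T' : Type u) (_ : CommRing T') (_ : Algebra T T') (_ : Algebra.Etale T T')
      (_ : Module.FaithfullyFlat T T') (u' : (Matrix (Fin n) (Fin n) T')ˣ),
      ∀ z : Matrix (Fin n) (Fin n) T, (α z).map (algebraMap T T') =
        (↑u' : Matrix (Fin n) (Fin n) T') * z.map (algebraMap T T') *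
          (↑u'⁻¹ : Matrix (Fin n) (Fin n) T') := by
  haveI : Nonempty (Fin n) := ⟨⟨0, hn⟩⟩
  haveI : IsAzumaya T (Matrix (Fin n) (Fin n) T) := IsAzumaya.matrix T (Fin n)
  have hrk : ∀ p : PrimeSpectrum T,
      Module.rankAtStalk (R := T) (Matrix (Fin n) (Fin n) T) p = n ^ 2 := by
    intro p
    haveI : Nontrivial T := ⟨⟨0, 1, fun h => p.isPrime.ne_top
      ((Ideal.eq_top_iff_one _).mpr (h ▸ p.asIdeal.zero_mem))⟩⟩
    rw [Module.rankAtStalk_eq_finrank_of_free, Pi.natCast_apply, Module.finrank_matrix]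
    simp [sq]
  obtain ⟨T', _, _, het, hff, ũ, hũ⟩ := Groth.Agent.H96.AzInvInner.main (S := T) (R := T)
    (AlgEquiv.refl : T ≃ₐ[T] T) (fun r _ => ⟨r, rfl⟩) (fun r => rfl) Function.injective_id
    n hrk α
  refine ⟨T', inferInstance, inferInstance, het, hff,
    Units.map (matEquiv T T' n).toAlgHom.toRingHom.toMonoidHom ũ, ?_⟩
  intro z
  have h := congrArg (matEquiv T T' n) (hũ ((1 : T') ⊗ₜ[T] z))
  rw [Algebra.TensorProduct.congr_apply, Algebra.TensorProduct.map_tmul, map_mul, map_mul,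
    matEquiv_tmul, matEquiv_tmul, one_smul] at h
  have h1 : ((AlgEquiv.refl : T' ≃ₐ[T'] T') : T' →ₐ[T'] T') 1 = 1 := rfl
  rw [h1, one_smul] at h
  exact h

end Alpha


section Main

variable (R : Type u) [CommRing R] [Nontrivial R]
  (A : Type w) [Ring A] [Algebra R A] (n : ℕ) (hn : 0 < n) [IsAzumaya R A]
  (hrk : ∀ p : PrimeSpectrum R, Module.rankAtStalk (R := R) A p = n ^ 2)
  (t : AzInv.LamInv R A (AlgEquiv.refl : R ≃ₐ[R] R))

open Groth.Agent.H96.AzInvUnitary in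
include hn hrk in
theorem exists_data_aux (R₁ : Type u) [CommRing R₁] [Algebra R R₁] [Algebra.Etale R R₁]
    [Module.FaithfullyFlat R R₁] (i₀ : R₁) (hi₀ : i₀ * i₀ = -1) :
    ∃ (T : Type u) (_ : CommRing T) (_ : Algebra R T) (_ : Algebra.Etale R T)
    (_ : Module.FaithfullyFlat R T) (i : T) (φ : T ⊗[R] A ≃ₐ[T] Matrix (Fin n) (Fin n) T)
    (u : (Matrix (Fin n) (Fin n) T)ˣ), i * i = -1 ∧
    ∀ x : T ⊗[R] A, φ (t.bc R (AlgEquiv.refl : R ≃ₐ[R] R) T x) =
      (↑u : Matrix (Fin n) (Fin n) T) * (φ x).transpose * (↑u⁻¹ : Matrix (Fin n) (Fin n) T) := by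
  -- step 2: split
  haveI : IsAzumaya R₁ (R₁ ⊗[R] A) := Groth.Agent.S19588.result R _ A
  have hrk₁ : ∀ p : PrimeSpectrum R₁,
      Module.rankAtStalk (R := R₁) (R₁ ⊗[R] A) p = n ^ 2 := by
    intro p
    rw [Module.rankAtStalk_baseChange, hrk]
  obtain ⟨T₁, _, _, het₁, hff₁, ⟨φ'⟩⟩ :=
    AzSplitEt.exists_splitting' R₁ (R₁ ⊗[R] A) n hrk₁
  letI : Algebra R T₁ := ((algebraMap R₁ T₁).comp (algebraMap R R₁)).toAlgebra
  haveI : IsScalarTower R R₁ T₁ := IsScalarTower.of_algebraMap_eq (fun _ => rfl)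
  haveI : Algebra.Etale R T₁ := Algebra.Etale.comp R R₁ T₁
  haveI : Module.FaithfullyFlat R T₁ := Module.FaithfullyFlat.trans R R₁ T₁
  let φ₁ : T₁ ⊗[R] A ≃ₐ[T₁] Matrix (Fin n) (Fin n) T₁ :=
    (cancelBC R R₁ T₁ T₁ A).symm.trans φ'
  let i₁ : T₁ := algebraMap R₁ T₁ i₀
  have hi₁ : i₁ * i₁ = -1 := by
    show algebraMap _ T₁ _ * algebraMap _ T₁ _ = -1
    rw [← map_mul, hi₀, map_neg, map_one]
  -- step 3: the transported involution and the automorphism α
  let σ : Matrix (Fin n) (Fin n) T₁ → Matrix (Fin n) (Fin n) T₁ :=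
    fun x => φ₁ (t.bc R (AlgEquiv.refl : R ≃ₐ[R] R) T₁ (φ₁.symm x))
  have hσ_add : ∀ x y, σ (x + y) = σ x + σ y := fun x y => by
    show φ₁ _ = φ₁ _ + φ₁ _
    rw [map_add, map_add, map_add]
  have hσ_mul : ∀ x y, σ (x * y) = σ y * σ x := fun x y => by
    show φ₁ _ = φ₁ _ * φ₁ _
    rw [map_mul, bc_mul, map_mul]
  have hσ_inv : ∀ x, σ (σ x) = x := fun x => by
    show φ₁ (t.bc R _ T₁ (φ₁.symm (φ₁ _))) = x
    rw [AlgEquiv.symm_apply_apply, bc_bc, AlgEquiv.apply_symm_apply]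
  have hσ_alg : ∀ c : T₁, σ (algebraMap T₁ _ c) = algebraMap T₁ _ c := fun c => by
    show φ₁ (t.bc R _ T₁ (φ₁.symm _)) = _
    rw [AlgEquiv.commutes, Algebra.algebraMap_eq_smul_one, map_smul, bc_one, map_smul, map_one,
      ← Algebra.algebraMap_eq_smul_one]
  obtain ⟨T₂, _, _, het₂, hff₂, u₂, hu₂⟩ :=
    exists_conj hn (alpha σ hσ_add hσ_mul hσ_inv hσ_alg)
  letI : Algebra R T₂ := ((algebraMap T₁ T₂).comp (algebraMap R T₁)).toAlgebra
  haveI : IsScalarTower R T₁ T₂ := IsScalarTower.of_algebraMap_eq (fun _ => rfl)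
  haveI : Algebra.Etale R T₂ := Algebra.Etale.comp R T₁ T₂
  haveI : Module.FaithfullyFlat R T₂ := Module.FaithfullyFlat.trans R T₁ T₂
  let φ₂ : T₂ ⊗[R] A ≃ₐ[T₂] Matrix (Fin n) (Fin n) T₂ :=
    (cancelBC R T₁ T₂ T₂ A).symm.trans
      ((Algebra.TensorProduct.congr (AlgEquiv.refl : T₂ ≃ₐ[T₂] T₂) φ₁).trans (matEquiv T₁ T₂ n))
  have hφ₂ : ∀ (y : T₂) (a : A), φ₂ (y ⊗ₜ[R] a) =
      y • (φ₁ ((1 : T₁) ⊗ₜ[R] a)).map (algebraMap T₁ T₂) := by
    intro y a
    show matEquiv T₁ T₂ n (Algebra.TensorProduct.congr (AlgEquiv.refl : T₂ ≃ₐ[T₂] T₂) φ₁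
      ((cancelBC R T₁ T₂ T₂ A).symm (y ⊗ₜ[R] a))) = _
    rw [cancelBC_symm_tmul, Algebra.TensorProduct.congr_apply, Algebra.TensorProduct.map_tmul,
      matEquiv_tmul]
    rfl
  refine ⟨T₂, inferInstance, inferInstance, inferInstance, inferInstance, algebraMap T₁ T₂ i₁,
    φ₂, u₂, ?_, ?_⟩
  · rw [← map_mul, hi₁, map_neg, map_one]
  · intro x
    induction x using TensorProduct.induction_on with
    | zero => simp
    | add x y hx hy =>
      rw [map_add, map_add, hx, hy, map_add, Matrix.transpose_add, mul_add, add_mul]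
    | tmul y a =>
      have key : φ₁ ((1 : T₁) ⊗ₜ[R] t a) =
          alpha σ hσ_add hσ_mul hσ_inv hσ_alg (φ₁ ((1 : T₁) ⊗ₜ[R] a)).transpose := by
        rw [alpha_apply, Matrix.transpose_transpose]
        show _ = φ₁ (t.bc R _ T₁ (φ₁.symm (φ₁ _)))
        rw [AlgEquiv.symm_apply_apply, AzInv.LamInv.bc_tmul]
      rw [AzInv.LamInv.bc_tmul, hφ₂, hφ₂, key, hu₂, Matrix.transpose_map, Matrix.transpose_smul,
        Matrix.mul_smul, Matrix.smul_mul]

include hn hrk in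
/-- Étale-locally, `(A, t)` is `(M_n, x ↦ u xᵀ u⁻¹)`, and `-1` is a square. -/
theorem exists_data (c : R) (hc : 2 * c = 1) :
    ∃ (T : Type u) (_ : CommRing T) (_ : Algebra R T) (_ : Algebra.Etale R T)
    (_ : Module.FaithfullyFlat R T) (i : T) (φ : T ⊗[R] A ≃ₐ[T] Matrix (Fin n) (Fin n) T)
    (u : (Matrix (Fin n) (Fin n) T)ˣ), i * i = -1 ∧
    ∀ x : T ⊗[R] A, φ (t.bc R (AlgEquiv.refl : R ≃ₐ[R] R) T x) =
      (↑u : Matrix (Fin n) (Fin n) T) * (φ x).transpose * (↑u⁻¹ : Matrix (Fin n) (Fin n) T) := by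
  haveI : Algebra.Etale R (AdjoinRoot (X ^ 2 + 1 : R[X])) := RI_etale R c hc
  haveI : Module.FaithfullyFlat R (AdjoinRoot (X ^ 2 + 1 : R[X])) := RI_faithfullyFlat R
  exact exists_data_aux R A n hn hrk t (AdjoinRoot (X ^ 2 + 1 : R[X])) (AdjoinRoot.root _)
    (RI_root_sq R)

end Main

end Groth.Agent.H96.InvSplit
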