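import Mathlib
import Groth.Agent.H96.InvSplit

/-!
# Commutative `R`-algebras splitting an `R`-algebra `A` (helper96)

`Spl R A n X` : `X ⊗[R] A ≃ₐ[X] M_n(X)`.  Functoriality in `X`, finite products, and the final
conversion for `X = S' ⊗[S] R`.
-/

set_option autoImplicit false
set_option linter.style.haveILetI false
set_option linter.unusedSectionVars false
universe u v w x y

open TensorProduct

namespace Groth.Agent.H96.Spl

section Basic

variable (R : Type v) [CommRing R] (A : Type w) [Ring A] [Algebra R A] (n : ℕ)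

/-- The commutative `R`-algebra `X` splits `A`. -/
def Spl (X : Type x) [CommRing X] [Algebra R X] : Prop :=
  Nonempty (X ⊗[R] A ≃ₐ[X] Matrix (Fin n) (Fin n) X)

variable {R A n}

theorem of_algHom {X : Type x} {Y : Type y} [CommRing X] [CommRing Y] [Algebra R X] [Algebra R Y]
    (g : X →ₐ[R] Y) (h : Spl R A n X) : Spl R A n Y := by
  obtain ⟨θ⟩ := h
  letI : Algebra X Y := g.toRingHom.toAlgebra
  haveI : IsScalarTower R X Y := IsScalarTower.of_algebraMap_eq (fun r => (g.commutes r).symm)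
  exact ⟨((InvSplit.cancelBC R X Y Y A).symm.trans
    (Algebra.TensorProduct.congr (AlgEquiv.refl : Y ≃ₐ[Y] Y) θ)).trans
    (InvSplit.matEquiv X Y n)⟩

theorem congr_alg {A' : Type*} [Ring A'] [Algebra R A'] (σ : A' ≃ₐ[R] A)
    {X : Type x} [CommRing X] [Algebra R X] (h : Spl R A' n X) : Spl R A n X := by
  obtain ⟨θ⟩ := h
  exact ⟨(Algebra.TensorProduct.congr (AlgEquiv.refl : X ≃ₐ[X] X) σ.symm).trans θ⟩

theorem pi {ι : Type*} [Fintype ι] [DecidableEq ι] (X : ι → Type x) [∀ i, CommRing (X i)]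
    [∀ i, Algebra R (X i)] (h : ∀ i, Spl R A n (X i)) : Spl R A n (Π i, X i) := by
  classical
  have φ : ∀ i, X i ⊗[R] A ≃ₐ[X i] Matrix (Fin n) (Fin n) (X i) := fun i => (h i).some
  let T := Π i, X i
  let E1 : T ⊗[R] A ≃ₐ[R] Π i, A ⊗[R] X i :=
    (Algebra.TensorProduct.comm R T A).trans (Algebra.TensorProduct.piRight R R A X)
  let E2 : (Π i, A ⊗[R] X i) ≃ₐ[R] Π i, Matrix (Fin n) (Fin n) (X i) :=
    AlgEquiv.piCongrRight (fun i => (Algebra.TensorProduct.comm R A (X i)).trans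
      ((φ i).restrictScalars R))
  let E3 : (Π i, Matrix (Fin n) (Fin n) (X i)) ≃ₐ[R] Matrix (Fin n) (Fin n) T :=
    (Matrix.piAlgEquiv (n := Fin n) (β := X) R).symm
  let Φ₀ : T ⊗[R] A ≃ₐ[R] Matrix (Fin n) (Fin n) T := (E1.trans E2).trans E3
  have hcomm : ∀ t : T, Φ₀ (algebraMap T (T ⊗[R] A) t) =
      algebraMap T (Matrix (Fin n) (Fin n) T) t := by
    intro t
    have h1 : E1 (algebraMap T (T ⊗[R] A) t) = fun i => (1 : A) ⊗ₜ[R] t i := by
      rw [Algebra.TensorProduct.algebraMap_apply]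
      rfl
    have h2 : E2 (fun i => (1 : A) ⊗ₜ[R] t i) =
        fun i => algebraMap (X i) (Matrix (Fin n) (Fin n) (X i)) (t i) := by
      funext i
      show (φ i) (Algebra.TensorProduct.comm R A (X i) ((1 : A) ⊗ₜ[R] t i)) = _
      rw [Algebra.TensorProduct.comm_tmul]
      have : (t i) ⊗ₜ[R] (1 : A) = algebraMap (X i) (X i ⊗[R] A) (t i) := by
        rw [Algebra.TensorProduct.algebraMap_apply]
        rfl
      rw [this, AlgEquiv.commutes]
    show E3 (E2 (E1 _)) = _
    rw [h1, h2]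
    ext j k i
    show (algebraMap (X i) (Matrix (Fin n) (Fin n) (X i)) (t i)) j k = _
    rw [Matrix.algebraMap_matrix_apply, Matrix.algebraMap_matrix_apply]
    split_ifs <;> rfl
  exact ⟨AlgEquiv.ofRingEquiv (f := Φ₀.toRingEquiv) hcomm⟩

/-- `M_n(X) × M_n(Y) ≃ M_n(X × Y)`. -/
def matProd (X : Type x) (Y : Type y) [CommRing X] [CommRing Y] [Algebra R X] [Algebra R Y] :
    (Matrix (Fin n) (Fin n) X × Matrix (Fin n) (Fin n) Y) ≃ₐ[R]
      Matrix (Fin n) (Fin n) (X × Y) where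
  toFun MN := Matrix.of fun i j => (MN.1 i j, MN.2 i j)
  invFun M := (Matrix.of fun i j => (M i j).1, Matrix.of fun i j => (M i j).2)
  left_inv MN := rfl
  right_inv M := rfl
  map_mul' MN MN' := by
    ext i j
    · simp [Matrix.mul_apply, Prod.fst_sum]
    · simp [Matrix.mul_apply, Prod.snd_sum]
  map_add' MN MN' := rfl
  commutes' r := by
    ext i j
    · simp [Matrix.algebraMap_matrix_apply, Prod.algebraMap_apply]
      split_ifs <;> rfl
    · simp [Matrix.algebraMap_matrix_apply, Prod.algebraMap_apply]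
      split_ifs <;> rfl

theorem prod {X : Type x} {Y : Type y} [CommRing X] [CommRing Y] [Algebra R X] [Algebra R Y]
    (hX : Spl R A n X) (hY : Spl R A n Y) : Spl R A n (X × Y) := by
  classical
  obtain ⟨φ⟩ := hX
  obtain ⟨ψ⟩ := hY
  let T := X × Y
  let E1 : T ⊗[R] A ≃ₐ[R] (A ⊗[R] X) × (A ⊗[R] Y) :=
    (Algebra.TensorProduct.comm R T A).trans (Algebra.TensorProduct.prodRight R R A X Y)
  let E2 : ((A ⊗[R] X) × (A ⊗[R] Y)) ≃ₐ[R]
      Matrix (Fin n) (Fin n) X × Matrix (Fin n) (Fin n) Y :=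
    AlgEquiv.prodCongr ((Algebra.TensorProduct.comm R A X).trans (φ.restrictScalars R))
      ((Algebra.TensorProduct.comm R A Y).trans (ψ.restrictScalars R))
  let Φ₀ : T ⊗[R] A ≃ₐ[R] Matrix (Fin n) (Fin n) T := (E1.trans E2).trans (matProd (R := R) (n := n) X Y)
  have hcomm : ∀ t : T, Φ₀ (algebraMap T (T ⊗[R] A) t) =
      algebraMap T (Matrix (Fin n) (Fin n) T) t := by
    intro t
    have h1 : E1 (algebraMap T (T ⊗[R] A) t) = ((1 : A) ⊗ₜ[R] t.1, (1 : A) ⊗ₜ[R] t.2) := by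
      rw [Algebra.TensorProduct.algebraMap_apply]
      rfl
    have hX1 : ∀ x : X, φ (x ⊗ₜ[R] (1 : A)) = algebraMap X _ x := fun x => by
      have : x ⊗ₜ[R] (1 : A) = algebraMap X (X ⊗[R] A) x := by
        rw [Algebra.TensorProduct.algebraMap_apply]
        rfl
      rw [this, AlgEquiv.commutes]
    have hY1 : ∀ x : Y, ψ (x ⊗ₜ[R] (1 : A)) = algebraMap Y _ x := fun x => by
      have : x ⊗ₜ[R] (1 : A) = algebraMap Y (Y ⊗[R] A) x := by
        rw [Algebra.TensorProduct.algebraMap_apply]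
        rfl
      rw [this, AlgEquiv.commutes]
    have h2 : E2 ((1 : A) ⊗ₜ[R] t.1, (1 : A) ⊗ₜ[R] t.2) =
        (algebraMap X (Matrix (Fin n) (Fin n) X) t.1,
          algebraMap Y (Matrix (Fin n) (Fin n) Y) t.2) := by
      show (φ (Algebra.TensorProduct.comm R A X ((1 : A) ⊗ₜ[R] t.1)),
        ψ (Algebra.TensorProduct.comm R A Y ((1 : A) ⊗ₜ[R] t.2))) = _
      rw [Algebra.TensorProduct.comm_tmul, Algebra.TensorProduct.comm_tmul, hX1, hY1]
    show matProd (R := R) (n := n) X Y (E2 (E1 _)) = _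
    rw [h1, h2]
    ext j k
    · show (algebraMap X (Matrix (Fin n) (Fin n) X) t.1) j k = _
      rw [Matrix.algebraMap_matrix_apply, Matrix.algebraMap_matrix_apply]
      split_ifs <;> rfl
    · show (algebraMap Y (Matrix (Fin n) (Fin n) Y) t.2) j k = _
      rw [Matrix.algebraMap_matrix_apply, Matrix.algebraMap_matrix_apply]
      split_ifs <;> rfl
  exact ⟨AlgEquiv.ofRingEquiv (f := Φ₀.toRingEquiv) hcomm⟩

end Basic

section Convert

attribute [local instance] Algebra.TensorProduct.rightAlgebra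

variable (S : Type u) {R : Type v} [CommRing S] [CommRing R] [Algebra S R]
  {A : Type w} [Ring A] [Algebra S A] [Algebra R A] [IsScalarTower S R A] {n : ℕ}
  (S' : Type x) [CommRing S'] [Algebra S S']

variable (R A n) in
/-- `S' ⊗[S] R`, as an `R`-algebra through the right factor, splits `A`. -/
def SplBC : Prop := Spl R A n (S' ⊗[S] R)

/-- The conversion to the form of the statement. -/
theorem convert (h : SplBC S R A n S') :
    ∃ f : S' ⊗[S] A ≃ₐ[S'] Matrix (Fin n) (Fin n) (S' ⊗[S] R),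
      ∀ (r : R) (x : S' ⊗[S] A),
        f (((1 : S') ⊗ₜ[S] algebraMap R A r) * x) =
          Matrix.scalar (Fin n) ((1 : S') ⊗ₜ[S] r) * f x := by
  obtain ⟨θ⟩ := h
  let ιR : R →+* S' ⊗[S] A :=
    (Algebra.TensorProduct.includeRight : A →ₐ[S] S' ⊗[S] A).toRingHom.comp (algebraMap R A)
  have hιR : ∀ r, ιR r = (1 : S') ⊗ₜ[S] algebraMap R A r := fun r => rfl
  have hcen : ∀ (r : R) (y : S' ⊗[S] A), ιR r * y = y * ιR r := by
    intro r y
    induction y using TensorProduct.induction_on with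
    | zero => simp
    | tmul x' b =>
      rw [hιR, Algebra.TensorProduct.tmul_mul_tmul, Algebra.TensorProduct.tmul_mul_tmul,
        mul_one, one_mul, Algebra.commutes]
    | add y₁ y₂ h₁ h₂ => rw [mul_add, add_mul, h₁, h₂]
  letI algR : Algebra R (S' ⊗[S] A) := ιR.toAlgebra' hcen
  let g1 : S' ⊗[S] R →ₐ[R] S' ⊗[S] A :=
    { (Algebra.TensorProduct.map (AlgHom.id S' S') (IsScalarTower.toAlgHom S R A)).toRingHom with
      commutes' := fun r => by
        show (Algebra.TensorProduct.map (AlgHom.id S' S') (IsScalarTower.toAlgHom S R A))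
          ((1 : S') ⊗ₜ[S] r) = ιR r
        rw [Algebra.TensorProduct.map_tmul, hιR]
        rfl }
  have hg1 : ∀ (x : S') (r : R), g1 (x ⊗ₜ[S] r) = x ⊗ₜ[S] algebraMap R A r := fun x r => by
    show (Algebra.TensorProduct.map (AlgHom.id S' S') (IsScalarTower.toAlgHom S R A))
      (x ⊗ₜ[S] r) = _
    rw [Algebra.TensorProduct.map_tmul]
    rfl
  let g2 : A →ₐ[R] S' ⊗[S] A :=
    { (Algebra.TensorProduct.includeRight : A →ₐ[S] S' ⊗[S] A).toRingHom with
      commutes' := fun r => rfl }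
  have hg2 : ∀ a : A, g2 a = (1 : S') ⊗ₜ[S] a := fun a => rfl
  have hg1cen : ∀ (ρ : S' ⊗[S] R) (y : S' ⊗[S] A), g1 ρ * y = y * g1 ρ := by
    intro ρ y
    induction ρ using TensorProduct.induction_on with
    | zero => simp
    | tmul x r =>
      induction y using TensorProduct.induction_on with
      | zero => simp
      | tmul x' b =>
        rw [hg1, Algebra.TensorProduct.tmul_mul_tmul, Algebra.TensorProduct.tmul_mul_tmul,
          mul_comm, Algebra.commutes]
      | add y₁ y₂ h₁ h₂ => rw [mul_add, add_mul, h₁, h₂]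
    | add ρ₁ ρ₂ h₁ h₂ => rw [map_add, add_mul, mul_add, h₁, h₂]
  let c' : (S' ⊗[S] R) ⊗[R] A →ₐ[R] S' ⊗[S] A :=
    Algebra.TensorProduct.lift g1 g2 (fun ρ a => hg1cen ρ (g2 a))
  have hc' : ∀ (ρ : S' ⊗[S] R) (a : A), c' (ρ ⊗ₜ[R] a) = g1 ρ * g2 a := fun ρ a => by
    simp [c']
  let c : S' ⊗[S] A →ₐ[S'] (S' ⊗[S] R) ⊗[R] A :=
    Algebra.TensorProduct.lift (Algebra.ofId S' ((S' ⊗[S] R) ⊗[R] A))
      ((Algebra.TensorProduct.includeRight : A →ₐ[R] (S' ⊗[S] R) ⊗[R] A).restrictScalars S)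
      (fun x a => by
        show Commute ((x ⊗ₜ[S] (1 : R)) ⊗ₜ[R] (1 : A)) (((1 : S') ⊗ₜ[S] (1 : R)) ⊗ₜ[R] a)
        simp only [Commute, SemiconjBy, Algebra.TensorProduct.tmul_mul_tmul, mul_one, one_mul])
  have hc : ∀ (x : S') (a : A), c (x ⊗ₜ[S] a) = (x ⊗ₜ[S] (1 : R)) ⊗ₜ[R] a := fun x a => by
    show (Algebra.TensorProduct.lift _ _ _) (x ⊗ₜ[S] a) = _
    rw [Algebra.TensorProduct.lift_tmul]
    show ((x ⊗ₜ[S] (1 : R)) ⊗ₜ[R] (1 : A)) * (((1 : S') ⊗ₜ[S] (1 : R)) ⊗ₜ[R] a) = _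
    simp only [Algebra.TensorProduct.tmul_mul_tmul, mul_one, one_mul]
  have h1 : ∀ z, c' (c z) = z := by
    intro z
    induction z using TensorProduct.induction_on with
    | zero => simp
    | tmul x a =>
      rw [hc, hc', hg1, hg2, Algebra.TensorProduct.tmul_mul_tmul, mul_one, map_one, one_mul]
    | add z₁ z₂ h₁ h₂ => rw [map_add, map_add, h₁, h₂]
  have h2 : ∀ z, c (c' z) = z := by
    intro z
    induction z using TensorProduct.induction_on with
    | zero => simp
    | tmul ρ a =>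
      induction ρ using TensorProduct.induction_on with
      | zero => simp
      | tmul x r =>
        rw [hc', hg1, hg2, Algebra.TensorProduct.tmul_mul_tmul, mul_one, hc,
          ← Algebra.smul_def, ← TensorProduct.smul_tmul]
        congr 1
        rw [Algebra.smul_def, Algebra.TensorProduct.right_algebraMap_apply,
          Algebra.TensorProduct.tmul_mul_tmul, one_mul, mul_one]
      | add ρ₁ ρ₂ h₁ h₂ => rw [TensorProduct.add_tmul, map_add, map_add, h₁, h₂]
    | add z₁ z₂ h₁ h₂ => rw [map_add, map_add, h₁, h₂]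
  let ce : S' ⊗[S] A ≃ₐ[S'] (S' ⊗[S] R) ⊗[R] A :=
    AlgEquiv.ofBijective c ⟨Function.LeftInverse.injective h1, Function.RightInverse.surjective h2⟩
  refine ⟨ce.trans (θ.restrictScalars S'), ?_⟩
  intro r x
  show θ (c (_ * x)) = _ * θ (c x)
  have h3 : c ((1 : S') ⊗ₜ[S] algebraMap R A r) =
      algebraMap (S' ⊗[S] R) ((S' ⊗[S] R) ⊗[R] A) ((1 : S') ⊗ₜ[S] r) := by
    rw [hc, Algebra.TensorProduct.algebraMap_apply, Algebra.algebraMap_self, RingHom.id_apply,
      Algebra.algebraMap_eq_smul_one r, ← TensorProduct.smul_tmul, Algebra.smul_def,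
      Algebra.TensorProduct.right_algebraMap_apply, ← Algebra.TensorProduct.one_def, mul_one]
  rw [map_mul, h3, ← Algebra.smul_def, map_smul, Matrix.scalar_apply, Matrix.smul_eq_diagonal_mul]

end Convert

end Groth.Agent.H96.Spl
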