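import Groth.Agent.H96.EtCover
import Groth.Agent.H96.Spl
import Mathlib

/-!
# The splitting cover near a prime, with the polynomial exposed (helper96)
-/

set_option autoImplicit false
set_option linter.style.haveILetI false
set_option linter.unusedSectionVars false

open TensorProduct Polynomial

namespace Groth.Agent.H96.EtCoverMono

open Groth.Agent.H96.EtCover

universe u v w x

section Cover

variable (R : Type u) [CommRing R] (A : Type u) [Ring A] [Algebra R A] [IsAzumaya R A]
  (p : Ideal R) [p.IsPrime]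

theorem cover' : ∃ (r : ℕ) (Q : R[X]) (f : R), 1 ≤ r ∧ Q.Monic ∧ Q.natDegree = r ∧ f ∉ p ∧
    (Q.map (algebraMap R (IsLocalRing.ResidueField (Localization.AtPrime p)))).Separable ∧
    Nontrivial (AdjoinRoot (Q.map (algebraMap R (Localization.Away f)))) ∧
    Nonempty ((AdjoinRoot (Q.map (algebraMap R (Localization.Away f))) ⊗[R] A) ≃ₐ[
      AdjoinRoot (Q.map (algebraMap R (Localization.Away f)))]
      Matrix (Fin r) (Fin r) (AdjoinRoot (Q.map (algebraMap R (Localization.Away f))))) := by
  classical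
  obtain ⟨r, ξ, Q, t, b, hr, hQ, hQnat, ht, htQ, hQsep, BB, hBB⟩ := stageI R A p
  let Rp := Localization.AtPrime p
  let v : Fin r × Fin r → A := fun ij => b ij.1 * ξ ^ (ij.2 : ℕ)
  have hbijp := bijective_map_of_basis p.primeCompl Rp v BB (fun ij => hBB ij.1 ij.2)
  haveI : Module.FinitePresentation R A := Module.finitePresentation_of_projective R A
  obtain ⟨g₀, hg₀, hbij⟩ := exists_bijective_map_powers p.primeCompl
    (Finsupp.mapRange.linearMap (Algebra.linearMap R Rp)) (TensorProduct.mk R Rp A 1)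
    (Finsupp.linearCombination R v) hbijp
  let d : R := resultant Q (derivative Q)
  have hd : d ∉ p := by
    intro hdp
    apply resultant_ne_zero_of_separable (algebraMap R (IsLocalRing.ResidueField Rp)) Q hQ hQsep
    rw [IsScalarTower.algebraMap_apply R Rp (IsLocalRing.ResidueField Rp),
      IsLocalRing.ResidueField.algebraMap_eq, IsLocalRing.residue_eq_zero_iff]
    exact (IsLocalization.AtPrime.to_map_mem_maximal_iff Rp p d).mpr hdp
  let f : R := g₀ * t * d
  have hf : f ∉ p := fun h => by
    rcases (‹p.IsPrime›.mem_or_mem h) with h1 | h1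
    · rcases (‹p.IsPrime›.mem_or_mem h1) with h2 | h2
      · exact hg₀ h2
      · exact ht h2
    · exact hd h1
  let S := Localization.Away f
  let B := S ⊗[R] A
  haveI : IsAzumaya S B := Groth.Agent.S19588.result R S A
  have hfunit : IsUnit (algebraMap R S f) :=
    IsLocalization.map_units S (⟨f, Submonoid.mem_powers f⟩ : Submonoid.powers f)
  have htunit : IsUnit (algebraMap R S t) :=
    isUnit_of_dvd_unit (map_dvd _ ⟨g₀ * d, by ring⟩) hfunit
  have hdunit : IsUnit (algebraMap R S d) :=
    isUnit_of_dvd_unit (map_dvd _ ⟨g₀ * t, by ring⟩) hfunit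
  haveI : Nontrivial S := by
    have hfRp : IsUnit (algebraMap R Rp f) :=
      IsLocalization.map_units Rp (⟨f, hf⟩ : p.primeCompl)
    exact (IsLocalization.Away.lift f hfRp : S →+* Rp).domain_nontrivial
  have hbijS := hbij f ⟨t * d, by ring⟩
  have hbijS' : Function.Bijective (IsLocalizedModule.map (Submonoid.powers f)
      (Finsupp.mapRange.linearMap (Algebra.linearMap R S)) (TensorProduct.mk R S A 1)
      (Finsupp.linearCombination R v)) := by
    rw [LocalizedModule.coe_map_eq (S := Submonoid.powers f)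
      (Finsupp.mapRange.linearMap (Algebra.linearMap R S)) (TensorProduct.mk R S A 1)
      (Finsupp.linearCombination R v)] at hbijS
    have h1 := (Function.Bijective.of_comp_iff' (LinearEquiv.bijective _) _).mp hbijS
    exact (Function.Bijective.of_comp_iff _ (LinearEquiv.bijective _)).mp h1
  obtain ⟨BS, hBS⟩ := exists_basis_of_bijective_map (Submonoid.powers f) S v hbijS'
  -- the polynomial over `S`
  let QS : S[X] := Q.map (algebraMap R S)
  have hQS : QS.Monic := hQ.map _
  have hQSnat : QS.natDegree = r := by rw [hQ.natDegree_map, hQnat]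
  have hQSsep : QS.Separable := separable_map_of_isUnit (algebraMap R S) Q hQ hdunit
  let ξS : B := (1 : S) ⊗ₜ[R] ξ
  have hQSξ : aeval ξS QS = 0 := by
    rw [aeval_map_algebraMap]
    have h1 := Polynomial.aeval_algHom_apply
      (Algebra.TensorProduct.includeRight : A →ₐ[R] S ⊗[R] A) ξ Q
    show aeval ((Algebra.TensorProduct.includeRight : A →ₐ[R] S ⊗[R] A) ξ) Q = 0
    rw [h1]
    show (1 : S) ⊗ₜ[R] (aeval ξ Q) = 0
    have h2 : (algebraMap R S t) • ((1 : S) ⊗ₜ[R] (aeval ξ Q)) = 0 := by
      rw [algebraMap_smul, ← TensorProduct.tmul_smul, htQ, TensorProduct.tmul_zero]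
    exact htunit.smul_eq_zero.mp h2
  let E := AdjoinRoot QS
  haveI : Module.Free S E := hQS.free_adjoinRoot
  haveI : Module.Finite S E := hQS.finite_adjoinRoot
  haveI : Algebra.Etale S E := etale_adjoinRoot QS hQS hQSsep
  let pbb : Module.Basis (Fin r) S E :=
    (AdjoinRoot.powerBasis' hQS).basis.reindex (finCongr (by simp [hQSnat]))
  have hpbb : ∀ j : Fin r, pbb j = AdjoinRoot.root QS ^ (j : ℕ) := by
    intro j
    simp [pbb]
  haveI : Nontrivial E := nontrivial_of_ne _ _ (pbb.ne_zero ⟨0, hr⟩)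
  let u : E →ₐ[S] B := Ideal.Quotient.liftₐ (Ideal.span {QS}) (aeval ξS) (by
    intro a ha
    obtain ⟨q, rfl⟩ := Ideal.mem_span_singleton.mp ha
    rw [map_mul, hQSξ, zero_mul])
  have hu : u (AdjoinRoot.root QS) = ξS := by
    show Ideal.Quotient.liftₐ (Ideal.span {QS}) (aeval ξS) _ (Ideal.Quotient.mk _ X) = ξS
    rw [Ideal.Quotient.liftₐ_apply, Ideal.Quotient.lift_mk]
    exact aeval_X ξS
  have hcomm : ∀ x y : E, Commute (u.toRingHom x) (u.toRingHom y) := fun x y => by
    show u x * u y = u y * u x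
    rw [← map_mul, ← map_mul, mul_comm]
  letI modE : Module E B := Module.compHom B (u.toRingHom.toOpposite hcomm)
  have hmod : ∀ (e : E) (a : B), e • a = a * u e := fun e a => rfl
  haveI : IsScalarTower S E B :=
    ⟨fun c e a => by rw [hmod, hmod, map_smul, mul_smul_comm]⟩
  let v' : Fin r → B := fun i => (1 : S) ⊗ₜ[R] b i
  have hBSv : ∀ i j, BS (i, j) = pbb j • v' i := by
    intro i j
    rw [hBS, hpbb, hmod, map_pow, hu]
    show (1 : S) ⊗ₜ[R] (b i * ξ ^ (j : ℕ)) = ((1 : S) ⊗ₜ[R] b i) * ((1 : S) ⊗ₜ[R] ξ) ^ (j : ℕ)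
    rw [Algebra.TensorProduct.tmul_pow, one_pow, Algebra.TensorProduct.tmul_mul_tmul, one_mul]
  have hli : LinearIndependent E v' := by
    rw [Fintype.linearIndependent_iff]
    intro g hg i
    have h1 : ∑ ij : Fin r × Fin r, (pbb.repr (g ij.1) ij.2) • BS ij = 0 := by
      rw [Fintype.sum_prod_type, ← hg]
      refine Finset.sum_congr rfl fun i _ => ?_
      conv_rhs => rw [← pbb.sum_repr (g i), Finset.sum_smul]
      refine Finset.sum_congr rfl fun j _ => ?_
      rw [hBSv, smul_assoc]
    have h2 := Fintype.linearIndependent_iff.mp BS.linearIndependent _ h1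
    apply pbb.repr.injective
    ext j
    simpa using h2 (i, j)
  have hsp : ⊤ ≤ Submodule.span E (Set.range v') := by
    intro y _
    rw [← BS.sum_repr y]
    refine Submodule.sum_mem _ fun ij _ => ?_
    rw [show BS ij = pbb ij.2 • v' ij.1 from hBSv ij.1 ij.2, ← smul_assoc]
    exact Submodule.smul_mem _ _ (Submodule.subset_span ⟨ij.1, rfl⟩)
  let bE : Module.Basis (Fin r) E B := Module.Basis.mk hli hsp
  obtain ⟨e⟩ := assemble S B E r pbb u hmod bE hr
  let e0 : E ⊗[R] A ≃ₐ[E] E ⊗[S] B :=
    Algebra.TensorProduct.algEquivOfLinearEquivTensorProduct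
      (TensorProduct.AlgebraTensorModule.cancelBaseChange R S E E A).symm
      (fun a₁ a₂ b₁ b₂ => by
        rw [TensorProduct.AlgebraTensorModule.cancelBaseChange_symm_tmul,
          TensorProduct.AlgebraTensorModule.cancelBaseChange_symm_tmul,
          TensorProduct.AlgebraTensorModule.cancelBaseChange_symm_tmul,
          Algebra.TensorProduct.tmul_mul_tmul, Algebra.TensorProduct.tmul_mul_tmul, mul_one])
      (by
        rw [TensorProduct.AlgebraTensorModule.cancelBaseChange_symm_tmul]
        rfl)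
  exact ⟨r, Q, f, hr, hQ, hQnat, hf, hQsep, inferInstance, ⟨e0.trans e⟩⟩


end Cover

section General

open Groth.Agent.H96.Spl

variable (R : Type v) [CommRing R] (A : Type w) [Ring A] [Algebra R A] [IsAzumaya R A]
  (n : ℕ) (hrk : ∀ p : PrimeSpectrum R, Module.rankAtStalk (R := R) A p = n ^ 2)
  (q : Ideal R) [q.IsPrime]

include hrk in
/-- Universe-general version with the degree identified. -/
theorem cover'' : ∃ (Q : R[X]) (f : R), Q.Monic ∧ Q.natDegree = n ∧ f ∉ q ∧
    (Q.map (algebraMap R q.ResidueField)).Separable ∧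
    Spl R A n (AdjoinRoot (Q.map (algebraMap R (Localization.Away f)))) := by
  haveI : Module.Finite R A := inferInstance
  obtain ⟨k, g, hg⟩ := Module.Finite.exists_fin' R A
  haveI : Small.{v} A := small_of_surjective hg
  let σ : Shrink.{v} A ≃ₐ[R] A := Shrink.algEquiv R A
  haveI : IsAzumaya R (Shrink.{v} A) := IsAzumaya.of_AlgEquiv R A _ σ.symm
  obtain ⟨r, Q, f, hr, hQ, hQnat, hf, hQsep, hnt, ⟨φ⟩⟩ := cover' R (Shrink.{v} A) q
  haveI := hnt
  set E := AdjoinRoot (Q.map (algebraMap R (Localization.Away f))) with hE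
  obtain ⟨𝔓, h𝔓⟩ := Ideal.exists_maximal E
  have h𝔓' := h𝔓.isPrime
  let P : PrimeSpectrum E := ⟨𝔓, h𝔓'⟩
  let ψ : E ⊗[R] A ≃ₐ[E] Matrix (Fin r) (Fin r) E :=
    (Algebra.TensorProduct.congr (AlgEquiv.refl : E ≃ₐ[E] E) σ.symm).trans φ
  have h1 : Module.rankAtStalk (R := E) (E ⊗[R] A) P = n ^ 2 := by
    rw [Module.rankAtStalk_baseChange, hrk]
  have h2 : Module.rankAtStalk (R := E) (E ⊗[R] A) P = r ^ 2 := by
    rw [Module.rankAtStalk_eq_of_equiv ψ.toLinearEquiv, Module.rankAtStalk_eq_finrank_of_free,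
      Pi.natCast_apply, Module.finrank_matrix]
    simp [sq]
  have hrn : r = n := by
    have : r ^ 2 = n ^ 2 := h2.symm.trans h1
    exact Nat.pow_left_injective (by norm_num) this
  subst hrn
  exact ⟨Q, f, hQ, hQnat, hf, hQsep, ⟨ψ⟩⟩

/-- A root of `Q` in an `R`-algebra where `f` is invertible gives a splitting. -/
theorem of_root (Q : R[X]) (f : R)
    (h : Spl R A n (AdjoinRoot (Q.map (algebraMap R (Localization.Away f)))))
    (Y : Type x) [CommRing Y] [Algebra R Y] (hf : IsUnit (algebraMap R Y f)) (ρ : Y)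
    (hρ : aeval ρ Q = 0) : Spl R A n Y := by
  let ι : Localization.Away f →ₐ[R] Y :=
    IsLocalization.Away.liftAlgHom (A := R) (f := Algebra.ofId R Y) f hf
  have h0 : (Q.map (algebraMap R (Localization.Away f))).eval₂ ι ρ = 0 := by
    rw [Polynomial.eval₂_map]
    have : (ι : Localization.Away f →+* Y).comp (algebraMap R (Localization.Away f)) =
        algebraMap R Y := by
      ext x
      exact ι.commutes x
    rw [this]
    exact hρ
  exact of_algHom (AdjoinRoot.liftAlgHom _ ι ρ h0) h

end General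

end Groth.Agent.H96.EtCoverMono
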