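import Mathlib
import Groth.Agent.H3.HenselFinite

/-!
# Lifting finite étale algebras from the residue field of a local ring
-/

set_option autoImplicit false
set_option linter.style.haveILetI false
universe u

namespace Groth.Agent.H96.EtLift

open TensorProduct Polynomial IsLocalRing IntermediateField

section AdjoinRootBC

variable (R : Type u) [CommRing R] (K : Type u) [CommRing K] [Algebra R K] (F : R[X])

lemma eval₂_root_map :
    F.eval₂ ((Algebra.ofId R (AdjoinRoot (F.map (algebraMap R K))) :
        R →ₐ[R] AdjoinRoot (F.map (algebraMap R K))) : R →+* AdjoinRoot (F.map (algebraMap R K)))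
      (AdjoinRoot.root (F.map (algebraMap R K))) = 0 := by
  have h1 : ((Algebra.ofId R (AdjoinRoot (F.map (algebraMap R K))) :
        R →ₐ[R] AdjoinRoot (F.map (algebraMap R K))) : R →+* AdjoinRoot (F.map (algebraMap R K))) =
      (AdjoinRoot.of (F.map (algebraMap R K))).comp (algebraMap R K) := by
    ext r
    simp [IsScalarTower.algebraMap_apply R K (AdjoinRoot _)]
  rw [h1, ← Polynomial.eval₂_map, AdjoinRoot.eval₂_root]

/-- the map `AdjoinRoot F → AdjoinRoot (F.map _)`. -/
noncomputable def arMap : AdjoinRoot F →ₐ[R] AdjoinRoot (F.map (algebraMap R K)) :=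
  AdjoinRoot.liftAlgHom F (Algebra.ofId R (AdjoinRoot (F.map (algebraMap R K))))
    (AdjoinRoot.root _) (eval₂_root_map R K F)

@[simp] lemma arMap_root : arMap R K F (AdjoinRoot.root F) = AdjoinRoot.root _ := by
  rw [arMap, AdjoinRoot.liftAlgHom_root]

lemma eval₂_tmul_root :
    (F.map (algebraMap R K)).eval₂ ((Algebra.ofId K (K ⊗[R] AdjoinRoot F) :
        K →ₐ[K] K ⊗[R] AdjoinRoot F) : K →+* K ⊗[R] AdjoinRoot F)
      ((1 : K) ⊗ₜ[R] AdjoinRoot.root F) = 0 := by
  have h1 : ((Algebra.ofId K (K ⊗[R] AdjoinRoot F) :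
        K →ₐ[K] K ⊗[R] AdjoinRoot F) : K →+* K ⊗[R] AdjoinRoot F).comp (algebraMap R K) =
      (Algebra.TensorProduct.includeRight : AdjoinRoot F →ₐ[R] K ⊗[R] AdjoinRoot F).toRingHom.comp
        (algebraMap R (AdjoinRoot F)) := by
    ext r
    simp only [RingHom.coe_comp, Function.comp_apply, Algebra.TensorProduct.algebraMap_apply,
      Algebra.algebraMap_self, RingHom.id_apply, AlgHom.toRingHom_eq_coe, RingHom.coe_coe,
      Algebra.TensorProduct.includeRight_apply, Algebra.ofId_apply]
    rw [Algebra.algebraMap_eq_smul_one, Algebra.algebraMap_eq_smul_one, smul_tmul]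
  rw [Polynomial.eval₂_map, h1]
  have h2 : ((1 : K) ⊗ₜ[R] AdjoinRoot.root F) =
      (Algebra.TensorProduct.includeRight : AdjoinRoot F →ₐ[R] K ⊗[R] AdjoinRoot F).toRingHom
        (AdjoinRoot.root F) := rfl
  rw [h2, ← Polynomial.hom_eval₂]
  have h3 : F.eval₂ (algebraMap R (AdjoinRoot F)) (AdjoinRoot.root F) = 0 :=
    AdjoinRoot.eval₂_root F
  rw [h3, map_zero]

/-- Base change of `AdjoinRoot`. -/
noncomputable def arBC :
    K ⊗[R] AdjoinRoot F ≃ₐ[K] AdjoinRoot (F.map (algebraMap R K)) := by
  refine AlgEquiv.ofAlgHom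
    (Algebra.TensorProduct.lift (Algebra.ofId K _) (arMap R K F) (fun _ _ => Commute.all _ _))
    (AdjoinRoot.liftAlgHom _ (Algebra.ofId K (K ⊗[R] AdjoinRoot F)) ((1 : K) ⊗ₜ AdjoinRoot.root F)
      (eval₂_tmul_root R K F)) ?_ ?_
  · apply AdjoinRoot.algHom_ext
    rw [AlgHom.comp_apply, AdjoinRoot.liftAlgHom_root, Algebra.TensorProduct.lift_tmul, map_one,
      one_mul, arMap_root]
    rfl
  · apply Algebra.TensorProduct.ext
    · ext
    · apply AdjoinRoot.algHom_ext
      simp only [AlgHom.coe_comp, AlgHom.coe_restrictScalars', Function.comp_apply,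
        Algebra.TensorProduct.includeRight_apply, Algebra.TensorProduct.lift_tmul, map_one,
        one_mul, arMap_root, AlgHom.coe_id, id_eq]
      rw [AdjoinRoot.liftAlgHom_root]

end AdjoinRootBC

section EtaleAR

variable (R : Type u) [CommRing R] [IsLocalRing R] (F : R[X])

lemma isUnit_mk_derivative (hF : F.Monic)
    (hsep : (F.map (Ideal.Quotient.mk (maximalIdeal R))).Separable) :
    IsUnit (AdjoinRoot.mk F (derivative F)) := by
  haveI : Module.Finite R (AdjoinRoot F) := hF.finite_adjoinRoot
  haveI : Algebra.IsIntegral R (AdjoinRoot F) := Algebra.IsIntegral.of_finite R _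
  set J : Ideal (AdjoinRoot F) := (maximalIdeal R).map (AdjoinRoot.of F) with hJ
  have hJjac : J ≤ Ideal.jacobson ⊥ := by
    have := Groth.Agent.H3.map_le_jacobson_of_isIntegral (S := AdjoinRoot F) (maximalIdeal R)
      (IsLocalRing.maximalIdeal_le_jacobson ⊥)
    exact this
  haveI := isLocalHom_of_le_jacobson_bot J hJjac
  apply IsUnit.of_map (Ideal.Quotient.mk J)
  let e := AdjoinRoot.quotEquivQuotMap F (maximalIdeal R)
  have he : e (Ideal.Quotient.mk J (AdjoinRoot.mk F (derivative F))) =
      Ideal.Quotient.mk _ ((derivative F).map (Ideal.Quotient.mk (maximalIdeal R))) :=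
    AdjoinRoot.quotEquivQuotMap_apply_mk F (derivative F) (maximalIdeal R)
  have hu : IsUnit (e (Ideal.Quotient.mk J (AdjoinRoot.mk F (derivative F)))) := by
    rw [he]
    obtain ⟨a, b, hab⟩ := hsep
    rw [Polynomial.derivative_map] at hab
    have hmul : Ideal.Quotient.mk (Ideal.span
        {Polynomial.map (Ideal.Quotient.mk (maximalIdeal R)) F})
        ((derivative F).map (Ideal.Quotient.mk (maximalIdeal R))) * Ideal.Quotient.mk _ b = 1 := by
      rw [← map_mul, ← map_one (Ideal.Quotient.mk _), Ideal.Quotient.eq]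
      have h1 : (derivative F).map (Ideal.Quotient.mk (maximalIdeal R)) * b - 1 =
          -(a * F.map (Ideal.Quotient.mk (maximalIdeal R))) := by
        have hab' : a * F.map (Ideal.Quotient.mk (maximalIdeal R)) +
            b * (derivative F).map (Ideal.Quotient.mk (maximalIdeal R)) = 1 := hab
        rw [← hab']; ring
      rw [h1]
      exact neg_mem (Ideal.mul_mem_left _ _ (Ideal.mem_span_singleton_self _))
    have hmul' : Ideal.Quotient.mk (Ideal.span
        {Polynomial.map (Ideal.Quotient.mk (maximalIdeal R)) F}) b *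
        Ideal.Quotient.mk _ ((derivative F).map (Ideal.Quotient.mk (maximalIdeal R))) = 1 := by
      rw [← map_mul, ← map_one (Ideal.Quotient.mk _), Ideal.Quotient.eq]
      have h1 : b * (derivative F).map (Ideal.Quotient.mk (maximalIdeal R)) - 1 =
          -(a * F.map (Ideal.Quotient.mk (maximalIdeal R))) := by
        have hab' : a * F.map (Ideal.Quotient.mk (maximalIdeal R)) +
            b * (derivative F).map (Ideal.Quotient.mk (maximalIdeal R)) = 1 := hab
        rw [← hab']; ring
      rw [h1]
      exact neg_mem (Ideal.mul_mem_left _ _ (Ideal.mem_span_singleton_self _))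
    exact ⟨⟨_, Ideal.Quotient.mk _ b, hmul, hmul'⟩, rfl⟩
  have := hu.map e.symm
  rwa [AlgEquiv.symm_apply_apply] at this

theorem etale_adjoinRoot (hF : F.Monic)
    (hsep : (F.map (Ideal.Quotient.mk (maximalIdeal R))).Separable) :
    Algebra.Etale R (AdjoinRoot F) := by
  obtain ⟨u, hu⟩ := isUnit_mk_derivative R F hF hsep
  obtain ⟨p₁, hp₁⟩ := AdjoinRoot.mk_surjective (↑u⁻¹ : AdjoinRoot F)
  have h1 : AdjoinRoot.mk F (derivative F * p₁ - 1) = 0 := by
    rw [map_sub, map_mul, map_one, hp₁, ← hu, Units.mul_inv, sub_self]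
  rw [AdjoinRoot.mk_eq_zero] at h1
  obtain ⟨q, hq⟩ := h1
  let P : StandardEtalePair R :=
    { f := F, monic_f := hF, g := 1
      cond := ⟨p₁, -q, 0, by rw [pow_zero]; linear_combination hq⟩ }
  have e1 : P.Ring ≃ₐ[R] Localization.Away (AdjoinRoot.mk F (1 : R[X])) := P.equivAwayAdjoinRoot
  have hle : Submonoid.powers (AdjoinRoot.mk F (1 : R[X])) ≤ IsUnit.submonoid (AdjoinRoot F) := by
    rintro x ⟨n, rfl⟩
    simp
  let e2 : AdjoinRoot F ≃ₐ[AdjoinRoot F] Localization.Away (AdjoinRoot.mk F (1 : R[X])) :=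
    IsLocalization.atUnits (AdjoinRoot F) (Submonoid.powers (AdjoinRoot.mk F (1 : R[X]))) hle
  haveI : Algebra.Etale R (Localization.Away (AdjoinRoot.mk F (1 : R[X]))) :=
    Algebra.Etale.of_equiv e1
  exact Algebra.Etale.of_equiv (e2.restrictScalars R).symm

end EtaleAR

section Main

variable (R : Type u) [CommRing R] [IsLocalRing R]

lemma exists_poly (L : Type u) [Field L] [Algebra (ResidueField R) L]
    [FiniteDimensional (ResidueField R) L] [Algebra.IsSeparable (ResidueField R) L] :
    ∃ F : R[X], F.Monic ∧ (F.map (Ideal.Quotient.mk (maximalIdeal R))).Separable ∧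
      Nonempty (AdjoinRoot (F.map (algebraMap R (ResidueField R))) ≃ₐ[ResidueField R] L) := by
  obtain ⟨α, hα⟩ := Field.exists_primitive_element (ResidueField R) L
  have hint : IsIntegral (ResidueField R) α := Algebra.IsIntegral.isIntegral α
  have hmonic : (minpoly (ResidueField R) α).Monic := minpoly.monic hint
  have hsep : (minpoly (ResidueField R) α).Separable :=
    Algebra.IsSeparable.isSeparable (ResidueField R) α
  have hl : minpoly (ResidueField R) α ∈ Polynomial.lifts (residue R) := by
    rw [Polynomial.mem_lifts]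
    exact Polynomial.map_surjective (residue R) (residue_surjective) _
  obtain ⟨F, hF, -, hFm⟩ := Polynomial.lifts_and_natDegree_eq_and_monic hl hmonic
  refine ⟨F, hFm, ?_, ?_⟩
  · have : F.map (Ideal.Quotient.mk (maximalIdeal R)) = minpoly (ResidueField R) α := hF
    rw [this]
    exact hsep
  · have h1 : F.map (algebraMap R (ResidueField R)) = minpoly (ResidueField R) α := hF
    rw [h1]
    let e1 := IntermediateField.adjoinRootEquivAdjoin (ResidueField R) hint
    let e2 : (ResidueField R)⟮α⟯ ≃ₐ[ResidueField R] L :=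
      (IntermediateField.equivOfEq hα).trans IntermediateField.topEquiv
    exact ⟨e1.trans e2⟩

/-- Every finite étale algebra over the residue field of a local ring lifts to a finite free
étale algebra. -/
theorem exists_lift (D₀ : Type u) [CommRing D₀] [Algebra (ResidueField R) D₀]
    [Module.Finite (ResidueField R) D₀] [Algebra.Etale (ResidueField R) D₀] :
    ∃ (E : Type u) (_ : CommRing E) (_ : Algebra R E), Module.Finite R E ∧ Module.Free R E ∧
      Algebra.Etale R E ∧ Nonempty ((ResidueField R ⊗[R] E) ≃ₐ[ResidueField R] D₀) := by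
  classical
  obtain ⟨I, hI, Ai, hfield, halg, e, hsep⟩ :=
    (Algebra.FormallyEtale.iff_exists_algEquiv_prod (ResidueField R) D₀).mp inferInstance
  haveI := hI
  haveI := hsep
  haveI : ∀ i, FiniteDimensional (ResidueField R) (Ai i) := fun i =>
    Module.Finite.of_surjective
      ((Pi.evalAlgHom (ResidueField R) Ai i).toLinearMap.comp e.toLinearMap)
      (by
        intro y
        refine ⟨e.symm (Pi.single i y), ?_⟩
        simp)
  choose F hFm hFsep hFe using fun i => exists_poly R (Ai i)
  haveI : ∀ i, Module.Finite R (AdjoinRoot (F i)) := fun i => (hFm i).finite_adjoinRoot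
  haveI : ∀ i, Module.Free R (AdjoinRoot (F i)) := fun i => (hFm i).free_adjoinRoot
  haveI : ∀ i, Algebra.Etale R (AdjoinRoot (F i)) := fun i =>
    etale_adjoinRoot R (F i) (hFm i) (hFsep i)
  haveI : Fintype I := Fintype.ofFinite I
  refine ⟨Π i, AdjoinRoot (F i), inferInstance, inferInstance, inferInstance, inferInstance,
    inferInstance, ?_⟩
  let e1 : ResidueField R ⊗[R] (Π i, AdjoinRoot (F i)) ≃ₐ[ResidueField R]
      Π i, ResidueField R ⊗[R] AdjoinRoot (F i) :=
    Algebra.TensorProduct.piRight R (ResidueField R) (ResidueField R) (fun i => AdjoinRoot (F i))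
  let e2 : (Π i, ResidueField R ⊗[R] AdjoinRoot (F i)) ≃ₐ[ResidueField R] Π i, Ai i :=
    AlgEquiv.piCongrRight (fun i => (arBC R (ResidueField R) (F i)).trans (hFe i).some)
  exact ⟨(e1.trans e2).trans e.symm⟩

end Main

end Groth.Agent.H96.EtLift
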