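import Mathlib
import Groth.Agent.S19588
import Groth.Agent.H97.Azumaya

/-!
# Étale maximal commutative subalgebras of central simple / Azumaya algebras

Field level: `A` central simple of dimension `r²` over `k`, `E` a commutative étale `k`-algebra of
dimension `r`, `u : E → A` injective, `A` an `E`-module through right multiplication.
Then `A` is free of rank `r` over `E` and `E ⊗ A → End_E A` is onto.
-/

set_option autoImplicit false
set_option linter.style.haveILetI false

open TensorProduct

namespace Groth.Agent.H96.EtSub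

section Field

variable {k : Type*} [CommRing k] {A : Type*} [Ring A] [Algebra k A]
  {E : Type*} [CommRing E] [Algebra k E]
  (u : E →ₐ[k] A) [Module E A] [IsScalarTower k E A]
  (hmod : ∀ (e : E) (a : A), e • a = a * u e)

/-- left multiplication as an `E`-linear map -/
def Lmul (a : A) : A →ₗ[E] A where
  toFun y := a * y
  map_add' := mul_add a
  map_smul' e y := by simp only [hmod, RingHom.id_apply, mul_assoc]

@[simp] lemma Lmul_apply (a y : A) : Lmul u hmod a y = a * y := rfl

variable (κ : Type*) [Field κ] [Algebra E κ] [Algebra k κ] [IsScalarTower k E κ]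

/-- The left regular representation on `κ ⊗[E] A`. -/
noncomputable def gHom : A →ₐ[k] Module.End κ (κ ⊗[E] A) where
  toFun a := (Lmul u hmod a).baseChange κ
  map_one' := by
    ext y
    simp
  map_mul' a b := by
    ext y
    simp [mul_assoc]
  map_zero' := by
    ext y
    simp
  map_add' a b := by
    ext y
    simp [add_mul, tmul_add]
  commutes' c := by
    ext y
    simp only [AlgebraTensorModule.curry_apply, curry_apply, LinearMap.coe_restrictScalars,
      LinearMap.baseChange_tmul, Lmul_apply, Module.algebraMap_end_apply]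
    rw [← Algebra.smul_def, ← algebraMap_smul E c y, ← smul_tmul, algebraMap_smul,
      smul_tmul']

lemma gHom_apply_tmul (a : A) (x : κ) (y : A) :
    gHom u hmod κ a (x ⊗ₜ[E] y) = x ⊗ₜ[E] (a * y) := by
  simp [gHom]

/-- The representation of `κ ⊗[k] A` on `κ ⊗[E] A`. -/
noncomputable def psi : κ ⊗[k] A →ₐ[κ] Module.End κ (κ ⊗[E] A) :=
  Algebra.TensorProduct.lift (Algebra.ofId κ _) (gHom u hmod κ)
    (fun x a => Algebra.commutes x _)

end Field

section Rank

variable {k : Type*} [Field k] {A : Type*} [Ring A] [Algebra k A] [Algebra.IsCentral k A]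
  [IsSimpleRing A] [FiniteDimensional k A]
  {E : Type*} [CommRing E] [Algebra k E] [Module.Finite k E]
  (u : E →ₐ[k] A) (hu : Function.Injective u) [Module E A] [IsScalarTower k E A]
  (hmod : ∀ (e : E) (a : A), e • a = a * u e)

include hu hmod in
lemma nontrivial_quot [Module.Finite E A] (P : Ideal E) [hP : P.IsMaximal] :
    Nontrivial ((E ⧸ P) ⊗[E] A) := by
  by_contra hcon
  rw [not_nontrivial_iff_subsingleton] at hcon
  have h1 : (⊤ : Submodule E A) ≤ P • (⊤ : Submodule E A) := by
    intro a _
    exact Groth.Agent.H97.mem_smul_top_of_one_tmul_eq_zero P a (Subsingleton.elim _ _)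
  obtain ⟨x, hx1, hx0⟩ :=
    Submodule.exists_sub_one_mem_and_smul_eq_zero_of_fg_of_le_smul P ⊤
      (Module.Finite.fg_top) h1
  have h2 : u x = 0 := by
    have := hx0 1 Submodule.mem_top
    rwa [hmod, one_mul] at this
  have h3 : x = 0 := hu (by rw [h2, map_zero])
  rw [h3, zero_sub, neg_mem_iff] at hx1
  exact hP.ne_top ((Ideal.eq_top_iff_one P).2 hx1)

include hu hmod in
lemma rank_ge [Module.Finite E A] (r : ℕ) (hA : Module.finrank k A = r ^ 2)
    (P : Ideal E) [hP : P.IsMaximal] :
    letI : Field (E ⧸ P) := Ideal.Quotient.field P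
    r ≤ Module.finrank (E ⧸ P) ((E ⧸ P) ⊗[E] A) := by
  letI : Field (E ⧸ P) := Ideal.Quotient.field P
  haveI : IsAzumaya k A :=
    { bij := Groth.Agent.H97.mulLeftRight_bijective_of_isCentral_isSimpleRing k A }
  haveI : IsAzumaya (E ⧸ P) ((E ⧸ P) ⊗[k] A) := Groth.Agent.S19588.result k (E ⧸ P) A
  haveI : IsSimpleRing ((E ⧸ P) ⊗[k] A) :=
    Groth.Agent.H97.isSimpleRing_of_isAzumaya_field (E ⧸ P) _
  haveI : Nontrivial ((E ⧸ P) ⊗[E] A) := nontrivial_quot u hu hmod P
  have hinj : Function.Injective (psi u hmod (E ⧸ P)) :=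
    (psi u hmod (E ⧸ P)).toRingHom.injective
  have h1 := LinearMap.finrank_le_finrank_of_injective
    (f := (psi u hmod (E ⧸ P)).toLinearMap) hinj
  rw [Module.finrank_baseChange, hA, Module.finrank_linearMap, sq] at h1
  exact Nat.mul_self_le_mul_self_iff.mp h1

lemma iInf_maximalSpectrum_eq_bot (E : Type*) [CommRing E] [IsArtinianRing E] [IsReduced E] :
    (⨅ P : MaximalSpectrum E, P.asIdeal) = ⊥ := by
  rw [eq_bot_iff]
  intro x hx
  rw [Ideal.mem_iInf] at hx
  have h1 : x ∈ Ideal.jacobson (⊥ : Ideal E) := by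
    rw [Ideal.jacobson, Ideal.mem_sInf]
    intro J hJ
    exact hx ⟨J, hJ.2⟩
  rw [IsArtinianRing.jacobson_eq_radical] at h1
  change x ∈ nilradical E at h1
  rw [nilradical_eq_zero] at h1
  exact h1

include hu hmod in
theorem exists_basis [Algebra.FormallyUnramified k E] (r : ℕ)
    (hA : Module.finrank k A = r ^ 2) (hE : Module.finrank k E = r) :
    Nonempty (Module.Basis (Fin r) E A) := by
  classical
  haveI : Module.Finite E A := Module.Finite.of_restrictScalars_finite k E A
  haveI : IsArtinianRing E := IsArtinianRing.of_finite k E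
  haveI : IsReduced E := Algebra.FormallyUnramified.isReduced_of_field k E
  haveI : Module.Flat E A := Algebra.FormallyUnramified.flat_of_restrictScalars k E A
  haveI : Fintype (MaximalSpectrum E) := Fintype.ofFinite _
  letI fld : ∀ P : MaximalSpectrum E, Field (E ⧸ P.asIdeal) := fun P =>
    haveI := P.isMaximal
    Ideal.Quotient.field P.asIdeal
  set d : MaximalSpectrum E → ℕ := fun P =>
    Module.finrank (E ⧸ P.asIdeal) ((E ⧸ P.asIdeal) ⊗[E] A) with hd
  set w : MaximalSpectrum E → ℕ := fun P => Module.finrank k (E ⧸ P.asIdeal) with hw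
  have hge : ∀ P, r ≤ d P := fun P => by
    haveI := P.isMaximal
    exact rank_ge u hu hmod r hA P.asIdeal
  have hwsum : ∑ P, w P = r := by
    rw [← hE, ← ((IsArtinianRing.equivPi E).toLinearEquiv.restrictScalars k).finrank_eq.symm,
      Module.finrank_pi_fintype]
  have hwd : ∑ P, w P * d P = r ^ 2 := by
    have hI : Pairwise (Function.onFun IsCoprime fun P : MaximalSpectrum E => P.asIdeal) :=
      fun P Q hne => by
        haveI := P.isMaximal
        haveI := Q.isMaximal
        exact Ideal.isCoprime_of_isMaximal (MaximalSpectrum.ext_iff.ne.mp hne)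
    set f : A →ₗ[E] ∀ P : MaximalSpectrum E, (E ⧸ P.asIdeal) ⊗[E] A :=
      LinearMap.pi fun P => TensorProduct.mk E (E ⧸ P.asIdeal) A 1 with hf
    have hsurj : Function.Surjective f :=
      Ideal.pi_tensorProductMk_quotient_surjective A (fun P : MaximalSpectrum E => P.asIdeal) hI
    have hinj : Function.Injective f := by
      rw [← LinearMap.ker_eq_bot, hf,
        Ideal.ker_tensorProductMk_quotient A (fun P : MaximalSpectrum E => P.asIdeal) hI,
        iInf_maximalSpectrum_eq_bot, Submodule.bot_smul]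
    have e1 : A ≃ₗ[k] ∀ P : MaximalSpectrum E, (E ⧸ P.asIdeal) ⊗[E] A :=
      LinearEquiv.ofBijective (f.restrictScalars k) ⟨hinj, hsurj⟩
    haveI : ∀ P : MaximalSpectrum E, Module.Finite k ((E ⧸ P.asIdeal) ⊗[E] A) := fun P =>
      Module.Finite.trans (E ⧸ P.asIdeal) _
    rw [← hA, e1.finrank_eq, Module.finrank_pi_fintype]
    refine Finset.sum_congr rfl fun P _ => ?_
    exact (Module.finrank_mul_finrank k (E ⧸ P.asIdeal) ((E ⧸ P.asIdeal) ⊗[E] A))
  have hwpos : ∀ P, 0 < w P := fun P => by
    haveI := P.isMaximal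
    exact Module.finrank_pos
  have hdeq : ∀ P, d P = r := by
    have h1 : ∑ P, w P * r = ∑ P, w P * d P := by
      rw [hwd, ← Finset.sum_mul, hwsum, sq]
    have h2 := (Finset.sum_eq_sum_iff_of_le
      (fun P _ => Nat.mul_le_mul_left (w P) (hge P))).mp h1
    intro P
    exact (Nat.eq_of_mul_eq_mul_left (hwpos P) (h2 P (Finset.mem_univ P))).symm
  exact Module.nonempty_basis_of_flat_of_finrank_eq E A r hdeq

end Rank

section Phi

variable {k : Type*} [Field k] {A : Type*} [Ring A] [Algebra k A]
  {E : Type*} [CommRing E] [Algebra k E]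
  (u : E →ₐ[k] A) [Module E A]
  (hmod : ∀ (e : E) (a : A), e • a = a * u e)

/-- `e ⊗ a ↦ (y ↦ a * y * u e)` -/
noncomputable def phi : E ⊗[k] A →ₗ[k] Module.End k A :=
  (AlgHom.mulLeftRight k A).toLinearMap ∘ₗ
    (TensorProduct.map LinearMap.id
      ((MulOpposite.opLinearEquiv k).toLinearMap ∘ₗ u.toLinearMap)) ∘ₗ
    (TensorProduct.comm k E A).toLinearMap

lemma phi_tmul (e : E) (a y : A) : phi u (e ⊗ₜ[k] a) y = a * y * u e := by
  simp [phi, AlgHom.mulLeftRight_apply]

include hmod in
lemma phi_smul (l : E ⊗[k] A) (x : E) (y : A) : phi u l (x • y) = x • phi u l y := by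
  induction l using TensorProduct.induction_on with
  | zero => simp
  | tmul e a =>
    rw [phi_tmul, phi_tmul, hmod, hmod]
    have : u x * u e = u e * u x := by rw [← map_mul, ← map_mul, mul_comm]
    simp only [mul_assoc, this]
  | add l1 l2 h1 h2 => simp only [map_add, LinearMap.add_apply, h1, h2, smul_add]

variable [Algebra.IsCentral k A] [IsSimpleRing A] [FiniteDimensional k A]

lemma phi_injective (hu : Function.Injective u) : Function.Injective (phi u) := by
  unfold phi
  rw [LinearMap.coe_comp, LinearMap.coe_comp]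
  refine (Groth.Agent.H97.mulLeftRight_bijective_of_isCentral_isSimpleRing k A).1.comp
    (Function.Injective.comp ?_ (TensorProduct.comm k E A).injective)
  exact Module.Flat.lTensor_preserves_injective_linearMap
    ((MulOpposite.opLinearEquiv k).toLinearMap ∘ₗ u.toLinearMap)
    ((MulOpposite.opLinearEquiv k).injective.comp hu)

include hmod in
theorem theta_surjective [Module.Finite k E] (hu : Function.Injective u) (r : ℕ)
    (hA : Module.finrank k A = r ^ 2) (hE : Module.finrank k E = r)
    (b : Module.Basis (Fin r) E A) (t : Fin r → A) :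
    ∃ l : E ⊗[k] A, ∀ j, phi u l (b j) = t j := by
  set Θ : E ⊗[k] A →ₗ[k] (Fin r → A) :=
    LinearMap.pi fun j => (LinearMap.applyₗ (b j)) ∘ₗ phi u with hΘ
  have hΘapp : ∀ l j, Θ l j = phi u l (b j) := fun l j => rfl
  have hinj : Function.Injective Θ := by
    rw [← LinearMap.ker_eq_bot, LinearMap.ker_eq_bot']
    intro l hl
    apply phi_injective u hu
    rw [map_zero]
    apply LinearMap.ext
    intro y
    rw [← b.sum_repr y, map_sum, LinearMap.zero_apply]
    apply Finset.sum_eq_zero
    intro j _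
    rw [phi_smul u hmod, ← hΘapp, hl, Pi.zero_apply, smul_zero]
  have hdim : Module.finrank k (E ⊗[k] A) = Module.finrank k (Fin r → A) := by
    rw [Module.finrank_tensorProduct, hE, hA, Module.finrank_pi_fintype]
    simp [hA]
  obtain ⟨l, hl⟩ := (LinearMap.injective_iff_surjective_of_finrank_eq_finrank hdim).mp hinj t
  exact ⟨l, fun j => by rw [← hΘapp, hl]⟩

end Phi

section Generic

variable {R : Type*} [CommRing R] [IsLocalRing R]

lemma exists_one_tmul_eq {M : Type*} [AddCommGroup M] [Module R M]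
    (y : IsLocalRing.ResidueField R ⊗[R] M) :
    ∃ a : M, (1 : IsLocalRing.ResidueField R) ⊗ₜ[R] a = y := by
  induction y using TensorProduct.induction_on with
  | zero => exact ⟨0, by simp⟩
  | tmul c a =>
    obtain ⟨c', rfl⟩ := IsLocalRing.residue_surjective c
    refine ⟨c' • a, ?_⟩
    rw [← TensorProduct.smul_tmul, Algebra.smul_def, mul_one,
      IsLocalRing.ResidueField.algebraMap_eq]
  | add y1 y2 h1 h2 =>
    obtain ⟨a1, rfl⟩ := h1
    obtain ⟨a2, rfl⟩ := h2
    exact ⟨a1 + a2, TensorProduct.tmul_add _ _ _⟩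

lemma mem_smul_top_of_one_tmul_eq_zero {M : Type*} [AddCommGroup M] [Module R M] (x : M)
    (hx : (1 : IsLocalRing.ResidueField R) ⊗ₜ[R] x = 0) :
    x ∈ IsLocalRing.maximalIdeal R • (⊤ : Submodule R M) :=
  Groth.Agent.H97.mem_smul_top_of_one_tmul_eq_zero (IsLocalRing.maximalIdeal R) x hx

lemma surjective_of_mod {M N : Type*} [AddCommGroup M] [Module R M] [AddCommGroup N] [Module R N]
    [Module.Finite R N] (f : M →ₗ[R] N)
    (h : ∀ n, ∃ m, (1 : IsLocalRing.ResidueField R) ⊗ₜ[R] n
      = (1 : IsLocalRing.ResidueField R) ⊗ₜ[R] f m) : Function.Surjective f := by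
  rw [← LinearMap.range_eq_top, eq_top_iff]
  apply Submodule.le_of_le_smul_of_le_jacobson_bot Module.Finite.fg_top
    (IsLocalRing.jacobson_eq_maximalIdeal ⊥ bot_ne_top).ge
  intro n _
  obtain ⟨m, hm⟩ := h n
  have h1 : n - f m ∈ IsLocalRing.maximalIdeal R • (⊤ : Submodule R N) :=
    mem_smul_top_of_one_tmul_eq_zero _ (by rw [TensorProduct.tmul_sub, hm, sub_self])
  have h2 : n = f m + (n - f m) := by abel
  rw [h2]
  exact Submodule.add_mem_sup (LinearMap.mem_range_self f m) h1

lemma bijective_of_surjective_of_finrank_eq {M N : Type*} [AddCommGroup M] [Module R M]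
    [AddCommGroup N] [Module R N] [Module.Free R M] [Module.Finite R M] [Module.Free R N]
    [Module.Finite R N] (f : M →ₗ[R] N) (hrk : Module.finrank R M = Module.finrank R N)
    (hf : Function.Surjective f) : Function.Bijective f :=
  OrzechProperty.bijective_of_surjective_of_injective
    (LinearEquiv.ofFinrankEq M N hrk).toLinearMap f (LinearEquiv.ofFinrankEq M N hrk).injective hf

end Generic

section Local

universe u

variable (R : Type u) [CommRing R] [IsLocalRing R] (A : Type u) [Ring A] [Algebra R A]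
  [IsAzumaya R A] (r : ℕ) (hA : Module.finrank R A = r ^ 2)
  (E : Type u) [CommRing E] [Algebra R E] [Algebra.Etale R E] [Module.Finite R E]
  [Module.Free R E] (hE : Module.finrank R E = r) (u : E →ₐ[R] A)
  (hu : Function.Injective (u.toLinearMap.lTensor (IsLocalRing.ResidueField R)))
  [Module E A] (hmod : ∀ (e : E) (a : A), e • a = a * u e)

include hA hE hu hmod in
theorem main : Module.Free E A ∧ Module.finrank E A = r ∧
    Nonempty ((E ⊗[R] A) ≃ₐ[E] Module.End E A) := by
  classical
  set k := IsLocalRing.ResidueField R with hk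
  have hfreeA : Module.Free R A := Module.free_of_flat_of_isLocalRing
  haveI : IsScalarTower R E A :=
    ⟨fun c e a => by rw [hmod, hmod, map_smul, mul_smul_comm]⟩
  -- the special fibre
  let u' : k ⊗[R] E →ₐ[k] k ⊗[R] A := Algebra.TensorProduct.map (AlgHom.id k k) u
  have hu'tmul : ∀ (c : k) (e : E), u' (c ⊗ₜ[R] e) = c ⊗ₜ[R] u e := fun c e => by
    simp [u']
  have hu'app : ∀ z, u' z = u.toLinearMap.lTensor k z := by
    intro z
    induction z using TensorProduct.induction_on with
    | zero => simp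
    | tmul c e => rw [hu'tmul]; rfl
    | add z1 z2 h1 h2 => rw [map_add, map_add, h1, h2]
  have hu' : Function.Injective u' := fun a b h => hu (by rw [← hu'app, ← hu'app, h])
  have hcomm : ∀ x y : k ⊗[R] E, Commute (u'.toRingHom x) (u'.toRingHom y) := fun x y => by
    show u' x * u' y = u' y * u' x
    rw [← map_mul, ← map_mul, mul_comm]
  letI modE' : Module (k ⊗[R] E) (k ⊗[R] A) :=
    Module.compHom (k ⊗[R] A) (u'.toRingHom.toOpposite hcomm)
  have hmod' : ∀ (e : k ⊗[R] E) (a : k ⊗[R] A), e • a = a * u' e := fun e a => rfl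
  haveI : IsScalarTower k (k ⊗[R] E) (k ⊗[R] A) :=
    ⟨fun c e a => by rw [hmod', hmod', map_smul, mul_smul_comm]⟩
  haveI : IsAzumaya k (k ⊗[R] A) := Groth.Agent.S19588.result R k A
  haveI : IsSimpleRing (k ⊗[R] A) := Groth.Agent.H97.isSimpleRing_of_isAzumaya_field k _
  have hA' : Module.finrank k (k ⊗[R] A) = r ^ 2 := by rw [Module.finrank_baseChange, hA]
  have hE' : Module.finrank k (k ⊗[R] E) = r := by rw [Module.finrank_baseChange, hE]
  obtain ⟨b'⟩ := exists_basis u' hu' hmod' r hA' hE'
  choose b hb using fun j => exists_one_tmul_eq (R := R) (b' j)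
  have key1 : ∀ (e : E) (a : A), (1 : k) ⊗ₜ[R] (e • a)
      = ((1 : k) ⊗ₜ[R] e) • ((1 : k) ⊗ₜ[R] a) := by
    intro e a
    rw [hmod, hmod', hu'tmul, Algebra.TensorProduct.tmul_mul_tmul, mul_one]
  -- Goal 1: the basis
  let β : (Fin r → E) →ₗ[E] A := Fintype.linearCombination E b
  have hβapp : ∀ x, β x = ∑ j, x j • b j := fun x => Fintype.linearCombination_apply E b x
  have hβsurj : Function.Surjective (β.restrictScalars R) := by
    apply surjective_of_mod
    intro a
    choose x hx using fun j => exists_one_tmul_eq (R := R) (b'.repr ((1 : k) ⊗ₜ[R] a) j)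
    refine ⟨x, ?_⟩
    rw [LinearMap.restrictScalars_apply, hβapp, TensorProduct.tmul_sum]
    conv_lhs => rw [← b'.sum_repr ((1 : k) ⊗ₜ[R] a)]
    refine Finset.sum_congr rfl fun j _ => ?_
    rw [key1, hx, hb]
  have hrk1 : Module.finrank R (Fin r → E) = Module.finrank R A := by
    rw [Module.finrank_pi_fintype]
    simp [hE, hA, sq]
  have hβbij : Function.Bijective β :=
    bijective_of_surjective_of_finrank_eq (β.restrictScalars R) hrk1 hβsurj
  let eβ : (Fin r → E) ≃ₗ[E] A := LinearEquiv.ofBijective β hβbij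
  let bE : Module.Basis (Fin r) E A := Module.Basis.ofEquivFun eβ.symm
  have hbE : ∀ j, bE j = b j := by
    intro j
    have h1 : bE j = β (Pi.single j 1) := by
      simp [bE, eβ, Module.Basis.coe_ofEquivFun]
    rw [h1, hβapp, Finset.sum_eq_single j]
    · rw [Pi.single_eq_same, one_smul]
    · intro i _ hij
      rw [Pi.single_eq_of_ne hij, zero_smul]
    · intro h; exact absurd (Finset.mem_univ j) h
  haveI : Nontrivial A := (FaithfulSMul.algebraMap_injective R A).nontrivial
  haveI : Nontrivial E := u.toRingHom.domain_nontrivial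
  have hfreeEA : Module.Free E A := Module.Free.of_basis bE
  have hrkEA : Module.finrank E A = r := by
    rw [Module.finrank_eq_card_basis bE, Fintype.card_fin]
  -- Goal 3: the algebra map
  let G : A →ₐ[R] Module.End E A :=
    { toFun := fun a => Lmul u hmod a
      map_one' := by ext y; simp
      map_mul' := fun a c => by ext y; simp [mul_assoc]
      map_zero' := by ext y; simp
      map_add' := fun a c => by ext y; simp [add_mul]
      commutes' := fun c => by ext y; simp [Algebra.smul_def] }
  let ΦA : E ⊗[R] A →ₐ[E] Module.End E A :=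
    Algebra.TensorProduct.lift (Algebra.ofId E _) G (fun x a => Algebra.commutes x _)
  have hΦ : ∀ (e : E) (a y : A), ΦA (e ⊗ₜ a) y = a * y * u e := by
    intro e a y
    simp [ΦA, G, hmod]
  let Θ : E ⊗[R] A →ₗ[R] (Fin r → A) :=
    LinearMap.pi fun j => ((LinearMap.applyₗ (b j) : (A →ₗ[E] A) →ₗ[E] A) ∘ₗ
      ΦA.toLinearMap).restrictScalars R
  have hΘ : ∀ l j, Θ l j = ΦA l (b j) := fun l j => rfl
  have hlift : ∀ l' : (k ⊗[R] E) ⊗[k] (k ⊗[R] A), ∃ l : E ⊗[R] A, ∀ y : A,
      (1 : k) ⊗ₜ[R] (ΦA l y) = phi u' l' ((1 : k) ⊗ₜ[R] y) := by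
    intro l'
    induction l' using TensorProduct.induction_on with
    | zero => exact ⟨0, fun y => by simp⟩
    | tmul x z =>
      obtain ⟨e, rfl⟩ := exists_one_tmul_eq (R := R) x
      obtain ⟨a, rfl⟩ := exists_one_tmul_eq (R := R) z
      refine ⟨e ⊗ₜ a, fun y => ?_⟩
      rw [hΦ, phi_tmul, hu'tmul]
      simp only [Algebra.TensorProduct.tmul_mul_tmul, mul_one]
    | add l1 l2 h1 h2 =>
      obtain ⟨m1, hm1⟩ := h1
      obtain ⟨m2, hm2⟩ := h2
      exact ⟨m1 + m2, fun y => by
        rw [map_add, LinearMap.add_apply, TensorProduct.tmul_add, hm1, hm2, map_add,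
          LinearMap.add_apply]⟩
  have hΘsurj : Function.Surjective Θ := by
    apply surjective_of_mod
    intro t
    obtain ⟨l', hl'⟩ := theta_surjective u' hmod' hu' r hA' hE' b'
      (fun j => (1 : k) ⊗ₜ[R] t j)
    obtain ⟨l, hl⟩ := hlift l'
    refine ⟨l, ?_⟩
    apply (TensorProduct.piRight R k k (fun _ : Fin r => A)).injective
    ext j
    rw [TensorProduct.piRight_apply, TensorProduct.piRightHom_tmul, TensorProduct.piRight_apply,
      TensorProduct.piRightHom_tmul]
    beta_reduce
    rw [hΘ, hl, hb j, hl' j]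
  have hrk2 : Module.finrank R (E ⊗[R] A) = Module.finrank R (Fin r → A) := by
    rw [Module.finrank_tensorProduct, Module.finrank_pi_fintype]
    simp [hE, hA]
  have hΘbij := bijective_of_surjective_of_finrank_eq Θ hrk2 hΘsurj
  have hΦinj : Function.Injective ΦA := by
    rw [injective_iff_map_eq_zero]
    intro l hl
    apply hΘbij.1
    rw [map_zero]
    funext j
    rw [hΘ, hl]
    rfl
  have hΦsurj : Function.Surjective ΦA := by
    intro T
    obtain ⟨l, hl⟩ := hΘbij.2 (fun j => T (b j))
    refine ⟨l, ?_⟩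
    apply bE.ext
    intro j
    rw [hbE, ← hΘ, hl]
  exact ⟨hfreeEA, hrkEA, ⟨AlgEquiv.ofBijective ΦA ⟨hΦinj, hΦsurj⟩⟩⟩

end Local

end Groth.Agent.H96.EtSub
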