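import Groth.Agent.H96.W2Descent
import Groth.Agent.S9436

/-!
# Frobenius-liftability ascends along étale algebras

If `A` has a flat lifting `A'` over `W₂(k)` with a Frobenius lift and `C` is étale over `A`, lift `C`
to an étale `A'`-algebra `C'` (S9436) and lift the Frobenius by formal smoothness of `C'` over `A'`
(for the `A'`-algebra structure on `C'` twisted by the Frobenius lift of `A'`).
-/

set_option autoImplicit false
universe u v

namespace Groth.Agent.H96.EtaleFLift

open TensorProduct

/-- type synonym carrying twisted algebra structures -/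
def Tw (X : Type v) : Type v := X

instance (X : Type v) [CommRing X] : CommRing (Tw X) := inferInstanceAs (CommRing X)

variable (p : ℕ) [hp : Fact p.Prime] (k : Type u) [Field k] [CharP k p] [PerfectRing k p]

theorem etale_fliftable
    (A C : Type v) [CommRing A] [CommRing C] [Algebra k A] [Algebra k C]
    [Algebra A C] [IsScalarTower k A C] [Algebra.Etale A C]
    (hA : FrobAlg.IsFLiftable p k A) : FrobAlg.IsFLiftable p k C := by
  classical
  obtain ⟨A', instA', ιA, πA, ΦA, hΦA⟩ := hA
  have hA' := hΦA.toIsLift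
  obtain ⟨hppA, hkerA, hflatA⟩ := W2Descent.basic p k A A' ιA πA hA'
  have hpC : (p : C) = 0 := by
    rw [← map_natCast (algebraMap k C) p, CharP.cast_eq_zero k p, map_zero]
  have hIspan : RingHom.ker πA = Ideal.span {(p : A')} := by
    ext x
    rw [RingHom.mem_ker, hkerA, Ideal.mem_span_singleton']
  let eA : (A' ⧸ RingHom.ker πA) ≃+* A := RingHom.quotientKerEquivOfSurjective hA'.surj
  have heA : ∀ a : A', eA (Ideal.Quotient.mk _ a) = πA a := fun a => rfl
  letI algIA : Algebra (A' ⧸ RingHom.ker πA) A := eA.toRingHom.toAlgebra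
  letI algIC : Algebra (A' ⧸ RingHom.ker πA) C :=
    ((algebraMap A C).comp eA.toRingHom).toAlgebra
  haveI : IsScalarTower (A' ⧸ RingHom.ker πA) A C :=
    IsScalarTower.of_algebraMap_eq (fun x => rfl)
  haveI : Algebra.Etale (A' ⧸ RingHom.ker πA) A :=
    Algebra.Etale.of_equiv (AlgEquiv.ofRingEquiv (f := eA) (fun x => rfl))
  haveI : Algebra.Etale (A' ⧸ RingHom.ker πA) C :=
    Algebra.Etale.comp (A' ⧸ RingHom.ker πA) A C
  obtain ⟨C', instC', algC', hetC', ⟨eC⟩⟩ := Groth.Agent.S9436.result A' (RingHom.ker πA) C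
  -- the reduction map
  let πC : C' →+* C := (eC.toRingEquiv.toRingHom).comp
    (Algebra.TensorProduct.includeRight :
      C' →ₐ[A'] (A' ⧸ RingHom.ker πA) ⊗[A'] C').toRingHom
  have hπC : ∀ c, πC c = eC ((1 : A' ⧸ RingHom.ker πA) ⊗ₜ[A'] c) := fun c => rfl
  have hH1 : ∀ a : A', πC (algebraMap A' C' a) = algebraMap A C (πA a) := by
    intro a
    have h1 : (1 : A' ⧸ RingHom.ker πA) ⊗ₜ[A'] (algebraMap A' C' a) =
        algebraMap (A' ⧸ RingHom.ker πA) ((A' ⧸ RingHom.ker πA) ⊗[A'] C')
          (Ideal.Quotient.mk _ a) := by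
      rw [Algebra.algebraMap_eq_smul_one (A := C') a, ← TensorProduct.smul_tmul,
        Algebra.TensorProduct.algebraMap_apply]
      congr 1
      rw [Algebra.smul_def, mul_one]
      rfl
    rw [hπC, h1, AlgEquiv.commutes]
    show algebraMap A C (eA (Ideal.Quotient.mk _ a)) = _
    rw [heA]
  have hincl_surj : ∀ t : (A' ⧸ RingHom.ker πA) ⊗[A'] C',
      ∃ c : C', t = (1 : A' ⧸ RingHom.ker πA) ⊗ₜ[A'] c := by
    intro t
    induction t using TensorProduct.induction_on with
    | zero => exact ⟨0, (tmul_zero _ _).symm⟩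
    | tmul x y =>
      obtain ⟨a, rfl⟩ := Ideal.Quotient.mk_surjective x
      refine ⟨a • y, ?_⟩
      rw [← TensorProduct.smul_tmul, Algebra.smul_def, mul_one]
      rfl
    | add x y hx hy =>
      obtain ⟨c₁, h₁⟩ := hx
      obtain ⟨c₂, h₂⟩ := hy
      exact ⟨c₁ + c₂, by rw [h₁, h₂, tmul_add]⟩
  have hπCsurj : Function.Surjective πC := by
    intro c
    obtain ⟨c', hc'⟩ := hincl_surj (eC.symm c)
    exact ⟨c', by rw [hπC, ← hc', AlgEquiv.apply_symm_apply]⟩
  have hkerC : ∀ c : C', πC c = 0 ↔ ∃ y, y * (p : C') = c := by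
    intro c
    rw [hπC, EmbeddingLike.map_eq_zero_iff,
      ← (TensorProduct.quotTensorEquivQuotSMul C' (RingHom.ker πA)).map_eq_zero_iff,
      TensorProduct.quotTensorEquivQuotSMul_mk_one_tmul, Submodule.Quotient.mk_eq_zero, hIspan,
      Submodule.ideal_span_singleton_smul, Submodule.mem_smul_pointwise_iff_exists]
    constructor
    · rintro ⟨y, _, hy⟩
      exact ⟨y, by rw [← hy, Algebra.smul_def, map_natCast, mul_comm]⟩
    · rintro ⟨y, hy⟩
      exact ⟨y, Submodule.mem_top, by rw [← hy, Algebra.smul_def, map_natCast, mul_comm]⟩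
  have hppC : (p : C') * (p : C') = 0 := by
    rw [← map_natCast (algebraMap A' C') p, ← map_mul, hppA, map_zero]
  have hsq : ∀ x y : C', πC x = 0 → πC y = 0 → x * y = 0 := by
    intro x y hx hy
    obtain ⟨x', rfl⟩ := (hkerC x).1 hx
    obtain ⟨y', rfl⟩ := (hkerC y).1 hy
    linear_combination (x' * y') * hppC
  -- Frobenius of `C`
  let frobC : C →+* C :=
    { toFun := fun x => x ^ p
      map_one' := one_pow p
      map_mul' := fun x y => mul_pow x y p
      map_zero' := zero_pow hp.out.ne_zero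
      map_add' := fun x y => by
        show (x + y) ^ p = x ^ p + y ^ p
        obtain ⟨r, hr⟩ := exists_add_pow_prime_eq hp.out x y
        rw [hr, hpC, zero_mul, zero_mul, zero_mul, add_zero] }
  have hfrobC : ∀ x, frobC x = x ^ p := fun x => rfl
  -- twisted algebra structures
  letI algTwC' : Algebra A' (Tw C') :=
    (show A' →+* Tw C' from (algebraMap A' C').comp ΦA).toAlgebra
  letI algTwC : Algebra A' (Tw C) :=
    (show A' →+* Tw C from frobC.comp ((algebraMap A C).comp πA)).toAlgebra
  let g : Tw C' →ₐ[A'] Tw C :=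
    { (show Tw C' →+* Tw C from πC) with
      commutes' := fun a => by
        show πC (algebraMap A' C' (ΦA a)) = (algebraMap A C (πA a)) ^ p
        rw [hH1, hΦA.red, map_pow] }
  let f : C' →ₐ[A'] Tw C :=
    { (show C' →+* Tw C from frobC.comp πC) with
      commutes' := fun a => by
        show (πC (algebraMap A' C' a)) ^ p = (algebraMap A C (πA a)) ^ p
        rw [hH1] }
  have hg : Function.Surjective g := hπCsurj
  have hg' : IsNilpotent (RingHom.ker (g : Tw C' →+* Tw C)) := by
    refine ⟨2, ?_⟩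
    rw [Ideal.zero_eq_bot, eq_bot_iff, pow_two, Ideal.mul_le]
    intro x hx y hy
    rw [RingHom.mem_ker] at hx hy
    rw [Ideal.mem_bot]
    exact hsq x y hx hy
  let ΦC' : C' →ₐ[A'] Tw C' := Algebra.FormallySmooth.liftOfSurjective f g hg hg'
  have hΦC'red : ∀ x : C', πC (ΦC' x) = (πC x) ^ p := fun x =>
    Algebra.FormallySmooth.liftOfSurjective_apply f g hg hg' x
  have hΦC'comm : ∀ a : A', ΦC' (algebraMap A' C' a) = algebraMap A' C' (ΦA a) := fun a =>
    ΦC'.commutes a
  let ΦC : C' →+* C' := (show C' →+* C' from ΦC'.toRingHom)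
  have hΦC : ∀ x, ΦC x = ΦC' x := fun x => rfl
  let ιC : FrobAlg.W2 p k →+* C' := (algebraMap A' C').comp ιA
  have hcomm : ∀ w, πA (ιA w) = algebraMap k A (FrobAlg.res p k w) := fun w => by
    have := congrArg (fun f => f w) hA'.comm
    simpa only [RingHom.comp_apply] using this
  have hlift : FrobAlg.IsLift p k C C' ιC πC := by
    refine ⟨?_, hπCsurj, ?_, ?_⟩
    · exact RingHom.Flat.comp hA'.flat (RingHom.flat_algebraMap_iff.2 inferInstance)
    · rw [QuadLift.ker_res, Ideal.map_span, Set.image_singleton, map_natCast]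
      ext c
      rw [RingHom.mem_ker, hkerC, Ideal.mem_span_singleton']
    · refine RingHom.ext fun w => ?_
      simp only [RingHom.comp_apply]
      show πC (algebraMap A' C' (ιA w)) = _
      rw [hH1, hcomm, ← IsScalarTower.algebraMap_apply]
  refine ⟨C', instC', ιC, πC, ΦC, ⟨hlift, ?_, ?_⟩⟩
  · refine RingHom.ext fun w => ?_
    simp only [RingHom.comp_apply]
    show ΦC' (algebraMap A' C' (ιA w)) = algebraMap A' C' (ιA (FrobAlg.sigma p k w))
    rw [hΦC'comm]
    have := congrArg (fun f => f w) hΦA.semi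
    simp only [RingHom.comp_apply] at this
    rw [this]
  · intro x
    exact hΦC'red x

end Groth.Agent.H96.EtaleFLift
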