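import Mathlib
import Groth.Agent.Lead.CompleteNoetherian
import Groth.Agent.H75.ArtinApprox

set_option autoImplicit false
set_option linter.style.haveILetI false

universe u

namespace Groth.Agent.H96.FPA_CPL

/-- faithful flatness of the completion along an ideal in the Jacobson radical. -/
theorem faithfullyFlat_adicCompletion {R : Type u} [CommRing R] [IsNoetherianRing R] (J : Ideal R)
    (hJ : J ≤ Ideal.jacobson ⊥) : Module.FaithfullyFlat R (AdicCompletion J R) := by
  refine ⟨fun m hm htop => ?_⟩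
  have hJm : J ≤ m := hJ.trans (sInf_le ⟨bot_le, hm⟩)
  -- apply `evalOneₐ`
  have h1 : (1 : AdicCompletion J R) ∈ (m • ⊤ : Submodule R (AdicCompletion J R)) := by
    rw [htop]
    trivial
  have h2 : ∀ x ∈ (m • ⊤ : Submodule R (AdicCompletion J R)),
      AdicCompletion.evalOneₐ J x ∈ m.map (Ideal.Quotient.mk J) := by
    intro x hx
    refine Submodule.smul_induction_on hx ?_ ?_
    · intro r hr n _
      rw [Algebra.smul_def, map_mul, AlgHom.commutes]
      exact Ideal.mul_mem_right _ _ (Ideal.mem_map_of_mem _ hr)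
    · intro x y hx hy
      rw [map_add]
      exact Ideal.add_mem _ hx hy
  have h3 := h2 1 h1
  rw [map_one] at h3
  have h4 : m.map (Ideal.Quotient.mk J) = ⊤ := (Ideal.eq_top_iff_one _).mpr h3
  have h5 : (m.map (Ideal.Quotient.mk J)).comap (Ideal.Quotient.mk J) = m := by
    rw [Ideal.comap_map_of_surjective _ Ideal.Quotient.mk_surjective]
    rw [← RingHom.ker_eq_comap_bot, Ideal.mk_ker]
    exact sup_eq_left.mpr hJm
  rw [h4, Ideal.comap_top] at h5
  exact hm.ne_top h5.symm

/-- (CPL) for helper15's S8826. -/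
theorem completion_facts {R : Type u} [CommRing R] [IsNoetherianRing R] (J : Ideal R)
    (hJ : J ≤ Ideal.jacobson ⊥) :
    IsNoetherianRing (AdicCompletion J R) ∧
    J.map (algebraMap R (AdicCompletion J R)) ≤ Ideal.jacobson ⊥ ∧
    (∀ (𝔟 : Ideal R) (x : R), algebraMap R (AdicCompletion J R) x ∈
      𝔟.map (algebraMap R (AdicCompletion J R)) → x ∈ 𝔟) ∧
    (∀ (N : ℕ) (s : AdicCompletion J R), ∃ x : R,
      s - algebraMap R (AdicCompletion J R) x ∈ (J ^ N).map (algebraMap R (AdicCompletion J R))) ∧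
    (∀ (N : ℕ) (x : R), AdicCompletion.evalₐ J N (algebraMap R (AdicCompletion J R) x) = 0 →
      x ∈ J ^ N) := by
  have hfg : J.FG := IsNoetherian.noetherian J
  refine ⟨Groth.Agent.Lead.isNoetherianRing_adicCompletion J hfg, ?_, ?_, ?_, ?_⟩
  · have hc : IsAdicComplete (J.map (algebraMap R (AdicCompletion J R))) (AdicCompletion J R) :=
      (IsAdicComplete.map_algebraMap_iff (I := J) (S := AdicCompletion J R)
        (M := AdicCompletion J R)).2 (AdicCompletion.isAdicComplete hfg)
    exact IsAdicComplete.le_jacobson_bot _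
  · intro 𝔟 x hx
    haveI := faithfullyFlat_adicCompletion J hJ
    have h := Ideal.comap_map_eq_self_of_faithfullyFlat (B := AdicCompletion J R) 𝔟
    rw [← h]
    exact hx
  · intro N s
    obtain ⟨x, hx⟩ := Ideal.Quotient.mk_surjective (AdicCompletion.evalₐ J N s)
    refine ⟨x, Groth.Agent.H75.ArtinApprox.mem_map_of_evalₐ_eq_zero J hfg N _ ?_⟩
    rw [map_sub, AlgHom.commutes, ← hx]
    exact sub_self _
  · intro N x hx
    rw [AlgHom.commutes] at hx
    exact Ideal.Quotient.eq_zero_iff_mem.mp hx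

end Groth.Agent.H96.FPA_CPL
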