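import Mathlib
import Groth.Agent.H32.QCBC.BCConv
import Groth.Agent.H9.FPres_FLATKER
import Groth.Agent.H9.FPres_SPAN

set_option autoImplicit false
set_option linter.unusedSectionVars false
set_option linter.unusedVariables false
universe v₁ u₁
open CategoryTheory Opposite Limits TensorProduct Groth.Agent.H32.QCBC

namespace Groth.Agent.H96.FPres_Abs

variable {C : Type u₁} [Category.{v₁} C]
  (O : Cᵒᵖ ⥤ CommRingCat.{max v₁ u₁})
  (M : PresheafOfModules.{max v₁ u₁} (O ⋙ forget₂ CommRingCat RingCat))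

/-- restriction with plain codomain. -/
noncomputable def rmap {E Z : C} (g : Z ⟶ E) (t : M.obj (op E)) : M.obj (op Z) := M.map g.op t

lemma rmap_smul {E Z : C} (g : Z ⟶ E) (a : O.obj (op E)) (t : M.obj (op E)) :
    rmap O M g (a • t) = O.map g.op a • rmap O M g t :=
  PresheafOfModules.map_smul M g.op a t

lemma rmap_sum {E Z : C} (g : Z ⟶ E) {ι : Type*} (s : Finset ι) (t : ι → M.obj (op E)) :
    rmap O M g (∑ j ∈ s, t j) = ∑ j ∈ s, rmap O M g (t j) :=
  map_sum (M.map g.op).hom t s

/-- (H1) generators of `M(E)` generate `M(Z)` when `M(Z) = O(Z) ⊗ M(E)`. -/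
theorem H1_abs {E Z : C} (g : Z ⟶ E) (hg : IsBC O M g) {n : ℕ} (m : Fin n → M.obj (op E))
    (hm : Submodule.span (O.obj (op E)) (Set.range m) = ⊤) (y : M.obj (op Z)) :
    ∃ c : Fin n → O.obj (op Z), y = ∑ j, c j • rmap O M g (m j) := by
  have hspan : Submodule.span (O.obj (op Z)) (Set.range (rmap O M g)) = ⊤ :=
    Groth.Agent.H9.FPres.span_range_eq_top_of_isBC O M g hg
  have hle : Submodule.span (O.obj (op Z)) (Set.range (rmap O M g)) ≤
      Submodule.span (O.obj (op Z)) (Set.range (fun j : Fin n => rmap O M g (m j))) := by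
    rw [Submodule.span_le]
    rintro _ ⟨t, rfl⟩
    have ht : t ∈ Submodule.span (O.obj (op E)) (Set.range m) := by rw [hm]; trivial
    obtain ⟨a, rfl⟩ := (Submodule.mem_span_range_iff_exists_fun _).1 ht
    rw [rmap_sum]
    refine Submodule.sum_mem _ (fun j _ => ?_)
    rw [rmap_smul]
    exact Submodule.smul_mem _ _ (Submodule.subset_span ⟨j, rfl⟩)
  have hy : y ∈ Submodule.span (O.obj (op Z))
      (Set.range (fun j : Fin n => rmap O M g (m j))) :=
    hle (by rw [hspan]; trivial)
  obtain ⟨c, hc⟩ := (Submodule.mem_span_range_iff_exists_fun _).1 hy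
  exact ⟨c, hc.symm⟩


lemma rmap_add {E Z : C} (g : Z ⟶ E) (t t' : M.obj (op E)) :
    rmap O M g (t + t') = rmap O M g t + rmap O M g t' :=
  map_add (M.map g.op).hom t t'

set_option maxHeartbeats 800000 in
/-- (H2) relations: flat base change of the kernel of `A^n → M(E)`. -/
theorem H2_abs {E Z : C} (g : Z ⟶ E) (hg : IsBC O M g) (hflat : (O.map g.op).hom.Flat)
    {n p : ℕ} (m : Fin n → M.obj (op E)) (k : Fin p → Fin n → O.obj (op E))
    (hk : ∀ a : Fin n → O.obj (op E), ∑ j, a j • m j = 0 →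
      a ∈ Submodule.span (O.obj (op E)) (Set.range k))
    (c : Fin n → O.obj (op Z)) (hc : ∑ j, c j • rmap O M g (m j) = 0) :
    ∃ d : Fin p → O.obj (op Z), ∀ j, c j = ∑ l, d l * O.map g.op (k l j) := by
  letI alg : Algebra (O.obj (op E)) (O.obj (op Z)) := (O.map g.op).hom.toAlgebra
  haveI : Module.Flat (O.obj (op E)) (O.obj (op Z)) := hflat
  letI modA : Module (O.obj (op E)) (M.obj (op Z)) := Module.compHom _ (O.map g.op).hom
  haveI : IsScalarTower (O.obj (op E)) (O.obj (op Z)) (M.obj (op Z)) :=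
    ⟨fun a b x => by
      show (a • b) • x = (O.map g.op).hom a • (b • x)
      rw [Algebra.smul_def, mul_smul]
      rfl⟩
  let ρ : M.obj (op E) →ₗ[O.obj (op E)] M.obj (op Z) :=
    { toFun := rmap O M g
      map_add' := rmap_add O M g
      map_smul' := fun a t => rmap_smul O M g a t }
  have hρ : IsBaseChange (O.obj (op Z)) ρ :=
    isBaseChange_of_isBC g hg rfl ρ (fun _ => rfl)
  have h1 := Groth.Agent.H9.FPres.mem_span_of_flat ρ hρ m c hc
  have hle : Submodule.span (O.obj (op Z))
      ((fun (a : Fin n → O.obj (op E)) (j : Fin n) =>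
        algebraMap (O.obj (op E)) (O.obj (op Z)) (a j)) ''
        {a : Fin n → O.obj (op E) | ∑ j, a j • m j = 0}) ≤
      Submodule.span (O.obj (op Z))
        (Set.range (fun (l : Fin p) (j : Fin n) => O.map g.op (k l j))) := by
    rw [Submodule.span_le]
    rintro _ ⟨a, ha, rfl⟩
    obtain ⟨α, rfl⟩ := (Submodule.mem_span_range_iff_exists_fun _).1 (hk a ha)
    have h2 : (fun j : Fin n => algebraMap (O.obj (op E)) (O.obj (op Z))
        ((∑ l, α l • k l) j)) =
        ∑ l, O.map g.op (α l) • (fun j : Fin n => O.map g.op (k l j)) := by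
      funext j
      rw [Finset.sum_apply, Finset.sum_apply]
      show (O.map g.op).hom (∑ l, (α l • k l) j) = _
      rw [map_sum]
      refine Finset.sum_congr rfl (fun l _ => ?_)
      show (O.map g.op).hom (α l * k l j) = O.map g.op (α l) * O.map g.op (k l j)
      rw [map_mul]
    show (fun j : Fin n => algebraMap (O.obj (op E)) (O.obj (op Z))
        ((∑ l, α l • k l) j)) ∈ _
    rw [h2]
    exact Submodule.sum_mem _ (fun l _ =>
      Submodule.smul_mem _ _ (Submodule.subset_span ⟨l, rfl⟩))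
  obtain ⟨d, hd⟩ := (Submodule.mem_span_range_iff_exists_fun _).1 (hle h1)
  refine ⟨d, fun j => ?_⟩
  rw [← hd, Finset.sum_apply]
  rfl

end Groth.Agent.H96.FPres_Abs
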