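import Groth.Agent.H96.FPres_Sub

/-! helper96: a morphism of modules on the small étale site with quasi-coherent target which is surjective on
sections over a finite affine "cover" (in the sense of (QCCOV)) is an epimorphism. -/

set_option autoImplicit false
set_option backward.isDefEq.respectTransparency false
universe u
open CategoryTheory CategoryTheory.Limits AlgebraicGeometry Opposite
open AlgSp

namespace Groth.Agent.H96.FPres_EpiCov

open Groth.Agent.H32.QCBC

variable {S : Scheme.{u}}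

theorem surjective_of_map_to_surjective (X : AlgSp.Sp S) {A B : AlgSp.ModEt X} [B.IsQuasicoherent]
    (i : A ⟶ B) {E Z : EtOver X} (hE : IsAffine E.obj.left.left) (hZ : IsAffine Z.obj.left.left)
    (g : Z ⟶ E) (hsurj : Function.Surjective (i.val.app (op E)).hom) :
    Function.Surjective (i.val.app (op Z)).hom := by
  intro y
  have hbc := isBC_modEt X B g hE hZ
  have hspan := Groth.Agent.H9.FPres.span_range_eq_top_of_isBC (OEt X).obj B.val g hbc
  have hy := hspan.ge (Submodule.mem_top (x := y))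
  induction hy using Submodule.span_induction with
  | mem y hy =>
    obtain ⟨t, rfl⟩ := hy
    obtain ⟨t', rfl⟩ := hsurj t
    exact ⟨A.val.map g.op t', PresheafOfModules.naturality_apply i.val g.op t'⟩
  | zero => exact ⟨0, map_zero _⟩
  | add y z _ _ hy hz =>
    obtain ⟨x, rfl⟩ := hy
    obtain ⟨x', rfl⟩ := hz
    exact ⟨x + x', map_add _ _ _⟩
  | smul c y _ hy =>
    obtain ⟨x, rfl⟩ := hy
    exact ⟨c • x, map_smul _ _ _⟩

theorem epi_of_surjective_on_cover (X : AlgSp.Sp S) {A B : AlgSp.ModEt X} [B.IsQuasicoherent]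
    (i : A ⟶ B) {r : ℕ} (E : Fin r → EtOver X) (hE : ∀ j, IsAffine (E j).obj.left.left)
    (hcov : ∀ V : AlgSp.EtOver X, ∃ T ∈ AlgSp.etTop X V, ∀ ⦃V' : AlgSp.EtOver X⦄ (f : V' ⟶ V), T f →
      ∃ (Z : AlgSp.EtOver X) (a : V' ⟶ Z) (b : Z ⟶ V), a ≫ b = f ∧ IsAffine Z.obj.left.left ∧
        ∃ j : Fin r, Nonempty (Z ⟶ E j))
    (hsurj : ∀ j, Function.Surjective (i.val.app (op (E j))).hom) : Epi i := by
  apply Groth.Agent.H96.FPres_Core.epi_of_locally_surjective i
  intro V s
  obtain ⟨T, hT, h⟩ := hcov V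
  refine ⟨T, hT, fun V' f hf => ?_⟩
  obtain ⟨Z, a, b, hab, hZ, j, ⟨g⟩⟩ := h f hf
  obtain ⟨x, hx⟩ := surjective_of_map_to_surjective X i (hE j) hZ g (hsurj j) (B.val.map b.op s)
  refine ⟨A.val.map a.op x, ?_⟩
  have h1 := PresheafOfModules.naturality_apply i.val a.op x
  rw [h1, hx, ← hab]
  exact Groth.Agent.H96.FPres_Core.rs_comp B a b s

end Groth.Agent.H96.FPres_EpiCov
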