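import Groth.Agent.H96.FPres_Over
import Groth.Agent.H32.QCBC.Main
import Groth.Agent.H37.WAFin_NOETH
import Groth.Agent.H94.FPres_COVTOP

/-! helper96: on a locally Noetherian algebraic space, a quasi-coherent module whose sections over
affine étale charts are finite modules is of finite presentation. -/

set_option autoImplicit false
set_option backward.isDefEq.respectTransparency false
universe u
open CategoryTheory CategoryTheory.Limits AlgebraicGeometry Opposite
open AlgSp

namespace Groth.Agent.H96.FPres_Et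
open Groth.Agent.H25.LocRingedEt Groth.Agent.H96.FPres_Over Groth.Agent.H32.QCBC

variable {S : Scheme.{u}}

theorem hcov_affine (X : AlgSp.Sp S) (Y : EtOver X) :
    ∃ T ∈ AlgSp.etTop X Y, ∀ ⦃Y' : EtOver X⦄ (f : Y' ⟶ Y), T f →
      ∃ (Z : EtOver X) (a : Y' ⟶ Z) (b : Z ⟶ Y), a ≫ b = f ∧ IsAffine Z.obj.left.left := by
  refine ⟨Sieve.ofArrows (fun O : Y.obj.left.left.affineOpens => openSub Y O.1)
      (fun O => openIncl Y O.1), ?_, ?_⟩
  · apply AlgSp.ofArrows_mem_etTop
    intro x
    obtain ⟨O, hO, hxO, -⟩ :=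
      (TopologicalSpace.Opens.isBasis_iff_nbhd.1 Y.obj.left.left.isBasis_affineOpens)
        (show x ∈ (⊤ : Y.obj.left.left.Opens) from trivial)
    refine ⟨⟨O, hO⟩, ?_⟩
    rw [range_openIncl]
    exact hxO
  · intro Y' f hf
    obtain ⟨Z, k, g, hg, hkg⟩ := hf
    cases hg with
    | mk O => exact ⟨openSub Y O.1, k, openIncl Y O.1, hkg, O.2⟩

theorem isFinitePresentation_of_forall_affine_finite (X : AlgSp.Sp S)
    (hX : AlgSp.IsLocNoethSp X) (M : AlgSp.ModEt X) [M.IsQuasicoherent]
    (h : ∀ (E : AlgSp.EtOver X), IsAffine E.obj.left.left →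
      Module.Finite ((AlgSp.OEt X).obj.obj (op E)) (M.val.obj (op E))) :
    M.IsFinitePresentation := by
  have core : ∀ i : {E : EtOver X // IsAffine E.obj.left.left},
      ∃ P : (M.over i.1).Presentation, P.IsFinite := by
    intro i
    have := i.2
    have hN0 : IsNoetherianRing Γ(i.1.obj.left.left, ⊤) :=
      Groth.Agent.H37.WAFin_NOETH.isNoetherianRing_of_isLocNoethSp X hX i.1
    have hN : IsNoetherianRing ((OEt X).obj.obj (op i.1)) :=
      isNoetherianRing_of_ringEquiv _ (ULift.ringEquiv (R := Γ(i.1.obj.left.left, ⊤))).symm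
    exact exists_presentation_over (OEt X) M (fun E => IsAffine E.obj.left.left) i.1 i.2
      (hcov_affine X) (fun f hV hV' => flat_OEt_map f hV hV')
      (fun g hV hV' => isBC_modEt X M g hV hV') hN (h i.1 i.2)
  let σ : SheafOfModules.QuasicoherentData.{u + 1, u + 1, u, u + 1} M :=
    SheafOfModules.QuasicoherentData.mk (M := M)
      {E : EtOver X // IsAffine E.obj.left.left} (fun i => i.1)
      (Groth.Agent.H94.FPres_COVTOP.coversTop_affine X) (fun i => (core i).choose)
  have hσ : σ.IsFinitePresentation := by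
    constructor
    intro i
    exact (core i).choose_spec
  constructor
  exact ⟨σ, hσ⟩

end Groth.Agent.H96.FPres_Et
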