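import Mathlib
import Groth.Agent.H96.FPres_Abs
import Groth.Agent.H96.FPres_Core

set_option autoImplicit false
set_option backward.isDefEq.respectTransparency false
set_option linter.unusedSectionVars false
set_option linter.unusedVariables false
universe v₁ u₁
open CategoryTheory Opposite Limits TensorProduct Groth.Agent.H32.QCBC

namespace Groth.Agent.H96.FPres_Over
open Groth.Agent.H96.FPres_Abs Groth.Agent.H96.FPres_Core

variable {C : Type u₁} [Category.{v₁} C] {J : GrothendieckTopology C}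

/-- every object of `Over E` is covered by maps factoring through "affine" objects. -/
theorem hB_over (Aff : C → Prop) (E : C)
    (hcov : ∀ Y : C, ∃ S ∈ J Y, ∀ ⦃Y' : C⦄ (f : Y' ⟶ Y), S f →
      ∃ (Z : C) (a : Y' ⟶ Z) (b : Z ⟶ Y), a ≫ b = f ∧ Aff Z) (Y : Over E) :
    ∃ S ∈ (J.over E) Y, ∀ ⦃Y' : Over E⦄ (f : Y' ⟶ Y), S f →
      ∃ (Z : Over E) (a : Y' ⟶ Z) (b : Z ⟶ Y), a ≫ b = f ∧ Aff Z.left := by
  obtain ⟨S₀, hS₀, h⟩ := hcov Y.left
  refine ⟨(Sieve.overEquiv Y).symm S₀, ?_, fun Y' f hf => ?_⟩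
  · rw [GrothendieckTopology.mem_over_iff, OrderIso.apply_symm_apply]
    exact hS₀
  · rw [Sieve.overEquiv_symm_iff] at hf
    obtain ⟨Z₀, a₀, b₀, hab, hZ⟩ := h f.left hf
    refine ⟨Over.mk (b₀ ≫ Y.hom), Over.homMk a₀ ?_, Over.homMk b₀ rfl, ?_, hZ⟩
    · show a₀ ≫ b₀ ≫ Y.hom = Y'.hom
      rw [← Category.assoc, hab, Over.w f]
    · apply Over.OverMorphism.ext
      exact hab


set_option maxHeartbeats 1600000 in
/-- (CORE) a finite presentation of `M.over E` from finite generation of `M(E)` over a Noetherian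
ring of sections, on a site with flat base change for "affine" objects. -/
theorem exists_presentation_over (Osh : Sheaf J CommRingCat.{max v₁ u₁})
    [J.HasSheafCompose (forget₂ CommRingCat.{max v₁ u₁} RingCat.{max v₁ u₁})]
    (M : SheafOfModules.{max v₁ u₁}
      ((sheafCompose J (forget₂ CommRingCat.{max v₁ u₁} RingCat.{max v₁ u₁})).obj Osh))
    (Aff : C → Prop) (E : C) (hE : Aff E)
    [HasSheafify (J.over E) AddCommGrpCat.{max v₁ u₁}]
    [(J.over E).WEqualsLocallyBijective AddCommGrpCat.{max v₁ u₁}]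
    [(J.over E).HasSheafCompose (forget AddCommGrpCat.{max v₁ u₁})]
    [Balanced (Sheaf (J.over E) AddCommGrpCat.{max v₁ u₁})]
    (hcov : ∀ Y : C, ∃ S ∈ J Y, ∀ ⦃Y' : C⦄ (f : Y' ⟶ Y), S f →
      ∃ (Z : C) (a : Y' ⟶ Z) (b : Z ⟶ Y), a ≫ b = f ∧ Aff Z)
    (hflat : ∀ {V V' : C} (f : V' ⟶ V), Aff V → Aff V' → (Osh.obj.map f.op).hom.Flat)
    (hBC : ∀ {V V' : C} (g : V' ⟶ V), Aff V → Aff V' → IsBC Osh.obj M.val g)
    (hN : IsNoetherianRing (Osh.obj.obj (op E)))
    (hfin : Module.Finite (Osh.obj.obj (op E)) (M.val.obj (op E))) :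
    ∃ P : (M.over E).Presentation, P.IsFinite := by
  obtain ⟨n, m, hm⟩ := Module.Finite.exists_fin (R := Osh.obj.obj (op E))
    (M := M.val.obj (op E))
  have hKfg : (LinearMap.ker (Fintype.linearCombination (Osh.obj.obj (op E)) m)).FG :=
    IsNoetherian.noetherian _
  obtain ⟨p, k, hkspan⟩ := Submodule.fg_iff_exists_fin_generating_family.1 hKfg
  have hk' : ∀ a : Fin n → Osh.obj.obj (op E), ∑ j, a j • m j = 0 →
      a ∈ Submodule.span (Osh.obj.obj (op E)) (Set.range k) := by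
    intro a ha
    rw [hkspan, LinearMap.mem_ker, Fintype.linearCombination_apply]
    exact ha
  have hk0 : ∀ l, ∑ j, k l j • m j = 0 := by
    intro l
    have h1 : k l ∈ LinearMap.ker (Fintype.linearCombination (Osh.obj.obj (op E)) m) := by
      rw [← hkspan]; exact Submodule.subset_span ⟨l, rfl⟩
    rw [LinearMap.mem_ker, Fintype.linearCombination_apply] at h1
    exact h1
  refine exists_presentation (M.over E) (T := Over.mk (𝟙 E)) Over.mkIdTerminal
    (fun Z : Over E => Aff Z.left) (hB_over Aff E hcov)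
    (ι := ULift.{max v₁ u₁} (Fin n)) (κ := ULift.{max v₁ u₁} (Fin p))
    (fun j => m j.down) (fun l j => k l.down j.down) ?_ ?_ ?_
  · intro l
    refine Eq.trans ?_ (hk0 l.down)
    exact Fintype.sum_equiv Equiv.ulift _ _ (fun _ => rfl)
  · intro Z z hZ y
    obtain ⟨c, hc⟩ := H1_abs Osh.obj M.val z.left (hBC z.left hE hZ) m hm y
    refine ⟨fun j => c j.down, hc.trans ?_⟩
    exact (Fintype.sum_equiv Equiv.ulift _ _ (fun _ => rfl)).symm
  · intro Z z hZ c hc
    have hc₀ : ∑ i : Fin n, c ⟨i⟩ • rmap Osh.obj M.val z.left (m i) = 0 := by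
      refine Eq.trans ?_ hc
      exact (Fintype.sum_equiv Equiv.ulift _ _ (fun _ => rfl)).symm
    obtain ⟨d₀, hd₀⟩ := H2_abs Osh.obj M.val z.left (hBC z.left hE hZ) (hflat z.left hE hZ)
      m k hk' (fun i => c ⟨i⟩) hc₀
    refine ⟨fun l => d₀ l.down, fun j => (hd₀ j.down).trans ?_⟩
    exact (Fintype.sum_equiv Equiv.ulift _ _ (fun _ => rfl)).symm

end Groth.Agent.H96.FPres_Over
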