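import Groth.Agent.H96.FPres_Et
import Groth.Agent.H94.AlgSpLimit10
import Groth.Agent.H32.EtChartQC

/-! helper96: (QCCOV) a quasi-compact algebraic space has a finite family (here: a single member) of affine
objects of its small étale site such that every object is covered by affine objects mapping to a member. -/

set_option autoImplicit false
set_option backward.isDefEq.respectTransparency false
universe u
open CategoryTheory CategoryTheory.Limits AlgebraicGeometry Opposite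
open AlgSp

namespace Groth.Agent.H96.FPres_QCCOV

variable {S : Scheme.{u}}

theorem exists_finite_affine_cover (X : AlgSp.Sp S) (hX : AlgSp.IsAlgSpace X)
    (hqc : AlgSp.IsQuasiCompactSp X) :
    ∃ (r : ℕ) (E : Fin r → AlgSp.EtOver X), (∀ j, IsAffine (E j).obj.left.left) ∧
      ∀ V : AlgSp.EtOver X, ∃ T ∈ AlgSp.etTop X V, ∀ ⦃V' : AlgSp.EtOver X⦄ (f : V' ⟶ V), T f →
        ∃ (Z : AlgSp.EtOver X) (a : V' ⟶ Z) (b : Z ⟶ V), a ≫ b = f ∧ IsAffine Z.obj.left.left ∧
          ∃ j : Fin r, Nonempty (Z ⟶ E j) := by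
  obtain ⟨T, B₀, p, β, d, hTaff, hpe, hps, -, -⟩ :=
    Groth.Agent.H94.AlgSpLimit10.exists_affine_chart_over hqc hX (𝟙 X)
  have hf : IsEtaleMor p := AlgSp.isEtaleMor_of_repWith _ hpe
  refine ⟨1, fun _ => EtOver.mk p hpe, fun _ => hTaff, fun V => ?_⟩
  have hS₁ := Groth.Agent.H32.EtChart.coversTop_chart p hpe hf hps V
  refine ⟨Sieve.bind (Sieve.ofObjects (fun _ : PUnit.{u + 2} => EtOver.mk p hpe) V).arrows
    (fun W f _ => (Groth.Agent.H96.FPres_Et.hcov_affine X W).choose), ?_, ?_⟩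
  · exact (etTop X).bind_covering hS₁
      (fun W f _ => (Groth.Agent.H96.FPres_Et.hcov_affine X W).choose_spec.1)
  · rintro V' f ⟨W, g', f₁, hf₁, hg', rfl⟩
    obtain ⟨Z, a, b, hab, hZ⟩ :=
      (Groth.Agent.H96.FPres_Et.hcov_affine X W).choose_spec.2 g' hg'
    obtain ⟨i, ⟨g⟩⟩ := (Sieve.mem_ofObjects_iff ..).mp hf₁
    exact ⟨Z, a, b ≫ f₁, by rw [← Category.assoc, hab], hZ, 0, ⟨b ≫ g⟩⟩

end Groth.Agent.H96.FPres_QCCOV
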