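import Groth.Agent.H96.FPres_Et
import Groth.Agent.H32.WAFin.Chart

/-! helper96: a quasi-coherent submodule of a coherent module on a locally Noetherian algebraic
space is coherent. -/

set_option autoImplicit false
set_option backward.isDefEq.respectTransparency false
universe u
open CategoryTheory CategoryTheory.Limits AlgebraicGeometry Opposite
open AlgSp

namespace Groth.Agent.H96.FPres_Sub

variable {S : Scheme.{u}}

theorem injective_app (X : AlgSp.Sp S) {M N : AlgSp.ModEt X} (ι : N ⟶ M) [Mono ι]
    (E : EtOver X) : Function.Injective (ι.val.app (op E)).hom := by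
  have h1 : Mono ((SheafOfModules.evaluation (OEtRing X) (op E)).map ι) := inferInstance
  exact (ModuleCat.mono_iff_injective _).1 h1

theorem isFinitePresentation_of_mono (X : AlgSp.Sp S)
    (hX : AlgSp.IsLocNoethSp X) {M N : AlgSp.ModEt X} [M.IsFinitePresentation] (ι : N ⟶ M)
    [Mono ι] [N.IsQuasicoherent] :
    N.IsFinitePresentation := by
  refine Groth.Agent.H96.FPres_Et.isFinitePresentation_of_forall_affine_finite X hX N
    (fun E hE => ?_)
  have := hE
  have hN0 : IsNoetherianRing Γ(E.obj.left.left, ⊤) :=
    Groth.Agent.H37.WAFin_NOETH.isNoetherianRing_of_isLocNoethSp X hX E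
  have hN : IsNoetherianRing ((AlgSp.OEt X).obj.obj (op E)) :=
    isNoetherianRing_of_ringEquiv _ (ULift.ringEquiv (R := Γ(E.obj.left.left, ⊤))).symm
  have hM : Module.Finite ((AlgSp.OEt X).obj.obj (op E)) (M.val.obj (op E)) :=
    Groth.Agent.H32.WAFin.finite_sectModEt X M E hE
  have hMN : _root_.IsNoetherian ((AlgSp.OEt X).obj.obj (op E)) (M.val.obj (op E)) :=
    isNoetherian_of_isNoetherianRing_of_finite _ _
  have hMN' : _root_.IsNoetherian ((OEtRing X).obj.obj (op E)) (M.val.obj (op E)) := hMN
  have hfin : Module.Finite ((OEtRing X).obj.obj (op E)) (N.val.obj (op E)) :=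
    Module.Finite.of_injective (ι.val.app (op E)).hom (injective_app X ι E)
  exact hfin

end Groth.Agent.H96.FPres_Sub
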