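import Mathlib.RingTheory.RingHom.FaithfullyFlat
import Mathlib.RingTheory.Flat.EquationalCriterion
import Mathlib.RingTheory.Flat.FaithfullyFlat.Basic
import Mathlib.FieldTheory.IsPerfectClosure

/-!
# Flatness of "filtered unions" of ring maps, and perfect closures
-/

set_option autoImplicit false
universe u v w

namespace Groth.Agent.H96.FiltSys

section Alg

variable {R S : Type u} [CommRing R] [CommRing S]

/-- A ring map which is a "filtered union" of flat ring maps is flat. -/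
theorem flat_of_system (g : R →+* S) {T : Type v} (Rj Sj : T → Type w)
    [∀ j, CommRing (Rj j)] [∀ j, CommRing (Sj j)]
    (c : ∀ j, Rj j →+* R) (a : ∀ j, Sj j →+* S) (φ : ∀ j, Rj j →+* Sj j)
    (hφ : ∀ j, (φ j).Flat)
    (hcomm : ∀ j x, g (c j x) = a j (φ j x))
    (H1 : ∀ (n : ℕ) (r : Fin n → R) (s : Fin n → S),
      ∃ (j : T) (r' : Fin n → Rj j) (s' : Fin n → Sj j),
        (∀ i, c j (r' i) = r i) ∧ ∀ i, a j (s' i) = s i)
    (H2 : ∀ (j : T) (s : Sj j), a j s = 0 →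
      ∃ (k : T) (uR : Rj j →+* Rj k) (uS : Sj j →+* Sj k),
        (∀ x, c k (uR x) = c j x) ∧ (∀ x, a k (uS x) = a j x) ∧
          (∀ x, φ k (uR x) = uS (φ j x)) ∧ uS s = 0) :
    g.Flat := by
  letI := g.toAlgebra
  show Module.Flat R S
  have hsmul : ∀ (r : R) (s : S), r • s = g r * s := fun r s => by
    rw [Algebra.smul_def]; rfl
  rw [Module.Flat.iff_forall_isTrivialRelation]
  intro l f x hrel
  obtain ⟨j, f', x', hf', hx'⟩ := H1 l f x
  have h0 : a j (∑ i, φ j (f' i) * x' i) = 0 := by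
    rw [map_sum, ← hrel]
    refine Finset.sum_congr rfl fun i _ => ?_
    rw [map_mul, ← hcomm, hf', hx', hsmul]
  obtain ⟨k, uR, uS, h1, h2, h3, h4⟩ := H2 j _ h0
  letI := (φ k).toAlgebra
  have hff : Module.Flat (Rj k) (Sj k) := hφ k
  have hsmulk : ∀ (r : Rj k) (s : Sj k), r • s = φ k r * s := fun r s => by
    rw [Algebra.smul_def]; rfl
  have hrelk : ∑ i, uR (f' i) • uS (x' i) = 0 := by
    rw [← h4, map_sum]
    refine Finset.sum_congr rfl fun i _ => ?_
    rw [hsmulk, map_mul, h3]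
  obtain ⟨K, a', y, hy1, hy2⟩ := Module.Flat.isTrivialRelation_of_sum_smul_eq_zero hrelk
  beta_reduce at hy1 hy2
  refine ⟨K, fun i m => c k (a' i m), fun m => a k (y m), ?_, ?_⟩
  · intro i
    beta_reduce
    rw [← hx' i, ← h2 (x' i), hy1 i, map_sum]
    refine Finset.sum_congr rfl fun m _ => ?_
    rw [hsmulk, map_mul, ← hcomm, hsmul]
  · intro m
    beta_reduce
    have h5 := congrArg (c k) (hy2 m)
    rw [map_sum, map_zero] at h5
    rw [← h5]
    refine Finset.sum_congr rfl fun i _ => ?_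
    rw [map_mul, h1, hf']

/-- A ring map which is a "filtered union" of faithfully flat ring maps is faithfully flat. -/
theorem ff_of_system (g : R →+* S) {T : Type v} (Rj Sj : T → Type w)
    [∀ j, CommRing (Rj j)] [∀ j, CommRing (Sj j)]
    (c : ∀ j, Rj j →+* R) (a : ∀ j, Sj j →+* S) (φ : ∀ j, Rj j →+* Sj j)
    (hφ : ∀ j, (φ j).FaithfullyFlat)
    (hcomm : ∀ j x, g (c j x) = a j (φ j x))
    (H1 : ∀ (n : ℕ) (r : Fin n → R) (s : Fin n → S),
      ∃ (j : T) (r' : Fin n → Rj j) (s' : Fin n → Sj j),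
        (∀ i, c j (r' i) = r i) ∧ ∀ i, a j (s' i) = s i)
    (H2 : ∀ (j : T) (s : Sj j), a j s = 0 →
      ∃ (k : T) (uR : Rj j →+* Rj k) (uS : Sj j →+* Sj k),
        (∀ x, c k (uR x) = c j x) ∧ (∀ x, a k (uS x) = a j x) ∧
          (∀ x, φ k (uR x) = uS (φ j x)) ∧ uS s = 0) :
    g.FaithfullyFlat := by
  have hflat : g.Flat :=
    flat_of_system g Rj Sj c a φ (fun j => (hφ j).flat) hcomm H1 H2
  letI := g.toAlgebra
  show Module.FaithfullyFlat R S
  have hsmul : ∀ (r : R) (s : S), r • s = g r * s := fun r s => by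
    rw [Algebra.smul_def]; rfl
  rw [Module.FaithfullyFlat.iff_flat_and_proper_ideal]
  refine ⟨hflat, ?_⟩
  intro I hI htop
  have h1 : (1 : S) ∈ I • (⊤ : Submodule R S) := by rw [htop]; trivial
  rw [Ideal.smul_top_eq_map] at h1
  have h1' : (1 : S) ∈ Submodule.span S (algebraMap R S '' (I : Set R)) := h1
  rw [Submodule.mem_span_set'] at h1'
  obtain ⟨n, t, w, hw⟩ := h1'
  choose r hrI hrw using fun i => (w i).2
  obtain ⟨j, r', t', hr', ht'⟩ := H1 n r t
  have h0 : a j (∑ i, t' i * φ j (r' i) - 1) = 0 := by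
    rw [map_sub, map_one, map_sum, sub_eq_zero, ← hw]
    refine Finset.sum_congr rfl fun i _ => ?_
    have e0 : algebraMap R S (r i) = g (r i) := rfl
    rw [map_mul, ← hcomm, hr', ht', smul_eq_mul, ← hrw, e0]
  obtain ⟨k, uR, uS, e1, e2, e3, e4⟩ := H2 j _ h0
  letI := (φ k).toAlgebra
  have hff : Module.FaithfullyFlat (Rj k) (Sj k) := hφ k
  have hproper : (I.comap (c k)) ≠ ⊤ := by
    intro h
    apply hI
    rw [Ideal.eq_top_iff_one] at h ⊢
    have h6 : c k 1 ∈ I := h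
    rwa [map_one] at h6
  refine ((Module.FaithfullyFlat.iff_flat_and_proper_ideal (Rj k) (Sj k)).1 hff).2 _ hproper ?_
  rw [Ideal.smul_top_eq_map, Submodule.restrictScalars_eq_top_iff, Ideal.eq_top_iff_one]
  have e5 : (1 : Sj k) = ∑ i, uS (t' i) * φ k (uR (r' i)) := by
    rw [map_sub, map_one, map_sum, sub_eq_zero] at e4
    rw [← e4]
    refine Finset.sum_congr rfl fun i _ => ?_
    rw [map_mul, e3]
  rw [e5]
  refine Ideal.sum_mem _ fun i _ => Ideal.mul_mem_left _ _ (Ideal.mem_map_of_mem _ ?_)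
  show c k (uR (r' i)) ∈ I
  rw [e1, hr']
  exact hrI i

end Alg

section Perf

variable (p : ℕ) [Fact p.Prime] {A A' : Type u} [CommRing A] [CommRing A']
  [CharP A p] [CharP A' p] [PerfectRing A' p] (i : A →+* A')

/-- The map `x ↦ (i x)^(1/p^n)`. -/
noncomputable def cN (n : ℕ) : A →+* A' :=
  ((iterateFrobeniusEquiv A' p n).symm : A' →+* A').comp i

theorem cN_pow (n : ℕ) (x : A) : (cN p i n x) ^ p ^ n = i x := by
  have h := (iterateFrobeniusEquiv A' p n).apply_symm_apply (i x)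
  rw [iterateFrobeniusEquiv_def] at h
  exact h

omit [CharP A p] in
theorem pow_inj (n : ℕ) {x y : A'} (h : x ^ p ^ n = y ^ p ^ n) : x = y :=
  (iterateFrobeniusEquiv A' p n).injective h

theorem cN_eq_iff (n : ℕ) (x : A) (y : A') : cN p i n x = y ↔ i x = y ^ p ^ n := by
  constructor
  · rintro rfl; exact (cN_pow p i n x).symm
  · intro h; exact pow_inj p n (by rw [cN_pow, h])

omit [CharP A p] [CharP A' p] [PerfectRing A' p] in
theorem stage_mono {x : A'} {y : A} {n : ℕ} (d : ℕ) (h : i y = x ^ p ^ n) :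
    i (y ^ p ^ d) = x ^ p ^ (n + d) := by
  rw [map_pow, h, ← pow_mul, ← pow_add]

theorem exists_stage [IsPerfectClosure i p] (m : ℕ) (r : Fin m → A') :
    ∃ (N : ℕ) (r' : Fin m → A), ∀ k, i (r' k) = r k ^ p ^ N := by
  choose n y hy using fun k => IsPRadical.pow_mem i p (r k)
  refine ⟨∑ k, n k, fun k => y k ^ p ^ ((∑ k, n k) - n k), fun k => ?_⟩
  have hle : n k ≤ ∑ k, n k := Finset.single_le_sum (fun _ _ => Nat.zero_le _) (Finset.mem_univ k)
  have h := stage_mono p i ((∑ k, n k) - n k) (hy k)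
  rw [Nat.add_sub_cancel' hle] at h
  exact h

variable {B B' : Type u} [CommRing B] [CommRing B'] [CharP B p] [CharP B' p] [PerfectRing B' p]
  (j : B →+* B') (φ : A →+* B) (φ' : A' →+* B')

theorem perf_hcomm (hφ : φ'.comp i = j.comp φ) (n : ℕ) (x : A) :
    φ' (cN p i n x) = cN p j n (φ x) := by
  apply pow_inj p n
  rw [← map_pow, cN_pow, cN_pow]
  exact congrArg (fun q => q x) hφ

theorem perf_H1 [IsPerfectClosure i p] [IsPerfectClosure j p] (m : ℕ) (r : Fin m → A')
    (s : Fin m → B') :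
    ∃ (N : ℕ) (r' : Fin m → A) (s' : Fin m → B),
      (∀ k, cN p i N (r' k) = r k) ∧ ∀ k, cN p j N (s' k) = s k := by
  obtain ⟨N₁, r', hr'⟩ := exists_stage p i m r
  obtain ⟨N₂, s', hs'⟩ := exists_stage p j m s
  refine ⟨N₁ + N₂, fun k => r' k ^ p ^ N₂, fun k => s' k ^ p ^ N₁, fun k => ?_, fun k => ?_⟩
  · rw [cN_eq_iff]; exact stage_mono p i N₂ (hr' k)
  · rw [cN_eq_iff, add_comm]; exact stage_mono p j N₁ (hs' k)

theorem perf_H2 [IsPerfectClosure j p] (n : ℕ) (s : B) (hs : cN p j n s = 0) :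
    ∃ (k : ℕ) (uR : A →+* A) (uS : B →+* B),
      (∀ x, cN p i k (uR x) = cN p i n x) ∧ (∀ x, cN p j k (uS x) = cN p j n x) ∧
        (∀ x, φ (uR x) = uS (φ x)) ∧ uS s = 0 := by
  have hp : p ^ n ≠ 0 := pow_ne_zero _ (Fact.out : p.Prime).ne_zero
  have hjs : j s = 0 := by rw [← cN_pow p j n s, hs, zero_pow hp]
  have hmem : s ∈ pNilradical B p := IsPRadical.ker_le j p ((RingHom.mem_ker).2 hjs)
  obtain ⟨d, hd⟩ := mem_pNilradical.1 hmem
  refine ⟨n + d, iterateFrobenius A p d, iterateFrobenius B p d, fun x => ?_, fun x => ?_,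
    fun x => ?_, ?_⟩
  · rw [cN_eq_iff, iterateFrobenius_def]
    exact stage_mono p i d (cN_pow p i n x).symm
  · rw [cN_eq_iff, iterateFrobenius_def]
    exact stage_mono p j d (cN_pow p j n x).symm
  · rw [iterateFrobenius_def, iterateFrobenius_def, map_pow]
  · rw [iterateFrobenius_def, hd]

theorem perfectClosure_map_flat [IsPerfectClosure i p] [IsPerfectClosure j p]
    (hφ : φ'.comp i = j.comp φ) (hflat : φ.Flat) : φ'.Flat :=
  flat_of_system φ' (fun _ : ℕ => A) (fun _ => B) (cN p i) (cN p j) (fun _ => φ)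
    (fun _ => hflat) (perf_hcomm p i j φ φ' hφ) (perf_H1 p i j) (perf_H2 p i j φ)

theorem perfectClosure_map_faithfullyFlat [IsPerfectClosure i p] [IsPerfectClosure j p]
    (hφ : φ'.comp i = j.comp φ) (hflat : φ.FaithfullyFlat) : φ'.FaithfullyFlat :=
  ff_of_system φ' (fun _ : ℕ => A) (fun _ => B) (cN p i) (cN p j) (fun _ => φ)
    (fun _ => hflat) (perf_hcomm p i j φ φ' hφ) (perf_H1 p i j) (perf_H2 p i j φ)

end Perf

end Groth.Agent.H96.FiltSys
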