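import Mathlib.FieldTheory.IsAlgClosed.Basic
import Mathlib.FieldTheory.Perfect
import Mathlib.Algebra.Polynomial.Degree.Lemmas
import Mathlib.Tactic.Ring

/-!
Solvability of the two "Lang-type" equations over an algebraically closed field, for an
endomorphism `σ` which is the `p`-th power map or an inverse of it.
-/

set_option autoImplicit false

namespace Groth.Agent.H96

open Polynomial

variable {F : Type*} [Field F] [IsAlgClosed F]

theorem exists_ne_zero_sum_pow_eq_one {n : ℕ} (c : Fin (n + 1) → F) (hc : c ≠ 0)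
    (e : Fin (n + 1) → ℕ) (he : Function.Injective e) (he1 : ∀ i, 1 ≤ e i) :
    ∃ z : F, z ≠ 0 ∧ ∑ i, c i * z ^ e i = 1 := by
  classical
  obtain ⟨i₀, hi₀⟩ : ∃ i, c i ≠ 0 := by
    by_contra h
    push Not at h
    exact hc (funext h)
  obtain ⟨Q, hQ⟩ : ∃ Q : F[X], Q = ∑ i, C (c i) * X ^ e i - 1 := ⟨_, rfl⟩
  have hcoeff : Q.coeff (e i₀) = c i₀ := by
    rw [hQ, coeff_sub, finsetSum_coeff, Finset.sum_eq_single i₀]
    · have h1 : e i₀ ≠ 0 := by have := he1 i₀; omega
      rw [coeff_C_mul, coeff_X_pow, if_pos rfl, coeff_one, if_neg h1, mul_one, sub_zero]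
    · intro j _ hj
      rw [coeff_C_mul, coeff_X_pow, if_neg (fun h => hj (he h).symm), mul_zero]
    · intro h
      exact absurd (Finset.mem_univ i₀) h
  have hdeg : Q.degree ≠ 0 := by
    intro h
    have h1 := Polynomial.eq_C_of_degree_eq_zero h
    have h2 : Q.coeff (e i₀) = 0 := by
      rw [h1, coeff_C, if_neg (by have := he1 i₀; omega)]
    exact hi₀ (hcoeff ▸ h2)
  obtain ⟨z, hz⟩ := IsAlgClosed.exists_root Q hdeg
  have hz' : ∑ i, c i * z ^ e i = 1 := by
    have h1 : Q.eval z = 0 := hz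
    rw [hQ, eval_sub, eval_finsetSum, eval_one] at h1
    simp only [eval_mul, eval_C, eval_pow, eval_X] at h1
    exact sub_eq_zero.mp h1
  refine ⟨z, ?_, hz'⟩
  rintro rfl
  have h1 : ∑ i, c i * (0 : F) ^ e i = 0 :=
    Finset.sum_eq_zero fun i _ => by
      rw [zero_pow (by have := he1 i; omega), mul_zero]
  rw [h1] at hz'
  exact zero_ne_one hz'

theorem exists_root_pow_sub (p : ℕ) (hp : 2 ≤ p) (a c : F) :
    ∃ t : F, t ^ p - a * t + c = 0 := by
  have hdeg : (X ^ p - (C a * X - C c) : F[X]).degree = p := by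
    rw [degree_sub_eq_left_of_degree_lt, degree_X_pow]
    rw [degree_X_pow]
    refine lt_of_le_of_lt (degree_sub_le _ _) ?_
    refine max_lt ?_ ?_
    · refine lt_of_le_of_lt (degree_C_mul_X_le a) ?_
      exact_mod_cast hp
    · refine lt_of_le_of_lt degree_C_le ?_
      exact_mod_cast (by omega : 0 < p)
  obtain ⟨t, ht⟩ := IsAlgClosed.exists_root (X ^ p - (C a * X - C c) : F[X])
    (by rw [hdeg]; exact_mod_cast (by omega : p ≠ 0))
  refine ⟨t, ?_⟩
  have h1 : (X ^ p - (C a * X - C c) : F[X]).eval t = 0 := ht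
  simp only [eval_sub, eval_pow, eval_X, eval_mul, eval_C] at h1
  rw [← h1]
  ring

section frob

variable (p : ℕ) (hp : 2 ≤ p) (σ : F →+* F)

include hp

theorem h3_of_frob (hσ : ∀ x, σ x = x ^ p) (c : F) : ∃ y : F, σ y - y + c = 0 := by
  obtain ⟨t, ht⟩ := exists_root_pow_sub p hp 1 c
  exact ⟨t, by rw [hσ, ← ht]; ring⟩

theorem h3_of_frobInv (hσ : ∀ x, σ (x ^ p) = x) (c : F) : ∃ y : F, σ y - y + c = 0 := by
  obtain ⟨t, ht⟩ := exists_root_pow_sub p hp 1 (-c)
  refine ⟨t ^ p, ?_⟩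
  rw [hσ]
  have : t ^ p = t + c := by linear_combination ht
  rw [this]
  ring

omit hp [IsAlgClosed F] in
theorem iterate_of_frob (hσ : ∀ x, σ x = x ^ p) (j : ℕ) (x : F) : (⇑σ)^[j] x = x ^ p ^ j := by
  induction j with
  | zero => simp
  | succ j ih => rw [Function.iterate_succ_apply', ih, hσ, ← pow_mul, ← pow_succ]

omit hp [IsAlgClosed F] in
theorem iterate_of_frobInv (hσ : ∀ x, σ (x ^ p) = x) (m j : ℕ) (hj : j ≤ m) (z : F) :
    (⇑σ)^[j] (z ^ p ^ m) = z ^ p ^ (m - j) := by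
  induction j with
  | zero => simp
  | succ j ih =>
    rw [Function.iterate_succ_apply', ih (by omega)]
    have : m - j = (m - (j + 1)) + 1 := by omega
    rw [this, pow_succ, pow_mul, hσ]

theorem h2_of_frob (hσ : ∀ x, σ x = x ^ p) (n : ℕ) (b : Fin (n + 1) → F) (hb : b ≠ 0) :
    ∃ x : F, x ≠ 0 ∧
      x = ∑ i : Fin (n + 1), (⇑σ)^[i.val + 1] x * (⇑σ)^[i.val] (b (Fin.rev i)) := by
  obtain ⟨j₀, hj₀⟩ : ∃ j, b j ≠ 0 := by
    by_contra h
    push Not at h
    exact hb (funext h)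
  have hc : (fun i : Fin (n + 1) => (⇑σ)^[i.val] (b (Fin.rev i))) ≠ 0 := by
    intro h
    have h1 := congrFun h (Fin.rev j₀)
    simp only [Fin.rev_rev, Pi.zero_apply] at h1
    have hinj : Function.Injective ((⇑σ)^[(Fin.rev j₀).val]) := σ.injective.iterate _
    exact hj₀ (hinj (by rw [h1, iterate_map_zero]))
  have hpow : ∀ i : ℕ, 2 ≤ p ^ (i + 1) := fun i => by
    calc 2 ≤ p := hp
      _ = p ^ 1 := (pow_one p).symm
      _ ≤ p ^ (i + 1) := Nat.pow_le_pow_right (by omega) (by omega)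
  obtain ⟨z, hz0, hz⟩ := exists_ne_zero_sum_pow_eq_one _ hc (fun i => p ^ (i.val + 1) - 1)
    (by
      intro i j hij
      have h1 := hpow i.val
      have h2 := hpow j.val
      have h3 : p ^ (i.val + 1) = p ^ (j.val + 1) := by
        simp only at hij
        omega
      have h4 := Nat.pow_right_injective hp h3
      exact Fin.ext (by omega))
    (fun i => by have := hpow i.val; omega)
  refine ⟨z, hz0, ?_⟩
  have key : ∀ i : Fin (n + 1), (⇑σ)^[i.val + 1] z = z * z ^ (p ^ (i.val + 1) - 1) := by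
    intro i
    rw [iterate_of_frob p σ hσ, ← pow_succ']
    congr 1
    have := hpow i.val
    omega
  calc z = z * 1 := (mul_one z).symm
    _ = z * ∑ i : Fin (n + 1), (⇑σ)^[i.val] (b (Fin.rev i)) * z ^ (p ^ (i.val + 1) - 1) := by
        rw [hz]
    _ = ∑ i : Fin (n + 1), (⇑σ)^[i.val + 1] z * (⇑σ)^[i.val] (b (Fin.rev i)) := by
        rw [Finset.mul_sum]
        refine Finset.sum_congr rfl fun i _ => ?_
        rw [key]
        ring

theorem h2_of_frobInv (hσ : ∀ x, σ (x ^ p) = x) (n : ℕ) (b : Fin (n + 1) → F) (hb : b ≠ 0) :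
    ∃ x : F, x ≠ 0 ∧
      x = ∑ i : Fin (n + 1), (⇑σ)^[i.val + 1] x * (⇑σ)^[i.val] (b (Fin.rev i)) := by
  obtain ⟨j₀, hj₀⟩ : ∃ j, b j ≠ 0 := by
    by_contra h
    push Not at h
    exact hb (funext h)
  have hc : (fun i : Fin (n + 1) => (⇑σ)^[i.val] (b (Fin.rev i))) ≠ 0 := by
    intro h
    have h1 := congrFun h (Fin.rev j₀)
    simp only [Fin.rev_rev, Pi.zero_apply] at h1
    have hinj : Function.Injective ((⇑σ)^[(Fin.rev j₀).val]) := σ.injective.iterate _
    exact hj₀ (hinj (by rw [h1, iterate_map_zero]))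
  have hlt : ∀ i : Fin (n + 1), p ^ (n - i.val) < p ^ (n + 1) := fun i =>
    Nat.pow_lt_pow_right (by omega) (by omega)
  obtain ⟨w, hw0, hw⟩ := exists_ne_zero_sum_pow_eq_one _ hc
    (fun i => p ^ (n + 1) - p ^ (n - i.val))
    (by
      intro i j hij
      have h1 := hlt i
      have h2 := hlt j
      have h3 : p ^ (n - i.val) = p ^ (n - j.val) := by
        simp only at hij
        omega
      have h4 := Nat.pow_right_injective hp h3
      have := i.2
      have := j.2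
      exact Fin.ext (by omega))
    (fun i => by have := hlt i; omega)
  have hwz : w * w⁻¹ = 1 := mul_inv_cancel₀ hw0
  refine ⟨w⁻¹ ^ p ^ (n + 1), pow_ne_zero _ (inv_ne_zero hw0), ?_⟩
  have key : ∀ i : Fin (n + 1),
      w ^ (p ^ (n + 1) - p ^ (n - i.val)) * w⁻¹ ^ p ^ (n + 1) = w⁻¹ ^ p ^ (n - i.val) := by
    intro i
    obtain ⟨E, hE⟩ : ∃ E, E = p ^ (n + 1) - p ^ (n - i.val) := ⟨_, rfl⟩
    have h1 : p ^ (n + 1) = E + p ^ (n - i.val) := by
      have := hlt i
      omega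
    rw [← hE, h1, pow_add, ← mul_assoc, ← mul_pow, hwz, one_pow, one_mul]
  have key2 : ∀ i : Fin (n + 1),
      (⇑σ)^[i.val + 1] (w⁻¹ ^ p ^ (n + 1)) = w⁻¹ ^ p ^ (n - i.val) := by
    intro i
    rw [iterate_of_frobInv p σ hσ (n + 1) (i.val + 1) (by have := i.2; omega)]
    congr 2
    omega
  calc w⁻¹ ^ p ^ (n + 1) = 1 * w⁻¹ ^ p ^ (n + 1) := (one_mul _).symm
    _ = (∑ i : Fin (n + 1), (⇑σ)^[i.val] (b (Fin.rev i)) *
          w ^ (p ^ (n + 1) - p ^ (n - i.val))) * w⁻¹ ^ p ^ (n + 1) := by rw [hw]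
    _ = ∑ i : Fin (n + 1), (⇑σ)^[i.val + 1] (w⁻¹ ^ p ^ (n + 1)) *
          (⇑σ)^[i.val] (b (Fin.rev i)) := by
        rw [Finset.sum_mul]
        refine Finset.sum_congr rfl fun i _ => ?_
        rw [key2, mul_assoc, key, mul_comm]

end frob

end Groth.Agent.H96
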