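import Mathlib
import Groth.Agent.H96.Hyperbolic
import Groth.Prelude.Def_W4c2azumayainvolQEt

/-!
# The graph idempotent of a locally split quadratic cover, constructed directly (helper96)

`T` is an `R`-algebra in which `r₀ - lam r₀` is invertible.  Then `T ⊗[S] R` contains the idempotent
needed by `Hyperbolic.exists_iso`; no projectivity or etaleness hypothesis is needed.
-/

set_option autoImplicit false
set_option linter.unusedSectionVars false
universe u v w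

open TensorProduct

namespace Groth.Agent.H96.GraphIdem

open Groth.Agent.H96

variable {S : Type u} {R : Type v} (T : Type w) [CommRing S] [CommRing R] [CommRing T]
  [Algebra S R] [Algebra S T] [Algebra R T] [IsScalarTower S R T]
  (lam : R ≃ₐ[S] R) (hlam : ∀ r, lam (lam r) = r) (hfix : RInv.IsFixedRing S R lam.toRingEquiv)

include hlam hfix in
theorem exists_graph_idem (r₀ : R) (hd : IsUnit (algebraMap R T (r₀ - lam r₀))) :
    ∃ e : T ⊗[S] R,
      (∀ r : R, e * ((1 : T) ⊗ₜ[S] r) = e * (algebraMap R T r ⊗ₜ[S] (1 : R))) ∧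
      e * e = e ∧ Hyperbolic.mu R T e = 1 ∧ Hyperbolic.LT T lam e = 1 - e := by
  set ι₁ : T →ₐ[S] T ⊗[S] R := Algebra.TensorProduct.includeLeft with hι₁
  set ι₂ : R →ₐ[S] T ⊗[S] R := Algebra.TensorProduct.includeRight with hι₂
  have hrel : ∀ σ : S, ι₂ (algebraMap S R σ) = ι₁ (algebraMap S T σ) := fun σ =>
    (ι₂.commutes σ).trans (ι₁.commutes σ).symm
  have hfixed : ∀ z : R, lam z = z → ∃ σ : S, algebraMap S R σ = z := fun z hz =>
    (hfix.2 z).mp hz
  have hmu1 : ∀ x : T, Hyperbolic.mu R T (ι₁ x) = x := fun x => by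
    show Hyperbolic.mu R T (x ⊗ₜ[S] (1 : R)) = x
    rw [Hyperbolic.mu_tmul, map_one, mul_one]
  have hmu2 : ∀ r : R, Hyperbolic.mu R T (ι₂ r) = algebraMap R T r := fun r => by
    show Hyperbolic.mu R T ((1 : T) ⊗ₜ[S] r) = _
    rw [Hyperbolic.mu_tmul, one_mul]
  have hLT1 : ∀ x : T, Hyperbolic.LT T lam (ι₁ x) = ι₁ x := fun x => by
    show Hyperbolic.LT T lam (x ⊗ₜ[S] (1 : R)) = x ⊗ₜ[S] (1 : R)
    rw [Hyperbolic.LT_tmul, map_one]
  have hLT2 : ∀ r : R, Hyperbolic.LT T lam (ι₂ r) = ι₂ (lam r) := fun r => by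
    show Hyperbolic.LT T lam ((1 : T) ⊗ₜ[S] r) = (1 : T) ⊗ₜ[S] lam r
    rw [Hyperbolic.LT_tmul]
  obtain ⟨d, hddef⟩ : ∃ d : R, d = r₀ - lam r₀ := ⟨_, rfl⟩
  have hld : lam d = -d := by rw [hddef, map_sub, hlam]; ring
  rw [← hddef] at hd
  obtain ⟨δ, hδ⟩ := hd.exists_right_inv
  obtain ⟨s, hs⟩ := hfixed (r₀ + lam r₀) (by rw [map_add, hlam, add_comm])
  obtain ⟨N, hN⟩ := hfixed (r₀ * lam r₀) (by rw [map_mul, hlam, mul_comm])
  obtain ⟨m, hm⟩ := hfixed (d * lam d) (by rw [map_mul, hlam, mul_comm])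
  -- abbreviations in `T ⊗ R`
  obtain ⟨a, ha⟩ : ∃ a, a = ι₂ r₀ := ⟨_, rfl⟩
  obtain ⟨a', ha'⟩ : ∃ a', a' = ι₂ (lam r₀) := ⟨_, rfl⟩
  obtain ⟨P, hP⟩ : ∃ P, P = ι₁ (algebraMap R T r₀) := ⟨_, rfl⟩
  obtain ⟨L, hL⟩ : ∃ L, L = ι₁ (algebraMap R T (lam r₀)) := ⟨_, rfl⟩
  obtain ⟨Δ, hΔ⟩ : ∃ Δ, Δ = ι₁ δ := ⟨_, rfl⟩
  have R1 : a + a' = P + L := by
    rw [ha, ha', hP, hL, ← map_add, ← map_add, ← map_add, ← hs, hrel,
      ← IsScalarTower.algebraMap_apply]
  have R2 : a * a' = P * L := by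
    rw [ha, ha', hP, hL, ← map_mul, ← map_mul, ← map_mul, ← hN, hrel,
      ← IsScalarTower.algebraMap_apply]
  have R3 : Δ * (P - L) = 1 := by
    rw [hΔ, hP, hL, ← map_sub, ← map_sub, ← map_mul, ← hddef, mul_comm, hδ, map_one]
  refine ⟨Δ * (a - L), ?_, ?_, ?_, ?_⟩
  · -- compatibility with `R`
    intro r
    obtain ⟨β, hβ⟩ := hfixed ((r - lam r) * lam d) (by
      rw [map_mul, map_sub, hlam, hlam, hld]; ring)
    obtain ⟨α, hα⟩ := hfixed (algebraMap S R m * r - algebraMap S R β * r₀) (by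
      rw [map_sub, map_mul, map_mul, AlgEquiv.commutes, AlgEquiv.commutes, hm, hβ, hld, hddef]
      have := hlam r₀
      ring)
    have hrelR : algebraMap S R m * r = algebraMap S R α + algebraMap S R β * r₀ := by
      rw [hα]; ring
    have hbdef : (1 : T) ⊗ₜ[S] r = ι₂ r := rfl
    have hQdef : algebraMap R T r ⊗ₜ[S] (1 : R) = ι₁ (algebraMap R T r) := rfl
    rw [hbdef, hQdef]
    obtain ⟨b, hb⟩ : ∃ b, b = ι₂ r := ⟨_, rfl⟩
    obtain ⟨Q, hQ⟩ : ∃ Q, Q = ι₁ (algebraMap R T r) := ⟨_, rfl⟩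
    obtain ⟨M, hM⟩ : ∃ M, M = ι₁ (algebraMap S T m) := ⟨_, rfl⟩
    obtain ⟨Bβ, hBβ⟩ : ∃ Bβ, Bβ = ι₁ (algebraMap S T β) := ⟨_, rfl⟩
    obtain ⟨Aα, hAα⟩ : ∃ Aα, Aα = ι₁ (algebraMap S T α) := ⟨_, rfl⟩
    rw [← hb, ← hQ]
    have R4 : M * b = Aα + Bβ * a := by
      have h := congrArg ι₂ hrelR
      simp only [map_mul, map_add] at h
      rw [hM, hb, hAα, hBβ, ha, ← hrel, ← hrel, ← hrel]
      exact h
    have R5 : M * Q = Aα + Bβ * P := by
      have h := congrArg (fun z => ι₁ (algebraMap R T z)) hrelR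
      simp only [map_mul, map_add] at h
      rw [hM, hQ, hAα, hBβ, hP, IsScalarTower.algebraMap_apply S R T m,
        IsScalarTower.algebraMap_apply S R T α, IsScalarTower.algebraMap_apply S R T β]
      exact h
    have hMu : IsUnit M := by
      rw [hM, IsScalarTower.algebraMap_apply S R T m, hm, hld, mul_neg, map_neg, map_mul, map_neg]
      exact ((hd.mul hd).map ι₁).neg
    have hzero : M * (Δ * (a - L) * b - Δ * (a - L) * Q) = 0 := by
      linear_combination (Δ * (a - L)) * R4 - (Δ * (a - L)) * R5 + (Δ * Bβ * a) * R1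
        - (Δ * Bβ) * R2
    have := (hMu.mul_right_eq_zero).mp hzero
    exact sub_eq_zero.mp this
  · -- idempotent
    have hz : Δ * (a - L) * (Δ * (a' - L)) = 0 := by
      linear_combination (Δ ^ 2) * R2 - (Δ ^ 2 * L) * R1
    have hsum : Δ * (a - L) + Δ * (a' - L) = 1 := by
      linear_combination Δ * R1 + R3
    have : Δ * (a - L) = Δ * (a - L) * (Δ * (a - L) + Δ * (a' - L)) := by
      rw [hsum, mul_one]
    rw [mul_add, hz, add_zero] at this
    exact this.symm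
  · -- `mu e = 1`
    have e1 : Hyperbolic.mu R T Δ = δ := by rw [hΔ, hmu1]
    have e2 : Hyperbolic.mu R T a = algebraMap R T r₀ := by rw [ha, hmu2]
    have e3 : Hyperbolic.mu R T L = algebraMap R T (lam r₀) := by rw [hL, hmu1]
    rw [map_mul, map_sub, e1, e2, e3, ← map_sub, ← hddef, mul_comm, hδ]
  · -- `LT e = 1 - e`
    have e1 : Hyperbolic.LT T lam Δ = Δ := by rw [hΔ, hLT1]
    have e2 : Hyperbolic.LT T lam a = a' := by rw [ha, hLT2, ha']
    have e3 : Hyperbolic.LT T lam L = L := by rw [hL, hLT1]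
    rw [map_mul, map_sub, e1, e2, e3]
    linear_combination Δ * R1 + R3

end Groth.Agent.H96.GraphIdem
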