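import Mathlib

/-!
# `H¹(L)` and finite separable residue field extensions

For `R → S` surjective onto a field `S` and `T/S` a finite separable field extension,
`T ⊗[S] H¹(L_{S/R}) → H¹(L_{T/R})` is bijective.  The proof uses a standard étale
algebra over a polynomial presentation of `S` and Mathlib's
`Algebra.Extension.tensorH1CotangentOfFormallyEtale`.
-/

set_option autoImplicit false
universe u

namespace Groth.Agent.H96.H1Sep

open Polynomial TensorProduct

/-- Kernel of the evaluation map from a standard étale algebra lifting a minimal polynomial. -/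
theorem ker_lift_le {A S T : Type*} [CommRing A] [Field S] [Field T] [Algebra A S] [Algebra A T]
    [Algebra S T] [IsScalarTower A S T]
    (hsurj : Function.Surjective (algebraMap A S)) (α : T)
    (E : StandardEtalePair A) (hEf : E.f.map (algebraMap A S) = minpoly S α) (h : E.HasMap α) :
    RingHom.ker (E.lift α h) ≤
      Ideal.map (algebraMap A E.Ring) (RingHom.ker (algebraMap A S)) := by
  intro q hq
  let EP : StandardEtalePresentation A E.Ring :=
    ⟨E, E.X, E.hasMap_X, by simpa [StandardEtalePair.lift_X_left] using Function.bijective_id⟩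
  obtain ⟨p, n, hpn⟩ := EP.exists_mul_aeval_x_g_pow_eq_aeval_x q
  change q * aeval E.X E.g ^ n = aeval E.X p at hpn
  have h1 : aeval α p = 0 := by
    have := congrArg (E.lift α h) hpn
    rw [map_mul, (RingHom.mem_ker).1 hq, zero_mul, ← Polynomial.aeval_algHom_apply,
      E.lift_X] at this
    exact this.symm
  have h2 : aeval α (p.map (algebraMap A S)) = 0 := by rwa [Polynomial.aeval_map_algebraMap]
  obtain ⟨s', hs⟩ := minpoly.dvd S α h2
  obtain ⟨s, rfl⟩ := Polynomial.map_surjective _ hsurj s'
  have h3 : (p - E.f * s).map (algebraMap A S) = 0 := by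
    rw [Polynomial.map_sub, Polynomial.map_mul, hEf, hs, sub_self]
  have h4 : aeval E.X (p - E.f * s) ∈
      Ideal.map (algebraMap A E.Ring) (RingHom.ker (algebraMap A S)) := by
    rw [Polynomial.aeval_eq_sum_range]
    refine Ideal.sum_mem _ fun i _ => ?_
    rw [Algebra.smul_def]
    refine Ideal.mul_mem_right _ _ (Ideal.mem_map_of_mem _ ?_)
    rw [RingHom.mem_ker, ← Polynomial.coeff_map, h3, Polynomial.coeff_zero]
  have h5 : aeval E.X (p - E.f * s) = aeval E.X p := by
    rw [map_sub, map_mul, E.hasMap_X.1, zero_mul, sub_zero]
  rw [h5, ← hpn] at h4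
  have hu : IsUnit (aeval E.X E.g ^ n) := E.hasMap_X.2.pow n
  obtain ⟨v, hv⟩ := hu.exists_right_inv
  have : q = (q * aeval E.X E.g ^ n) * v := by rw [mul_assoc, hv, mul_one]
  rw [this]
  exact Ideal.mul_mem_right _ _ h4


attribute [local instance] SMulCommClass.of_commMonoid

set_option backward.isDefEq.respectTransparency false in
set_option linter.style.haveILetI false in
theorem equiv_map_eq {R S T : Type u} [CommRing R] [CommRing S] [CommRing T] [Algebra R S]
    [Algebra R T] [Algebra S T] [IsScalarTower R S T]
    (Q : Algebra.Extension.{u} R T) [Algebra.FormallySmooth R Q.Ring]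
    (f : (Algebra.Generators.self R S).toExtension.Hom Q) (y : Algebra.H1Cotangent R S) :
    Q.equivH1CotangentOfFormallySmooth (Algebra.Extension.H1Cotangent.map f y) =
      Algebra.H1Cotangent.map R R S T y := by
  haveI : Algebra.FormallySmooth R (Algebra.Generators.self R T).toExtension.Ring :=
    inferInstanceAs (Algebra.FormallySmooth R (MvPolynomial T R))
  change Algebra.Extension.H1Cotangent.equivOfFormallySmooth Q _
    (Algebra.Extension.H1Cotangent.map f y) = _
  let f' : (Algebra.Generators.self R T).toExtension.Hom Q :=
  { toRingHom := (MvPolynomial.aeval Q.σ).toRingHom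
    toRingHom_algebraMap := (MvPolynomial.aeval Q.σ).commutes
    algebraMap_toRingHom := by
      have : (IsScalarTower.toAlgHom R Q.Ring T).comp (MvPolynomial.aeval Q.σ) =
          IsScalarTower.toAlgHom R (Algebra.Generators.self R T).toExtension.Ring T := by
        ext i
        change _ = algebraMap (Algebra.Generators.self R T).Ring _ (.X i)
        simp
      exact DFunLike.congr_fun this }
  rw [← Algebra.Extension.H1Cotangent.equivOfFormallySmooth_symm, LinearEquiv.symm_apply_eq,
    @Algebra.Extension.H1Cotangent.equivOfFormallySmooth_apply (f := f'),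
    Algebra.H1Cotangent.map, ← (Algebra.Extension.H1Cotangent.map f').coe_restrictScalars S,
    ← LinearMap.comp_apply, ← Algebra.Extension.H1Cotangent.map_comp,
    Algebra.Extension.H1Cotangent.map_eq]

theorem bijective_liftBaseChange_of_flat {A B : Type*} [CommRing A] [CommRing B] [Algebra A B]
    [Module.Flat A B] (I : Ideal A) (J : Ideal B) (hJ : J ≤ Ideal.map (algebraMap A B) I)
    (g : I →ₗ[A] J) (hg : ∀ x, (g x : B) = algebraMap A B x) :
    Function.Bijective (g.liftBaseChange B) := by
  have hval : ∀ x : B ⊗[A] I, ((g.liftBaseChange B x : J) : B) =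
      TensorProduct.rid A B (LinearMap.lTensor B (Submodule.subtype I) x) := by
    intro x
    induction x using TensorProduct.induction_on with
    | zero => simp
    | add x y hx hy => simp only [map_add, Submodule.coe_add, hx, hy]
    | tmul q a =>
      rw [LinearMap.liftBaseChange_tmul, LinearMap.lTensor_tmul, TensorProduct.rid_tmul,
        Submodule.coe_smul, hg, Submodule.subtype_apply, smul_eq_mul, Algebra.smul_def (a : A) q,
        mul_comm]
  constructor
  · intro x y hxy
    have h1 := congrArg (fun z : J => (z : B)) hxy
    simp only [hval] at h1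
    exact Module.Flat.lTensor_preserves_injective_linearMap (M := B)
      (Submodule.subtype I) Subtype.val_injective
      ((TensorProduct.rid A B).injective h1)
  · intro y
    have hy : (y : B) ∈ Ideal.map (algebraMap A B) I := hJ y.2
    suffices h : ∃ x, ((g.liftBaseChange B x : J) : B) = y by
      obtain ⟨x, hx⟩ := h
      exact ⟨x, Subtype.ext hx⟩
    revert hy
    generalize (y : B) = z
    intro hz
    induction hz using Submodule.span_induction with
    | mem z hz =>
      obtain ⟨a, ha, rfl⟩ := hz
      refine ⟨1 ⊗ₜ ⟨a, ha⟩, ?_⟩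
      rw [LinearMap.liftBaseChange_tmul, one_smul, hg]
    | zero => exact ⟨0, by simp⟩
    | add z w _ _ hz hw =>
      obtain ⟨x, hx⟩ := hz
      obtain ⟨x', hx'⟩ := hw
      exact ⟨x + x', by rw [map_add, Submodule.coe_add, hx, hx']⟩
    | smul r z _ hz =>
      obtain ⟨x, hx⟩ := hz
      exact ⟨r • x, by rw [map_smul, Submodule.coe_smul, hx]⟩

set_option linter.style.haveILetI false in
set_option maxHeartbeats 1600000 in
theorem main {R S T : Type u} [CommRing R] [Field S] [Field T] [Algebra R S] [Algebra R T]
    [Algebra S T] [IsScalarTower R S T]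
    [FiniteDimensional S T] [Algebra.IsSeparable S T] :
    Function.Bijective ((Algebra.H1Cotangent.map R R S T).liftBaseChange T) := by
  classical
  obtain ⟨α, hα⟩ := Field.exists_primitive_element S T
  let P : Algebra.Extension.{u} R S := (Algebra.Generators.self R S).toExtension
  have hPsurj : Function.Surjective (algebraMap P.Ring S) := P.algebraMap_surjective
  have hαint : IsIntegral S α := Algebra.IsIntegral.isIntegral α
  obtain ⟨G, hGmap, -, hGmonic⟩ := Polynomial.lifts_and_degree_eq_and_monic
    ((Polynomial.mem_lifts _).2 (Polynomial.map_surjective _ hPsurj (minpoly S α)))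
    (minpoly.monic hαint)
  letI algPT : Algebra P.Ring T := ((algebraMap S T).comp (algebraMap P.Ring S)).toAlgebra
  haveI : IsScalarTower P.Ring S T := .of_algebraMap_eq' rfl
  haveI : IsScalarTower R P.Ring T := .of_algebraMap_eq fun r => by
    rw [IsScalarTower.algebraMap_apply R S T, IsScalarTower.algebraMap_apply R P.Ring S]; rfl
  let E : StandardEtalePair P.Ring :=
    { f := G, monic_f := hGmonic, g := derivative G, cond := ⟨1, 0, 1, by simp⟩ }
  have hmapα : E.HasMap α := by
    constructor
    · change aeval α G = 0
      rw [← Polynomial.aeval_map_algebraMap S α G, hGmap, minpoly.aeval]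
    · change IsUnit (aeval α (derivative G))
      rw [← Polynomial.aeval_map_algebraMap S α (derivative G), ← Polynomial.derivative_map, hGmap]
      exact (Polynomial.Separable.aeval_derivative_ne_zero
        (Algebra.IsSeparable.isSeparable S α) (minpoly.aeval S α)).isUnit
  letI algRE : Algebra R E.Ring :=
    ((algebraMap P.Ring E.Ring).comp (algebraMap R P.Ring)).toAlgebra
  haveI : IsScalarTower R P.Ring E.Ring := .of_algebraMap_eq' rfl
  let fQ : E.Ring →ₐ[R] T := (E.lift α hmapα).restrictScalars R
  have hfQ : Function.Surjective fQ := by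
    intro t
    have ht : t ∈ Algebra.adjoin S {α} := by
      rw [← IntermediateField.adjoin_simple_toSubalgebra_of_isAlgebraic hαint.isAlgebraic, hα]
      trivial
    rw [Algebra.adjoin_singleton_eq_range_aeval] at ht
    obtain ⟨p', rfl⟩ := ht
    obtain ⟨p, rfl⟩ := Polynomial.map_surjective _ hPsurj p'
    refine ⟨aeval E.X p, ?_⟩
    change (E.lift α hmapα) (aeval E.X p) = _
    rw [← Polynomial.aeval_algHom_apply, E.lift_X]
    change aeval α p = aeval α (Polynomial.map (algebraMap P.Ring S) p)
    rw [Polynomial.aeval_map_algebraMap]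
  let Q : Algebra.Extension.{u} R T := .ofSurjective fQ hfQ
  let f : P.Hom Q :=
    { toRingHom := algebraMap P.Ring E.Ring
      toRingHom_algebraMap := fun x => rfl
      algebraMap_toRingHom := fun x => (E.lift α hmapα).commutes x }
  letI algPQ : Algebra P.Ring Q.Ring := (inferInstance : Algebra P.Ring E.Ring)
  haveI : Algebra.FormallySmooth R P.Ring :=
    inferInstanceAs (Algebra.FormallySmooth R (MvPolynomial S R))
  haveI : Algebra.FormallySmooth P.Ring E.Ring := inferInstance
  haveI : Algebra.FormallySmooth R Q.Ring := Algebra.FormallySmooth.comp R P.Ring E.Ring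
  have H₁ : f.toRingHom.FormallyEtale :=
    RingHom.formallyEtale_algebraMap.mpr (inferInstance : Algebra.FormallyEtale P.Ring E.Ring)
  haveI : Module.Flat P.Ring Q.Ring := (inferInstance : Module.Flat P.Ring E.Ring)
  have hker : Q.ker ≤ Ideal.map (algebraMap P.Ring Q.Ring) P.ker :=
    ker_lift_le hPsurj α E hGmap hmapα
  have H₂ : Function.Bijective ((f.mapKer rfl).liftBaseChange Q.Ring) := by
    exact bijective_liftBaseChange_of_flat (A := P.Ring) (B := Q.Ring) P.ker Q.ker hker
      (f.mapKer rfl) (fun x => rfl)
  let e1 := Algebra.Extension.tensorH1CotangentOfFormallyEtale f rfl H₁ H₂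
  let e2 := Q.equivH1CotangentOfFormallySmooth
  have key : ∀ x, (Algebra.H1Cotangent.map R R S T).liftBaseChange T x = e2 (e1 x) := by
    intro x
    induction x using TensorProduct.induction_on with
    | zero => simp
    | add x y hx hy => simp only [map_add, hx, hy]
    | tmul t y =>
      rw [LinearMap.liftBaseChange_tmul]
      have : e1 (t ⊗ₜ y) = t • Algebra.Extension.H1Cotangent.map f y := by
        simp [e1, Algebra.Extension.tensorH1CotangentOfFormallyEtale]
      rw [this, map_smul]
      congr 1
      exact (equiv_map_eq Q f y).symm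
  have : ⇑((Algebra.H1Cotangent.map R R S T).liftBaseChange T) = ⇑(e1 ≪≫ₗ e2) := by
    funext x; exact key x
  rw [this]
  exact (e1 ≪≫ₗ e2).bijective

end Groth.Agent.H96.H1Sep
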