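import Mathlib
import Groth.Agent.H3.HPair7

/-!
# Idempotent lifting in (noncommutative) finite algebras over a henselian local ring
-/

set_option autoImplicit false
universe u v

namespace Groth.Agent.H96.HensIdem

open IsLocalRing Polynomial

/-- Commuting idempotents with nilpotent difference are equal. -/
theorem eq_of_commute_of_isNilpotent_sub {S : Type*} [Ring S] {e f : S}
    (he : IsIdempotentElem e) (hf : IsIdempotentElem f) (hc : Commute e f)
    (hn : IsNilpotent (e - f)) : e = f := by
  have h3 : (e - f) * (1 - (e - f) ^ 2) = 0 := by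
    have h1 : e * f = f * e := hc.eq
    have he' : e * e = e := he.eq
    have hf' : f * f = f := hf.eq
    have h2 : (e - f) ^ 2 = e - 2 * (e * f) + f := by
      rw [pow_two, sub_mul, mul_sub, mul_sub, he', hf', ← h1]; noncomm_ring
    rw [h2]
    have : (e - f) * (1 - (e - 2 * (e * f) + f)) =
        e - f - (e * e - 2 * (e * (e * f)) + e * f) + (f * e - 2 * (f * (e * f)) + f * f) := by
      noncomm_ring
    rw [this, ← mul_assoc e e f, he', ← h1, ← mul_assoc f e f, ← h1, mul_assoc e f f, hf']
    noncomm_ring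
  have hu : IsUnit (1 - (e - f) ^ 2) := IsNilpotent.isUnit_one_sub (hn.pow_succ 1)
  have := hu.mul_left_eq_zero.mp h3
  exact sub_eq_zero.mp this

section
variable {R : Type u} [CommRing R] {C : Type v} [Ring C] [Algebra R C]

theorem mul_mem_smul_top (I : Ideal R) {w : C} (hw : w ∈ I • (⊤ : Submodule R C)) (c : C) :
    w * c ∈ I • (⊤ : Submodule R C) := by
  refine Submodule.smul_induction_on hw (fun r hr c' _ => ?_) (fun a b ha hb => ?_)
  · rw [smul_mul_assoc]; exact Submodule.smul_mem_smul hr trivial
  · rw [add_mul]; exact add_mem ha hb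

theorem mul_mem_smul_top' (I : Ideal R) {w : C} (hw : w ∈ I • (⊤ : Submodule R C)) (c : C) :
    c * w ∈ I • (⊤ : Submodule R C) := by
  refine Submodule.smul_induction_on hw (fun r hr c' _ => ?_) (fun a b ha hb => ?_)
  · rw [mul_smul_comm]; exact Submodule.smul_mem_smul hr trivial
  · rw [mul_add]; exact add_mem ha hb

/-- Cayley–Hamilton consequence: an element of `I • C` satisfies a monic polynomial whose lower
coefficients lie in `I`. -/
theorem exists_monic_aeval_eq_zero [Module.Finite R C] (I : Ideal R) {z : C}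
    (hz : z ∈ I • (⊤ : Submodule R C)) :
    ∃ p : R[X], p.Monic ∧ (∀ k, k < p.natDegree → p.coeff k ∈ I) ∧ aeval z p = 0 := by
  obtain ⟨p, hpm, -, hpc, hp0⟩ :=
    LinearMap.exists_monic_and_natDegree_eq_and_coeff_mem_pow_and_aeval_eq_zero R
      (Algebra.lmul R C z) I (by
        rintro _ ⟨c, rfl⟩
        exact mul_mem_smul_top I hz c)
  refine ⟨p, hpm, fun k hk => ?_, ?_⟩
  · exact Ideal.pow_le_self (by omega) (hpc k)
  · rw [Polynomial.aeval_algHom_apply] at hp0
    have := congrArg (fun f : Module.End R C => f 1) hp0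
    simpa using this

end

section
variable {R : Type u} [CommRing R] {D : Type v} [CommRing D] [Algebra R D]

/-- In a commutative algebra, a root of a monic polynomial with lower coefficients in `I` is
nilpotent modulo `I D`. -/
theorem pow_mem_map_of_aeval_eq_zero (I : Ideal R) {z : D} {p : R[X]} (hpm : p.Monic)
    (hpc : ∀ k, k < p.natDegree → p.coeff k ∈ I) (hp0 : aeval z p = 0) :
    z ^ p.natDegree ∈ I.map (algebraMap R D) := by
  rw [Polynomial.aeval_eq_sum_range, Finset.sum_range_succ, hpm.coeff_natDegree, one_smul] at hp0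
  have h1 : z ^ p.natDegree = - ∑ i ∈ Finset.range p.natDegree, p.coeff i • z ^ i := by
    rw [eq_neg_iff_add_eq_zero, add_comm]; exact hp0
  rw [h1]
  refine neg_mem (Ideal.sum_mem _ (fun i hi => ?_))
  rw [Algebra.smul_def]
  exact Ideal.mul_mem_right _ _ (Ideal.mem_map_of_mem _ (hpc i (Finset.mem_range.mp hi)))

end

section
variable {R : Type u} [CommRing R] [HenselianLocalRing R] {C : Type v} [Ring C] [Algebra R C]
  [Module.Finite R C]

open scoped IsMulCommutative in
/-- **Idempotent lifting** in a finite, not necessarily commutative algebra `C` over a henselian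
local ring `R`: if `x² - x ∈ 𝔪 C` then there is an idempotent `e` commuting with `x` such that a
power of `e - x` lies in `𝔪 C`. -/
theorem exists_isIdempotentElem_commute (x : C)
    (hx : x ^ 2 - x ∈ maximalIdeal R • (⊤ : Submodule R C)) :
    ∃ e : C, IsIdempotentElem e ∧ Commute e x ∧
      ∃ N : ℕ, (e - x) ^ N ∈ maximalIdeal R • (⊤ : Submodule R C) := by
  classical
  set m := maximalIdeal R with hm
  let D : Subalgebra R C := Algebra.adjoin R {x}
  have : IsMulCommutative D := Algebra.isMulCommutative_adjoin_singleton R x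
  let _ : CommRing D := inferInstance
  have : Algebra.IsIntegral R D := ⟨fun d => by
    have h1 : IsIntegral R (D.val d) := IsIntegral.of_finite R _
    exact (isIntegral_algHom_iff D.val Subtype.val_injective).mp h1⟩
  set mD : Ideal D := m.map (algebraMap R D) with hmD
  -- elements of `mD` lie in `m • ⊤`
  have hmDC : ∀ d : D, d ∈ mD → (d : C) ∈ m • (⊤ : Submodule R C) := by
    intro d hd
    rw [hmD, Ideal.map] at hd
    refine Submodule.span_induction (p := fun (d : D) _ => (d : C) ∈ m • (⊤ : Submodule R C))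
      ?_ ?_ ?_ ?_ hd
    · rintro _ ⟨r, hr, rfl⟩
      have : ((algebraMap R D r : D) : C) = r • (1 : C) := by
        rw [Algebra.smul_def, mul_one]; rfl
      rw [this]; exact Submodule.smul_mem_smul hr trivial
    · simp
    · intro a b _ _ ha hb
      rw [Subalgebra.coe_add]; exact add_mem ha hb
    · intro a b _ hb
      rw [smul_eq_mul, Subalgebra.coe_mul]
      exact mul_mem_smul_top' m hb _
  -- elements of `D` in `m • ⊤` are nilpotent mod `mD`
  have hnil : ∀ z : D, (z : C) ∈ m • (⊤ : Submodule R C) → ∃ n : ℕ, z ^ n ∈ mD := by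
    intro z hz
    obtain ⟨p, hpm, hpc, hp0⟩ := exists_monic_aeval_eq_zero m hz
    refine ⟨p.natDegree, pow_mem_map_of_aeval_eq_zero m hpm hpc ?_⟩
    apply Subtype.val_injective
    rw [Polynomial.aeval_subalgebra_coe]; simpa using hp0
  let xD : D := ⟨x, Algebra.self_mem_adjoin_singleton R x⟩
  obtain ⟨n, hn⟩ := hnil (xD ^ 2 - xD) (by simpa [xD] using hx)
  -- pass to the quotient
  let Q := D ⧸ mD
  let q : D →+* Q := Ideal.Quotient.mk mD
  let f : Q →+* Q ⧸ nilradical Q := Ideal.Quotient.mk _
  have hqz : IsNilpotent (q xD ^ 2 - q xD) := by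
    refine ⟨n, ?_⟩
    rw [← map_pow, ← map_sub, ← map_pow]
    exact Ideal.Quotient.eq_zero_iff_mem.mpr hn
  have hker : ∀ y ∈ RingHom.ker f, IsNilpotent y := by
    intro y hy
    rw [Ideal.mk_ker] at hy
    exact mem_nilradical.mp hy
  have hidem : IsIdempotentElem (f (q xD)) := by
    rw [IsIdempotentElem, ← map_mul, ← sub_eq_zero, ← map_sub]
    refine Ideal.Quotient.eq_zero_iff_mem.mpr (mem_nilradical.mpr ?_)
    rwa [← pow_two]
  obtain ⟨ε, hε, hfε⟩ := exists_isIdempotentElem_eq_of_ker_isNilpotent f hker (f (q xD))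
    ⟨_, rfl⟩ hidem
  have hεx : IsNilpotent (ε - q xD) := by
    apply mem_nilradical.mp
    rw [← Ideal.Quotient.eq]; exact hfε
  obtain ⟨y, rfl⟩ := Ideal.Quotient.mk_surjective ε
  have hy2 : y ^ 2 - y ∈ mD := by
    rw [← Ideal.Quotient.eq, map_pow, pow_two]; exact hε.eq
  obtain ⟨e, he, hey⟩ := Groth.Agent.H3.exists_isIdempotentElem_sub_mem_of_henselianRing m y hy2
  have hqe : q e = q y := Ideal.Quotient.eq.mpr hey
  obtain ⟨N, hN⟩ := hεx
  refine ⟨(e : C), ?_, ?_, N, ?_⟩
  · rw [IsIdempotentElem, ← Subalgebra.coe_mul, he.eq]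
  · have : e * xD = xD * e := mul_comm _ _
    have h2 := congrArg (Subtype.val) this
    show (e : C) * x = x * (e : C)
    simpa [xD] using h2
  · have h3 : (e - xD) ^ N ∈ mD := by
      rw [← Ideal.Quotient.eq_zero_iff_mem, map_pow, map_sub]
      change (q e - q xD) ^ N = 0
      rw [hqe]; exact hN
    have := hmDC _ h3
    simpa [xD] using this

end

end Groth.Agent.H96.HensIdem
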