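import Mathlib
import Groth.Agent.H96.HensIdem
import Groth.Agent.H96.EtSub
import Groth.Agent.S19588

/-!
# Lifting isomorphisms of Azumaya algebras over a henselian local ring
-/

set_option autoImplicit false
universe u

open TensorProduct MulOpposite IsLocalRing

namespace Groth.Agent.H96.HensAz

section Sigma

variable {R : Type u} [CommRing R] [IsLocalRing R] {A : Type u} [Ring A] [Algebra R A]
  {B : Type u} [Ring B] [Algebra R B]
variable (e₀ : (ResidueField R ⊗[R] A) ≃ₐ[ResidueField R] (ResidueField R ⊗[R] B))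

/-- Left multiplication by `e₀ (1 ⊗ a)`. -/
noncomputable def fA :
    A →ₐ[R] Module.End (ResidueField R) (ResidueField R ⊗[R] B) :=
  ((Algebra.lmul (ResidueField R) (ResidueField R ⊗[R] B)).restrictScalars R).comp
    ((e₀.toAlgHom.restrictScalars R).comp Algebra.TensorProduct.includeRight)

@[simp] lemma fA_apply (a : A) (x : ResidueField R ⊗[R] B) :
    fA e₀ a x = e₀ (1 ⊗ₜ a) * x := rfl

/-- Right multiplication by `1 ⊗ b`. -/
noncomputable def gB :
    Bᵐᵒᵖ →ₐ[R] Module.End (ResidueField R) (ResidueField R ⊗[R] B) where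
  toFun b := LinearMap.mulRight (ResidueField R) ((1 : ResidueField R) ⊗ₜ[R] b.unop)
  map_one' := LinearMap.ext fun x => by
    simp [← Algebra.TensorProduct.one_def]
  map_mul' b b' := LinearMap.ext fun x => by
    simp [mul_assoc]
  map_zero' := LinearMap.ext fun x => by simp
  map_add' b b' := LinearMap.ext fun x => by simp [tmul_add, mul_add]
  commutes' r := LinearMap.ext fun x => by
    simp [Algebra.algebraMap_eq_smul_one, ← Algebra.TensorProduct.one_def]

@[simp] lemma gB_apply (b : Bᵐᵒᵖ) (x : ResidueField R ⊗[R] B) :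
    gB (R := R) (B := B) b x = x * (1 ⊗ₜ b.unop) := rfl

/-- The action of `A ⊗ Bᵐᵒᵖ` on `k ⊗ B` twisted by `e₀`. -/
noncomputable def sigma :
    A ⊗[R] Bᵐᵒᵖ →ₐ[R] Module.End (ResidueField R) (ResidueField R ⊗[R] B) :=
  Algebra.TensorProduct.lift (fA e₀) gB (fun a b => by
    show fA e₀ a * gB b = gB b * fA e₀ a
    refine LinearMap.ext fun x => ?_
    simp [mul_assoc])

lemma sigma_tmul (a : A) (b : Bᵐᵒᵖ) (x : ResidueField R ⊗[R] B) :
    sigma e₀ (a ⊗ₜ b) x = e₀ (1 ⊗ₜ a) * (x * (1 ⊗ₜ b.unop)) := by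
  simp [sigma]

/-- The `k`-linear extension of `sigma`. -/
noncomputable def rho :
    ResidueField R ⊗[R] (A ⊗[R] Bᵐᵒᵖ) →ₐ[ResidueField R]
      Module.End (ResidueField R) (ResidueField R ⊗[R] B) :=
  Algebra.TensorProduct.lift (Algebra.ofId _ _) (sigma e₀) (fun _ _ => Algebra.commutes _ _)

lemma rho_tmul (c : ResidueField R) (x : A ⊗[R] Bᵐᵒᵖ) :
    rho e₀ (c ⊗ₜ x) = c • sigma e₀ x := by
  simp [rho, Algebra.ofId_apply, Algebra.algebraMap_eq_smul_one]

lemma lmul_mem_range (x : ResidueField R ⊗[R] B) :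
    Algebra.lmul (ResidueField R) (ResidueField R ⊗[R] B) x ∈ (rho e₀).range := by
  obtain ⟨x', rfl⟩ := e₀.surjective x
  induction x' using TensorProduct.induction_on with
  | zero => simp
  | tmul c a =>
    refine ⟨c ⊗ₜ (a ⊗ₜ 1), ?_⟩
    show rho e₀ _ = _
    rw [rho_tmul]
    refine LinearMap.ext fun y => ?_
    have h1 : (c ⊗ₜ[R] a : ResidueField R ⊗[R] A) = c • (1 ⊗ₜ[R] a) := by
      rw [TensorProduct.smul_tmul', smul_eq_mul, mul_one]
    rw [LinearMap.smul_apply, sigma_tmul, h1, map_smul]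
    simp [← Algebra.TensorProduct.one_def]
  | add y1 y2 h1 h2 =>
    rw [map_add, map_add]; exact add_mem h1 h2

lemma mulRight_mem_range (y : ResidueField R ⊗[R] B) :
    LinearMap.mulRight (ResidueField R) y ∈ (rho e₀).range := by
  induction y using TensorProduct.induction_on with
  | zero =>
    have : LinearMap.mulRight (ResidueField R) (0 : ResidueField R ⊗[R] B) = 0 :=
      LinearMap.ext fun x => by simp
    rw [this]; exact zero_mem _
  | tmul c b =>
    refine ⟨c ⊗ₜ (1 ⊗ₜ op b), ?_⟩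
    show rho e₀ _ = _
    rw [rho_tmul]
    refine LinearMap.ext fun y => ?_
    have h1 : (c ⊗ₜ[R] b : ResidueField R ⊗[R] B) = c • (1 ⊗ₜ[R] b) := by
      rw [TensorProduct.smul_tmul', smul_eq_mul, mul_one]
    rw [LinearMap.smul_apply, sigma_tmul, h1]
    simp [← Algebra.TensorProduct.one_def]
  | add y1 y2 h1 h2 =>
    have : LinearMap.mulRight (ResidueField R) (y1 + y2) =
        LinearMap.mulRight (ResidueField R) y1 + LinearMap.mulRight (ResidueField R) y2 :=
      LinearMap.ext fun x => by simp [mul_add]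
    rw [this]; exact add_mem h1 h2

theorem rho_surjective [IsAzumaya (ResidueField R) (ResidueField R ⊗[R] B)] :
    Function.Surjective (rho e₀) := by
  have hmlr : Function.Surjective
      (AlgHom.mulLeftRight (ResidueField R) (ResidueField R ⊗[R] B)) := IsAzumaya.bij.2
  intro T
  obtain ⟨t, rfl⟩ := hmlr T
  suffices h : AlgHom.mulLeftRight (ResidueField R) (ResidueField R ⊗[R] B) t ∈ (rho e₀).range from h
  induction t using TensorProduct.induction_on with
  | zero => simp
  | tmul x y =>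
    have : AlgHom.mulLeftRight (ResidueField R) (ResidueField R ⊗[R] B) (x ⊗ₜ y) =
        Algebra.lmul (ResidueField R) (ResidueField R ⊗[R] B) x *
          LinearMap.mulRight (ResidueField R) y.unop :=
      LinearMap.ext fun z => by simp [mul_assoc]
    rw [this]
    exact mul_mem (lmul_mem_range e₀ x) (mulRight_mem_range e₀ _)
  | add y1 y2 h1 h2 => rw [map_add]; exact add_mem h1 h2

include e₀ in
theorem finrank_eq [Module.Free R A] [Module.Finite R A] [Module.Free R B] [Module.Finite R B] :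
    Module.finrank (ResidueField R) (ResidueField R ⊗[R] (A ⊗[R] Bᵐᵒᵖ)) =
      Module.finrank (ResidueField R)
        (Module.End (ResidueField R) (ResidueField R ⊗[R] B)) := by
  have : Module.Free R Bᵐᵒᵖ := Module.Free.of_equiv (opLinearEquiv R)
  have : Module.Finite R Bᵐᵒᵖ := Module.Finite.equiv (opLinearEquiv R)
  have hA : Module.finrank (ResidueField R) (ResidueField R ⊗[R] A) = Module.finrank R A :=
    Module.finrank_baseChange
  have hB : Module.finrank (ResidueField R) (ResidueField R ⊗[R] B) = Module.finrank R B :=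
    Module.finrank_baseChange
  have hAB : Module.finrank R A = Module.finrank R B := by
    rw [← hA, ← hB]; exact LinearEquiv.finrank_eq e₀.toLinearEquiv
  have hop : Module.finrank R Bᵐᵒᵖ = Module.finrank R B :=
    (opLinearEquiv R : B ≃ₗ[R] Bᵐᵒᵖ).finrank_eq.symm
  rw [Module.finrank_baseChange, Module.finrank_tensorProduct, Module.finrank_linearMap, hB, hop,
    hAB]

theorem rho_injective [IsAzumaya (ResidueField R) (ResidueField R ⊗[R] B)]
    [Module.Free R A] [Module.Finite R A] [Module.Free R B] [Module.Finite R B] :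
    Function.Injective (rho e₀) := by
  have : Module.Finite R Bᵐᵒᵖ := Module.Finite.equiv (opLinearEquiv R)
  exact (LinearMap.injective_iff_surjective_of_finrank_eq_finrank
    (f := (rho e₀).toLinearMap) (finrank_eq e₀)).mpr (rho_surjective e₀)

theorem sigma_surjective [IsAzumaya (ResidueField R) (ResidueField R ⊗[R] B)] :
    Function.Surjective (sigma e₀) := by
  intro T
  obtain ⟨t, rfl⟩ := rho_surjective e₀ T
  obtain ⟨c, rfl⟩ := Groth.Agent.H96.EtSub.exists_one_tmul_eq t
  exact ⟨c, by rw [rho_tmul, one_smul]⟩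

theorem mem_smul_top_of_sigma_eq_zero [IsAzumaya (ResidueField R) (ResidueField R ⊗[R] B)]
    [Module.Free R A] [Module.Finite R A] [Module.Free R B] [Module.Finite R B]
    {c : A ⊗[R] Bᵐᵒᵖ} (hc : sigma e₀ c = 0) :
    c ∈ maximalIdeal R • (⊤ : Submodule R (A ⊗[R] Bᵐᵒᵖ)) := by
  apply Groth.Agent.H96.EtSub.mem_smul_top_of_one_tmul_eq_zero
  apply rho_injective e₀
  rw [rho_tmul, hc, smul_zero, map_zero]

theorem sigma_eq_zero_of_mem_smul_top {c : A ⊗[R] Bᵐᵒᵖ}
    (hc : c ∈ maximalIdeal R • (⊤ : Submodule R (A ⊗[R] Bᵐᵒᵖ))) : sigma e₀ c = 0 := by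
  refine Submodule.smul_induction_on hc (fun r hr c' _ => ?_) (fun a b ha hb => ?_)
  · rw [map_smul]
    refine LinearMap.ext fun y => ?_
    rw [LinearMap.smul_apply, ← IsScalarTower.algebraMap_smul (ResidueField R) r,
      ResidueField.algebraMap_eq, (residue_eq_zero_iff r).mpr hr, zero_smul, LinearMap.zero_apply]
  · rw [map_add, ha, hb, add_zero]

end Sigma

section Main

variable (R : Type u) [CommRing R] [HenselianLocalRing R] (A : Type u) [Ring A] [Algebra R A]
  [IsAzumaya R A] (B : Type u) [Ring B] [Algebra R B] [IsAzumaya R B]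
  (e₀ : (ResidueField R ⊗[R] A) ≃ₐ[ResidueField R] (ResidueField R ⊗[R] B))

/-- Over a henselian local ring, an isomorphism between the special fibres of two Azumaya algebras
lifts to an isomorphism of the algebras. -/
theorem main : ∃ e : A ≃ₐ[R] B, ∀ a : A,
    e₀ ((1 : ResidueField R) ⊗ₜ[R] a) = (1 : ResidueField R) ⊗ₜ[R] (e a) := by
  classical
  have : IsAzumaya (ResidueField R) (ResidueField R ⊗[R] B) :=
    Groth.Agent.S19588.result R _ B
  have : Module.Free R A := Module.free_of_flat_of_isLocalRing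
  have : Module.Free R B := Module.free_of_flat_of_isLocalRing
  have : Module.Finite R Bᵐᵒᵖ := Module.Finite.equiv (opLinearEquiv R)
  have : Module.Free R Bᵐᵒᵖ := Module.Free.of_equiv (opLinearEquiv R)
  set m := maximalIdeal R with hm
  have : Nontrivial (ResidueField R ⊗[R] B) := by
    by_contra h
    rw [not_nontrivial_iff_subsingleton] at h
    have : (0 : ResidueField R) = 1 :=
      FaithfulSMul.eq_of_smul_eq_smul (α := ResidueField R ⊗[R] B)
        fun x => Subsingleton.elim _ _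
    exact zero_ne_one this
  obtain ⟨φ₀, hφ₀⟩ : ∃ φ₀ : (ResidueField R ⊗[R] B) →ₗ[ResidueField R] ResidueField R,
      φ₀ 1 = 1 := by
    obtain ⟨f, hf⟩ : ∃ f : Module.Dual (ResidueField R) (ResidueField R ⊗[R] B), f 1 ≠ 0 := by
      by_contra h
      push Not at h
      exact one_ne_zero ((Module.forall_dual_apply_eq_zero_iff (ResidueField R)
        (1 : ResidueField R ⊗[R] B)).mp h)
    exact ⟨(f 1)⁻¹ • f, by simp [hf]⟩
  let π : Module.End (ResidueField R) (ResidueField R ⊗[R] B) :=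
    (LinearMap.toSpanSingleton (ResidueField R) (ResidueField R ⊗[R] B) 1) ∘ₗ φ₀
  have hπ : ∀ y, π y = φ₀ y • (1 : ResidueField R ⊗[R] B) := fun y => rfl
  have hππ : IsIdempotentElem π := by
    refine LinearMap.ext fun y => ?_
    show π (π y) = π y
    rw [hπ, hπ, map_smul, hφ₀, smul_eq_mul, mul_one]
  have hkey : ∀ T : Module.End (ResidueField R) (ResidueField R ⊗[R] B),
      (T * π) 1 = 0 → T * π = 0 := by
    intro T hT
    refine LinearMap.ext fun y => ?_
    have h1 : (T * π) 1 = T 1 := by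
      show T (π 1) = T 1
      rw [hπ, hφ₀, one_smul]
    show T (π y) = 0
    rw [hπ, map_smul, ← h1, hT, smul_zero]
  obtain ⟨x, hx⟩ := sigma_surjective e₀ π
  have hx2 : x ^ 2 - x ∈ m • (⊤ : Submodule R (A ⊗[R] Bᵐᵒᵖ)) := by
    apply mem_smul_top_of_sigma_eq_zero e₀
    rw [map_sub, map_pow, hx, pow_two, hππ.eq, sub_self]
  obtain ⟨e, he, hex, N, hN⟩ := HensIdem.exists_isIdempotentElem_commute x hx2
  have hσe : sigma e₀ e = π := by
    rw [← hx]
    apply HensIdem.eq_of_commute_of_isNilpotent_sub (he.map (sigma e₀))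
      (by rw [hx]; exact hππ) (hex.map (sigma e₀))
    refine ⟨N, ?_⟩
    rw [← map_sub, ← map_pow]
    exact sigma_eq_zero_of_mem_smul_top e₀ hN
  -- the maps `β'` and `α'`
  let β' : B →ₗ[R] A ⊗[R] Bᵐᵒᵖ :=
    (LinearMap.mulRight R e) ∘ₗ (TensorProduct.mk R A Bᵐᵒᵖ 1) ∘ₗ (opLinearEquiv R).toLinearMap
  have hβ' : ∀ b, β' b = ((1 : A) ⊗ₜ[R] op b) * e := fun b => rfl
  let α' : A →ₗ[R] A ⊗[R] Bᵐᵒᵖ :=
    (LinearMap.mulRight R e) ∘ₗ ((TensorProduct.mk R A Bᵐᵒᵖ).flip 1)
  have hα' : ∀ a, α' a = (a ⊗ₜ[R] (1 : Bᵐᵒᵖ)) * e := fun a => rfl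
  have hσβ : ∀ b, sigma e₀ (β' b) 1 = 1 ⊗ₜ b := by
    intro b
    rw [hβ', map_mul, hσe, Module.End.mul_apply, hπ, hφ₀, one_smul, sigma_tmul]
    simp [← Algebra.TensorProduct.one_def]
  have hσα : ∀ a, sigma e₀ (α' a) 1 = e₀ (1 ⊗ₜ a) := by
    intro a
    rw [hα', map_mul, hσe, Module.End.mul_apply, hπ, hφ₀, one_smul, sigma_tmul]
    simp [← Algebra.TensorProduct.one_def]
  let P : Submodule R (A ⊗[R] Bᵐᵒᵖ) := LinearMap.range (LinearMap.mulRight R e)
  have hP : ∀ c, c ∈ P ↔ c * e = c := by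
    intro c
    constructor
    · rintro ⟨c', rfl⟩
      show c' * e * e = c' * e
      rw [mul_assoc, he.eq]
    · intro h
      exact ⟨c, h⟩
  have hkeyP : ∀ c ∈ P, sigma e₀ c 1 = 0 → c ∈ m • P := by
    intro c hc h0
    have hce := (hP c).mp hc
    have h1 : sigma e₀ c = sigma e₀ c * π := by rw [← hσe, ← map_mul, hce]
    have h2 : sigma e₀ c = 0 := by
      rw [h1]
      apply hkey
      rw [← h1]
      exact h0
    have h3 := mem_smul_top_of_sigma_eq_zero e₀ h2
    rw [← hce]
    refine Submodule.smul_induction_on h3 (fun r hr c' _ => ?_) (fun a b ha hb => ?_)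
    · rw [smul_mul_assoc]
      exact Submodule.smul_mem_smul hr ⟨c', rfl⟩
    · rw [add_mul]
      exact add_mem ha hb
  have hPle : P ≤ LinearMap.range β' := by
    have hfg : P.FG := by
      have := (Module.Finite.fg_top (R := R) (M := A ⊗[R] Bᵐᵒᵖ)).map (LinearMap.mulRight R e)
      rwa [Submodule.map_top] at this
    apply Submodule.le_of_le_smul_of_le_jacobson_bot hfg
      (IsLocalRing.jacobson_eq_maximalIdeal ⊥ bot_ne_top).ge
    intro c hc
    obtain ⟨b, hb⟩ := Groth.Agent.H96.EtSub.exists_one_tmul_eq (sigma e₀ c 1)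
    have hβP : β' b ∈ P := ⟨_, rfl⟩
    have h1 : c - β' b ∈ m • P :=
      hkeyP _ (sub_mem hc hβP) (by rw [map_sub, LinearMap.sub_apply, hσβ, hb, sub_self])
    have h2 : c = β' b + (c - β' b) := by abel
    rw [h2]
    exact Submodule.add_mem_sup (LinearMap.mem_range_self β' b) h1
  obtain ⟨t, ht⟩ : ∃ t : A ⊗[R] Bᵐᵒᵖ →ₗ[R] B, ∀ c, β' (t c) = c * e := by
    have hmem : ∀ b, β' b ∈ P := fun b => ⟨_, rfl⟩
    have hsurj : Function.Surjective (β'.codRestrict P hmem) := by
      rintro ⟨c, hc⟩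
      obtain ⟨b, hb⟩ := hPle hc
      exact ⟨b, Subtype.ext hb⟩
    obtain ⟨t, ht⟩ := Module.projective_lifting_property (β'.codRestrict P hmem)
      (LinearMap.mulRight R e).rangeRestrict hsurj
    refine ⟨t, fun c => ?_⟩
    have := congrArg Subtype.val (LinearMap.congr_fun ht c)
    simpa using this
  have hker : ∀ b, β' b = 0 → b ∈ m • (⊤ : Submodule R B) := by
    intro b hb
    apply Groth.Agent.H96.EtSub.mem_smul_top_of_one_tmul_eq_zero
    rw [← hσβ, hb, map_zero, LinearMap.zero_apply]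
  have htsurj : (⊤ : Submodule R B) ≤ P.map t := by
    apply Submodule.le_of_le_smul_of_le_jacobson_bot Module.Finite.fg_top
      (IsLocalRing.jacobson_eq_maximalIdeal ⊥ bot_ne_top).ge
    intro b _
    have hβP : β' b ∈ P := ⟨_, rfl⟩
    have h1 : b - t (β' b) ∈ m • (⊤ : Submodule R B) := by
      apply hker
      rw [map_sub, ht, (hP _).mp hβP, sub_self]
    have h2 : b = t (β' b) + (b - t (β' b)) := by abel
    rw [h2]
    exact Submodule.add_mem_sup (Submodule.mem_map_of_mem hβP) h1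
  have hβinj : Function.Injective β' := by
    rw [injective_iff_map_eq_zero]
    intro b hb
    obtain ⟨c, hc, rfl⟩ := htsurj (Submodule.mem_top : b ∈ ⊤)
    have : c = 0 := by rw [← (hP c).mp hc, ← ht, hb]
    rw [this, map_zero]
  have hex' : ∀ a, ∃ b, β' b = α' a := fun a => hPle ⟨_, rfl⟩
  choose φf hφf using hex'
  have hone : φf 1 = 1 := by
    apply hβinj
    rw [hφf, hα', hβ', op_one]
  have hmul : ∀ a a', φf (a * a') = φf a * φf a' := by
    intro a a'
    apply hβinj
    have e1 : β' (φf a * φf a') = ((1 : A) ⊗ₜ[R] op (φf a')) * β' (φf a) := by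
      rw [hβ', hβ', ← mul_assoc, Algebra.TensorProduct.tmul_mul_tmul, one_mul, op_mul]
    have e2 : ((1 : A) ⊗ₜ[R] op (φf a')) * (a ⊗ₜ[R] (1 : Bᵐᵒᵖ)) =
        (a ⊗ₜ[R] (1 : Bᵐᵒᵖ)) * ((1 : A) ⊗ₜ[R] op (φf a')) := by
      rw [Algebra.TensorProduct.tmul_mul_tmul, Algebra.TensorProduct.tmul_mul_tmul, one_mul,
        mul_one, one_mul, mul_one]
    rw [e1, hφf, hφf, hα', hα', ← mul_assoc, e2, mul_assoc, ← hβ', hφf, hα', ← mul_assoc,
      Algebra.TensorProduct.tmul_mul_tmul, one_mul]
  let φl : A →ₗ[R] B :=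
    { toFun := φf
      map_add' := fun a a' => by
        apply hβinj
        rw [map_add, hφf, hφf, hφf, map_add]
      map_smul' := fun r a => by
        apply hβinj
        rw [RingHom.id_apply, map_smul, hφf, hφf, map_smul] }
  let φ : A →ₐ[R] B := AlgHom.ofLinearMap φl hone hmul
  have hφ : ∀ a, e₀ ((1 : ResidueField R) ⊗ₜ[R] a) = (1 : ResidueField R) ⊗ₜ[R] φ a := by
    intro a
    rw [← hσα, ← hφf, hσβ]
    rfl
  have hAB : Module.finrank R A = Module.finrank R B := by
    have hA : Module.finrank (ResidueField R) (ResidueField R ⊗[R] A) = Module.finrank R A :=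
      Module.finrank_baseChange
    have hB : Module.finrank (ResidueField R) (ResidueField R ⊗[R] B) = Module.finrank R B :=
      Module.finrank_baseChange
    rw [← hA, ← hB]
    exact LinearEquiv.finrank_eq e₀.toLinearEquiv
  have hsurjφ : Function.Surjective φ.toLinearMap := by
    apply Groth.Agent.H96.EtSub.surjective_of_mod
    intro n
    obtain ⟨y, hy⟩ := e₀.surjective ((1 : ResidueField R) ⊗ₜ[R] n)
    obtain ⟨a, rfl⟩ := Groth.Agent.H96.EtSub.exists_one_tmul_eq y
    exact ⟨a, by rw [← hy, hφ]; rfl⟩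
  have hbij : Function.Bijective φ :=
    Groth.Agent.H96.EtSub.bijective_of_surjective_of_finrank_eq φ.toLinearMap hAB hsurjφ
  exact ⟨AlgEquiv.ofBijective φ hbij, fun a => by rw [hφ]; rfl⟩

end Main

end Groth.Agent.H96.HensAz
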