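import Mathlib

/-!
# Descending a hermitian congruence along a localisation (module sense)
-/

set_option autoImplicit false
universe u v w

open scoped TensorProduct

namespace Groth.Agent.H96.HermDescent

section Common

variable {B : Type*} [CommRing B] (M : Submonoid B) {D₀ D : Type*} [AddCommGroup D₀]
  [AddCommGroup D] [Module B D₀] [Module B D] (φ : D₀ →ₗ[B] D) [IsLocalizedModule M φ]

theorem exists_common {ι : Type*} [Finite ι] (y : ι → D) :
    ∃ m ∈ M, ∀ i, ∃ x : D₀, φ x = m • y i := by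
  classical
  cases nonempty_fintype ι
  choose x hx using fun i => IsLocalizedModule.surj M φ (y i)
  refine ⟨∏ i, ((x i).2 : B), Submonoid.prod_mem _ (fun i _ => (x i).2.2), fun i => ?_⟩
  refine ⟨(∏ j ∈ Finset.univ.erase i, ((x j).2 : B)) • (x i).1, ?_⟩
  rw [map_smul, ← hx i, ← Finset.mul_prod_erase Finset.univ _ (Finset.mem_univ i), mul_comm,
    mul_smul]
  rfl

theorem exists_common_eq {ι : Type*} [Finite ι] (x y : ι → D₀) (h : ∀ i, φ (x i) = φ (y i)) :
    ∃ m ∈ M, ∀ i, m • x i = m • y i := by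
  classical
  cases nonempty_fintype ι
  choose c hc using fun i => IsLocalizedModule.exists_of_eq (S := M) (f := φ) (h i)
  refine ⟨∏ i, (c i : B), Submonoid.prod_mem _ (fun i _ => (c i).2), fun i => ?_⟩
  rw [← Finset.mul_prod_erase Finset.univ _ (Finset.mem_univ i), mul_comm, mul_smul, mul_smul]
  congr 1
  exact hc i

end Common

section Desc

variable {B : Type*} [CommRing B] (M : Submonoid B) {D₀ D : Type*} [CommRing D₀] [CommRing D]
  [Algebra B D₀] [Algebra B D] (τ₀ : D₀ →ₐ[B] D₀) (τ : D →ₐ[B] D) (φ : D₀ →ₐ[B] D)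
  (hφτ : φ.comp τ₀ = τ.comp φ) [IsLocalizedModule M φ.toLinearMap] {n : ℕ}
  (h₀ h₀' : Matrix (Fin n) (Fin n) D₀)

include hφτ in
theorem desc (v : Matrix (Fin n) (Fin n) D) (hv : IsUnit v)
    (heq : (v.map τ).transpose * h₀.map φ * v = h₀'.map φ) :
    ∃ m ∈ M, ∀ (D' : Type w) [CommRing D'] [Algebra B D'] (τ' : D' →ₐ[B] D') (ρ : D₀ →ₐ[B] D'),
      ρ.comp τ₀ = τ'.comp ρ → IsUnit (algebraMap B D' m) →
      ∃ v' : Matrix (Fin n) (Fin n) D', IsUnit v' ∧
        (v'.map τ').transpose * h₀.map ρ * v' = h₀'.map ρ := by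
  obtain ⟨w, hvw, hwv⟩ : ∃ w, v * w = 1 ∧ w * v = 1 := by
    obtain ⟨u, rfl⟩ := hv
    exact ⟨↑u⁻¹, u.mul_inv, u.inv_mul⟩
  -- common denominators
  obtain ⟨m, hm, hVW⟩ := exists_common M φ.toLinearMap
    (Sum.elim (fun ij : Fin n × Fin n => v ij.1 ij.2) (fun ij : Fin n × Fin n => w ij.1 ij.2))
  choose X hX using hVW
  let V : Matrix (Fin n) (Fin n) D₀ := Matrix.of fun i j => X (Sum.inl (i, j))
  let W : Matrix (Fin n) (Fin n) D₀ := Matrix.of fun i j => X (Sum.inr (i, j))
  have hV : φ.mapMatrix V = m • v := by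
    ext i j
    exact hX (Sum.inl (i, j))
  have hW : φ.mapMatrix W = m • w := by
    ext i j
    exact hX (Sum.inr (i, j))
  have heq' : (τ.mapMatrix v).transpose * φ.mapMatrix h₀ * v = φ.mapMatrix h₀' := heq
  -- first relation
  have h1 : φ.mapMatrix (V * W) = φ.mapMatrix ((m * m) • (1 : Matrix (Fin n) (Fin n) D₀)) := by
    rw [map_mul, hV, hW, smul_mul_smul_comm, hvw, map_smul, map_one]
  obtain ⟨m₁, hm₁, hr1⟩ := exists_common_eq M φ.toLinearMap
    (fun ij : Fin n × Fin n => (V * W) ij.1 ij.2)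
    (fun ij : Fin n × Fin n => ((m * m) • (1 : Matrix (Fin n) (Fin n) D₀)) ij.1 ij.2)
    (fun ij => congrFun (congrFun h1 ij.1) ij.2)
  have hR1 : m₁ • (V * W) = m₁ • ((m * m) • (1 : Matrix (Fin n) (Fin n) D₀)) := by
    ext i j
    exact hr1 (i, j)
  -- second relation
  have hcomp : φ.mapMatrix (τ₀.mapMatrix V) = m • τ.mapMatrix v := by
    have : φ.mapMatrix (τ₀.mapMatrix V) = τ.mapMatrix (φ.mapMatrix V) := by
      ext i j
      exact DFunLike.congr_fun hφτ (V i j)
    rw [this, hV, map_smul]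
  have h2 : φ.mapMatrix ((τ₀.mapMatrix V).transpose * h₀ * V) =
      φ.mapMatrix ((m * m) • h₀') := by
    rw [map_mul, map_mul, hV, map_smul, ← heq']
    have : φ.mapMatrix (τ₀.mapMatrix V).transpose = (φ.mapMatrix (τ₀.mapMatrix V)).transpose := rfl
    rw [this, hcomp, Matrix.transpose_smul, Matrix.smul_mul, Matrix.smul_mul, Matrix.mul_smul,
      smul_smul]
  obtain ⟨m₂, hm₂, hr2⟩ := exists_common_eq M φ.toLinearMap
    (fun ij : Fin n × Fin n => ((τ₀.mapMatrix V).transpose * h₀ * V) ij.1 ij.2)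
    (fun ij : Fin n × Fin n => ((m * m) • h₀') ij.1 ij.2)
    (fun ij => congrFun (congrFun h2 ij.1) ij.2)
  have hR2 : m₂ • ((τ₀.mapMatrix V).transpose * h₀ * V) = m₂ • ((m * m) • h₀') := by
    ext i j
    exact hr2 (i, j)
  refine ⟨m * m₁ * m₂, Submonoid.mul_mem _ (Submonoid.mul_mem _ hm hm₁) hm₂, ?_⟩
  intro D' _ _ τ' ρ hρτ hunit
  rw [map_mul, map_mul] at hunit
  have hu₂ : IsUnit (algebraMap B D' m₂) := isUnit_of_mul_isUnit_right hunit
  have hu01 := isUnit_of_mul_isUnit_left hunit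
  have hu₁ : IsUnit (algebraMap B D' m₁) := isUnit_of_mul_isUnit_right hu01
  have hu : IsUnit (algebraMap B D' m) := isUnit_of_mul_isUnit_left hu01
  have cancel : ∀ (a : B), IsUnit (algebraMap B D' a) → ∀ X Y : Matrix (Fin n) (Fin n) D',
      a • X = a • Y → X = Y := by
    intro a ha X Y hXY
    rw [← algebraMap_smul D' a X, ← algebraMap_smul D' a Y] at hXY
    exact (ha.smul_left_cancel).mp hXY
  obtain ⟨c, hc⟩ := hu.exists_left_inv
  -- c * am = 1
  set am := algebraMap B D' m with ham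
  have hτc : τ' c = c := by
    have h1 : τ' c * am = 1 := by
      have := congrArg τ' hc
      rwa [map_mul, map_one, ham, τ'.commutes] at this
    calc τ' c = τ' c * (c * am) := by rw [hc, mul_one]
      _ = (τ' c * am) * c := by ring
      _ = c := by rw [h1, one_mul]
  set V' := ρ.mapMatrix V with hV'
  set W' := ρ.mapMatrix W with hW'
  have hVW' : V' * W' = (m * m) • (1 : Matrix (Fin n) (Fin n) D') := by
    have := congrArg ρ.mapMatrix hR1
    rw [map_smul, map_smul, map_mul, map_smul, map_one] at this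
    exact cancel m₁ hu₁ _ _ this
  have hcm : ∀ X : Matrix (Fin n) (Fin n) D', (c * c) • ((m * m) • X) = X := by
    intro X
    rw [← algebraMap_smul D' (m * m) X, smul_smul, map_mul, ← ham]
    have : c * c * (am * am) = 1 := by
      calc c * c * (am * am) = (c * am) * (c * am) := by ring
        _ = 1 := by rw [hc, one_mul]
    rw [this, one_smul]
  have hinv : (c • V') * (c • W') = 1 := by
    rw [smul_mul_smul_comm, hVW', hcm]
  refine ⟨c • V', ⟨⟨c • V', c • W', hinv, mul_eq_one_comm.mp hinv⟩, rfl⟩, ?_⟩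
  have hmap : (c • V').map τ' = c • τ'.mapMatrix V' := by
    ext i j
    simp [hτc]
  have hτV' : τ'.mapMatrix V' = ρ.mapMatrix (τ₀.mapMatrix V) := by
    ext i j
    exact (DFunLike.congr_fun hρτ (V i j)).symm
  have hfin : (ρ.mapMatrix (τ₀.mapMatrix V)).transpose * ρ.mapMatrix h₀ * V' =
      (m * m) • ρ.mapMatrix h₀' := by
    have := congrArg ρ.mapMatrix hR2
    rw [map_smul, map_smul, map_mul, map_mul, map_smul] at this
    exact cancel m₂ hu₂ _ _ this
  rw [hmap, hτV', Matrix.transpose_smul, Matrix.smul_mul, Matrix.smul_mul, Matrix.mul_smul,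
    smul_smul]
  show (c * c) • ((ρ.mapMatrix (τ₀.mapMatrix V)).transpose * ρ.mapMatrix h₀ * V') =
    ρ.mapMatrix h₀'
  rw [hfin, hcm]

end Desc

end Groth.Agent.H96.HermDescent
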