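import Mathlib
import Groth.Agent.H3.HPair9

/-!
# Lifting a commutative Hopf algebra structure along a finite étale lift over a henselian local ring
-/

set_option autoImplicit false
set_option linter.style.haveILetI false
set_option linter.unusedSectionVars false
universe u

namespace Groth.Agent.H96.HopfLift

open TensorProduct Coalgebra

section Tools

variable (R : Type u) [CommRing R] [HenselianLocalRing R]

local notation "K" => IsLocalRing.ResidueField R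

variable (X Y : Type u) [CommRing X] [CommRing Y] [Algebra R X] [Algebra R Y]
  [Module.Finite R X] [Algebra.Etale R X] [Module.Finite R Y] [Algebra.Etale R Y]

theorem algHom_ext_of_tmul (f g : X →ₐ[R] Y)
    (h : ∀ x, (1 : K) ⊗ₜ[R] f x = (1 : K) ⊗ₜ[R] g x) : f = g := by
  have hmap : Algebra.TensorProduct.map (AlgHom.id K K) f =
      Algebra.TensorProduct.map (AlgHom.id K K) g := by
    apply Algebra.TensorProduct.ext'
    intro a x
    rw [Algebra.TensorProduct.map_tmul, Algebra.TensorProduct.map_tmul, AlgHom.id_apply]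
    have h1 : ∀ y : Y, (a : K) ⊗ₜ[R] y = ((a : K) ⊗ₜ[R] (1 : Y)) * ((1 : K) ⊗ₜ[R] y) := by
      intro y
      rw [Algebra.TensorProduct.tmul_mul_tmul, mul_one, one_mul]
    rw [h1 (f x), h1 (g x), h x]
  exact (Groth.Agent.H3.tensorProduct_map_bijective_of_henselianRing
    (IsLocalRing.maximalIdeal R) X Y).1 hmap

theorem exists_algHom_of_tmul (χ : K ⊗[R] X →ₐ[K] K ⊗[R] Y) :
    ∃ φ : X →ₐ[R] Y, ∀ x, (1 : K) ⊗ₜ[R] φ x = χ ((1 : K) ⊗ₜ[R] x) := by
  obtain ⟨φ, hφ⟩ := (Groth.Agent.H3.tensorProduct_map_bijective_of_henselianRing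
    (IsLocalRing.maximalIdeal R) X Y).2 χ
  refine ⟨φ, fun x => ?_⟩
  have := AlgHom.congr_fun hφ ((1 : K) ⊗ₜ[R] x)
  exact ((Algebra.TensorProduct.map_tmul (AlgHom.id K K) φ (1 : K) x).symm.trans this)

end Tools

section Dist

variable (R : Type u) [CommRing R] (K : Type u) [CommRing K] [Algebra R K]
variable (X Y : Type u) [CommRing X] [CommRing Y] [Algebra R X] [Algebra R Y]

/-- `K ⊗ (X ⊗ Y) ≃ (K ⊗ X) ⊗[K] (K ⊗ Y)` as algebras. -/
noncomputable def dist : K ⊗[R] (X ⊗[R] Y) ≃ₐ[K] (K ⊗[R] X) ⊗[K] (K ⊗[R] Y) :=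
  (Algebra.TensorProduct.assoc R R K K X Y).symm.trans
    (Algebra.TensorProduct.cancelBaseChange R K K (K ⊗[R] X) Y).symm

@[simp] lemma dist_tmul (s : K) (x : X) (y : Y) :
    dist R K X Y (s ⊗ₜ (x ⊗ₜ y)) = (s ⊗ₜ x) ⊗ₜ ((1 : K) ⊗ₜ y) := by
  simp [dist]

end Dist

section Lift

variable (R : Type u) [CommRing R] [HenselianLocalRing R]

local notation "𝕜" => IsLocalRing.ResidueField R

variable (E : Type u) [CommRing E] [Algebra R E] [Module.Finite R E] [Algebra.Etale R E]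
variable (D₀ : Type u) [CommRing D₀] [HopfAlgebra (IsLocalRing.ResidueField R) D₀]
variable (θ : IsLocalRing.ResidueField R ⊗[R] E ≃ₐ[IsLocalRing.ResidueField R] D₀)

lemma etale_tensor (X Y : Type u) [CommRing X] [CommRing Y] [Algebra R X] [Algebra R Y]
    [Algebra.Etale R X] [Algebra.Etale R Y] : Algebra.Etale R (X ⊗[R] Y) :=
  Algebra.Etale.comp R X (X ⊗[R] Y)

/-- The identification of the reduction of `E ⊗ E`. -/
noncomputable def Θ₂ : 𝕜 ⊗[R] (E ⊗[R] E) ≃ₐ[𝕜] D₀ ⊗[𝕜] D₀ :=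
  (dist R 𝕜 E E).trans (Algebra.TensorProduct.congr θ θ)

/-- The identification of the reduction of `E ⊗ (E ⊗ E)`. -/
noncomputable def Θ₃ : 𝕜 ⊗[R] (E ⊗[R] (E ⊗[R] E)) ≃ₐ[𝕜] D₀ ⊗[𝕜] (D₀ ⊗[𝕜] D₀) :=
  (dist R 𝕜 E (E ⊗[R] E)).trans (Algebra.TensorProduct.congr θ (Θ₂ R E D₀ θ))

/-- reduction map on `E`. -/
noncomputable def j₁ : E →+* D₀ :=
  (θ : 𝕜 ⊗[R] E →+* D₀).comp
    (Algebra.TensorProduct.includeRight : E →ₐ[R] 𝕜 ⊗[R] E).toRingHom

/-- reduction map on `E ⊗ E`. -/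
noncomputable def j₂ : E ⊗[R] E →+* D₀ ⊗[𝕜] D₀ :=
  (Θ₂ R E D₀ θ : 𝕜 ⊗[R] (E ⊗[R] E) →+* D₀ ⊗[𝕜] D₀).comp
    (Algebra.TensorProduct.includeRight : E ⊗[R] E →ₐ[R] 𝕜 ⊗[R] (E ⊗[R] E)).toRingHom

/-- reduction map on `E ⊗ (E ⊗ E)`. -/
noncomputable def j₃ : E ⊗[R] (E ⊗[R] E) →+* D₀ ⊗[𝕜] (D₀ ⊗[𝕜] D₀) :=
  (Θ₃ R E D₀ θ : 𝕜 ⊗[R] (E ⊗[R] (E ⊗[R] E)) →+* D₀ ⊗[𝕜] (D₀ ⊗[𝕜] D₀)).comp
    (Algebra.TensorProduct.includeRight :
      E ⊗[R] (E ⊗[R] E) →ₐ[R] 𝕜 ⊗[R] (E ⊗[R] (E ⊗[R] E))).toRingHom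

lemma j₁_apply (x : E) : j₁ R E D₀ θ x = θ ((1 : 𝕜) ⊗ₜ[R] x) := rfl

lemma j₂_apply (t : E ⊗[R] E) : j₂ R E D₀ θ t = Θ₂ R E D₀ θ ((1 : 𝕜) ⊗ₜ[R] t) := rfl

lemma j₃_apply (t : E ⊗[R] (E ⊗[R] E)) :
    j₃ R E D₀ θ t = Θ₃ R E D₀ θ ((1 : 𝕜) ⊗ₜ[R] t) := rfl

lemma j₂_tmul (a b : E) : j₂ R E D₀ θ (a ⊗ₜ b) = j₁ R E D₀ θ a ⊗ₜ j₁ R E D₀ θ b := by
  rw [j₂_apply, Θ₂, AlgEquiv.trans_apply, dist_tmul, Algebra.TensorProduct.congr_apply,
    Algebra.TensorProduct.map_tmul]
  rfl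

lemma j₃_tmul (a : E) (t : E ⊗[R] E) :
    j₃ R E D₀ θ (a ⊗ₜ t) = j₁ R E D₀ θ a ⊗ₜ j₂ R E D₀ θ t := by
  rw [j₃_apply, Θ₃, AlgEquiv.trans_apply, dist_tmul, Algebra.TensorProduct.congr_apply,
    Algebra.TensorProduct.map_tmul]
  rfl

lemma j₁_algebraMap (r : R) :
    j₁ R E D₀ θ (algebraMap R E r) = algebraMap 𝕜 D₀ (algebraMap R 𝕜 r) := by
  rw [j₁_apply]
  have : (1 : 𝕜) ⊗ₜ[R] algebraMap R E r = algebraMap 𝕜 (𝕜 ⊗[R] E) (algebraMap R 𝕜 r) := by
    rw [Algebra.TensorProduct.algebraMap_apply, Algebra.algebraMap_self, RingHom.id_apply,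
      Algebra.algebraMap_eq_smul_one, Algebra.algebraMap_eq_smul_one, smul_tmul]
  rw [this, AlgEquiv.commutes]

lemma j₁_smul (r : R) (x : E) :
    j₁ R E D₀ θ (r • x) = algebraMap R 𝕜 r • j₁ R E D₀ θ x := by
  rw [Algebra.smul_def, map_mul, j₁_algebraMap, Algebra.smul_def]

theorem exists_comul : ∃ Δ : E →ₐ[R] E ⊗[R] E, ∀ e,
    j₂ R E D₀ θ (Δ e) = comul (R := 𝕜) (j₁ R E D₀ θ e) := by
  haveI : Algebra.Etale R (E ⊗[R] E) := etale_tensor R E E
  let χ : 𝕜 ⊗[R] E →ₐ[𝕜] 𝕜 ⊗[R] (E ⊗[R] E) :=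
    ((Θ₂ R E D₀ θ).symm : _ →ₐ[𝕜] _).comp
      ((Bialgebra.comulAlgHom 𝕜 D₀).comp (θ : _ →ₐ[𝕜] _))
  obtain ⟨Δ, hΔ⟩ := exists_algHom_of_tmul R E (E ⊗[R] E) χ
  refine ⟨Δ, fun e => ?_⟩
  rw [j₂_apply, hΔ e]
  change Θ₂ R E D₀ θ ((Θ₂ R E D₀ θ).symm (comul (R := 𝕜) (θ ((1 : 𝕜) ⊗ₜ[R] e)))) = _
  rw [AlgEquiv.apply_symm_apply]
  rfl

theorem exists_counit : ∃ ε : E →ₐ[R] R, ∀ e,
    algebraMap R 𝕜 (ε e) = counit (R := 𝕜) (j₁ R E D₀ θ e) := by
  let χ : 𝕜 ⊗[R] E →ₐ[𝕜] 𝕜 ⊗[R] R :=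
    ((Algebra.TensorProduct.rid R 𝕜 𝕜).symm : _ →ₐ[𝕜] _).comp
      ((Bialgebra.counitAlgHom 𝕜 D₀).comp (θ : _ →ₐ[𝕜] _))
  obtain ⟨ε, hε⟩ := exists_algHom_of_tmul R E R χ
  refine ⟨ε, fun e => ?_⟩
  have h1 := congrArg (Algebra.TensorProduct.rid R 𝕜 𝕜) (hε e)
  change _ = Algebra.TensorProduct.rid R 𝕜 𝕜 ((Algebra.TensorProduct.rid R 𝕜 𝕜).symm
    (counit (R := 𝕜) (θ ((1 : 𝕜) ⊗ₜ[R] e)))) at h1
  rw [AlgEquiv.apply_symm_apply, Algebra.TensorProduct.rid_tmul] at h1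
  rw [Algebra.algebraMap_eq_smul_one, h1]
  rfl

theorem exists_antipode : ∃ S : E →ₐ[R] E, ∀ e,
    j₁ R E D₀ θ (S e) = HopfAlgebra.antipode 𝕜 (j₁ R E D₀ θ e) := by
  let χ : 𝕜 ⊗[R] E →ₐ[𝕜] 𝕜 ⊗[R] E :=
    (θ.symm : _ →ₐ[𝕜] _).comp
      ((HopfAlgebra.antipodeAlgHom 𝕜 D₀).comp (θ : _ →ₐ[𝕜] _))
  obtain ⟨S, hS⟩ := exists_algHom_of_tmul R E E χ
  refine ⟨S, fun e => ?_⟩
  rw [j₁_apply, hS e]
  change θ (θ.symm (HopfAlgebra.antipode 𝕜 (θ ((1 : 𝕜) ⊗ₜ[R] e)))) = _
  rw [AlgEquiv.apply_symm_apply]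
  rfl

/-- The lifted comultiplication. -/
noncomputable def liftComul : E →ₐ[R] E ⊗[R] E := (exists_comul R E D₀ θ).choose

lemma liftComul_spec (e : E) :
    j₂ R E D₀ θ (liftComul R E D₀ θ e) = comul (R := 𝕜) (j₁ R E D₀ θ e) :=
  (exists_comul R E D₀ θ).choose_spec e

/-- The lifted counit. -/
noncomputable def liftCounit : E →ₐ[R] R := (exists_counit R E D₀ θ).choose

lemma liftCounit_spec (e : E) :
    algebraMap R 𝕜 (liftCounit R E D₀ θ e) = counit (R := 𝕜) (j₁ R E D₀ θ e) :=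
  (exists_counit R E D₀ θ).choose_spec e

/-- The lifted antipode. -/
noncomputable def liftAntipode : E →ₐ[R] E := (exists_antipode R E D₀ θ).choose

lemma liftAntipode_spec (e : E) :
    j₁ R E D₀ θ (liftAntipode R E D₀ θ e) = HopfAlgebra.antipode 𝕜 (j₁ R E D₀ θ e) :=
  (exists_antipode R E D₀ θ).choose_spec e

section Transfer

variable (Δ : E →ₐ[R] E ⊗[R] E)
  (hΔ : ∀ e, j₂ R E D₀ θ (Δ e) = comul (R := IsLocalRing.ResidueField R) (j₁ R E D₀ θ e))
variable (ε : E →ₐ[R] R)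
  (hε : ∀ e, algebraMap R (IsLocalRing.ResidueField R) (ε e) =
    counit (R := IsLocalRing.ResidueField R) (j₁ R E D₀ θ e))
variable (S : E →ₐ[R] E)
  (hS : ∀ e, j₁ R E D₀ θ (S e) =
    HopfAlgebra.antipode (IsLocalRing.ResidueField R) (j₁ R E D₀ θ e))

include hΔ in
lemma j₃_map_id (t : E ⊗[R] E) :
    j₃ R E D₀ θ (Algebra.TensorProduct.map (AlgHom.id R E) Δ t) =
      (comul (R := 𝕜) (A := D₀)).lTensor D₀ (j₂ R E D₀ θ t) := by
  induction t using TensorProduct.induction_on with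
  | zero => simp
  | tmul a b =>
    rw [Algebra.TensorProduct.map_tmul, AlgHom.id_apply, j₃_tmul, hΔ, j₂_tmul,
      LinearMap.lTensor_tmul]
  | add x y hx hy => rw [map_add, map_add, hx, hy, map_add, map_add]

lemma j₃_assoc_tmul (s : E ⊗[R] E) (b : E) :
    j₃ R E D₀ θ (Algebra.TensorProduct.assoc R R R E E E (s ⊗ₜ b)) =
      TensorProduct.assoc 𝕜 D₀ D₀ D₀ (j₂ R E D₀ θ s ⊗ₜ j₁ R E D₀ θ b) := by
  induction s using TensorProduct.induction_on with
  | zero => simp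
  | tmul a a' =>
    rw [Algebra.TensorProduct.assoc_tmul, j₃_tmul, j₂_tmul, j₂_tmul, TensorProduct.assoc_tmul]
  | add x y hx hy => rw [add_tmul, map_add, map_add, hx, hy, map_add, add_tmul, map_add]

include hΔ in
lemma j₃_assoc_map (t : E ⊗[R] E) :
    j₃ R E D₀ θ (Algebra.TensorProduct.assoc R R R E E E
      (Algebra.TensorProduct.map Δ (AlgHom.id R E) t)) =
      TensorProduct.assoc 𝕜 D₀ D₀ D₀
        ((comul (R := 𝕜) (A := D₀)).rTensor D₀ (j₂ R E D₀ θ t)) := by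
  induction t using TensorProduct.induction_on with
  | zero => simp
  | tmul a b =>
    rw [Algebra.TensorProduct.map_tmul, AlgHom.id_apply, j₃_assoc_tmul, hΔ, j₂_tmul,
      LinearMap.rTensor_tmul]
  | add x y hx hy => rw [map_add, map_add, map_add, hx, hy, map_add, map_add, map_add]

include hΔ in
theorem lift_coassoc :
    (Algebra.TensorProduct.assoc R R R E E E).toAlgHom.comp
      ((Algebra.TensorProduct.map Δ (AlgHom.id R E)).comp Δ) =
    (Algebra.TensorProduct.map (AlgHom.id R E) Δ).comp Δ := by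
  haveI : Algebra.Etale R (E ⊗[R] E) := etale_tensor R E E
  haveI : Algebra.Etale R (E ⊗[R] (E ⊗[R] E)) := etale_tensor R E (E ⊗[R] E)
  apply algHom_ext_of_tmul R E (E ⊗[R] (E ⊗[R] E))
  intro e
  apply (Θ₃ R E D₀ θ).injective
  change j₃ R E D₀ θ (Algebra.TensorProduct.assoc R R R E E E
      (Algebra.TensorProduct.map Δ (AlgHom.id R E) (Δ e))) =
    j₃ R E D₀ θ (Algebra.TensorProduct.map (AlgHom.id R E) Δ (Δ e))
  rw [j₃_assoc_map R E D₀ θ Δ hΔ, j₃_map_id R E D₀ θ Δ hΔ, hΔ, Coalgebra.coassoc_apply]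

include hε in
lemma j₁_lid_map (t : E ⊗[R] E) :
    j₁ R E D₀ θ (Algebra.TensorProduct.lid R E
      (Algebra.TensorProduct.map ε (AlgHom.id R E) t)) =
      TensorProduct.lid 𝕜 D₀ ((counit (R := 𝕜) (A := D₀)).rTensor D₀ (j₂ R E D₀ θ t)) := by
  induction t using TensorProduct.induction_on with
  | zero => simp
  | tmul a b =>
    rw [Algebra.TensorProduct.map_tmul, AlgHom.id_apply, Algebra.TensorProduct.lid_tmul,
      j₁_smul, hε, j₂_tmul, LinearMap.rTensor_tmul, TensorProduct.lid_tmul]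
  | add x y hx hy => rw [map_add, map_add, map_add, hx, hy, map_add, map_add, map_add]

include hε in
lemma j₁_rid_map (t : E ⊗[R] E) :
    j₁ R E D₀ θ (Algebra.TensorProduct.rid R R E
      (Algebra.TensorProduct.map (AlgHom.id R E) ε t)) =
      TensorProduct.rid 𝕜 D₀ ((counit (R := 𝕜) (A := D₀)).lTensor D₀ (j₂ R E D₀ θ t)) := by
  induction t using TensorProduct.induction_on with
  | zero => simp
  | tmul a b =>
    rw [Algebra.TensorProduct.map_tmul, AlgHom.id_apply, Algebra.TensorProduct.rid_tmul,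
      j₁_smul, hε, j₂_tmul, LinearMap.lTensor_tmul, TensorProduct.rid_tmul]
  | add x y hx hy => rw [map_add, map_add, map_add, hx, hy, map_add, map_add, map_add]

include hΔ hε in
theorem lift_rTensor :
    (Algebra.TensorProduct.map ε (AlgHom.id R E)).comp Δ =
      (Algebra.TensorProduct.lid R E).symm := by
  have hL : ((Algebra.TensorProduct.lid R E : R ⊗[R] E →ₐ[R] E)).comp
      ((Algebra.TensorProduct.map ε (AlgHom.id R E)).comp Δ) = AlgHom.id R E := by
    apply algHom_ext_of_tmul R E E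
    intro e
    apply θ.injective
    change j₁ R E D₀ θ (Algebra.TensorProduct.lid R E
      (Algebra.TensorProduct.map ε (AlgHom.id R E) (Δ e))) = j₁ R E D₀ θ e
    rw [j₁_lid_map R E D₀ θ ε hε, hΔ, Coalgebra.rTensor_counit_comul, TensorProduct.lid_tmul,
      one_smul]
  apply AlgHom.ext
  intro e
  have := AlgHom.congr_fun hL e
  change Algebra.TensorProduct.lid R E
    (Algebra.TensorProduct.map ε (AlgHom.id R E) (Δ e)) = e at this
  change Algebra.TensorProduct.map ε (AlgHom.id R E) (Δ e) =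
    (Algebra.TensorProduct.lid R E).symm e
  exact ((Algebra.TensorProduct.lid R E).eq_symm_apply).mpr this

include hΔ hε in
theorem lift_lTensor :
    (Algebra.TensorProduct.map (AlgHom.id R E) ε).comp Δ =
      (Algebra.TensorProduct.rid R R E).symm := by
  have hL : ((Algebra.TensorProduct.rid R R E : E ⊗[R] R →ₐ[R] E)).comp
      ((Algebra.TensorProduct.map (AlgHom.id R E) ε).comp Δ) = AlgHom.id R E := by
    apply algHom_ext_of_tmul R E E
    intro e
    apply θ.injective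
    change j₁ R E D₀ θ (Algebra.TensorProduct.rid R R E
      (Algebra.TensorProduct.map (AlgHom.id R E) ε (Δ e))) = j₁ R E D₀ θ e
    rw [j₁_rid_map R E D₀ θ ε hε, hΔ, Coalgebra.lTensor_counit_comul, TensorProduct.rid_tmul,
      one_smul]
  apply AlgHom.ext
  intro e
  have := AlgHom.congr_fun hL e
  change Algebra.TensorProduct.rid R R E
    (Algebra.TensorProduct.map (AlgHom.id R E) ε (Δ e)) = e at this
  change Algebra.TensorProduct.map (AlgHom.id R E) ε (Δ e) =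
    (Algebra.TensorProduct.rid R R E).symm e
  exact ((Algebra.TensorProduct.rid R R E).eq_symm_apply).mpr this

include hS in
lemma j₁_lift_antipode_id (t : E ⊗[R] E) :
    j₁ R E D₀ θ (Algebra.TensorProduct.lift S (AlgHom.id R E) (fun _ _ => Commute.all _ _) t) =
      LinearMap.mul' 𝕜 D₀ ((HopfAlgebra.antipode 𝕜 (A := D₀)).rTensor D₀ (j₂ R E D₀ θ t)) := by
  induction t using TensorProduct.induction_on with
  | zero => simp
  | tmul a b =>
    rw [Algebra.TensorProduct.lift_tmul, AlgHom.id_apply, map_mul, hS, j₂_tmul,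
      LinearMap.rTensor_tmul, LinearMap.mul'_apply]
  | add x y hx hy => rw [map_add, map_add, hx, hy, map_add, map_add, map_add]

include hS in
lemma j₁_lift_id_antipode (t : E ⊗[R] E) :
    j₁ R E D₀ θ (Algebra.TensorProduct.lift (AlgHom.id R E) S (fun _ _ => Commute.all _ _) t) =
      LinearMap.mul' 𝕜 D₀ ((HopfAlgebra.antipode 𝕜 (A := D₀)).lTensor D₀ (j₂ R E D₀ θ t)) := by
  induction t using TensorProduct.induction_on with
  | zero => simp
  | tmul a b =>
    rw [Algebra.TensorProduct.lift_tmul, AlgHom.id_apply, map_mul, hS, j₂_tmul,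
      LinearMap.lTensor_tmul, LinearMap.mul'_apply]
  | add x y hx hy => rw [map_add, map_add, hx, hy, map_add, map_add, map_add]

include hΔ hε hS in
theorem lift_antipode_left :
    (Algebra.TensorProduct.lift S (AlgHom.id R E) (fun _ _ => Commute.all _ _)).comp Δ =
      (Algebra.ofId R E).comp ε := by
  apply algHom_ext_of_tmul R E E
  intro e
  apply θ.injective
  change j₁ R E D₀ θ (Algebra.TensorProduct.lift S (AlgHom.id R E)
    (fun _ _ => Commute.all _ _) (Δ e)) = j₁ R E D₀ θ (algebraMap R E (ε e))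
  rw [j₁_lift_antipode_id R E D₀ θ S hS, hΔ, HopfAlgebra.mul_antipode_rTensor_comul_apply,
    j₁_algebraMap, hε]

include hΔ hε hS in
theorem lift_antipode_right :
    (Algebra.TensorProduct.lift (AlgHom.id R E) S (fun _ _ => Commute.all _ _)).comp Δ =
      (Algebra.ofId R E).comp ε := by
  apply algHom_ext_of_tmul R E E
  intro e
  apply θ.injective
  change j₁ R E D₀ θ (Algebra.TensorProduct.lift (AlgHom.id R E) S
    (fun _ _ => Commute.all _ _) (Δ e)) = j₁ R E D₀ θ (algebraMap R E (ε e))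
  rw [j₁_lift_id_antipode R E D₀ θ S hS, hΔ, HopfAlgebra.mul_antipode_lTensor_comul_apply,
    j₁_algebraMap, hε]

lemma j₂_comm (t : E ⊗[R] E) :
    j₂ R E D₀ θ (TensorProduct.comm R E E t) = TensorProduct.comm 𝕜 D₀ D₀ (j₂ R E D₀ θ t) := by
  induction t using TensorProduct.induction_on with
  | zero => simp
  | tmul a b => rw [TensorProduct.comm_tmul, j₂_tmul, j₂_tmul, TensorProduct.comm_tmul]
  | add x y hx hy => rw [map_add, map_add, hx, hy, map_add, map_add]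

include hΔ in
theorem lift_comm [IsCocomm 𝕜 D₀] (e : E) : TensorProduct.comm R E E (Δ e) = Δ e := by
  haveI : Algebra.Etale R (E ⊗[R] E) := etale_tensor R E E
  have h : (Algebra.TensorProduct.comm R E E : E ⊗[R] E →ₐ[R] E ⊗[R] E).comp Δ = Δ := by
    apply algHom_ext_of_tmul R E (E ⊗[R] E)
    intro x
    apply (Θ₂ R E D₀ θ).injective
    change j₂ R E D₀ θ (TensorProduct.comm R E E (Δ x)) = j₂ R E D₀ θ (Δ x)
    rw [j₂_comm, hΔ, Coalgebra.comm_comul]
  exact AlgHom.congr_fun h e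

end Transfer

/-- The lifted bialgebra structure. -/
@[reducible] noncomputable def liftBialgebra : Bialgebra R E :=
  Bialgebra.ofAlgHom (liftComul R E D₀ θ) (liftCounit R E D₀ θ)
    (lift_coassoc R E D₀ θ _ (liftComul_spec R E D₀ θ))
    (lift_rTensor R E D₀ θ _ (liftComul_spec R E D₀ θ) _ (liftCounit_spec R E D₀ θ))
    (lift_lTensor R E D₀ θ _ (liftComul_spec R E D₀ θ) _ (liftCounit_spec R E D₀ θ))

/-- The lifted Hopf algebra structure. -/
@[reducible] noncomputable def liftHopf : HopfAlgebra R E :=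
  letI := liftBialgebra R E D₀ θ
  HopfAlgebra.ofAlgHom (liftAntipode R E D₀ θ)
    (lift_antipode_left R E D₀ θ _ (liftComul_spec R E D₀ θ) _ (liftCounit_spec R E D₀ θ) _
      (liftAntipode_spec R E D₀ θ))
    (lift_antipode_right R E D₀ θ _ (liftComul_spec R E D₀ θ) _ (liftCounit_spec R E D₀ θ) _
      (liftAntipode_spec R E D₀ θ))

theorem lift_isCocomm [IsCocomm 𝕜 D₀] :
    letI := liftHopf R E D₀ θ
    IsCocomm R E := by
  letI := liftHopf R E D₀ θ
  constructor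
  apply LinearMap.ext
  intro e
  exact lift_comm R E D₀ θ _ (liftComul_spec R E D₀ θ) e

end Lift

section BaseChangeComul

variable (R : Type u) [CommRing R] (S : Type u) [CommRing S] [Algebra R S]
variable (B : Type u) [CommRing B] [Bialgebra R B]

lemma ttt_eq_dist (t : B ⊗[R] B) :
    AlgebraTensorModule.tensorTensorTensorComm R S R S S S B B (((1 : S) ⊗ₜ[S] (1 : S)) ⊗ₜ[R] t) =
      dist R S B B ((1 : S) ⊗ₜ[R] t) := by
  induction t using TensorProduct.induction_on with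
  | zero => simp
  | tmul x y => simp
  | add x y hx hy => simp only [tmul_add, map_add, hx, hy]

lemma comul_one_tmul (b : B) :
    comul (R := S) ((1 : S) ⊗ₜ[R] b) = dist R S B B ((1 : S) ⊗ₜ[R] comul (R := R) b) := by
  rw [TensorProduct.comul_tmul, CommSemiring.comul_apply, ttt_eq_dist]

end BaseChangeComul

section Equiv

variable (R : Type u) [CommRing R] [HenselianLocalRing R]

local notation "𝕜" => IsLocalRing.ResidueField R

variable (E : Type u) [CommRing E] [Algebra R E] [Module.Finite R E] [Algebra.Etale R E]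
variable (D₀ : Type u) [CommRing D₀] [HopfAlgebra (IsLocalRing.ResidueField R) D₀]
variable (θ : IsLocalRing.ResidueField R ⊗[R] E ≃ₐ[IsLocalRing.ResidueField R] D₀)

/-- `θ` is a bialgebra isomorphism for the lifted structure. -/
noncomputable def liftEquiv :
    letI := liftHopf R E D₀ θ
    (𝕜 ⊗[R] E) ≃ₐc[𝕜] D₀ :=
  letI := liftHopf R E D₀ θ
  BialgEquiv.ofAlgEquiv θ
    (by
      apply AlgHom.ext
      intro z
      induction z using TensorProduct.induction_on with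
      | zero => simp
      | tmul a e =>
        have h1 : a ⊗ₜ[R] e = a • ((1 : 𝕜) ⊗ₜ[R] e) := by
          rw [smul_tmul', smul_eq_mul, mul_one]
        rw [h1, map_smul, map_smul]
        congr 1
        simp only [AlgHom.comp_apply, Bialgebra.counitAlgHom_apply]
        have h2 : counit (R := 𝕜) (θ ((1 : 𝕜) ⊗ₜ[R] e)) =
            algebraMap R 𝕜 (liftCounit R E D₀ θ e) := (liftCounit_spec R E D₀ θ e).symm
        change counit (R := 𝕜) (θ ((1 : 𝕜) ⊗ₜ[R] e)) = _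
        rw [h2, TensorProduct.counit_tmul, CommSemiring.counit_apply,
          Algebra.algebraMap_eq_smul_one]
        rfl
      | add x y hx hy => rw [map_add, map_add, hx, hy])
    (by
      apply AlgHom.ext
      intro z
      induction z using TensorProduct.induction_on with
      | zero => simp
      | tmul a e =>
        have h1 : a ⊗ₜ[R] e = a • ((1 : 𝕜) ⊗ₜ[R] e) := by
          rw [smul_tmul', smul_eq_mul, mul_one]
        rw [h1, map_smul, map_smul]
        congr 1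
        simp only [AlgHom.comp_apply, Bialgebra.comulAlgHom_apply]
        rw [comul_one_tmul]
        have h2 := liftComul_spec R E D₀ θ e
        rw [j₂_apply, Θ₂, AlgEquiv.trans_apply] at h2
        exact h2
      | add x y hx hy => rw [map_add, map_add, hx, hy])

end Equiv

end Groth.Agent.H96.HopfLift
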