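import Mathlib
import Groth.Prelude.Def_CartDual
import Groth.Prelude.Def_CartDual2

/-!
# Quotient Hopf algebras, unit components and invariant forms

* `algHom_eq_of_local`: two algebra maps from an unramified algebra to a local ring that agree
  modulo the maximal ideal are equal.
* `quotMap`: the bialgebra map induced on quotients by Hopf ideals.
* `invariant_of_unramified`: a bialgebra map from an unramified bialgebra `E` to `B` lands in the
  elements invariant under the unit component of `B`.
-/

set_option autoImplicit false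
set_option linter.style.haveILetI false
universe u

namespace Groth.Agent.H96.HopfQuot

open TensorProduct Coalgebra

section Idem

lemma idem_eq_zero_or_one {T : Type*} [CommRing T] [IsLocalRing T] {e : T}
    (he : IsIdempotentElem e) : e = 0 ∨ e = 1 := by
  have h0 : e * (1 - e) = 0 := by
    have : e * e = e := he
    rw [mul_sub, mul_one, this, sub_self]
  rcases IsLocalRing.isUnit_or_isUnit_one_sub_self e with h | h
  · right
    have := h.mul_right_eq_zero.mp h0
    exact (sub_eq_zero.mp this).symm
  · left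
    rw [mul_comm] at h0
    exact h.mul_right_eq_zero.mp h0

end Idem

section Unramified

/-- Two algebra maps from an unramified algebra into a local ring that agree modulo the maximal
ideal are equal. -/
theorem algHom_eq_of_local {R : Type*} [CommRing R] {E T : Type*} [CommRing E] [CommRing T]
    [Algebra R E] [Algebra R T] [Algebra.EssFiniteType R E] [Algebra.FormallyUnramified R E]
    [IsLocalRing T] (φ ψ : E →ₐ[R] T)
    (h : ∀ s, ψ s - φ s ∈ IsLocalRing.maximalIdeal T) : φ = ψ := by
  obtain ⟨tt, htt1, htt2⟩ :=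
    (Algebra.FormallyUnramified.iff_exists_tensorProduct (R := R) (S := E)).mp inferInstance
  set 𝔟 := IsLocalRing.maximalIdeal T with h𝔟
  let Ψ : E ⊗[R] E →ₐ[R] T := Algebra.TensorProduct.lift φ ψ (fun _ _ => Commute.all _ _)
  have hΨ : ∀ x y, Ψ (x ⊗ₜ[R] y) = φ x * ψ y := fun x y =>
    Algebra.TensorProduct.lift_tmul _ _ _ x y
  have hdiff : ∀ z : E ⊗[R] E, Ψ z - φ (Algebra.TensorProduct.lmul' R z) ∈ 𝔟 := by
    intro z
    induction z using TensorProduct.induction_on with
    | zero => simp
    | tmul x y =>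
      rw [hΨ, Algebra.TensorProduct.lmul'_apply_tmul, map_mul]
      have : φ x * ψ y - φ x * φ y = φ x * (ψ y - φ y) := by ring
      rw [this]; exact 𝔟.mul_mem_left _ (h y)
    | add z₁ z₂ h₁ h₂ =>
      rw [map_add, map_add, map_add]
      have : Ψ z₁ + Ψ z₂ - (φ (Algebra.TensorProduct.lmul' R z₁) +
          φ (Algebra.TensorProduct.lmul' R z₂)) =
          (Ψ z₁ - φ (Algebra.TensorProduct.lmul' R z₁)) +
          (Ψ z₂ - φ (Algebra.TensorProduct.lmul' R z₂)) := by ring
      rw [this]; exact 𝔟.add_mem h₁ h₂
  have hε : IsUnit (Ψ tt) := by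
    have h1 := hdiff tt
    rw [htt2, map_one] at h1
    by_contra hnu
    have h2 : Ψ tt ∈ 𝔟 := (IsLocalRing.mem_maximalIdeal _).mpr hnu
    have h3 : (1 : T) ∈ 𝔟 := by
      have : (1 : T) = Ψ tt - (Ψ tt - 1) := by ring
      rw [this]; exact 𝔟.sub_mem h2 h1
    exact (IsLocalRing.maximalIdeal.isMaximal T).ne_top ((Ideal.eq_top_iff_one _).mpr h3)
  ext s
  have h2 := congr_arg Ψ (htt1 s)
  rw [map_mul, map_zero, map_sub, hΨ, hΨ, map_one, map_one, one_mul, mul_one] at h2
  have := hε.mul_left_eq_zero.mp h2
  exact (sub_eq_zero.mp this).symm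

end Unramified

section QuotMap

variable {R : Type*} [CommRing R] {A B : Type*} [CommRing A] [CommRing B]
  [HopfAlgebra R A] [HopfAlgebra R B]

/-- The bialgebra map induced on quotients by Hopf ideals. -/
noncomputable def quotMap (ψ : B →ₐc[R] A) (I : Ideal B) (J : Ideal A) [I.IsHopfIdeal R]
    [J.IsHopfIdeal R] (h : I ≤ J.comap (ψ : B →ₐ[R] A)) : (B ⧸ I) →ₐc[R] (A ⧸ J) :=
  BialgHom.ofAlgHom (Ideal.quotientMapₐ J (ψ : B →ₐ[R] A) h)
    (by
      apply Ideal.Quotient.algHom_ext R
      apply AlgHom.ext
      intro b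
      simp only [AlgHom.comp_apply, Ideal.Quotient.mkₐ_eq_mk, Ideal.quotient_map_mkₐ,
        Bialgebra.counitAlgHom_apply]
      change counit (R := R) (Ideal.Quotient.mk J (ψ b)) = counit (R := R) (Ideal.Quotient.mk I b)
      rw [Bialgebra.Quotient.counit_mk, Bialgebra.Quotient.counit_mk]
      exact CoalgHomClass.counit_comp_apply ψ b)
    (by
      apply Ideal.Quotient.algHom_ext R
      apply AlgHom.ext
      intro b
      simp only [AlgHom.comp_apply, Ideal.Quotient.mkₐ_eq_mk, Ideal.quotient_map_mkₐ,
        Bialgebra.comulAlgHom_apply]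
      change Algebra.TensorProduct.map _ _ (comul (R := R) (Ideal.Quotient.mk I b)) =
        comul (R := R) (Ideal.Quotient.mk J (ψ b))
      rw [Bialgebra.Quotient.comul_mk, Bialgebra.Quotient.comul_mk,
        ← CoalgHomClass.map_comp_comul_apply ψ b]
      generalize comul (R := R) b = t
      induction t using TensorProduct.induction_on with
      | zero => simp
      | tmul x y => simp
      | add x y hx hy => simp only [map_add, hx, hy])

@[simp] lemma quotMap_mk (ψ : B →ₐc[R] A) (I : Ideal B) (J : Ideal A) [I.IsHopfIdeal R]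
    [J.IsHopfIdeal R] (h : I ≤ J.comap (ψ : B →ₐ[R] A)) (b : B) :
    quotMap ψ I J h (Ideal.Quotient.mk I b) = Ideal.Quotient.mk J (ψ b) := rfl

end QuotMap

section Invariant

variable {R : Type*} [CommRing R] [Nontrivial R] {E B : Type*} [CommRing E] [CommRing B]
  [Bialgebra R E] [Bialgebra R B]

/-- If `e'` is an idempotent of the bialgebra `B` with `ε(e') = 1` and `B/(1-e')` local, then for
every bialgebra map `φ` from an unramified bialgebra `E`, `e' * φ z = ε(z) • e'`. -/
theorem mul_map_eq_counit_smul [Algebra.EssFiniteType R E] [Algebra.FormallyUnramified R E]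
    (φ : E →ₐc[R] B) (e' : B) (he' : IsIdempotentElem e') (hε' : counit (R := R) e' = 1)
    [IsLocalRing (B ⧸ Ideal.span ({1 - e'} : Set B))] (z : E) :
    e' * φ z = counit (R := R) z • e' := by
  set I : Ideal B := Ideal.span ({1 - e'} : Set B) with hI
  have hker : ∀ a ∈ I, Bialgebra.counitAlgHom R B a = 0 := by
    intro a ha
    obtain ⟨c, rfl⟩ := Ideal.mem_span_singleton'.mp ha
    have h0 : Bialgebra.counitAlgHom R B e' = 1 := hε'
    rw [map_mul, map_sub, map_one, h0, sub_self, mul_zero]
  let εbar : (B ⧸ I) →ₐ[R] R := Ideal.Quotient.liftₐ I (Bialgebra.counitAlgHom R B) hker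
  let f₁ : E →ₐ[R] (B ⧸ I) := (Ideal.Quotient.mkₐ R I).comp (φ : E →ₐ[R] B)
  let f₂ : E →ₐ[R] (B ⧸ I) := (Algebra.ofId R (B ⧸ I)).comp (Bialgebra.counitAlgHom R E)
  have hf : f₁ = f₂ := by
    apply algHom_eq_of_local
    intro s
    rw [IsLocalRing.mem_maximalIdeal]
    intro hu
    have h1 : εbar (f₂ s - f₁ s) = 0 := by
      rw [map_sub]
      have h2 : εbar (f₂ s) = counit (R := R) s := by
        simp only [f₂, AlgHom.comp_apply, Algebra.ofId_apply, AlgHom.commutes,
          Bialgebra.counitAlgHom_apply]
        rfl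
      have h3 : εbar (f₁ s) = counit (R := R) s := by
        simp only [f₁, AlgHom.comp_apply, Ideal.Quotient.mkₐ_eq_mk]
        change εbar (Ideal.Quotient.mk I (φ s)) = _
        exact CoalgHomClass.counit_comp_apply φ s
      rw [h2, h3, sub_self]
    have h4 := hu.map εbar
    rw [h1] at h4
    exact not_isUnit_zero h4
  have h5 := AlgHom.congr_fun hf z
  simp only [f₁, f₂, AlgHom.comp_apply, Ideal.Quotient.mkₐ_eq_mk, Algebra.ofId_apply,
    Bialgebra.counitAlgHom_apply] at h5
  have h6 : φ z - algebraMap R B (counit (R := R) z) ∈ I := by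
    rw [← Ideal.Quotient.eq]
    exact h5
  obtain ⟨c, hc⟩ := Ideal.mem_span_singleton'.mp h6
  have h7 : e' * (φ z - algebraMap R B (counit (R := R) z)) = 0 := by
    rw [← hc]
    have : e' * e' = e' := he'
    calc e' * (c * (1 - e')) = c * (e' - e' * e') := by ring
      _ = 0 := by rw [this, sub_self, mul_zero]
  rw [mul_sub, sub_eq_zero] at h7
  rw [h7, Algebra.smul_def, mul_comm]

/-- Elements in the image of an unramified bialgebra are invariant under the unit component. -/
theorem invariant_of_unramified [Algebra.EssFiniteType R E] [Algebra.FormallyUnramified R E]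
    (φ : E →ₐc[R] B) (e' : B) (he' : IsIdempotentElem e') (hε' : counit (R := R) e' = 1)
    [IsLocalRing (B ⧸ Ideal.span ({1 - e'} : Set B))] (y : E) :
    LinearMap.lTensor B (LinearMap.mulLeft R e') (comul (R := R) (φ y)) = φ y ⊗ₜ[R] e' := by
  have hlin : (LinearMap.mulLeft R e') ∘ₗ (φ : E →ₗ[R] B) =
      (LinearMap.toSpanSingleton R B e') ∘ₗ (counit : E →ₗ[R] R) := by
    apply LinearMap.ext
    intro z
    simp only [LinearMap.coe_comp, Function.comp_apply, LinearMap.mulLeft_apply,
      LinearMap.toSpanSingleton_apply]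
    exact mul_map_eq_counit_smul φ e' he' hε' z
  rw [← CoalgHomClass.map_comp_comul_apply φ y]
  have h1 : ∀ t : E ⊗[R] E, LinearMap.lTensor B (LinearMap.mulLeft R e')
      (TensorProduct.map (φ : E →ₗ[R] B) (φ : E →ₗ[R] B) t) =
      TensorProduct.map (φ : E →ₗ[R] B) (LinearMap.toSpanSingleton R B e')
        (LinearMap.lTensor E (counit : E →ₗ[R] R) t) := by
    intro t
    induction t using TensorProduct.induction_on with
    | zero => simp
    | tmul a b =>
      simp only [TensorProduct.map_tmul, LinearMap.lTensor_tmul]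
      congr 1
      exact LinearMap.congr_fun hlin b
    | add a b ha hb => simp only [map_add, ha, hb]
  have h2 := h1 (comul (R := R) y)
  rw [Coalgebra.lTensor_counit_comul] at h2
  rw [TensorProduct.map_tmul, LinearMap.toSpanSingleton_apply, one_smul] at h2
  exact h2

end Invariant

end Groth.Agent.H96.HopfQuot
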