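import Mathlib
import Groth.Prelude.Def_CartDual
import Groth.Prelude.Def_CartDual2
import Groth.Agent.H96.HopfQuot

/-!
# Unit components and invariant elements: functoriality
-/

set_option autoImplicit false
set_option linter.style.haveILetI false
universe u

namespace Groth.Agent.H96.HopfQuot

open TensorProduct Coalgebra

section UnitComp

variable {R : Type*} [CommRing R] [Nontrivial R] {B : Type*} [CommRing B] [Bialgebra R B]

/-- If `f` is an idempotent with `ε f = 1` and `B/(1-f)` local (the unit component), any idempotent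
`g` with `ε g = 1` contains it: `f * g = f`. -/
theorem idem_mul_eq (f : B) (hf : IsIdempotentElem f) (hε : counit (R := R) f = 1)
    [IsLocalRing (B ⧸ Ideal.span ({1 - f} : Set B))] (g : B) (hg : IsIdempotentElem g)
    (hgε : counit (R := R) g = 1) : f * g = f := by
  set I : Ideal B := Ideal.span ({1 - f} : Set B) with hI
  have hid : IsIdempotentElem (Ideal.Quotient.mk I g) := by
    change Ideal.Quotient.mk I g * Ideal.Quotient.mk I g = Ideal.Quotient.mk I g
    rw [← map_mul, hg.eq]
  have hff : f * f = f := hf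
  rcases idem_eq_zero_or_one hid with h0 | h1
  · exfalso
    rw [Ideal.Quotient.eq_zero_iff_mem] at h0
    obtain ⟨c, hc⟩ := Ideal.mem_span_singleton'.mp h0
    have h2 : counit (R := R) g = 0 := by
      rw [← hc]
      have : counit (R := R) (c * (1 - f)) = Bialgebra.counitAlgHom R B (c * (1 - f)) := rfl
      rw [this, map_mul, map_sub, map_one]
      have h0 : Bialgebra.counitAlgHom R B f = 1 := hε
      rw [h0, sub_self, mul_zero]
    rw [hgε] at h2
    exact one_ne_zero h2
  · have h2 : g - 1 ∈ I := by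
      rw [← Ideal.Quotient.eq_zero_iff_mem, map_sub, map_one, h1, sub_self]
    obtain ⟨c, hc⟩ := Ideal.mem_span_singleton'.mp h2
    have h3 : f * (g - 1) = 0 := by
      rw [← hc]
      calc f * (c * (1 - f)) = c * (f - f * f) := by ring
        _ = 0 := by rw [hff, sub_self, mul_zero]
    rw [mul_sub, mul_one, sub_eq_zero] at h3
    exact h3

end UnitComp

section InvariantMap

variable {R : Type*} [CommRing R] [Nontrivial R] {B₁ B₂ : Type*} [CommRing B₁] [CommRing B₂]
  [Bialgebra R B₁] [Bialgebra R B₂]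

/-- Bialgebra maps send elements invariant under the unit component to such elements. -/
theorem invariant_map (T : B₁ →ₐc[R] B₂) (f₁ : B₁) (hf₁ : IsIdempotentElem f₁)
    (hε₁ : counit (R := R) f₁ = 1)
    (f₂ : B₂) (hf₂ : IsIdempotentElem f₂) (hε₂ : counit (R := R) f₂ = 1)
    [IsLocalRing (B₂ ⧸ Ideal.span ({1 - f₂} : Set B₂))]
    (x : B₁) (hx : LinearMap.lTensor B₁ (LinearMap.mulLeft R f₁) (comul (R := R) x) = x ⊗ₜ[R] f₁) :
    LinearMap.lTensor B₂ (LinearMap.mulLeft R f₂) (comul (R := R) (T x)) = T x ⊗ₜ[R] f₂ := by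
  have hTf : f₂ * T f₁ = f₂ := by
    apply idem_mul_eq f₂ hf₂ hε₂ (T f₁)
    · change T f₁ * T f₁ = T f₁
      rw [← map_mul, hf₁.eq]
    · rw [CoalgHomClass.counit_comp_apply T f₁, hε₁]
  rw [← CoalgHomClass.map_comp_comul_apply T x]
  have h1 : ∀ t : B₁ ⊗[R] B₁, LinearMap.lTensor B₂ (LinearMap.mulLeft R f₂)
      (TensorProduct.map (T : B₁ →ₗ[R] B₂) (T : B₁ →ₗ[R] B₂) t) =
      TensorProduct.map (T : B₁ →ₗ[R] B₂) ((LinearMap.mulLeft R f₂) ∘ₗ (T : B₁ →ₗ[R] B₂))
        (LinearMap.lTensor B₁ (LinearMap.mulLeft R f₁) t) := by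
    intro t
    induction t using TensorProduct.induction_on with
    | zero => simp
    | tmul a b =>
      simp only [TensorProduct.map_tmul, LinearMap.lTensor_tmul, LinearMap.coe_comp,
        Function.comp_apply, LinearMap.mulLeft_apply]
      congr 1
      change f₂ * T b = f₂ * T (f₁ * b)
      rw [map_mul, ← mul_assoc, hTf]
    | add a b ha hb => simp only [map_add, ha, hb]
  rw [h1, hx, TensorProduct.map_tmul]
  congr 1

end InvariantMap

end Groth.Agent.H96.HopfQuot
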