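import Groth.Agent.H18.TwistAmple
import Groth.Agent.H95.ZeroSch
import Groth.Prelude.Def_PicF2

set_option autoImplicit false
set_option linter.style.haveILetI false

universe u

open CategoryTheory CategoryTheory.Limits AlgebraicGeometry HomogeneousIdeal

namespace Groth.Agent.H96.Hyp7_ZS

open Groth.Agent.H18
open Groth.Agent.H18.Serre (val frac val_frac mem_basicOpen_frac toO ofTw toTw)
open Groth.Agent.H18.TwistAmple (wval wval_ext wval_smul secHom)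

variable {R A B : Type u} [CommRing R] [CommRing A] [Algebra R A] [CommRing B] [Algebra R B]
  (𝒜 : ℕ → Submodule R A) [GradedAlgebra 𝒜] (ℬ : ℕ → Submodule R B) [GradedAlgebra ℬ]

set_option backward.isDefEq.respectTransparency false in
/-- (ZS) for helper18's S7676: the ideal of the zero scheme of the section `ℓ` of `O(1)` on `D₊(g)`
is generated by `ℓ/g`. -/
theorem ideal_zeroScheme_secHom
    (hcov1 : ∀ y : ProjectiveSpectrum 𝒜, ∃ g ∈ 𝒜 1, g ∉ y.asHomogeneousIdeal)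
    (ℓ : 𝒜 1) {g : A} (hg : g ∈ 𝒜 1) :
    (PicF2.zeroScheme (Twist.twist 𝒜 ((1 : ℕ) : ℤ)) (Groth.Agent.H18.TwistAmple.secHom 𝒜 ℓ)).ideal
        ⟨Proj.basicOpen 𝒜 g, Proj.isAffineOpen_basicOpen 𝒜 g hg one_pos⟩ =
      Ideal.span {Groth.Agent.H18.Serre.frac 𝒜 (Proj.basicOpen 𝒜 g) ℓ.2 hg (fun x => x.2)} := by
  have hL : PicF.IsInvertible (Twist.twist 𝒜 ((1 : ℕ) : ℤ)) :=
    (Groth.Agent.H18.TwistTensor.twist_package 𝒜 hcov1).1 _
  obtain ⟨W, hW⟩ : ∃ W : (Proj 𝒜).Opens, W = Proj.basicOpen 𝒜 g := ⟨_, rfl⟩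
  have h1 : (1 : A) ∈ 𝒜 0 := SetLike.GradedOne.one_mem
  have hpq : ((1 : ℕ) : ℤ) = ((0 : ℕ) : ℤ) + ((1 : ℕ) : ℤ) := by simp
  have huW : ∀ y : (Proj.basicOpen 𝒜 g : (Proj 𝒜).Opens), g ∉ y.1.asHomogeneousIdeal :=
    fun y => y.2
  have hvW : ∀ y : (Proj.basicOpen 𝒜 g : (Proj 𝒜).Opens), (1 : A) ∉ y.1.asHomogeneousIdeal :=
    fun y h => (y.1 : ProjectiveSpectrum 𝒜).isPrime.ne_top ((Ideal.eq_top_iff_one _).mpr h)
  have hτ : Groth.Agent.H18.TensorGen.IsGen (Twist.twist 𝒜 ((1 : ℕ) : ℤ)) (Proj.basicOpen 𝒜 g)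
      (toTw (TwistRestrict.fracSection 𝒜 hg h1 hpq hvW)) := by
    intro V hV
    exact TwistRestrict.bijective_smul_of_fraction 𝒜 hg h1 hpq (fun y => huW ⟨y.1, hV y.2⟩)
      (fun y => hvW ⟨y.1, hV y.2⟩)
      ((Twist.twist 𝒜 ((1 : ℕ) : ℤ)).presheaf.map (homOfLE hV).op
        (toTw (TwistRestrict.fracSection 𝒜 hg h1 hpq hvW)))
      (fun y => rfl)
  have ha : Groth.Agent.H95.ZeroSch.sv (Twist.twist 𝒜 ((1 : ℕ) : ℤ)) (secHom 𝒜 ℓ)
      (Proj.basicOpen 𝒜 g) =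
      frac 𝒜 (Proj.basicOpen 𝒜 g) ℓ.2 hg huW •
        (toTw (TwistRestrict.fracSection 𝒜 hg h1 hpq hvW)) := by
    show (secHom 𝒜 ℓ).app (Proj.basicOpen 𝒜 g)
      (show Γ(Coh.structureModule (Proj 𝒜), Proj.basicOpen 𝒜 g) from
        (1 : Γ(Proj 𝒜, Proj.basicOpen 𝒜 g))) = _
    refine (FreeEpi.unitHomEquiv_symm_app_apply (Twist.twist 𝒜 ((1 : ℕ) : ℤ)) _
      (Proj.basicOpen 𝒜 g) 1).trans ?_
    rw [one_smul]
    refine wval_ext (fun y => ?_)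
    rw [wval_smul]
    show (Localization.mk ℓ.1 1 : Twist.Loc 𝒜 y.1) =
      Localization.mk ℓ.1 ⟨g, huW y⟩ * Localization.mk g ⟨1, hvW y⟩
    rw [Localization.mk_mul, Localization.mk_eq_mk_iff, Localization.r_iff_exists]
    refine ⟨1, ?_⟩
    simp only [OneMemClass.coe_one, one_mul, Submonoid.coe_mul]
    ring
  exact Groth.Agent.H95.ZeroSch.ideal_zeroScheme_eq_span hL
    ⟨Proj.basicOpen 𝒜 g, Proj.isAffineOpen_basicOpen 𝒜 g hg one_pos⟩ hτ ha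

end Groth.Agent.H96.Hyp7_ZS
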