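import Mathlib
import Groth.Prelude.Def_AzInv

/-!
# `T ⊗[R] M_m(A) ≃ M_m(T ⊗[R] A)` and involutions
-/

set_option autoImplicit false
set_option linter.style.haveILetI false
set_option linter.unusedSectionVars false
universe u v w u'

open TensorProduct

namespace Groth.Agent.H96.TensorMatrix

variable (R : Type u) [CommRing R] (T : Type u') [CommRing T] [Algebra R T]
  (A : Type w) [Ring A] [Algebra R A] (m : Type*) [Fintype m] [DecidableEq m]

/-- The linear equivalence. -/
noncomputable def tmLin : T ⊗[R] Matrix m m A ≃ₗ[T] Matrix m m (T ⊗[R] A) :=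
  (TensorProduct.piRight R T T (fun _ : m => m → A)).trans
    (LinearEquiv.piCongrRight fun _ => TensorProduct.piRight R T T (fun _ : m => A))

theorem tmLin_tmul (y : T) (M : Matrix m m A) (i j : m) :
    tmLin R T A m (y ⊗ₜ[R] M) i j = y ⊗ₜ[R] M i j := rfl

/-- The algebra equivalence `T ⊗[R] M_m(A) ≃ M_m(T ⊗[R] A)`. -/
noncomputable def tm : T ⊗[R] Matrix m m A ≃ₐ[T] Matrix m m (T ⊗[R] A) :=
  AlgEquiv.ofLinearEquiv (tmLin R T A m)
    (by
      ext i j
      rw [Algebra.TensorProduct.one_def, tmLin_tmul, Matrix.one_apply, Matrix.one_apply]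
      split_ifs
      · rfl
      · rw [TensorProduct.tmul_zero])
    (LinearMap.map_mul_of_map_mul_tmul (fun y y' M M' => by
      ext i j
      simp only [LinearEquiv.coe_coe]
      rw [tmLin_tmul, Matrix.mul_apply, Matrix.mul_apply, TensorProduct.tmul_sum]
      refine Finset.sum_congr rfl fun k _ => ?_
      rw [tmLin_tmul, tmLin_tmul, Algebra.TensorProduct.tmul_mul_tmul]))

theorem tm_tmul (y : T) (M : Matrix m m A) (i j : m) :
    tm R T A m (y ⊗ₜ[R] M) i j = y ⊗ₜ[R] M i j := rfl

/-- Compatibility with the matrix involution. -/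
theorem tm_bc (t : AzInv.LamInv R A (AlgEquiv.refl : R ≃ₐ[R] R)) (x : T ⊗[R] Matrix m m A)
    (i j : m) :
    tm R T A m ((t.matrix m).bc R (AlgEquiv.refl : R ≃ₐ[R] R) T x) i j =
      t.bc R (AlgEquiv.refl : R ≃ₐ[R] R) T (tm R T A m x j i) := by
  induction x using TensorProduct.induction_on with
  | zero => simp
  | tmul y M =>
    rw [AzInv.LamInv.bc_tmul, tm_tmul, tm_tmul, AzInv.LamInv.bc_tmul]
    rfl
  | add x y hx hy =>
    rw [map_add, map_add, Matrix.add_apply, hx, hy, map_add, Matrix.add_apply, map_add]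

end Groth.Agent.H96.TensorMatrix
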