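import Mathlib
import Groth.Prelude.Def_AzInv

/-!
# Witt's trick: `h ⊥ h` is standard when `-1` is a square (matrix form)
-/

set_option autoImplicit false
set_option linter.style.haveILetI false
set_option linter.unusedSectionVars false
set_option linter.unusedSimpArgs false
universe u v w w' u'

open TensorProduct

namespace Groth.Agent.H96.WittTrick

section Conj

variable {T : Type*} [CommRing T] {N : Type*} [Fintype N] [DecidableEq N]

/-- If `W U Wᵀ = H` then conjugation by `W` carries `x ↦ U xᵀ U⁻¹` to `x ↦ H xᵀ H⁻¹`. -/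
theorem witt_conj (U H : (Matrix N N T)ˣ) (W : Matrix N N T)
    (hW : W * (↑U : Matrix N N T) * W.transpose = ↑H) :
    ∃ W' : (Matrix N N T)ˣ, (↑W' : Matrix N N T) = W ∧ ∀ x : Matrix N N T,
      (↑W' : Matrix N N T) * ((↑U : Matrix N N T) * x.transpose * (↑U⁻¹ : Matrix N N T)) *
          (↑W'⁻¹ : Matrix N N T) =
        (↑H : Matrix N N T) *
          ((↑W' : Matrix N N T) * x * (↑W'⁻¹ : Matrix N N T)).transpose *
            (↑H⁻¹ : Matrix N N T) := by
  obtain ⟨W'', hW''⟩ : ∃ W'' : Matrix N N T,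
      W'' = (↑U : Matrix N N T) * W.transpose * (↑H⁻¹ : Matrix N N T) := ⟨_, rfl⟩
  have h1 : W * W'' = 1 := by
    rw [hW'', ← mul_assoc, ← mul_assoc, hW, ← Units.val_mul, mul_inv_cancel, Units.val_one]
  have h2 : W'' * W = 1 := mul_eq_one_comm.mp h1
  refine ⟨⟨W, W'', h1, h2⟩, rfl, ?_⟩
  intro x
  show W * ((↑U : Matrix N N T) * x.transpose * (↑U⁻¹ : Matrix N N T)) * W'' =
    (↑H : Matrix N N T) * (W * x * W'').transpose * (↑H⁻¹ : Matrix N N T)
  have h3 : W.transpose * W''.transpose = 1 := by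
    rw [← Matrix.transpose_mul, h2, Matrix.transpose_one]
  have h4 : (↑H : Matrix N N T) * W''.transpose = W * (↑U : Matrix N N T) := by
    rw [← hW, mul_assoc, h3, mul_one]
  have h5 : (↑U⁻¹ : Matrix N N T) * W'' = W.transpose * (↑H⁻¹ : Matrix N N T) := by
    rw [hW'', ← mul_assoc, ← mul_assoc, ← Units.val_mul, inv_mul_cancel, Units.val_one, one_mul]
  rw [Matrix.transpose_mul, Matrix.transpose_mul]
  calc W * ((↑U : Matrix N N T) * x.transpose * (↑U⁻¹ : Matrix N N T)) * W''
      = (W * (↑U : Matrix N N T)) * x.transpose * ((↑U⁻¹ : Matrix N N T) * W'') := by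
        simp only [mul_assoc]
    _ = ((↑H : Matrix N N T) * W''.transpose) * x.transpose *
          (W.transpose * (↑H⁻¹ : Matrix N N T)) := by rw [h4, h5]
    _ = (↑H : Matrix N N T) * (W''.transpose * (x.transpose * W.transpose)) *
          (↑H⁻¹ : Matrix N N T) := by simp only [mul_assoc]

end Conj


section Blocks

variable {T : Type*} [CommRing T] {I K : Type*} [Fintype I] [DecidableEq I] [Fintype K]
  [DecidableEq K]

/-- Block transpose: `(N†) i j = (N j i)ᵀ`. -/
def dag (N : Matrix I I (Matrix K K T)) : Matrix I I (Matrix K K T) :=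
  N.transpose.map (·.transpose)

theorem dag_apply (N : Matrix I I (Matrix K K T)) (i j : I) : dag N i j = (N j i).transpose := rfl

theorem comp_dag (N : Matrix I I (Matrix K K T)) :
    Matrix.comp I I K K T (dag N) = (Matrix.comp I I K K T N).transpose := rfl

theorem diag_dag_diag (v v' : Matrix K K T) (N : Matrix I I (Matrix K K T)) (i j : I) :
    (Matrix.diagonal (fun _ : I => v) * dag N * Matrix.diagonal (fun _ : I => v')) i j =
      v * (N j i).transpose * v' := by
  rw [Matrix.mul_diagonal, Matrix.diagonal_mul, dag_apply]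

theorem comp_mul (M N : Matrix I I (Matrix K K T)) :
    Matrix.comp I I K K T (M * N) = Matrix.comp I I K K T M * Matrix.comp I I K K T N :=
  (Matrix.compRingEquiv I K T).map_mul M N

/-- The block-diagonal unit. -/
def diagUnit (v : (Matrix K K T)ˣ) : (Matrix (I × K) (I × K) T)ˣ :=
  Units.map (Matrix.compRingEquiv I K T).toRingHom.toMonoidHom
    ⟨Matrix.diagonal (fun _ : I => (↑v : Matrix K K T)),
      Matrix.diagonal (fun _ : I => (↑v⁻¹ : Matrix K K T)),
      by rw [Matrix.diagonal_mul_diagonal]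
         simp only [← Units.val_mul, mul_inv_cancel, Units.val_one, Matrix.diagonal_one],
      by rw [Matrix.diagonal_mul_diagonal]
         simp only [← Units.val_mul, inv_mul_cancel, Units.val_one, Matrix.diagonal_one]⟩

theorem diagUnit_val (v : (Matrix K K T)ˣ) : ((diagUnit v : (Matrix (I × K) (I × K) T)ˣ) :
    Matrix (I × K) (I × K) T) =
      Matrix.comp I I K K T (Matrix.diagonal (fun _ : I => (↑v : Matrix K K T))) := rfl

theorem diagUnit_inv (v : (Matrix K K T)ˣ) : ((↑(diagUnit v : (Matrix (I × K) (I × K) T)ˣ)⁻¹ :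
    Matrix (I × K) (I × K) T)) =
      Matrix.comp I I K K T (Matrix.diagonal (fun _ : I => (↑v⁻¹ : Matrix K K T))) := rfl

/-- Transport of a blockwise involution `N ↦ (v (N j i)ᵀ v⁻¹)_{ij}` through `comp`. -/
theorem comp_blockInv (v : (Matrix K K T)ˣ) (N N' : Matrix I I (Matrix K K T))
    (h : ∀ i j, N' i j = (↑v : Matrix K K T) * (N j i).transpose * (↑v⁻¹ : Matrix K K T)) :
    Matrix.comp I I K K T N' =
      (↑(diagUnit v : (Matrix (I × K) (I × K) T)ˣ) : Matrix (I × K) (I × K) T) *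
        (Matrix.comp I I K K T N).transpose *
        (↑(diagUnit v : (Matrix (I × K) (I × K) T)ˣ)⁻¹ : Matrix (I × K) (I × K) T) := by
  have : N' = Matrix.diagonal (fun _ : I => (↑v : Matrix K K T)) * dag N *
      Matrix.diagonal (fun _ : I => (↑v⁻¹ : Matrix K K T)) := by
    apply Matrix.ext
    intro i j
    rw [h, diag_dag_diag]
  rw [this, comp_mul, comp_mul, comp_dag, diagUnit_val, diagUnit_inv]

end Blocks


section Identities

variable {T : Type*} [CommRing T] {n : ℕ}

theorem block_formula (W : Matrix (Fin 2) (Fin 2) (Matrix (Fin n) (Fin n) T))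
    (v : Matrix (Fin n) (Fin n) T) (p q : Fin 2) :
    (W * Matrix.diagonal (fun _ : Fin 2 => v) * dag W) p q =
      W p 0 * v * (W q 0).transpose + W p 1 * v * (W q 1).transpose := by
  rw [Matrix.mul_apply, Fin.sum_univ_two, Matrix.mul_diagonal, Matrix.mul_diagonal, dag_apply,
    dag_apply]

variable (u : (Matrix (Fin n) (Fin n) T)ˣ) (c i : T)

/-- The orthogonal Witt matrix. -/
def Wo : Matrix (Fin 2) (Fin 2) (Matrix (Fin n) (Fin n) T) :=
  Matrix.of ![![1 + (c * c) • (↑u⁻¹ : Matrix (Fin n) (Fin n) T),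
      i • (1 - (c * c) • (↑u⁻¹ : Matrix (Fin n) (Fin n) T))],
    ![i • (1 - (c * c) • (↑u⁻¹ : Matrix (Fin n) (Fin n) T)),
      -(1 + (c * c) • (↑u⁻¹ : Matrix (Fin n) (Fin n) T))]]

/-- The symplectic Witt matrix. -/
def Ws : Matrix (Fin 2) (Fin 2) (Matrix (Fin n) (Fin n) T) :=
  Matrix.of ![![1, i • (1 : Matrix (Fin n) (Fin n) T)],
    ![c • (↑u⁻¹ : Matrix (Fin n) (Fin n) T), -((i * c) • (↑u⁻¹ : Matrix (Fin n) (Fin n) T))]]

/-- The standard alternating block matrix. -/
def H2 : Matrix (Fin 2) (Fin 2) (Matrix (Fin n) (Fin n) T) :=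
  Matrix.of ![![0, -1], ![1, 0]]

variable (hc : 2 * c = 1) (hi : i * i = -1)

include hc hi in
theorem Wo_identity (hu : (↑u : Matrix (Fin n) (Fin n) T).transpose = ↑u) :
    Wo u c i * Matrix.diagonal (fun _ : Fin 2 => (↑u : Matrix (Fin n) (Fin n) T)) *
      dag (Wo u c i) = 1 := by
  obtain ⟨U, hU⟩ : ∃ U : Matrix (Fin n) (Fin n) T, U = ↑u := ⟨_, rfl⟩
  obtain ⟨V, hV⟩ : ∃ V : Matrix (Fin n) (Fin n) T, V = ↑u⁻¹ := ⟨_, rfl⟩
  have hUV : U * V = 1 := by rw [hU, hV, ← Units.val_mul, mul_inv_cancel, Units.val_one]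
  have hVU : V * U = 1 := by rw [hU, hV, ← Units.val_mul, inv_mul_cancel, Units.val_one]
  have hUt : U.transpose = U := by rw [hU]; exact hu
  have hVt : V.transpose = V := by
    have h1 : V.transpose * U = 1 := by
      rw [← hUt, ← Matrix.transpose_mul, hUV, Matrix.transpose_one]
    calc V.transpose = V.transpose * (U * V) := by rw [hUV, mul_one]
      _ = V := by rw [← mul_assoc, h1, one_mul]
  obtain ⟨a, ha⟩ : ∃ a : Matrix (Fin n) (Fin n) T, a = 1 + (c * c) • V := ⟨_, rfl⟩
  obtain ⟨b, hb⟩ : ∃ b : Matrix (Fin n) (Fin n) T, b = 1 - (c * c) • V := ⟨_, rfl⟩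
  have hat : a.transpose = a := by
    rw [ha, Matrix.transpose_add, Matrix.transpose_one, Matrix.transpose_smul, hVt]
  have hbt : b.transpose = b := by
    rw [hb, Matrix.transpose_sub, Matrix.transpose_one, Matrix.transpose_smul, hVt]
  have h4 : 4 * (c * c) = 1 := by linear_combination (2 * c + 1) * hc
  have haU : a * U = U + (c * c) • 1 := by
    rw [ha, add_mul, one_mul, smul_mul_assoc, hVU]
  have hbU : b * U = U - (c * c) • 1 := by
    rw [hb, sub_mul, one_mul, smul_mul_assoc, hVU]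
  have I1 : a * U * a - b * U * b = 1 := by
    rw [haU, hbU, ha, hb]
    simp only [add_mul, mul_add, sub_mul, mul_sub, mul_one, one_mul, smul_mul_assoc,
      mul_smul_comm, hUV]
    calc _ = (4 * (c * c)) • (1 : Matrix (Fin n) (Fin n) T) := by module
      _ = 1 := by rw [h4, one_smul]
  have I2 : a * U * b = b * U * a := by
    rw [haU, hbU, ha, hb]
    simp only [add_mul, mul_add, sub_mul, mul_sub, mul_one, one_mul, smul_mul_assoc,
      mul_smul_comm, hUV]
    module
  have e00 : Wo u c i 0 0 = a := by rw [ha, hV]; rfl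
  have e01 : Wo u c i 0 1 = i • b := by rw [hb, hV]; rfl
  have e10 : Wo u c i 1 0 = i • b := by rw [hb, hV]; rfl
  have e11 : Wo u c i 1 1 = -a := by rw [ha, hV]; rfl
  apply Matrix.ext
  rw [← hU]
  refine Fin.forall_fin_two.mpr ⟨Fin.forall_fin_two.mpr ⟨?_, ?_⟩, Fin.forall_fin_two.mpr ⟨?_, ?_⟩⟩
  · rw [block_formula, e00, e01, Matrix.one_apply_eq, hat, Matrix.transpose_smul, hbt,
      smul_mul_assoc, smul_mul_assoc, mul_smul_comm, smul_smul, hi, neg_smul, one_smul,
      ← sub_eq_add_neg, I1]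
  · rw [block_formula, e00, e01, e10, e11, Matrix.one_apply_ne (by decide), Matrix.transpose_smul,
      Matrix.transpose_neg, hat, hbt, mul_smul_comm, smul_mul_assoc, smul_mul_assoc, mul_neg,
      smul_neg, I2, add_neg_cancel]
  · rw [block_formula, e00, e01, e10, e11, Matrix.one_apply_ne (by decide), Matrix.transpose_smul,
      hat, hbt, mul_smul_comm, smul_mul_assoc, smul_mul_assoc, neg_mul, neg_mul, smul_neg, I2,
      add_neg_cancel]
  · rw [block_formula, e10, e11, Matrix.one_apply_eq, Matrix.transpose_neg, hat,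
      Matrix.transpose_smul, hbt, smul_mul_assoc, smul_mul_assoc, mul_smul_comm, smul_smul, hi,
      neg_smul, one_smul, neg_mul, neg_mul, mul_neg, neg_neg, neg_add_eq_sub, I1]


include hc hi in
theorem Ws_identity (hu : (↑u : Matrix (Fin n) (Fin n) T).transpose = -↑u) :
    Ws u c i * Matrix.diagonal (fun _ : Fin 2 => (↑u : Matrix (Fin n) (Fin n) T)) *
      dag (Ws u c i) = H2 := by
  obtain ⟨U, hU⟩ : ∃ U : Matrix (Fin n) (Fin n) T, U = ↑u := ⟨_, rfl⟩
  obtain ⟨V, hV⟩ : ∃ V : Matrix (Fin n) (Fin n) T, V = ↑u⁻¹ := ⟨_, rfl⟩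
  have hUV : U * V = 1 := by rw [hU, hV, ← Units.val_mul, mul_inv_cancel, Units.val_one]
  have hVU : V * U = 1 := by rw [hU, hV, ← Units.val_mul, inv_mul_cancel, Units.val_one]
  have hUt : U.transpose = -U := by rw [hU]; exact hu
  have hVt : V.transpose = -V := by
    have h1 : V.transpose * U = -1 := by
      have : V.transpose * U.transpose = 1 := by
        rw [← Matrix.transpose_mul, hUV, Matrix.transpose_one]
      rw [hUt, mul_neg] at this
      rw [← this, neg_neg]
    calc V.transpose = V.transpose * (U * V) := by rw [hUV, mul_one]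
      _ = -V := by rw [← mul_assoc, h1, neg_mul, one_mul]
  have e00 : Ws u c i 0 0 = 1 := rfl
  have e01 : Ws u c i 0 1 = i • 1 := rfl
  have e10 : Ws u c i 1 0 = c • V := by rw [hV]; rfl
  have e11 : Ws u c i 1 1 = -((i * c) • V) := by rw [hV]; rfl
  have h00 : (H2 : Matrix (Fin 2) (Fin 2) (Matrix (Fin n) (Fin n) T)) 0 0 = 0 := rfl
  have h01 : (H2 : Matrix (Fin 2) (Fin 2) (Matrix (Fin n) (Fin n) T)) 0 1 = -1 := rfl
  have h10 : (H2 : Matrix (Fin 2) (Fin 2) (Matrix (Fin n) (Fin n) T)) 1 0 = 1 := rfl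
  have h11 : (H2 : Matrix (Fin 2) (Fin 2) (Matrix (Fin n) (Fin n) T)) 1 1 = 0 := rfl
  have hVUV : V * U * V.transpose = -V := by rw [hVU, one_mul, hVt]
  apply Matrix.ext
  rw [← hU]
  refine Fin.forall_fin_two.mpr ⟨Fin.forall_fin_two.mpr ⟨?_, ?_⟩, Fin.forall_fin_two.mpr ⟨?_, ?_⟩⟩
  · rw [block_formula, e00, e01, h00, Matrix.transpose_one, Matrix.transpose_smul,
      Matrix.transpose_one, one_mul, mul_one, smul_mul_assoc, one_mul, mul_smul_comm, mul_one,
      smul_smul, hi, neg_smul, one_smul, add_neg_cancel]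
  · rw [block_formula, e00, e01, e10, e11, h01]
    simp only [Matrix.transpose_smul, Matrix.transpose_neg, Matrix.transpose_one, hVt, one_mul,
      mul_one, smul_mul_assoc, mul_smul_comm, neg_mul, mul_neg, hUV, hVU, smul_neg, neg_neg,
      smul_smul]
    match_scalars
    linear_combination c * hi - hc
  · rw [block_formula, e00, e01, e10, e11, h10]
    simp only [Matrix.transpose_smul, Matrix.transpose_neg, Matrix.transpose_one, hVt, one_mul,
      mul_one, smul_mul_assoc, mul_smul_comm, neg_mul, mul_neg, hUV, hVU, smul_neg, neg_neg,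
      smul_smul]
    match_scalars
    linear_combination -c * hi + hc
  · rw [block_formula, e10, e11, h11]
    simp only [Matrix.transpose_smul, Matrix.transpose_neg, Matrix.transpose_one, hVt, one_mul,
      mul_one, smul_mul_assoc, mul_smul_comm, neg_mul, mul_neg, hUV, hVU, smul_neg, neg_neg,
      smul_smul]
    match_scalars
    linear_combination -c * c * hi

end Identities


section Assembly

variable {R : Type u} [CommRing R] {T : Type u'} [CommRing T] [Algebra R T]
  {B : Type w} [Ring B] [Algebra R B] {C : Type w'} [Ring C] [Algebra R C]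
  (τB : AzInv.LamInv R B (AlgEquiv.refl : R ≃ₐ[R] R))
  (τC : AzInv.LamInv R C (AlgEquiv.refl : R ≃ₐ[R] R))
  {N : Type*} [Fintype N] [DecidableEq N]

/-- Conjugation by a unit, as an algebra automorphism. -/
def conjEquiv {D : Type*} [Ring D] [Algebra T D] (w : Dˣ) : D ≃ₐ[T] D where
  toFun x := ↑w * x * ↑w⁻¹
  invFun x := ↑w⁻¹ * x * ↑w
  left_inv x := by
    simp only [mul_assoc, Units.inv_mul_cancel_left, Units.inv_mul, mul_one]
  right_inv x := by
    simp only [mul_assoc, Units.mul_inv_cancel_left, Units.mul_inv, mul_one]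
  map_mul' x y := by
    simp only [mul_assoc, Units.inv_mul_cancel_left]
  map_add' x y := by rw [mul_add, add_mul]
  commutes' r := by
    rw [← Algebra.commutes, mul_assoc, Units.mul_inv, mul_one]

theorem conjEquiv_apply {D : Type*} [Ring D] [Algebra T D] (w : Dˣ) (x : D) :
    conjEquiv (T := T) w x = ↑w * x * ↑w⁻¹ := rfl

theorem one_tmul_algebraMap (r : R) :
    (1 : T) ⊗ₜ[R] algebraMap R B r = algebraMap T (T ⊗[R] B) (algebraMap R T r) := by
  rw [Algebra.TensorProduct.algebraMap_apply, Algebra.algebraMap_self, RingHom.id_apply,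
    Algebra.algebraMap_eq_smul_one r, Algebra.algebraMap_eq_smul_one (A := T) r,
    TensorProduct.smul_tmul]

variable (Ψ : T ⊗[R] B ≃ₐ[T] Matrix N N T) (Θ : T ⊗[R] C ≃ₐ[T] Matrix N N T)
  (U H : (Matrix N N T)ˣ) (W : Matrix N N T)
  (hΨ : ∀ x, Ψ (τB.bc R (AlgEquiv.refl : R ≃ₐ[R] R) T x) =
    (↑U : Matrix N N T) * (Ψ x).transpose * (↑U⁻¹ : Matrix N N T))
  (hΘ : ∀ z, Θ (τC.bc R (AlgEquiv.refl : R ≃ₐ[R] R) T z) =
    (↑H : Matrix N N T) * (Θ z).transpose * (↑H⁻¹ : Matrix N N T))
  (hW : W * (↑U : Matrix N N T) * W.transpose = ↑H)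

include hΨ hΘ hW in
theorem exists_iso : ∃ f : T ⊗[R] B ≃ₐ[T] T ⊗[R] C,
    (∀ (r : R) (x : T ⊗[R] B),
      f (((1 : T) ⊗ₜ[R] algebraMap R B r) * x) = ((1 : T) ⊗ₜ[R] algebraMap R C r) * f x) ∧
    ∀ x : T ⊗[R] B, f (τB.bc R (AlgEquiv.refl : R ≃ₐ[R] R) T x) =
      τC.bc R (AlgEquiv.refl : R ≃ₐ[R] R) T (f x) := by
  obtain ⟨W', -, hconj⟩ := witt_conj U H W hW
  refine ⟨Ψ.trans ((conjEquiv (T := T) W').trans Θ.symm), ?_, ?_⟩
  · intro r x
    rw [one_tmul_algebraMap, one_tmul_algebraMap, map_mul, AlgEquiv.commutes]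
  · intro x
    apply Θ.injective
    rw [hΘ]
    show Θ (Θ.symm (conjEquiv (T := T) W' (Ψ _))) =
      _ * (Θ (Θ.symm (conjEquiv (T := T) W' (Ψ x)))).transpose * _
    rw [AlgEquiv.apply_symm_apply, AlgEquiv.apply_symm_apply, hΨ, conjEquiv_apply, conjEquiv_apply,
      hconj]

end Assembly

end Groth.Agent.H96.WittTrick
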