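import Mathlib
import Groth.Prelude.Def_AzInv
import Groth.Agent.H96.TensorMatrix
import Groth.Agent.H96.WittTrick
import Groth.Agent.H96.InvSplit

/-!
# The chains of isomorphisms for the Witt trick
-/

set_option autoImplicit false
set_option linter.style.haveILetI false
set_option linter.unusedSectionVars false
set_option linter.unusedSimpArgs false
universe u w u'

open TensorProduct

namespace Groth.Agent.H96.InvChains

open Groth.Agent.H96.WittTrick Groth.Agent.H96.TensorMatrix Groth.Agent.H96.InvSplit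

variable (R : Type u) [CommRing R] (T : Type u') [CommRing T] [Algebra R T]

section Source

variable (A : Type w) [Ring A] [Algebra R A] (t : AzInv.LamInv R A (AlgEquiv.refl : R ≃ₐ[R] R))
  {n : ℕ} (φ : T ⊗[R] A ≃ₐ[T] Matrix (Fin n) (Fin n) T) (u : (Matrix (Fin n) (Fin n) T)ˣ)
  (hφ : ∀ x : T ⊗[R] A, φ (t.bc R (AlgEquiv.refl : R ≃ₐ[R] R) T x) =
    (↑u : Matrix (Fin n) (Fin n) T) * (φ x).transpose * (↑u⁻¹ : Matrix (Fin n) (Fin n) T))

/-- `T ⊗ M_2(A) ≃ M_{2 × n}(T)`. -/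
noncomputable def Psi : T ⊗[R] Matrix (Fin 2) (Fin 2) A ≃ₐ[T]
    Matrix (Fin 2 × Fin n) (Fin 2 × Fin n) T :=
  (tm R T A (Fin 2)).trans (φ.mapMatrix.trans (Matrix.compAlgEquiv (Fin 2) (Fin n) T T))

theorem Psi_apply (x : T ⊗[R] Matrix (Fin 2) (Fin 2) A) :
    Psi R T A φ x = Matrix.comp (Fin 2) (Fin 2) (Fin n) (Fin n) T ((tm R T A (Fin 2) x).map φ) :=
  rfl

include hφ in
theorem Psi_bc (x : T ⊗[R] Matrix (Fin 2) (Fin 2) A) :
    Psi R T A φ ((t.matrix (Fin 2)).bc R (AlgEquiv.refl : R ≃ₐ[R] R) T x) =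
      (↑(diagUnit (I := Fin 2) u) : Matrix (Fin 2 × Fin n) (Fin 2 × Fin n) T) *
        (Psi R T A φ x).transpose *
        (↑(diagUnit (I := Fin 2) u)⁻¹ : Matrix (Fin 2 × Fin n) (Fin 2 × Fin n) T) := by
  rw [Psi_apply, Psi_apply]
  apply comp_blockInv
  intro i j
  rw [Matrix.map_apply, Matrix.map_apply, tm_bc, hφ]

end Source

section TargetOrth

variable (hlam : ∀ r : R, (AlgEquiv.refl : R ≃ₐ[R] R) ((AlgEquiv.refl : R ≃ₐ[R] R) r) = r) (n : ℕ)

theorem matEquiv_bc (m : ℕ) (z : T ⊗[R] Matrix (Fin m) (Fin m) R) :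
    matEquiv R T m (((AzInv.LamInv.self (AlgEquiv.refl : R ≃ₐ[R] R) hlam).matrix (Fin m)).bc R
      (AlgEquiv.refl : R ≃ₐ[R] R) T z) = (matEquiv R T m z).transpose := by
  induction z using TensorProduct.induction_on with
  | zero => simp
  | tmul y M =>
    rw [AzInv.LamInv.bc_tmul, matEquiv_tmul, matEquiv_tmul, Matrix.transpose_smul]
    rfl
  | add x y hx hy => rw [map_add, map_add, hx, hy, map_add, Matrix.transpose_add]

/-- `T ⊗ M_{2n}(R) ≃ M_{2 × n}(T)`. -/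
noncomputable def ThetaO : T ⊗[R] Matrix (Fin (2 * n)) (Fin (2 * n)) R ≃ₐ[T]
    Matrix (Fin 2 × Fin n) (Fin 2 × Fin n) T :=
  (matEquiv R T (2 * n)).trans (Matrix.reindexAlgEquiv T T finProdFinEquiv.symm)

theorem ThetaO_bc (z : T ⊗[R] Matrix (Fin (2 * n)) (Fin (2 * n)) R) :
    ThetaO R T n (((AzInv.LamInv.self (AlgEquiv.refl : R ≃ₐ[R] R) hlam).matrix (Fin (2 * n))).bc R
      (AlgEquiv.refl : R ≃ₐ[R] R) T z) =
      (↑(1 : (Matrix (Fin 2 × Fin n) (Fin 2 × Fin n) T)ˣ) : Matrix _ _ T) *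
        (ThetaO R T n z).transpose *
        (↑(1 : (Matrix (Fin 2 × Fin n) (Fin 2 × Fin n) T)ˣ)⁻¹ : Matrix _ _ T) := by
  rw [inv_one, Units.val_one, one_mul, mul_one]
  show Matrix.reindexAlgEquiv T T finProdFinEquiv.symm (matEquiv R T (2 * n) _) =
    (Matrix.reindexAlgEquiv T T finProdFinEquiv.symm (matEquiv R T (2 * n) z)).transpose
  rw [matEquiv_bc]
  rfl

end TargetOrth


section TargetSympl

variable (hlam : ∀ r : R, (AlgEquiv.refl : R ≃ₐ[R] R) ((AlgEquiv.refl : R ≃ₐ[R] R) r) = r) (n : ℕ)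
  (J : (Matrix (Fin 2) (Fin 2) R)ˣ)
  (hJt : AzInv.LamInv.transpose (AlgEquiv.refl : R ≃ₐ[R] R) (Fin 2) hlam
    (↑J : Matrix (Fin 2) (Fin 2) R) = (-1 : R) • (↑J : Matrix (Fin 2) (Fin 2) R))
  (hneg : (AlgEquiv.refl : R ≃ₐ[R] R) (-1) * (-1) = 1)

/-- `J` over `T`. -/
def JT : (Matrix (Fin 2) (Fin 2) T)ˣ :=
  Units.map (RingHom.mapMatrix (algebraMap R T)).toMonoidHom J

theorem JT_val : (↑(JT R T J) : Matrix (Fin 2) (Fin 2) T) =
    (↑J : Matrix (Fin 2) (Fin 2) R).map (algebraMap R T) := rfl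

theorem JT_inv : (↑(JT R T J)⁻¹ : Matrix (Fin 2) (Fin 2) T) =
    (↑J⁻¹ : Matrix (Fin 2) (Fin 2) R).map (algebraMap R T) := rfl

theorem matEquiv_conjJ_bc (w : T ⊗[R] Matrix (Fin 2) (Fin 2) R) :
    matEquiv R T 2 (((AzInv.LamInv.transpose (AlgEquiv.refl : R ≃ₐ[R] R) (Fin 2) hlam).conj
      J (-1) hJt hneg).bc R (AlgEquiv.refl : R ≃ₐ[R] R) T w) =
      (↑(JT R T J) : Matrix (Fin 2) (Fin 2) T) * (matEquiv R T 2 w).transpose *
        (↑(JT R T J)⁻¹ : Matrix (Fin 2) (Fin 2) T) := by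
  induction w using TensorProduct.induction_on with
  | zero => simp
  | tmul y M =>
    rw [AzInv.LamInv.bc_tmul, matEquiv_tmul, matEquiv_tmul, AzInv.LamInv.conj_apply,
      Matrix.transpose_smul, Matrix.mul_smul, Matrix.smul_mul, JT_val, JT_inv]
    congr 1
    have h1 : (AzInv.LamInv.transpose (AlgEquiv.refl : R ≃ₐ[R] R) (Fin 2) hlam) M = M.transpose :=
      rfl
    rw [h1, Matrix.map_mul, Matrix.map_mul, Matrix.transpose_map]
  | add x y hx hy =>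
    rw [map_add, map_add, hx, hy, map_add, Matrix.transpose_add, mul_add, add_mul]

/-- `T ⊗ M_n(M_2(R)) ≃ M_{2 × n}(T)`. -/
noncomputable def ThetaS : T ⊗[R] Matrix (Fin n) (Fin n) (Matrix (Fin 2) (Fin 2) R) ≃ₐ[T]
    Matrix (Fin 2 × Fin n) (Fin 2 × Fin n) T :=
  (tm R T (Matrix (Fin 2) (Fin 2) R) (Fin n)).trans
    ((matEquiv R T 2).mapMatrix.trans
      ((Matrix.compAlgEquiv (Fin n) (Fin 2) T T).trans
        (Matrix.reindexAlgEquiv T T (Equiv.prodComm (Fin n) (Fin 2)))))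

theorem ThetaS_apply (z : T ⊗[R] Matrix (Fin n) (Fin n) (Matrix (Fin 2) (Fin 2) R)) :
    ThetaS R T n z = Matrix.reindexAlgEquiv T T (Equiv.prodComm (Fin n) (Fin 2))
      (Matrix.comp (Fin n) (Fin n) (Fin 2) (Fin 2) T
        ((tm R T (Matrix (Fin 2) (Fin 2) R) (Fin n) z).map (matEquiv R T 2))) := rfl

/-- The unit `J ⊗ 1` in `M_{2 × n}(T)`. -/
noncomputable def HS : (Matrix (Fin 2 × Fin n) (Fin 2 × Fin n) T)ˣ :=
  Units.map (Matrix.reindexAlgEquiv T T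
    (Equiv.prodComm (Fin n) (Fin 2))).toAlgHom.toRingHom.toMonoidHom
    (diagUnit (I := Fin n) (JT R T J))

theorem ThetaS_bc (z : T ⊗[R] Matrix (Fin n) (Fin n) (Matrix (Fin 2) (Fin 2) R)) :
    ThetaS R T n ((((AzInv.LamInv.transpose (AlgEquiv.refl : R ≃ₐ[R] R) (Fin 2) hlam).conj
      J (-1) hJt hneg).matrix (Fin n)).bc R (AlgEquiv.refl : R ≃ₐ[R] R) T z) =
      (↑(HS R T n J) : Matrix (Fin 2 × Fin n) (Fin 2 × Fin n) T) * (ThetaS R T n z).transpose *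
        (↑(HS R T n J)⁻¹ : Matrix (Fin 2 × Fin n) (Fin 2 × Fin n) T) := by
  rw [ThetaS_apply, ThetaS_apply]
  have h := comp_blockInv (I := Fin n) (JT R T J)
    ((tm R T (Matrix (Fin 2) (Fin 2) R) (Fin n) z).map (matEquiv R T 2))
    ((tm R T (Matrix (Fin 2) (Fin 2) R) (Fin n)
      ((((AzInv.LamInv.transpose (AlgEquiv.refl : R ≃ₐ[R] R) (Fin 2) hlam).conj
      J (-1) hJt hneg).matrix (Fin n)).bc R (AlgEquiv.refl : R ≃ₐ[R] R) T z)).map (matEquiv R T 2))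
    (by
      intro i j
      rw [Matrix.map_apply, Matrix.map_apply, tm_bc, matEquiv_conjJ_bc])
  rw [h, map_mul, map_mul]
  rfl

theorem HS_val (hJ : (↑J : Matrix (Fin 2) (Fin 2) R) = Matrix.of ![![0, -1], ![1, 0]]) :
    (↑(HS R T n J) : Matrix (Fin 2 × Fin n) (Fin 2 × Fin n) T) =
      Matrix.comp (Fin 2) (Fin 2) (Fin n) (Fin n) T H2 := by
  ext ⟨i, k⟩ ⟨j, l⟩
  show (Matrix.diagonal (fun _ : Fin n => (↑(JT R T J) : Matrix (Fin 2) (Fin 2) T))) k l i j =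
    (H2 : Matrix (Fin 2) (Fin 2) (Matrix (Fin n) (Fin n) T)) i j k l
  rw [JT_val, hJ]
  by_cases hkl : k = l
  · subst hkl
    rw [Matrix.diagonal_apply_eq]
    fin_cases i <;> fin_cases j <;> simp [H2]
  · rw [Matrix.diagonal_apply_ne _ hkl]
    fin_cases i <;> fin_cases j <;> simp [H2, Matrix.one_apply_ne hkl]

end TargetSympl

end Groth.Agent.H96.InvChains
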