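import Mathlib

/-!
# Base change of the range of an idempotent endomorphism
-/

set_option autoImplicit false
set_option linter.style.haveILetI false
set_option linter.unusedSectionVars false

open TensorProduct

namespace Groth.Agent.H96.ProjBC

variable {R : Type*} [CommRing R] {M : Type*} [AddCommGroup M] [Module R M]
  (π : M →ₗ[R] M) (hπ : π ∘ₗ π = π) (T : Type*) [CommRing T] [Algebra R T]

include hπ in
theorem rangeRestrict_comp_subtype :
    π.rangeRestrict ∘ₗ (LinearMap.range π).subtype = LinearMap.id := by
  ext ⟨x, m, rfl⟩
  show π (π m) = π m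
  exact LinearMap.congr_fun hπ m

include hπ in
theorem projective_range [Module.Projective R M] : Module.Projective R (LinearMap.range π) :=
  Module.Projective.of_split (LinearMap.range π).subtype π.rangeRestrict
    (rangeRestrict_comp_subtype π hπ)

include hπ in
theorem baseChange_subtype_injective :
    Function.Injective ((LinearMap.range π).subtype.baseChange T) := by
  have h : (π.rangeRestrict.baseChange T) ∘ₗ ((LinearMap.range π).subtype.baseChange T) =
      LinearMap.id := by
    rw [← LinearMap.baseChange_comp, rangeRestrict_comp_subtype π hπ, LinearMap.baseChange_id]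
  exact Function.LeftInverse.injective (g := π.rangeRestrict.baseChange T)
    (fun x => LinearMap.congr_fun h x)

theorem range_baseChange_subtype :
    LinearMap.range ((LinearMap.range π).subtype.baseChange T) =
      LinearMap.range (π.baseChange T) := by
  have h1 : π = (LinearMap.range π).subtype ∘ₗ π.rangeRestrict := by
    ext m; rfl
  have h2 : π.baseChange T = ((LinearMap.range π).subtype.baseChange T) ∘ₗ
      (π.rangeRestrict.baseChange T) := by
    rw [← LinearMap.baseChange_comp, ← h1]
  have hsurj : Function.Surjective (π.rangeRestrict.baseChange T) :=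
    LinearMap.lTensor_surjective T π.surjective_rangeRestrict
  rw [h2, LinearMap.range_comp_of_range_eq_top _ (LinearMap.range_eq_top.mpr hsurj)]

/-- `T ⊗ range π ≃ range (T ⊗ π)`. -/
noncomputable def rangeEquiv :
    T ⊗[R] LinearMap.range π ≃ₗ[T] LinearMap.range (π.baseChange T) :=
  (LinearEquiv.ofInjective _ (baseChange_subtype_injective π hπ T)).trans
    (LinearEquiv.ofEq _ _ (range_baseChange_subtype π T))

include hπ in
theorem rankAtStalk_range_baseChange [Module.Finite R M] [Module.Projective R M]
    (Q : PrimeSpectrum T) :
    Module.rankAtStalk (R := T) (LinearMap.range (π.baseChange T)) Q =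
      Module.rankAtStalk (R := R) (LinearMap.range π) (Q.comap (algebraMap R T)) := by
  haveI : Module.Projective R (LinearMap.range π) := projective_range π hπ
  rw [← Module.rankAtStalk_eq_of_equiv (rangeEquiv π hπ T), Module.rankAtStalk_baseChange]

/-- Ranges of intertwined endomorphisms are isomorphic. -/
noncomputable def rangeCongr {N : Type*} [AddCommGroup N] [Module R N] (ρ : N →ₗ[R] N)
    (g : M ≃ₗ[R] N) (hg : ∀ x, g (π x) = ρ (g x)) :
    LinearMap.range π ≃ₗ[R] LinearMap.range ρ :=
  LinearEquiv.ofBijective
    ((g.toLinearMap.restrict (p := LinearMap.range π) (q := LinearMap.range ρ)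
      (by rintro _ ⟨m, rfl⟩; exact ⟨g m, (hg m).symm⟩)))
    ⟨fun x y h => Subtype.ext (g.injective (congrArg Subtype.val h)),
      fun ⟨y, n, hn⟩ => ⟨⟨π (g.symm n), ⟨_, rfl⟩⟩, Subtype.ext (by
        show g (π (g.symm n)) = y
        rw [hg, g.apply_symm_apply, hn])⟩⟩

end Groth.Agent.H96.ProjBC
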