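import Mathlib
import Groth.Agent.H96.ProjBC

/-!
# Symmetric matrices have larger rank than skew-symmetric ones (2 invertible)
-/

set_option autoImplicit false
set_option linter.style.haveILetI false
set_option linter.unusedSectionVars false

open TensorProduct

namespace Groth.Agent.H96.SymSkewRank

variable {T : Type*} [CommRing T] {n : ℕ}

/-- The map `y ↦ c • (y + δ • yᵀ)`. -/
noncomputable def P (c δ : T) : Matrix (Fin n) (Fin n) T →ₗ[T] Matrix (Fin n) (Fin n) T :=
  c • (LinearMap.id + δ • (Matrix.transposeLinearEquiv (Fin n) (Fin n) T T).toLinearMap)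

theorem P_apply (c δ : T) (y : Matrix (Fin n) (Fin n) T) :
    P c δ y = c • (y + δ • y.transpose) := rfl

theorem P_idem (c δ : T) (hc : 2 * c = 1) (hδ : δ * δ = 1) :
    (P c δ : Matrix (Fin n) (Fin n) T →ₗ[T] _) ∘ₗ P c δ = P c δ := by
  ext y i j
  simp only [LinearMap.comp_apply, P_apply, Matrix.smul_apply, Matrix.add_apply,
    Matrix.transpose_apply, smul_eq_mul]
  have h1 : c * c * 2 = c := by
    rw [mul_assoc, mul_comm c 2, hc, mul_one]
  linear_combination (y i j + δ * y j i) * h1 + (c * c * y i j) * hδ

section Field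

variable {K : Type*} [Field K]

/-- Symmetrization from the upper triangle. -/
def Lam : Matrix (Fin n) (Fin n) K →ₗ[K] Matrix (Fin n) (Fin n) K where
  toFun y := Matrix.of fun i j => if i ≤ j then y i j else y j i
  map_add' y z := by
    ext i j
    simp only [Matrix.of_apply, Matrix.add_apply]
    split_ifs <;> rfl
  map_smul' a y := by
    ext i j
    simp only [Matrix.of_apply, Matrix.smul_apply, RingHom.id_apply]
    split_ifs <;> rfl

theorem Lam_apply (y : Matrix (Fin n) (Fin n) K) (i j : Fin n) :
    Lam y i j = if i ≤ j then y i j else y j i := rfl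

theorem Lam_transpose (y : Matrix (Fin n) (Fin n) K) : (Lam y).transpose = Lam y := by
  ext i j
  rw [Matrix.transpose_apply, Lam_apply, Lam_apply]
  rcases lt_trichotomy i j with h | h | h
  · rw [if_neg (not_le.mpr h), if_pos h.le]
  · subst h; rfl
  · rw [if_pos h.le, if_neg (not_le.mpr h)]

theorem mem_range_P_one (c : K) (hc : 2 * c = 1) (z : Matrix (Fin n) (Fin n) K)
    (hz : z.transpose = z) : z ∈ LinearMap.range (P c 1 : _ →ₗ[K] Matrix (Fin n) (Fin n) K) := by
  refine ⟨z, ?_⟩
  rw [P_apply, hz, one_smul, ← two_smul K z, smul_smul, mul_comm, hc, one_smul]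

theorem transpose_of_mem_range_neg (c : K) (y : Matrix (Fin n) (Fin n) K)
    (hy : y ∈ LinearMap.range (P c (-1) : _ →ₗ[K] Matrix (Fin n) (Fin n) K)) :
    y.transpose = -y := by
  obtain ⟨z, rfl⟩ := hy
  ext i j
  simp only [P_apply, Matrix.transpose_apply, Matrix.smul_apply, Matrix.add_apply,
    Matrix.neg_apply, smul_eq_mul]
  ring

theorem finrank_lt (hn : 0 < n) (c : K) (hc : 2 * c = 1) :
    Module.finrank K (LinearMap.range (P c (-1) : _ →ₗ[K] Matrix (Fin n) (Fin n) K)) <
      Module.finrank K (LinearMap.range (P c 1 : _ →ₗ[K] Matrix (Fin n) (Fin n) K)) := by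
  have h2 : (2 : K) ≠ 0 := by
    intro h
    rw [h, zero_mul] at hc
    exact zero_ne_one hc
  let i₀ : Fin n := ⟨0, hn⟩
  let F : (LinearMap.range (P c (-1) : _ →ₗ[K] Matrix (Fin n) (Fin n) K)) × K →ₗ[K]
      LinearMap.range (P c 1 : _ →ₗ[K] Matrix (Fin n) (Fin n) K) :=
    LinearMap.codRestrict _
      ((Lam ∘ₗ (Submodule.subtype _)).coprod
        (LinearMap.toSpanSingleton K _ (Matrix.single i₀ i₀ (1 : K))))
      (by
        rintro ⟨y, a⟩
        apply mem_range_P_one c hc
        simp only [LinearMap.coprod_apply, LinearMap.comp_apply, Submodule.subtype_apply,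
          LinearMap.toSpanSingleton_apply, Matrix.transpose_add, Lam_transpose,
          Matrix.transpose_smul, Matrix.transpose_single])
  have hF : ∀ (y : LinearMap.range (P c (-1) : _ →ₗ[K] Matrix (Fin n) (Fin n) K)) (a : K),
      ((F (y, a) : LinearMap.range (P c 1 : _ →ₗ[K] Matrix (Fin n) (Fin n) K)) :
        Matrix (Fin n) (Fin n) K) = Lam (y : Matrix (Fin n) (Fin n) K) +
          a • Matrix.single i₀ i₀ (1 : K) := fun y a => rfl
  have hinj : Function.Injective F := by
    rw [injective_iff_map_eq_zero]
    rintro ⟨y, a⟩ h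
    have h0 : Lam (y : Matrix (Fin n) (Fin n) K) + a • Matrix.single i₀ i₀ (1 : K) = 0 := by
      rw [← hF, h]; rfl
    have hsk := transpose_of_mem_range_neg c _ y.2
    have hdiag : ∀ i, (y : Matrix (Fin n) (Fin n) K) i i = 0 := by
      intro i
      have := congrFun (congrFun hsk i) i
      rw [Matrix.transpose_apply, Matrix.neg_apply] at this
      have h3 : (2 : K) * (y : Matrix (Fin n) (Fin n) K) i i = 0 := by linear_combination this
      exact (mul_eq_zero.mp h3).resolve_left h2
    have ha : a = 0 := by
      have := congrFun (congrFun h0 i₀) i₀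
      rw [Matrix.add_apply, Lam_apply, if_pos le_rfl, hdiag, Matrix.smul_apply,
        Matrix.single_apply_same, zero_add, smul_eq_mul, mul_one] at this
      exact this
    have hy : (y : Matrix (Fin n) (Fin n) K) = 0 := by
      rw [ha, zero_smul, add_zero] at h0
      ext i j
      rcases le_or_gt i j with h | h
      · have := congrFun (congrFun h0 i) j
        rwa [Lam_apply, if_pos h] at this
      · have h1 := congrFun (congrFun h0 j) i
        rw [Lam_apply, if_pos h.le] at h1
        have h2' := congrFun (congrFun hsk i) j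
        rw [Matrix.transpose_apply, Matrix.neg_apply, h1] at h2'
        rw [Matrix.zero_apply] at h2' ⊢
        exact neg_eq_zero.mp h2'.symm
    exact Prod.ext (Subtype.ext hy) ha
  have := LinearMap.finrank_le_finrank_of_injective hinj
  rw [Module.finrank_prod, Module.finrank_self] at this
  omega

end Field


section Ring

/-- `K ⊗ M_n(T) ≃ M_n(K)`, `K`-linearly. -/
noncomputable def me (K : Type*) [Field K] [Algebra T K] :
    K ⊗[T] Matrix (Fin n) (Fin n) T ≃ₗ[K] Matrix (Fin n) (Fin n) K :=
  { (matrixEquivTensor (Fin n) T K).symm.toLinearEquiv.toAddEquiv with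
    map_smul' := fun k x => by
      show (matrixEquivTensor (Fin n) T K).symm (k • x) =
        k • (matrixEquivTensor (Fin n) T K).symm x
      induction x using TensorProduct.induction_on with
      | zero => simp
      | tmul a y =>
        rw [TensorProduct.smul_tmul', matrixEquivTensor_apply_symm, matrixEquivTensor_apply_symm,
          smul_eq_mul, mul_smul]
      | add x y hx hy => rw [smul_add, map_add, hx, hy, map_add, smul_add] }

theorem me_tmul (K : Type*) [Field K] [Algebra T K] (k : K) (y : Matrix (Fin n) (Fin n) T) :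
    me K (k ⊗ₜ[T] y) = k • y.map (algebraMap T K) :=
  matrixEquivTensor_apply_symm _ _ _ k y

theorem me_baseChange (K : Type*) [Field K] [Algebra T K] (c δ : T)
    (x : K ⊗[T] Matrix (Fin n) (Fin n) T) :
    me K ((P c δ).baseChange K x) = P (algebraMap T K c) (algebraMap T K δ) (me K x) := by
  induction x using TensorProduct.induction_on with
  | zero => simp
  | tmul k y =>
    rw [LinearMap.baseChange_tmul, me_tmul, me_tmul, P_apply, P_apply]
    ext i j
    simp only [Matrix.smul_apply, Matrix.map_apply, Matrix.add_apply, Matrix.transpose_apply,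
      smul_eq_mul, map_mul, map_add]
    ring
  | add x y hx hy => rw [map_add, map_add, hx, hy, map_add, map_add]

theorem rank_lt (hn : 0 < n) (c : T) (hc : 2 * c = 1) (δ : T) (hδ : δ * δ = 1)
    (Q : PrimeSpectrum T) (hQ : δ - 1 ∈ Q.asIdeal) :
    Module.rankAtStalk (R := T)
      (LinearMap.range (P c (-δ) : _ →ₗ[T] Matrix (Fin n) (Fin n) T)) Q <
    Module.rankAtStalk (R := T)
      (LinearMap.range (P c δ : _ →ₗ[T] Matrix (Fin n) (Fin n) T)) Q := by
  have hδ' : (-δ) * (-δ) = 1 := by rw [neg_mul_neg, hδ]
  have hid1 := P_idem (n := n) c δ hc hδ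
  have hid2 := P_idem (n := n) c (-δ) hc hδ'
  haveI := ProjBC.projective_range _ hid1
  haveI := ProjBC.projective_range _ hid2
  set K := Q.asIdeal.ResidueField with hK
  have hδK : algebraMap T K δ = 1 := by
    have : algebraMap T K (δ - 1) = 0 := Q.asIdeal.algebraMap_residueField_eq_zero.mpr hQ
    rw [map_sub, map_one, sub_eq_zero] at this
    exact this
  have hcK : 2 * algebraMap T K c = 1 := by
    have := congrArg (algebraMap T K) hc
    rwa [map_mul, map_ofNat, map_one] at this
  have e1 : ∀ d : T, d * d = 1 →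
      Module.rankAtStalk (R := T) (LinearMap.range (P c d : _ →ₗ[T] Matrix (Fin n) (Fin n) T)) Q
        = Module.finrank K (LinearMap.range
          (P (algebraMap T K c) (algebraMap T K d) : _ →ₗ[K] Matrix (Fin n) (Fin n) K)) := by
    intro d hd
    have hid := P_idem (n := n) c d hc hd
    haveI := ProjBC.projective_range _ hid
    rw [Module.rankAtStalk_eq]
    have E1 := ProjBC.rangeEquiv (P c d : _ →ₗ[T] Matrix (Fin n) (Fin n) T) hid K
    have E2 := ProjBC.rangeCongr (R := K) ((P c d : _ →ₗ[T] Matrix (Fin n) (Fin n) T).baseChange K)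
      (P (algebraMap T K c) (algebraMap T K d)) (me K) (me_baseChange K c d)
    exact (E1.trans E2).finrank_eq
  rw [e1 δ hδ, e1 (-δ) hδ', map_neg, hδK]
  exact finrank_lt hn _ hcK

end Ring

end Groth.Agent.H96.SymSkewRank
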