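import Mathlib
import Groth.Prelude.Def_AzInv
import Groth.Agent.H96.ProjBC
import Groth.Agent.H96.SymSkewRank
import Groth.Agent.H96.AzInvUnitary

/-!
# The sign of an involution of the first kind is constant on a connected base
-/

set_option autoImplicit false
set_option linter.style.haveILetI false
set_option linter.unusedSectionVars false
universe u w u'

open TensorProduct

namespace Groth.Agent.H96.InvSign

section Eps

variable {T : Type*} [CommRing T] {n : ℕ} (hn : 0 < n) (u : (Matrix (Fin n) (Fin n) T)ˣ)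
  (hσσ : ∀ x : Matrix (Fin n) (Fin n) T,
    (↑u : Matrix (Fin n) (Fin n) T) *
      ((↑u : Matrix (Fin n) (Fin n) T) * x.transpose * (↑u⁻¹ : Matrix (Fin n) (Fin n) T)).transpose *
        (↑u⁻¹ : Matrix (Fin n) (Fin n) T) = x)

include hn hσσ in
theorem exists_eps : ∃ ε : T, (↑u : Matrix (Fin n) (Fin n) T).transpose =
    ε • (↑u : Matrix (Fin n) (Fin n) T) ∧ ε * ε = 1 := by
  set U : Matrix (Fin n) (Fin n) T := ↑u with hU
  set V : Matrix (Fin n) (Fin n) T := ↑u⁻¹ with hV
  have hUV : U * V = 1 := by rw [hU, hV, ← Units.val_mul, mul_inv_cancel, Units.val_one]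
  have hVU : V * U = 1 := by rw [hU, hV, ← Units.val_mul, inv_mul_cancel, Units.val_one]
  have hVUt : V.transpose * U.transpose = 1 := by
    rw [← Matrix.transpose_mul, hUV, Matrix.transpose_one]
  have hUVt : U.transpose * V.transpose = 1 := by
    rw [← Matrix.transpose_mul, hVU, Matrix.transpose_one]
  have h1 : ∀ x : Matrix (Fin n) (Fin n) T,
      (U * V.transpose) * x * (U.transpose * V) = x := by
    intro x
    have := hσσ x
    rw [Matrix.transpose_mul, Matrix.transpose_mul, Matrix.transpose_transpose] at this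
    calc (U * V.transpose) * x * (U.transpose * V)
        = U * (V.transpose * (x * U.transpose)) * V := by simp only [mul_assoc]
      _ = x := this
  have hcomm : ∀ x : Matrix (Fin n) (Fin n) T, (U * V.transpose) * x = x * (U * V.transpose) := by
    intro x
    have h2 : (U.transpose * V) * (U * V.transpose) = 1 := by
      calc (U.transpose * V) * (U * V.transpose)
          = U.transpose * ((V * U) * V.transpose) := by simp only [mul_assoc]
        _ = 1 := by rw [hVU, one_mul, hUVt]
    calc (U * V.transpose) * x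
        = ((U * V.transpose) * x * (U.transpose * V)) * (U * V.transpose) := by
          rw [mul_assoc _ (U.transpose * V), h2, mul_one]
      _ = x * (U * V.transpose) := by rw [h1]
  obtain ⟨ε, hε⟩ := Matrix.mem_range_scalar_iff_commute_single'.mpr
    (fun i j => (hcomm (Matrix.single i j 1)).symm)
  have hε' : U * V.transpose = ε • (1 : Matrix (Fin n) (Fin n) T) := by
    rw [← hε, Matrix.scalar_apply, ← Matrix.smul_one_eq_diagonal]
  have hu1 : U = ε • U.transpose := by
    calc U = (U * V.transpose) * U.transpose := by rw [mul_assoc, hVUt, mul_one]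
      _ = ε • U.transpose := by rw [hε', smul_mul_assoc, one_mul]
  have hu2 : U.transpose = ε • U := by
    have := congrArg Matrix.transpose hu1
    rwa [Matrix.transpose_smul, Matrix.transpose_transpose] at this
  refine ⟨ε, hu2, ?_⟩
  have h3 : U = (ε * ε) • U := by
    rw [mul_smul, ← hu2, ← hu1]
  have h4 : (1 : Matrix (Fin n) (Fin n) T) = (ε * ε) • 1 := by
    calc (1 : Matrix (Fin n) (Fin n) T) = U * V := hUV.symm
      _ = ((ε * ε) • U) * V := by rw [← h3]
      _ = (ε * ε) • 1 := by rw [smul_mul_assoc, hUV]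
  have h5 := congrFun (congrFun h4 ⟨0, hn⟩) ⟨0, hn⟩
  rw [Matrix.smul_apply, Matrix.one_apply_eq, smul_eq_mul, mul_one] at h5
  exact h5.symm

end Eps


section Sign

variable (R : Type u) [CommRing R] [ConnectedSpace (PrimeSpectrum R)] (c : R) (hc : 2 * c = 1)
  (A : Type w) [Ring A] [Algebra R A] [Module.Finite R A] [Module.Projective R A]
  (t : AzInv.LamInv R A (AlgEquiv.refl : R ≃ₐ[R] R))

/-- The projector `a ↦ c (a + d • t a)` (`c = 1/2`, `d = ±1`). -/
noncomputable def pr (d : R) : A →ₗ[R] A :=
  c • (LinearMap.id + d • t.linS R (AlgEquiv.refl : R ≃ₐ[R] R))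

theorem pr_apply (d : R) (a : A) : pr R c A t d a = c • (a + d • t a) := rfl

include hc in
theorem pr_idem (d : R) (hd : d * d = 1) : pr R c A t d ∘ₗ pr R c A t d = pr R c A t d := by
  ext a
  have ht : t (c • (a + d • t a)) = c • (t a + d • a) := by
    rw [t.map_smul, t.map_add, t.map_smul, t.invol]
    rfl
  have h1 : c * c * 2 = c := by rw [mul_assoc, mul_comm c 2, hc, mul_one]
  rw [LinearMap.comp_apply, pr_apply, pr_apply, ht]
  have e : c • (c • (a + d • t a) + d • (c • (t a + d • a))) =
      (c * c * 2 + c * c * (d * d - 1)) • a + (c * c * 2 * d) • t a := by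
    module
  rw [e, hd, sub_self, mul_zero, add_zero, h1]
  module

include hc in
theorem rank_const (d : R) (hd : d * d = 1) (q q' : PrimeSpectrum R) :
    Module.rankAtStalk (R := R) (LinearMap.range (pr R c A t d)) q =
      Module.rankAtStalk (R := R) (LinearMap.range (pr R c A t d)) q' := by
  haveI := ProjBC.projective_range _ (pr_idem R c hc A t d hd)
  haveI : Module.FinitePresentation R (LinearMap.range (pr R c A t d)) :=
    Module.finitePresentation_of_projective _ _
  exact (Module.isLocallyConstant_rankAtStalk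
    (M := LinearMap.range (pr R c A t d))).apply_eq_of_preconnectedSpace q q'

variable {T : Type u'} [CommRing T] [Algebra R T] {n : ℕ} (hn : 0 < n)
  (φ : T ⊗[R] A ≃ₐ[T] Matrix (Fin n) (Fin n) T) (u : (Matrix (Fin n) (Fin n) T)ˣ)
  (hφ : ∀ x : T ⊗[R] A, φ (t.bc R (AlgEquiv.refl : R ≃ₐ[R] R) T x) =
    (↑u : Matrix (Fin n) (Fin n) T) * (φ x).transpose * (↑u⁻¹ : Matrix (Fin n) (Fin n) T))
  (ε : T) (hε : (↑u : Matrix (Fin n) (Fin n) T).transpose = ε • (↑u : Matrix (Fin n) (Fin n) T))
  (hεε : ε * ε = 1)

/-- `x ↦ φ x * u`. -/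
noncomputable def gmap : T ⊗[R] A ≃ₗ[T] Matrix (Fin n) (Fin n) T :=
  φ.toLinearEquiv.trans
    { toFun := fun x => x * (↑u : Matrix (Fin n) (Fin n) T)
      invFun := fun x => x * (↑u⁻¹ : Matrix (Fin n) (Fin n) T)
      map_add' := fun x y => add_mul x y _
      map_smul' := fun a x => smul_mul_assoc a x _
      left_inv := fun x => by
        show x * (↑u : Matrix (Fin n) (Fin n) T) * (↑u⁻¹ : Matrix (Fin n) (Fin n) T) = x
        rw [mul_assoc, ← Units.val_mul, mul_inv_cancel, Units.val_one, mul_one]
      right_inv := fun x => by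
        show x * (↑u⁻¹ : Matrix (Fin n) (Fin n) T) * (↑u : Matrix (Fin n) (Fin n) T) = x
        rw [mul_assoc, ← Units.val_mul, inv_mul_cancel, Units.val_one, mul_one] }

theorem gmap_apply (x : T ⊗[R] A) : gmap R A φ u x = φ x * (↑u : Matrix (Fin n) (Fin n) T) := rfl

include hφ hε hεε in
theorem gmap_bc (x : T ⊗[R] A) :
    gmap R A φ u (t.bc R (AlgEquiv.refl : R ≃ₐ[R] R) T x) = ε • (gmap R A φ u x).transpose := by
  rw [gmap_apply, gmap_apply, hφ, Matrix.transpose_mul, hε, smul_mul_assoc, smul_smul, hεε,
    one_smul, mul_assoc, ← Units.val_mul, inv_mul_cancel, Units.val_one, mul_one]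

include hφ hε hεε in
theorem gmap_pr (d : R) (x : T ⊗[R] A) :
    gmap R A φ u ((pr R c A t d).baseChange T x) =
      SymSkewRank.P (algebraMap R T c) (algebraMap R T d * ε) (gmap R A φ u x) := by
  have h1 : (pr R c A t d).baseChange T x =
      algebraMap R T c • (x + algebraMap R T d • t.bc R (AlgEquiv.refl : R ≃ₐ[R] R) T x) := by
    induction x using TensorProduct.induction_on with
    | zero => simp
    | tmul y a =>
      rw [LinearMap.baseChange_tmul, pr_apply, AzInv.LamInv.bc_tmul, TensorProduct.tmul_smul,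
        TensorProduct.tmul_add, TensorProduct.tmul_smul, algebraMap_smul, algebraMap_smul]
    | add x y hx hy =>
      rw [map_add, hx, hy, map_add]
      simp only [smul_add]
      abel
  rw [h1, map_smul, map_add, map_smul, gmap_bc R A t φ u hφ ε hε hεε, SymSkewRank.P_apply,
    smul_smul]

include hc hn hφ hε hεε in
/-- The sign is globally `1` or `-1`. -/
theorem eps_const : ε = 1 ∨ ε = -1 := by
  have h2T : (2 : T) * algebraMap R T c = 1 := by
    have := congrArg (algebraMap R T) hc
    rwa [map_mul, map_ofNat, map_one] at this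
  have hidp := pr_idem R c hc A t 1 (one_mul 1)
  have hidm := pr_idem R c hc A t (-1) (by ring)
  -- ranks over T
  have hrank : ∀ (d : R) (hd : d * d = 1) (δ : T) (hδ : δ = algebraMap R T d * ε)
      (Q : PrimeSpectrum T),
      Module.rankAtStalk (R := T) (LinearMap.range
        (SymSkewRank.P (n := n) (algebraMap R T c) δ)) Q =
      Module.rankAtStalk (R := R) (LinearMap.range (pr R c A t d))
        (Q.comap (algebraMap R T)) := by
    intro d hd δ hδ Q
    subst hδ
    rw [← ProjBC.rankAtStalk_range_baseChange _ (pr_idem R c hc A t d hd) T Q]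
    exact (congrFun (Module.rankAtStalk_eq_of_equiv (ProjBC.rangeCongr (R := T)
      ((pr R c A t d).baseChange T) _ (gmap R A φ u)
      (gmap_pr R c A t φ u hφ ε hε hεε d))) Q).symm
  have hp := hrank 1 (one_mul 1) ε (by rw [map_one, one_mul])
  have hm := hrank (-1) (by ring) (-ε) (by rw [map_neg, map_one, neg_mul, one_mul])
  have hprime : ∀ Q : PrimeSpectrum T, ε - 1 ∈ Q.asIdeal ∨ ε + 1 ∈ Q.asIdeal := by
    intro Q
    have : (ε - 1) * (ε + 1) ∈ Q.asIdeal := by
      have : (ε - 1) * (ε + 1) = 0 := by linear_combination hεε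
      rw [this]; exact Q.asIdeal.zero_mem
    exact Q.isPrime.mem_or_mem this
  have hlt1 : ∀ Q : PrimeSpectrum T, ε - 1 ∈ Q.asIdeal →
      Module.rankAtStalk (R := R) (LinearMap.range (pr R c A t (-1))) (Q.comap (algebraMap R T)) <
      Module.rankAtStalk (R := R) (LinearMap.range (pr R c A t 1)) (Q.comap (algebraMap R T)) := by
    intro Q hQ
    rw [← hp, ← hm]
    exact SymSkewRank.rank_lt hn _ h2T ε hεε Q hQ
  have hlt2 : ∀ Q : PrimeSpectrum T, ε + 1 ∈ Q.asIdeal →
      Module.rankAtStalk (R := R) (LinearMap.range (pr R c A t 1)) (Q.comap (algebraMap R T)) <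
      Module.rankAtStalk (R := R) (LinearMap.range (pr R c A t (-1))) (Q.comap (algebraMap R T)) := by
    intro Q hQ
    rw [← hp, ← hm]
    have := SymSkewRank.rank_lt hn _ h2T (-ε) (by rw [neg_mul_neg, hεε]) Q
      (by have : -ε - 1 = -(ε + 1) := by ring
          rw [this]; exact neg_mem hQ)
    rwa [neg_neg] at this
  have hnil : ∀ x : T, (∀ Q : PrimeSpectrum T, x ∈ Q.asIdeal) → IsNilpotent x := by
    intro x hx
    rw [← mem_nilradical, nilradical_eq_sInf, Ideal.mem_sInf]
    intro J hJ
    exact hx ⟨J, hJ⟩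
  have h2u : IsUnit (2 : T) := IsUnit.of_mul_eq_one _ h2T
  by_cases hall : ∀ Q : PrimeSpectrum T, ε - 1 ∈ Q.asIdeal
  · left
    have hn1 := hnil _ hall
    have hu : IsUnit (ε + 1) := by
      have : ε + 1 = 2 + (ε - 1) := by ring
      rw [this]
      exact IsNilpotent.isUnit_add_left_of_commute hn1 h2u (Commute.all _ _)
    have h0 : (ε - 1) * (ε + 1) = 0 := by linear_combination hεε
    have := hu.mul_left_eq_zero.mp h0
    exact sub_eq_zero.mp this
  · right
    push Not at hall
    obtain ⟨Q₀, hQ₀⟩ := hall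
    have hQ₀' := (hprime Q₀).resolve_left hQ₀
    have hall2 : ∀ Q : PrimeSpectrum T, ε + 1 ∈ Q.asIdeal := by
      intro Q
      rcases hprime Q with h | h
      · exfalso
        have a1 := hlt1 Q h
        have a2 := hlt2 Q₀ hQ₀'
        rw [rank_const R c hc A t 1 (one_mul 1) _ (Q.comap (algebraMap R T)),
          rank_const R c hc A t (-1) (by ring) _ (Q.comap (algebraMap R T))] at a2
        omega
      · exact h
    have hn1 := hnil _ hall2
    have hu : IsUnit (ε - 1) := by
      have : ε - 1 = -2 + (ε + 1) := by ring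
      rw [this]
      exact IsNilpotent.isUnit_add_left_of_commute hn1 h2u.neg (Commute.all _ _)
    have h0 : (ε + 1) * (ε - 1) = 0 := by linear_combination hεε
    have := hu.mul_left_eq_zero.mp h0
    exact eq_neg_of_add_eq_zero_left this

end Sign

end Groth.Agent.H96.InvSign
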