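import Mathlib
import Groth.Prelude.Def_SGA3b
import Groth.Agent.H96.DualBC
import Groth.Agent.H96.DiagLocal

/-!
# Finite Hopf algebras with étale dual over a connected base are isotrivial
-/

set_option autoImplicit false
set_option linter.style.haveILetI false
set_option linter.unusedSectionVars false
universe u

namespace Groth.Agent.H96.IsoTriv

open TensorProduct Coalgebra WithConv Groth.Agent.H96.GrpLikeBasis Groth.Agent.H96.DiagBasis
  Groth.Agent.H96.DiagLocal Groth.Agent.H96.DualBC

section Away

variable {T : Type u} [CommRing T] {e : T} (he : IsIdempotentElem e)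

include he

lemma away_map_self : algebraMap T (Localization.Away e) e = 1 := by
  have hu : IsUnit (algebraMap T (Localization.Away e) e) :=
    IsLocalization.Away.algebraMap_isUnit e
  have h2 : algebraMap T (Localization.Away e) e * algebraMap T (Localization.Away e) e =
      algebraMap T (Localization.Away e) e * 1 := by
    rw [← map_mul, he.eq, mul_one]
  exact hu.mul_left_cancel h2

lemma away_nontrivial (hne : e ≠ 0) : Nontrivial (Localization.Away e) := by
  rw [← not_subsingleton_iff_nontrivial,
    IsLocalization.subsingleton_iff (M := Submonoid.powers e)]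
  rintro ⟨n, hn⟩
  cases n with
  | zero =>
    have h1 : (1 : T) = 0 := by simpa using hn
    exact hne (by rw [← mul_one e, h1, mul_zero])
  | succ n => exact hne ((he.pow_succ_eq n).symm.trans hn)

lemma away_surjective : Function.Surjective (algebraMap T (Localization.Away e)) := by
  intro z
  obtain ⟨⟨x, ⟨_, n, rfl⟩⟩, rfl⟩ := IsLocalization.mk'_surjective (Submonoid.powers e) z
  refine ⟨x, ?_⟩
  have h := IsLocalization.mk'_spec (Localization.Away e) x (⟨e ^ n, n, rfl⟩ : Submonoid.powers e)
  rw [map_pow, away_map_self he, one_pow, mul_one] at h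
  exact h.symm

lemma away_map_zero_or_one {f : T} (hf : e * f = 0 ∨ e * f = e) :
    algebraMap T (Localization.Away e) f = 0 ∨ algebraMap T (Localization.Away e) f = 1 := by
  have h1 : algebraMap T (Localization.Away e) f = algebraMap T (Localization.Away e) (e * f) := by
    rw [map_mul, away_map_self he, one_mul]
  rcases hf with h | h
  · left; rw [h1, h, map_zero]
  · right; rw [h1, h, away_map_self he]

end Away

section Connected

theorem faithfullyFlat_of_connected (R : Type u) [CommRing R] [ConnectedSpace (PrimeSpectrum R)]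
    (T' : Type u) [CommRing T'] [Algebra R T'] [Nontrivial T'] [Module.Flat R T']
    [Algebra.FinitePresentation R T'] [Algebra.IsIntegral R T'] : Module.FaithfullyFlat R T' := by
  apply Module.FaithfullyFlat.of_comap_surjective
  have hopen : IsOpen (Set.range (PrimeSpectrum.comap (algebraMap R T'))) :=
    (PrimeSpectrum.isOpenMap_comap_of_hasGoingDown_of_finitePresentation).isOpen_range
  have hclosed : IsClosed (Set.range (PrimeSpectrum.comap (algebraMap R T'))) :=
    (PrimeSpectrum.isClosedMap_comap_of_isIntegral _
      (algebraMap_isIntegral_iff.mpr inferInstance)).isClosed_range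
  have hne : (Set.range (PrimeSpectrum.comap (algebraMap R T'))).Nonempty :=
    Set.range_nonempty _
  have := IsClopen.eq_univ ⟨hclosed, hopen⟩ hne
  exact Set.range_eq_univ.mp this

end Connected

section Cancel

variable (R : Type u) [CommRing R] (T : Type u) [CommRing T] [Algebra R T] (T' : Type u)
  [CommRing T'] [Algebra R T'] [Algebra T T'] [IsScalarTower R T T']
variable (A : Type u) [CommRing A] [Bialgebra R A]

set_option synthInstance.maxHeartbeats 400000 in
set_option maxHeartbeats 1000000 in
/-- `T' ⊗[R] A ≃ T' ⊗[T] (T ⊗[R] A)` as bialgebras. -/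
noncomputable def cancelBialg : T' ⊗[R] A ≃ₐc[T'] T' ⊗[T] (T ⊗[R] A) :=
  BialgEquiv.ofAlgEquiv (Algebra.TensorProduct.cancelBaseChange R T T' T' A).symm
    (by
      apply Algebra.TensorProduct.ext'
      intro a b
      simp [TensorProduct.counit_tmul, Algebra.smul_def]
      rw [← IsScalarTower.algebraMap_apply])
    (by
      apply Algebra.TensorProduct.ext'
      intro a b
      simp [TensorProduct.comul_tmul]
      generalize comul (R := R) b = t
      induction t using TensorProduct.induction_on with
      | zero => simp only [tmul_zero, map_zero]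
      | tmul x y => simp
      | add x y hx hy => simp only [tmul_add, map_add, hx, hy])

end Cancel

section CancelHopf

variable (R : Type u) [CommRing R] (T : Type u) [CommRing T] [Algebra R T] (T' : Type u)
  [CommRing T'] [Algebra R T'] [Algebra T T'] [IsScalarTower R T T']
variable (A : Type u) [CommRing A] [HopfAlgebra R A]

theorem isDiag_cancel (h : SGA3b.IsDiag T' (T' ⊗[T] (T ⊗[R] A))) :
    SGA3b.IsDiag T' (T' ⊗[R] A) := by
  obtain ⟨M, _, ⟨e⟩⟩ := h
  exact ⟨M, inferInstance, ⟨(cancelBialg R T T' A).trans e⟩⟩

end CancelHopf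

section Main

variable (R : Type u) [CommRing R] [ConnectedSpace (PrimeSpectrum R)]
variable (A : Type u) [CommRing A] [HopfAlgebra R A] [IsCocomm R A] [Module.Finite R A]
  [Module.Projective R A]

/-- A finite locally free commutative group scheme with étale Cartier dual over a connected base
is isotrivial. -/
theorem isIsotrivial_of_etale_dual [Algebra.Etale R (CartDual.D R A)] :
    SGA3b.IsIsotrivial R A := by
  classical
  obtain ⟨p₀⟩ : Nonempty (PrimeSpectrum R) := inferInstance
  haveI : Nontrivial R := by
    by_contra h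
    rw [not_nontrivial_iff_subsingleton] at h
    exact p₀.isPrime.ne_top (Subsingleton.elim _ _)
  haveI : Module.FinitePresentation R (CartDual.D R A) :=
    Module.finitePresentation_of_projective R _
  have hlc : IsLocallyConstant (Module.rankAtStalk (R := R) (CartDual.D R A)) :=
    Module.isLocallyConstant_rankAtStalk
  have hn : Module.rankAtStalk (R := R) (CartDual.D R A) =
      ((Module.rankAtStalk (R := R) (CartDual.D R A) p₀ : ℕ) : PrimeSpectrum R → ℕ) := by
    funext p
    simp only [Pi.natCast_def, Nat.cast_id]
    exact hlc.apply_eq_of_preconnectedSpace p p₀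
  obtain ⟨T, _, _, hff, hfin, het, hsplit⟩ :=
    Algebra.IsFiniteSplit.exists_tensorProduct_of_etale (R := R) (S := CartDual.D R A) hn
  obtain ⟨n, ⟨ψ₀⟩⟩ := hsplit.nonempty_algEquiv_fun
  haveI : Nontrivial T := (FaithfulSMul.algebraMap_injective R T).nontrivial
  have e1 : (T ⊗[R] CartDual.D R A) ≃ₐ[T] CartDual.D T (T ⊗[R] A) := cmpEquiv R T A
  let ψ : CartDual.D T (T ⊗[R] A) ≃ₐ[T] (Fin n → T) := e1.symm.trans ψ₀
  have hgl : ∀ k, IsGroupLikeElem T (gB T (T ⊗[R] A) ψ k) := isGroupLikeElem_gB T (T ⊗[R] A) ψ
  let s : Finset T :=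
    (Finset.univ.image fun k : Fin n => coef ψ 1 IsGroupLikeElem.one k) ∪
    (Finset.univ.image fun x : Fin n × Fin n × Fin n =>
      coef ψ (gB T (T ⊗[R] A) ψ x.1 * gB T (T ⊗[R] A) ψ x.2.1)
        ((hgl x.1).mul (hgl x.2.1)) x.2.2) ∪
    (Finset.univ.image fun x : Fin n × Fin n =>
      coef ψ (HopfAlgebra.antipode T (gB T (T ⊗[R] A) ψ x.1)) (hgl x.1).antipode x.2)
  have hs : ∀ f ∈ s, IsIdempotentElem f := by
    intro f hf
    simp only [s, Finset.mem_union, Finset.mem_image, Finset.mem_univ, true_and] at hf
    rcases hf with (⟨k, rfl⟩ | ⟨x, rfl⟩) | ⟨x, rfl⟩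
    · exact coef_idem ψ _ _ _
    · exact coef_idem ψ _ _ _
    · exact coef_idem ψ _ _ _
  obtain ⟨e, he, hne, hall⟩ := exists_atom s hs
  haveI : Nontrivial (Localization.Away e) := away_nontrivial he hne
  have h01 : ∀ (p : T ⊗[R] A) (hp : IsGroupLikeElem T p),
      (p = 1 ∨ (∃ i j, p = gB T (T ⊗[R] A) ψ i * gB T (T ⊗[R] A) ψ j) ∨
        (∃ i, p = HopfAlgebra.antipode T (gB T (T ⊗[R] A) ψ i))) →
      ∀ k, algebraMap T (Localization.Away e) (coef ψ p hp k) = 0 ∨
        algebraMap T (Localization.Away e) (coef ψ p hp k) = 1 := by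
    intro p hp hcase k
    apply away_map_zero_or_one he
    apply hall
    simp only [s, Finset.mem_union, Finset.mem_image, Finset.mem_univ, true_and]
    rcases hcase with rfl | ⟨i, j, rfl⟩ | ⟨i, rfl⟩
    · exact Or.inl (Or.inl ⟨k, rfl⟩)
    · exact Or.inl (Or.inr ⟨(i, j, k), rfl⟩)
    · exact Or.inr ⟨(i, k), rfl⟩
  have hdiag : SGA3b.IsDiag (Localization.Away e) (Localization.Away e ⊗[T] (T ⊗[R] A)) :=
    isDiag_baseChange T (T ⊗[R] A) ψ (Localization.Away e) h01
  have hdiag' : SGA3b.IsDiag (Localization.Away e) (Localization.Away e ⊗[R] A) :=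
    isDiag_cancel R T (Localization.Away e) A hdiag
  haveI : Algebra.Etale R (Localization.Away e) := Algebra.Etale.comp R T (Localization.Away e)
  haveI : Module.Finite T (Localization.Away e) :=
    Module.Finite.of_surjective (Algebra.linearMap T (Localization.Away e)) (away_surjective he)
  haveI : Module.Finite R (Localization.Away e) := Module.Finite.trans T (Localization.Away e)
  haveI : Module.FaithfullyFlat R (Localization.Away e) :=
    faithfullyFlat_of_connected R (Localization.Away e)
  exact ⟨Localization.Away e, inferInstance, inferInstance, inferInstance, inferInstance,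
    inferInstance, hdiag'⟩

end Main

end Groth.Agent.H96.IsoTriv
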