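import Mathlib
import Groth.Prelude.Def_SGA3b
import Groth.Agent.S9436
import Groth.Agent.S2970
import Groth.Agent.H3.FEtH2
import Groth.Agent.H3.Hensel
import Groth.Agent.H83.KerMultD
import Groth.Agent.H96.IsoTriv

/-!
# Lifting (quasi-)isotriviality of groups of multiplicative type along nil ideals
-/

set_option autoImplicit false
set_option linter.style.haveILetI false
set_option linter.unusedSectionVars false
universe u

namespace Groth.Agent.H96.IsoNil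

open TensorProduct

section FF

variable {Λ : Type*} [CommRing Λ] (𝔍 : Ideal Λ)

theorem le_prime_of_nil (h𝔍 : ∀ x ∈ 𝔍, IsNilpotent x) (p : Ideal Λ) [hp : p.IsPrime] : 𝔍 ≤ p := by
  intro x hx
  obtain ⟨n, hn⟩ := h𝔍 x hx
  exact hp.mem_of_pow_mem n (hn ▸ p.zero_mem)

/-- A flat algebra which is faithfully flat modulo a nil ideal is faithfully flat. -/
theorem faithfullyFlat_of_nil (h𝔍 : ∀ x ∈ 𝔍, IsNilpotent x)
    (S : Type*) [CommRing S] [Algebra Λ S] [Module.Flat Λ S]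
    [Module.FaithfullyFlat (Λ ⧸ 𝔍) ((Λ ⧸ 𝔍) ⊗[Λ] S)] : Module.FaithfullyFlat Λ S := by
  apply Module.FaithfullyFlat.of_comap_surjective
  intro p
  have hle : 𝔍 ≤ p.asIdeal := le_prime_of_nil 𝔍 h𝔍 p.asIdeal
  have hker : RingHom.ker (Ideal.Quotient.mk 𝔍) ≤ p.asIdeal := by
    rw [Ideal.mk_ker]; exact hle
  haveI hp₀ : (p.asIdeal.map (Ideal.Quotient.mk 𝔍)).IsPrime :=
    Ideal.map_isPrime_of_surjective Ideal.Quotient.mk_surjective hker
  obtain ⟨q₀, hq₀⟩ := PrimeSpectrum.comap_surjective_of_faithfullyFlat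
    (A := Λ ⧸ 𝔍) (B := (Λ ⧸ 𝔍) ⊗[Λ] S) ⟨p.asIdeal.map (Ideal.Quotient.mk 𝔍), hp₀⟩
  refine ⟨PrimeSpectrum.comap
    (Algebra.TensorProduct.includeRight : S →ₐ[Λ] (Λ ⧸ 𝔍) ⊗[Λ] S).toRingHom q₀, ?_⟩
  ext x
  have h1 : (Algebra.TensorProduct.includeRight : S →ₐ[Λ] (Λ ⧸ 𝔍) ⊗[Λ] S).toRingHom
      (algebraMap Λ S x) =
      algebraMap (Λ ⧸ 𝔍) ((Λ ⧸ 𝔍) ⊗[Λ] S) (Ideal.Quotient.mk 𝔍 x) := by
    show (1 : Λ ⧸ 𝔍) ⊗ₜ[Λ] (algebraMap Λ S x) = _
    rw [Algebra.TensorProduct.algebraMap_apply, Algebra.algebraMap_self, RingHom.id_apply,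
      Algebra.algebraMap_eq_smul_one, TensorProduct.tmul_smul, TensorProduct.smul_tmul']
    congr 1
    rw [Algebra.smul_def, mul_one]
    rfl
  have h2 : Ideal.Quotient.mk 𝔍 x ∈ (PrimeSpectrum.comap
      (algebraMap (Λ ⧸ 𝔍) ((Λ ⧸ 𝔍) ⊗[Λ] S)) q₀).asIdeal ↔ x ∈ p.asIdeal := by
    rw [hq₀]
    exact Ideal.mem_quotient_iff_mem hle
  rw [PrimeSpectrum.comap_asIdeal, Ideal.mem_comap, PrimeSpectrum.comap_asIdeal, Ideal.mem_comap,
    h1, ← h2, PrimeSpectrum.comap_asIdeal, Ideal.mem_comap]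

end FF

section Nu

variable (Λ : Type*) [CommRing Λ] (𝔍 : Ideal Λ) (S : Type*) [CommRing S] [Algebra Λ S]

/-- the natural map `(Λ/𝔍) ⊗ S → S/𝔍S`. -/
noncomputable def nu : (Λ ⧸ 𝔍) ⊗[Λ] S →ₐ[Λ] S ⧸ 𝔍.map (algebraMap Λ S) :=
  Algebra.TensorProduct.lift
    (Ideal.quotientMapₐ (𝔍.map (algebraMap Λ S)) (Algebra.ofId Λ S) Ideal.le_comap_map)
    (Ideal.Quotient.mkₐ Λ (𝔍.map (algebraMap Λ S))) (fun _ _ => Commute.all _ _)

theorem nu_mk_tmul_one (x : Λ) :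
    nu Λ 𝔍 S (Ideal.Quotient.mk 𝔍 x ⊗ₜ[Λ] (1 : S)) =
      Ideal.Quotient.mk (𝔍.map (algebraMap Λ S)) (algebraMap Λ S x) := by
  simp only [nu, Algebra.TensorProduct.lift_tmul, map_one, mul_one]
  rfl

end Nu

section CL

variable {Λ : Type u} [CommRing Λ] (𝔍 : Ideal Λ) (h𝔍 : ∀ x ∈ 𝔍, IsNilpotent x)
  (Sb : Type u) [CommRing Sb] [Algebra (Λ ⧸ 𝔍) Sb] [Algebra.Etale (Λ ⧸ 𝔍) Sb]
  [Module.FaithfullyFlat (Λ ⧸ 𝔍) Sb]

include h𝔍

theorem rho_spec {S : Type u} [CommRing S] [Algebra Λ S]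
    (ε : ((Λ ⧸ 𝔍) ⊗[Λ] S) ≃ₐ[Λ ⧸ 𝔍] Sb) (x : Λ) :
    ((nu Λ 𝔍 S).toRingHom.comp ε.symm.toAlgHom.toRingHom)
        (algebraMap (Λ ⧸ 𝔍) Sb (Ideal.Quotient.mk 𝔍 x)) =
      Ideal.Quotient.mk (𝔍.map (algebraMap Λ S)) (algebraMap Λ S x) := by
  show nu Λ 𝔍 S (ε.symm (algebraMap (Λ ⧸ 𝔍) Sb (Ideal.Quotient.mk 𝔍 x))) = _
  rw [AlgEquiv.commutes, Algebra.TensorProduct.algebraMap_apply, Algebra.algebraMap_self,
    RingHom.id_apply, nu_mk_tmul_one]

/-- Étale faithfully flat algebras lift along nil ideals. -/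
theorem exists_etale_lift :
    ∃ (S : Type u) (_ : CommRing S) (_ : Algebra Λ S), Algebra.Etale Λ S ∧
      Module.FaithfullyFlat Λ S ∧ ∃ ρ : Sb →+* S ⧸ 𝔍.map (algebraMap Λ S),
        ∀ x : Λ, ρ (algebraMap (Λ ⧸ 𝔍) Sb (Ideal.Quotient.mk 𝔍 x)) =
          Ideal.Quotient.mk _ (algebraMap Λ S x) := by
  obtain ⟨S, _, _, het, ⟨ε⟩⟩ := Groth.Agent.S9436.result Λ 𝔍 Sb
  haveI := het
  haveI : Module.Flat Λ S := inferInstance
  haveI : Module.FaithfullyFlat (Λ ⧸ 𝔍) ((Λ ⧸ 𝔍) ⊗[Λ] S) :=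
    Module.FaithfullyFlat.of_linearEquiv (Λ ⧸ 𝔍) Sb ε.toLinearEquiv
  have hff : Module.FaithfullyFlat Λ S := faithfullyFlat_of_nil 𝔍 h𝔍 S
  exact ⟨S, inferInstance, inferInstance, het, hff, _, rho_spec 𝔍 h𝔍 Sb ε⟩

/-- Finite étale faithfully flat algebras lift along nil ideals. -/
theorem exists_finite_etale_lift [Module.Finite (Λ ⧸ 𝔍) Sb] :
    ∃ (S : Type u) (_ : CommRing S) (_ : Algebra Λ S), Algebra.Etale Λ S ∧ Module.Finite Λ S ∧
      Module.FaithfullyFlat Λ S ∧ ∃ ρ : Sb →+* S ⧸ 𝔍.map (algebraMap Λ S),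
        ∀ x : Λ, ρ (algebraMap (Λ ⧸ 𝔍) Sb (Ideal.Quotient.mk 𝔍 x)) =
          Ideal.Quotient.mk _ (algebraMap Λ S x) := by
  haveI : HenselianRing Λ 𝔍 := Groth.Agent.H3.henselianRing_of_forall_isNilpotent 𝔍 h𝔍
  obtain ⟨S, _, _, hfin, het, ⟨ε⟩⟩ := Groth.Agent.H3.FEtH.exists_finite_etale_lift 𝔍 Sb
  haveI := het
  haveI : Module.Flat Λ S := inferInstance
  haveI : Module.FaithfullyFlat (Λ ⧸ 𝔍) ((Λ ⧸ 𝔍) ⊗[Λ] S) :=
    Module.FaithfullyFlat.of_linearEquiv (Λ ⧸ 𝔍) Sb ε.toLinearEquiv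
  have hff : Module.FaithfullyFlat Λ S := faithfullyFlat_of_nil 𝔍 h𝔍 S
  exact ⟨S, inferInstance, inferInstance, het, hfin, hff, _, rho_spec 𝔍 h𝔍 Sb ε⟩

end CL

section BC

open Groth.Agent.H83 Groth.Agent.H83.KerMult

variable {R : Type u} [CommRing R] {A : Type u} [CommRing A] [HopfAlgebra R A]

/-- Multiplicative type is stable under base change. -/
theorem isMultType_baseChange (h : SGA3b.IsMultType R A) (S : Type u) [CommRing S] [Algebra R S] :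
    SGA3b.IsMultType S (S ⊗[R] A) := by
  obtain ⟨s, hs, hc⟩ := h
  refine ⟨algebraMap R S '' s, ?_, ?_⟩
  · rw [← Ideal.map_span, hs, Ideal.map_top]
  · rintro _ ⟨f, hf, rfl⟩
    have h1 : TrivOver R A (Localization.Away f) := trivOver_of_const _ (hc f hf)
    have hu : IsUnit (algebraMap R (Localization.Away (algebraMap R S f)) f) := by
      rw [IsScalarTower.algebraMap_apply R S (Localization.Away (algebraMap R S f))]
      exact IsLocalization.Away.algebraMap_isUnit _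
    obtain ⟨K, _, _, _, _, hff, M, _, ⟨e⟩⟩ :=
      h1.of_isUnit f (Localization.Away (algebraMap R S f)) hu
    letI : Algebra S K := Algebra.compHom K (algebraMap S (Localization.Away (algebraMap R S f)))
    haveI : IsScalarTower S (Localization.Away (algebraMap R S f)) K :=
      IsScalarTower.of_algebraMap_eq (fun _ => rfl)
    haveI : IsScalarTower R S K := by
      refine IsScalarTower.of_algebraMap_eq (fun r => ?_)
      show algebraMap R K r = algebraMap (Localization.Away (algebraMap R S f)) K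
        (algebraMap S (Localization.Away (algebraMap R S f)) (algebraMap R S r))
      rw [← IsScalarTower.algebraMap_apply R S (Localization.Away (algebraMap R S f)),
        ← IsScalarTower.algebraMap_apply R (Localization.Away (algebraMap R S f)) K]
    refine ⟨K, inferInstance, inferInstance, hff, M, inferInstance, ⟨?_⟩⟩
    exact ((NilLift.cancelBialg S (Localization.Away (algebraMap R S f)) K (S ⊗[R] A)).trans
      (NilLift.cancelBialg R S K A)).trans e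

/-- **Master lemma.** Diagonalisability lifts along a nil ideal of the splitting algebra. -/
theorem isDiag_of_nil_lift (h : SGA3b.IsMultType R A)
    (S : Type u) [CommRing S] [Algebra R S] (J : Ideal S) (hJ : ∀ x ∈ J, IsNilpotent x)
    (Sb : Type u) [CommRing Sb] [Algebra R Sb] (ρ : Sb →+* S ⧸ J)
    (hρ : ∀ r : R, ρ (algebraMap R Sb r) = algebraMap R (S ⧸ J) r)
    (hd : SGA3b.IsDiag Sb (Sb ⊗[R] A)) : SGA3b.IsDiag S (S ⊗[R] A) := by
  obtain ⟨M, _, ⟨e⟩⟩ := hd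
  obtain ⟨e', -⟩ := exists_baseChange ρ hρ e
  have e'' : ((S ⧸ J) ⊗[S] (S ⊗[R] A)) ≃ₐc[S ⧸ J] MonoidAlgebra (S ⧸ J) M :=
    (NilLift.cancelBialg R S (S ⧸ J) A).trans e'
  exact Groth.Agent.S2970.result S (S ⊗[R] A) J hJ (isMultType_baseChange h S)
    ⟨M, inferInstance, ⟨e''⟩⟩

end BC

section Quasi

open Groth.Agent.H83 Groth.Agent.H83.KerMult SGA3b

variable {R : Type u} [CommRing R] {A : Type u} [CommRing A] [HopfAlgebra R A]
  (I : Ideal R) (hI : ∀ x ∈ I, IsNilpotent x) (h : SGA3b.IsMultType R A) (f : R)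

local notation "R₀" => R ⧸ I
local notation "f₀" => Ideal.Quotient.mk I f
local notation "L" => Localization.Away f
local notation "L₀" => Localization.Away (Ideal.Quotient.mk I f)
local notation "J" => Ideal.map (algebraMap R (Localization.Away f)) I

/-- `(R_f)/I R_f ≃ (R/I)_f`. -/
noncomputable def kappa : (L ⧸ J) ≃ₐ[R₀] L₀ := by
  haveI : IsLocalization (Algebra.algebraMapSubmonoid R₀ (Submonoid.powers f)) (L ⧸ J) :=
    inferInstance
  have hpow : Algebra.algebraMapSubmonoid R₀ (Submonoid.powers f) = Submonoid.powers f₀ :=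
    Submonoid.map_powers _ _
  haveI : IsLocalization.Away f₀ (L ⧸ J) := by
    rw [IsLocalization.Away, ← hpow]; infer_instance
  exact IsLocalization.algEquiv (Submonoid.powers f₀) (L ⧸ J) L₀

theorem kappa_mk (r : R) :
    kappa I f (Ideal.Quotient.mk J (algebraMap R L r)) = algebraMap R₀ L₀ (Ideal.Quotient.mk I r) :=
  (kappa I f).commutes (Ideal.Quotient.mk I r)

include hI h in
/-- the local step of the quasi-isotrivial part. -/
theorem quasiConst_of_quot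
    (hc : IsQuasiIsotrivialConst L₀ (L₀ ⊗[R₀] (R₀ ⊗[R] A))) :
    IsQuasiIsotrivialConst L (L ⊗[R] A) := by
  obtain ⟨Sb, _, _, het, hff, hd⟩ := hc
  haveI := het
  haveI := hff
  letI algLJL₀ : Algebra (L ⧸ J) L₀ := (kappa I f).toAlgHom.toRingHom.toAlgebra
  let e₀ : (L ⧸ J) ≃ₐ[L ⧸ J] L₀ :=
    AlgEquiv.ofBijective (Algebra.ofId (L ⧸ J) L₀) (kappa I f).bijective
  haveI : Algebra.Etale (L ⧸ J) L₀ := Algebra.Etale.of_equiv e₀
  haveI : Module.FaithfullyFlat (L ⧸ J) L₀ :=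
    Module.FaithfullyFlat.of_linearEquiv (L ⧸ J) (L ⧸ J) e₀.symm.toLinearEquiv
  letI : Algebra (L ⧸ J) Sb := Algebra.compHom Sb (algebraMap (L ⧸ J) L₀)
  haveI : IsScalarTower (L ⧸ J) L₀ Sb := IsScalarTower.of_algebraMap_eq (fun _ => rfl)
  haveI : Algebra.Etale (L ⧸ J) Sb := Algebra.Etale.comp (L ⧸ J) L₀ Sb
  haveI : Module.FaithfullyFlat (L ⧸ J) Sb := Module.FaithfullyFlat.trans (L ⧸ J) L₀ Sb
  have hJ : ∀ x ∈ J, IsNilpotent x := NilLift.isNilpotent_of_mem_map hI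
  obtain ⟨S, _, _, hetS, hffS, ρ, hρ⟩ := exists_etale_lift J hJ Sb
  letI : Algebra R S := Algebra.compHom S (algebraMap R L)
  haveI : IsScalarTower R L S := IsScalarTower.of_algebraMap_eq (fun _ => rfl)
  letI : Algebra R₀ Sb := Algebra.compHom Sb (algebraMap R₀ L₀)
  haveI : IsScalarTower R₀ L₀ Sb := IsScalarTower.of_algebraMap_eq (fun _ => rfl)
  letI : Algebra R Sb := Algebra.compHom Sb (algebraMap R R₀)
  haveI : IsScalarTower R R₀ Sb := IsScalarTower.of_algebraMap_eq (fun _ => rfl)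
  have hd1 : IsDiag Sb (Sb ⊗[R₀] (R₀ ⊗[R] A)) :=
    IsoTriv.isDiag_cancel R₀ L₀ Sb (R₀ ⊗[R] A) hd
  have hd2 : IsDiag Sb (Sb ⊗[R] A) := IsoTriv.isDiag_cancel R R₀ Sb A hd1
  have hJS : ∀ x ∈ (J).map (algebraMap L S), IsNilpotent x := NilLift.isNilpotent_of_mem_map hJ
  have hρ' : ∀ r : R, ρ (algebraMap R Sb r) =
      algebraMap R (S ⧸ (J).map (algebraMap L S)) r := by
    intro r
    have h1 := hρ (algebraMap R L r)
    have h2 : algebraMap (L ⧸ J) Sb (Ideal.Quotient.mk J (algebraMap R L r)) =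
        algebraMap R Sb r := by
      show algebraMap L₀ Sb (kappa I f (Ideal.Quotient.mk J (algebraMap R L r))) = _
      rw [kappa_mk]
      rfl
    rw [h2] at h1
    rw [h1]
    rfl
  have hD : IsDiag S (S ⊗[R] A) :=
    isDiag_of_nil_lift h S ((J).map (algebraMap L S)) hJS Sb ρ hρ' hd2
  obtain ⟨M, _, ⟨e⟩⟩ := hD
  exact ⟨S, inferInstance, inferInstance, hetS, hffS, M, inferInstance,
    ⟨(IsoTriv.cancelBialg R L S A).symm.trans e⟩⟩

end Quasi

end Groth.Agent.H96.IsoNil
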