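import Mathlib
import Groth.Prelude.Def_AzInv
import Groth.Agent.H96.AzSplitEt

/-!
# `LocIsoEt` from a family of etale neighbourhoods (helper96)
-/

set_option autoImplicit false
set_option linter.unusedSectionVars false
set_option linter.style.haveILetI false
universe u v w w'

open TensorProduct

namespace Groth.Agent.H96.LocIsoFamily

variable {S : Type u} {R : Type v} [CommRing S] [CommRing R] [Algebra S R]
  {A : Type w} [Ring A] [Algebra S A] [Algebra R A] [IsScalarTower S R A]
  {A' : Type w'} [Ring A'] [Algebra S A'] [Algebra R A'] [IsScalarTower S R A']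
  (lam : R ≃ₐ[S] R)

/-- The local isomorphism datum over an `S`-algebra `S'`. -/
def Iso (t : AzInv.LamInv R A lam) (t' : AzInv.LamInv R A' lam) (S' : Type u) [CommRing S']
    [Algebra S S'] : Prop :=
  ∃ F : S' ⊗[S] A ≃ₐ[S'] S' ⊗[S] A',
    (∀ (r : R) (x : S' ⊗[S] A),
        F (((1 : S') ⊗ₜ[S] algebraMap R A r) * x) = ((1 : S') ⊗ₜ[S] algebraMap R A' r) * F x) ∧
      ∀ x : S' ⊗[S] A, F (t.bc S lam S' x) = t'.bc S lam S' (F x)

theorem bc_map (t : AzInv.LamInv R A lam) {T T₀ : Type*} [CommRing T] [CommRing T₀]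
    [Algebra S T] [Algebra S T₀] (σ : T →ₐ[S] T₀) (x : T ⊗[S] A) :
    t.bc S lam T₀ (Algebra.TensorProduct.map σ (AlgHom.id S A) x) =
      Algebra.TensorProduct.map σ (AlgHom.id S A) (t.bc S lam T x) := by
  induction x using TensorProduct.induction_on with
  | zero => simp
  | tmul y a => simp
  | add x₁ x₂ h₁ h₂ => rw [map_add, map_add, h₁, h₂, map_add, map_add]

/-- The product of finitely many local isomorphism data. -/
theorem iso_pi (t : AzInv.LamInv R A lam) (t' : AzInv.LamInv R A' lam) {ι : Type u} [Fintype ι]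
    [DecidableEq ι] (T' : ι → Type u) [∀ i, CommRing (T' i)] [∀ i, Algebra S (T' i)]
    (h : ∀ i, Iso lam t t' (T' i)) : Iso lam t t' (Π i, T' i) := by
  classical
  choose F hF1 hF2 using h
  let T := Π i, T' i
  let ev : ∀ i, T →ₐ[S] T' i := fun i => Pi.evalAlgHom S T' i
  let evA : ∀ i, T ⊗[S] A →ₐ[S] T' i ⊗[S] A := fun i =>
    Algebra.TensorProduct.map (ev i) (AlgHom.id S A)
  let evA' : ∀ i, T ⊗[S] A' →ₐ[S] T' i ⊗[S] A' := fun i =>
    Algebra.TensorProduct.map (ev i) (AlgHom.id S A')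
  let EA : T ⊗[S] A ≃ₐ[S] Π i, A ⊗[S] T' i :=
    (Algebra.TensorProduct.comm S T A).trans (Algebra.TensorProduct.piRight S S A T')
  let EA' : T ⊗[S] A' ≃ₐ[S] Π i, A' ⊗[S] T' i :=
    (Algebra.TensorProduct.comm S T A').trans (Algebra.TensorProduct.piRight S S A' T')
  have hEA : ∀ (x : T ⊗[S] A) (i : ι), EA x i = Algebra.TensorProduct.comm S (T' i) A (evA i x) := by
    intro x i
    induction x using TensorProduct.induction_on with
    | zero => simp
    | tmul σ a => rfl
    | add x y hx hy => rw [map_add, Pi.add_apply, hx, hy, map_add, map_add]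
  have hEA' : ∀ (x : T ⊗[S] A') (i : ι),
      EA' x i = Algebra.TensorProduct.comm S (T' i) A' (evA' i x) := by
    intro x i
    induction x using TensorProduct.induction_on with
    | zero => simp
    | tmul σ a => rfl
    | add x y hx hy => rw [map_add, Pi.add_apply, hx, hy, map_add, map_add]
  let G : ∀ i, A ⊗[S] T' i ≃ₐ[S] A' ⊗[S] T' i := fun i =>
    (Algebra.TensorProduct.comm S A (T' i)).trans
      (((F i).restrictScalars S).trans (Algebra.TensorProduct.comm S (T' i) A'))
  let Φ₀ : T ⊗[S] A ≃ₐ[S] T ⊗[S] A' := EA.trans ((AlgEquiv.piCongrRight G).trans EA'.symm)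
  have hΦ : ∀ (x : T ⊗[S] A) (i : ι), evA' i (Φ₀ x) = F i (evA i x) := by
    intro x i
    have h1 : EA' (Φ₀ x) i = G i (EA x i) := by
      show EA' (EA'.symm _) i = _
      rw [AlgEquiv.apply_symm_apply]
      rfl
    rw [hEA', hEA] at h1
    have h3 : G i (Algebra.TensorProduct.comm S (T' i) A (evA i x)) =
        Algebra.TensorProduct.comm S (T' i) A' (F i (evA i x)) := by
      show Algebra.TensorProduct.comm S (T' i) A' (F i ((Algebra.TensorProduct.comm S A (T' i))
        (Algebra.TensorProduct.comm S (T' i) A (evA i x)))) = _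
      congr 2
      exact (Algebra.TensorProduct.comm S (T' i) A).symm_apply_apply _
    rw [h3] at h1
    exact (Algebra.TensorProduct.comm S (T' i) A').injective h1
  have hinj : ∀ y y' : T ⊗[S] A', (∀ i, evA' i y = evA' i y') → y = y' := by
    intro y y' hyy
    apply EA'.injective
    funext i
    rw [hEA', hEA', hyy i]
  have hcomm : ∀ τ : T, Φ₀ (algebraMap T (T ⊗[S] A) τ) = algebraMap T (T ⊗[S] A') τ := by
    intro τ
    apply hinj
    intro i
    rw [hΦ]
    have e1 : evA i (algebraMap T (T ⊗[S] A) τ) = algebraMap (T' i) (T' i ⊗[S] A) (τ i) := rfl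
    have e2 : evA' i (algebraMap T (T ⊗[S] A') τ) = algebraMap (T' i) (T' i ⊗[S] A') (τ i) := rfl
    rw [e1, e2, AlgEquiv.commutes]
  refine ⟨AlgEquiv.ofRingEquiv (f := Φ₀.toRingEquiv) hcomm, ?_, ?_⟩
  · intro r x
    show Φ₀ _ = _ * Φ₀ x
    apply hinj
    intro i
    rw [hΦ, map_mul (evA i), map_mul (evA' i), hΦ]
    have e1 : evA i ((1 : T) ⊗ₜ[S] algebraMap R A r) = (1 : T' i) ⊗ₜ[S] algebraMap R A r := by
      simp [evA]
    have e2 : evA' i ((1 : T) ⊗ₜ[S] algebraMap R A' r) = (1 : T' i) ⊗ₜ[S] algebraMap R A' r := by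
      simp [evA']
    rw [e1, e2, hF1]
  · intro x
    show Φ₀ _ = t'.bc S lam T (Φ₀ x)
    apply hinj
    intro i
    rw [hΦ]
    have e1 : evA i (t.bc S lam T x) = t.bc S lam (T' i) (evA i x) := (bc_map lam t (ev i) x).symm
    have e2 : evA' i (t'.bc S lam T (Φ₀ x)) = t'.bc S lam (T' i) (evA' i (Φ₀ x)) :=
      (bc_map lam t' (ev i) (Φ₀ x)).symm
    rw [e1, e2, hF2, hΦ]

/-- `LocIsoEt` from etale neighbourhoods of all points. -/
theorem locIsoEt_of_family (t : AzInv.LamInv R A lam) (t' : AzInv.LamInv R A' lam)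
    (h : ∀ p : PrimeSpectrum S, ∃ (S' : Type u) (_ : CommRing S') (_ : Algebra S S'),
      Algebra.Etale S S' ∧ p ∈ Set.range (PrimeSpectrum.comap (algebraMap S S')) ∧
        Iso lam t t' S') :
    AzInv.LocIsoEt S lam t t' := by
  classical
  let Good : S → Prop := fun g => ∃ (S' : Type u) (_ : CommRing S') (_ : Algebra S S'),
    Algebra.Etale S S' ∧
      (∀ P : PrimeSpectrum S, g ∉ P.asIdeal →
        P ∈ Set.range (PrimeSpectrum.comap (algebraMap S S'))) ∧ Iso lam t t' S'
  have hspan : Ideal.span {g : S | Good g} = ⊤ := by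
    by_contra hne
    obtain ⟨M, hM, hle⟩ := Ideal.exists_le_maximal _ hne
    obtain ⟨S', _, _, het, hmem, hiso⟩ := h ⟨M, hM.isPrime⟩
    haveI := het
    have hopen : IsOpen (Set.range (PrimeSpectrum.comap (algebraMap S S'))) :=
      (PrimeSpectrum.isOpenMap_comap_of_hasGoingDown_of_finitePresentation
        (R := S) (S := S')).isOpen_range
    obtain ⟨U, ⟨g, rfl⟩, hgU, hsub⟩ :=
      PrimeSpectrum.isTopologicalBasis_basic_opens.exists_subset_of_mem_open hmem hopen
    have hgood : Good g := ⟨S', inferInstance, inferInstance, het, fun P hP => hsub hP, hiso⟩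
    exact hgU (hle (Ideal.subset_span hgood))
  obtain ⟨G, hGsub, hGspan⟩ := (Ideal.span_eq_top_iff_finite _).mp hspan
  have hgood : ∀ i : {x // x ∈ G}, Good (i : S) := fun i => hGsub i.2
  choose T' hT1 hT2 het hsurj hiso using hgood
  let T := Π i : {x // x ∈ G}, T' i
  haveI : ∀ i, Algebra.Etale S (T' i) := het
  haveI : ∀ i, Module.Flat S (T' i) := fun i => inferInstance
  haveI : Module.Flat S T := AzSplitEt.flat_pi S T' (fun i => inferInstance)
  haveI : Algebra.Etale S T := inferInstance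
  have hff : Module.FaithfullyFlat S T := by
    apply Module.FaithfullyFlat.of_comap_surjective
    intro P
    obtain ⟨i, hi, hiP⟩ : ∃ i ∈ G, i ∉ P.asIdeal := by
      by_contra hcon
      push Not at hcon
      have : Ideal.span (G : Set S) ≤ P.asIdeal := Ideal.span_le.mpr (fun x hx => hcon x hx)
      rw [hGspan] at this
      exact P.isPrime.ne_top (top_le_iff.mp this)
    obtain ⟨Q, hQ⟩ := hsurj ⟨i, hi⟩ P hiP
    let ev : T →+* T' ⟨i, hi⟩ := Pi.evalRingHom (fun j : {x // x ∈ G} => T' j) ⟨i, hi⟩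
    refine ⟨⟨Q.asIdeal.comap ev, Ideal.comap_isPrime ev Q.asIdeal⟩, ?_⟩
    apply PrimeSpectrum.ext
    show (Q.asIdeal.comap ev).comap (algebraMap S T) = P.asIdeal
    rw [Ideal.comap_comap]
    have : ev.comp (algebraMap S T) = algebraMap S (T' ⟨i, hi⟩) := by
      ext x
      rfl
    rw [this]
    exact congrArg PrimeSpectrum.asIdeal hQ
  obtain ⟨F, hF1, hF2⟩ := iso_pi lam t t' T' hiso
  exact ⟨T, inferInstance, inferInstance, inferInstance, hff, F, hF1, hF2⟩

end Groth.Agent.H96.LocIsoFamily
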