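import Mathlib
import Groth.Prelude.Def_AzInv
import Groth.Agent.H96.LocIsoFamily
import Groth.Agent.H96.InvSplit

/-!
# Operations on local isomorphism data: inverse, composition, base change, common refinement
(helper96)
-/

set_option autoImplicit false
set_option linter.unusedSectionVars false
set_option linter.style.haveILetI false
universe u v w w' w''

open TensorProduct

namespace Groth.Agent.H96.IsoOps

open Groth.Agent.H96.LocIsoFamily

variable {S : Type u} {R : Type v} [CommRing S] [CommRing R] [Algebra S R]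
  {A : Type w} [Ring A] [Algebra S A] [Algebra R A] [IsScalarTower S R A]
  {A' : Type w'} [Ring A'] [Algebra S A'] [Algebra R A'] [IsScalarTower S R A']
  {A'' : Type w''} [Ring A''] [Algebra S A''] [Algebra R A''] [IsScalarTower S R A'']
  (lam : R ≃ₐ[S] R)

theorem Iso.symm {t : AzInv.LamInv R A lam} {t' : AzInv.LamInv R A' lam} {T : Type u} [CommRing T]
    [Algebra S T] (h : Iso lam t t' T) : Iso lam t' t T := by
  obtain ⟨F, hF1, hF2⟩ := h
  refine ⟨F.symm, fun r x => ?_, fun x => ?_⟩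
  · apply F.injective
    rw [AlgEquiv.apply_symm_apply, hF1, AlgEquiv.apply_symm_apply]
  · apply F.injective
    rw [AlgEquiv.apply_symm_apply, hF2, AlgEquiv.apply_symm_apply]

theorem Iso.trans {t : AzInv.LamInv R A lam} {t' : AzInv.LamInv R A' lam}
    {t'' : AzInv.LamInv R A'' lam} {T : Type u} [CommRing T]
    [Algebra S T] (h : Iso lam t t' T) (h' : Iso lam t' t'' T) : Iso lam t t'' T := by
  obtain ⟨F, hF1, hF2⟩ := h
  obtain ⟨G, hG1, hG2⟩ := h'
  refine ⟨F.trans G, fun r x => ?_, fun x => ?_⟩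
  · show G (F _) = _ * G (F x)
    rw [hF1, hG1]
  · show G (F _) = _
    rw [hF2, hG2]
    rfl

/-- Base change of a local isomorphism datum. -/
theorem Iso.map {t : AzInv.LamInv R A lam} {t' : AzInv.LamInv R A' lam} {T T' : Type u}
    [CommRing T] [CommRing T'] [Algebra S T] [Algebra S T'] (φ : T →ₐ[S] T')
    (h : Iso lam t t' T) : Iso lam t t' T' := by
  obtain ⟨F, hF1, hF2⟩ := h
  letI : Algebra T T' := φ.toRingHom.toAlgebra
  haveI : IsScalarTower S T T' := IsScalarTower.of_algebraMap_eq (fun r => (φ.commutes r).symm)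
  let Φ : T ⊗[S] A →ₐ[S] T' ⊗[S] A := Algebra.TensorProduct.map φ (AlgHom.id S A)
  let Φ' : T ⊗[S] A' →ₐ[S] T' ⊗[S] A' := Algebra.TensorProduct.map φ (AlgHom.id S A')
  let F' : T' ⊗[S] A ≃ₐ[T'] T' ⊗[S] A' :=
    (InvSplit.cancelBC S T T' T' A).symm.trans
      ((Algebra.TensorProduct.congr (AlgEquiv.refl : T' ≃ₐ[T'] T') F).trans
        (InvSplit.cancelBC S T T' T' A'))
  have hcancel : ∀ (y : T') (z : T ⊗[S] A'),
      InvSplit.cancelBC S T T' T' A' (y ⊗ₜ[T] z) = (y ⊗ₜ[S] (1 : A')) * Φ' z := by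
    intro y z
    induction z using TensorProduct.induction_on with
    | zero => simp
    | tmul x a =>
      show TensorProduct.AlgebraTensorModule.cancelBaseChange S T T' T' A' (y ⊗ₜ[T] (x ⊗ₜ[S] a)) = _
      rw [TensorProduct.AlgebraTensorModule.cancelBaseChange_tmul]
      show (x • y) ⊗ₜ[S] a = (y ⊗ₜ[S] (1 : A')) * (φ x ⊗ₜ[S] a)
      rw [Algebra.TensorProduct.tmul_mul_tmul, one_mul, Algebra.smul_def, mul_comm]
      rfl
    | add z₁ z₂ h₁ h₂ => rw [TensorProduct.tmul_add, map_add, h₁, h₂, map_add, mul_add]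
  have hF' : ∀ (y : T') (a : A), F' (y ⊗ₜ[S] a) = (y ⊗ₜ[S] (1 : A')) * Φ' (F ((1 : T) ⊗ₜ[S] a)) := by
    intro y a
    show InvSplit.cancelBC S T T' T' A' ((Algebra.TensorProduct.congr
      (AlgEquiv.refl : T' ≃ₐ[T'] T') F) ((InvSplit.cancelBC S T T' T' A).symm (y ⊗ₜ[S] a))) = _
    rw [InvSplit.cancelBC_symm_tmul, Algebra.TensorProduct.congr_apply,
      Algebra.TensorProduct.map_tmul, hcancel]
    rfl
  have hΦ'1 : ∀ (r : R) (z : T ⊗[S] A'),
      Φ' (((1 : T) ⊗ₜ[S] algebraMap R A' r) * z) = ((1 : T') ⊗ₜ[S] algebraMap R A' r) * Φ' z := by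
    intro r z
    rw [map_mul]
    congr 1
    show Algebra.TensorProduct.map φ (AlgHom.id S A') _ = _
    rw [Algebra.TensorProduct.map_tmul, map_one]
    rfl
  have hcomm : ∀ (y : T') (r : R) (w : T' ⊗[S] A'),
      (y ⊗ₜ[S] (1 : A')) * (((1 : T') ⊗ₜ[S] algebraMap R A' r) * w) =
        ((1 : T') ⊗ₜ[S] algebraMap R A' r) * ((y ⊗ₜ[S] (1 : A')) * w) := by
    intro y r w
    rw [← mul_assoc, ← mul_assoc, Algebra.TensorProduct.tmul_mul_tmul,
      Algebra.TensorProduct.tmul_mul_tmul, mul_one, one_mul, mul_one, one_mul]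
  refine ⟨F', fun r x => ?_, fun x => ?_⟩
  · induction x using TensorProduct.induction_on with
    | zero => simp
    | tmul y a =>
      rw [Algebra.TensorProduct.tmul_mul_tmul, one_mul, hF', hF']
      have h1 : (1 : T) ⊗ₜ[S] (algebraMap R A r * a) =
          ((1 : T) ⊗ₜ[S] algebraMap R A r) * ((1 : T) ⊗ₜ[S] a) := by
        rw [Algebra.TensorProduct.tmul_mul_tmul, one_mul]
      rw [h1, hF1, hΦ'1, hcomm]
    | add x₁ x₂ h₁ h₂ => rw [mul_add, map_add, h₁, h₂, map_add, mul_add]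
  · induction x using TensorProduct.induction_on with
    | zero => simp
    | tmul y a =>
      rw [AzInv.LamInv.bc_tmul, hF', hF']
      have h1 : (1 : T) ⊗ₜ[S] t a = t.bc S lam T ((1 : T) ⊗ₜ[S] a) := by
        rw [AzInv.LamInv.bc_tmul]
      rw [h1, hF2]
      have h3 : Φ' (t'.bc S lam T (F ((1 : T) ⊗ₜ[S] a))) =
          t'.bc S lam T' (Φ' (F ((1 : T) ⊗ₜ[S] a))) := (bc_map lam t' φ _).symm
      rw [h3]
      have h4 : ∀ w : T' ⊗[S] A', (y ⊗ₜ[S] (1 : A')) * w = y • w := by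
        intro w
        rw [Algebra.smul_def, Algebra.TensorProduct.algebraMap_apply, Algebra.algebraMap_self,
          RingHom.id_apply]
      rw [h4, h4, map_smul]
    | add x₁ x₂ h₁ h₂ => rw [map_add, map_add, h₁, h₂, map_add, map_add]

/-- A point in the image of two spectra is in the image of the spectrum of the tensor product. -/
theorem mem_range_tensor (S₁ S₂ : Type u) [CommRing S₁] [CommRing S₂] [Algebra S S₁] [Algebra S S₂]
    (p : PrimeSpectrum S)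
    (h₁ : p ∈ Set.range (PrimeSpectrum.comap (algebraMap S S₁)))
    (h₂ : p ∈ Set.range (PrimeSpectrum.comap (algebraMap S S₂))) :
    p ∈ Set.range (PrimeSpectrum.comap (algebraMap S (S₁ ⊗[S] S₂))) := by
  let k := p.asIdeal.ResidueField
  haveI n₁ : Nontrivial (k ⊗[S] S₁) := (PrimeSpectrum.nontrivial_iff_mem_rangeComap p).mpr h₁
  haveI n₂ : Nontrivial (k ⊗[S] S₂) := (PrimeSpectrum.nontrivial_iff_mem_rangeComap p).mpr h₂
  haveI : Nontrivial ((k ⊗[S] S₁) ⊗[k] (k ⊗[S] S₂)) :=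
    Algebra.TensorProduct.nontrivial_of_algebraMap_injective_of_flat_left k (k ⊗[S] S₁) (k ⊗[S] S₂)
      (algebraMap k (k ⊗[S] S₂)).injective
  let f₁ : S₁ →ₐ[S] (k ⊗[S] S₁) ⊗[k] (k ⊗[S] S₂) :=
    ((Algebra.TensorProduct.includeLeft :
      (k ⊗[S] S₁) →ₐ[k] (k ⊗[S] S₁) ⊗[k] (k ⊗[S] S₂)).restrictScalars S).comp
      (Algebra.TensorProduct.includeRight : S₁ →ₐ[S] k ⊗[S] S₁)
  let f₂ : S₂ →ₐ[S] (k ⊗[S] S₁) ⊗[k] (k ⊗[S] S₂) :=
    ((Algebra.TensorProduct.includeRight :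
      (k ⊗[S] S₂) →ₐ[k] (k ⊗[S] S₁) ⊗[k] (k ⊗[S] S₂)).restrictScalars S).comp
      (Algebra.TensorProduct.includeRight : S₂ →ₐ[S] k ⊗[S] S₂)
  let F : S₁ ⊗[S] S₂ →ₐ[S] (k ⊗[S] S₁) ⊗[k] (k ⊗[S] S₂) :=
    Algebra.TensorProduct.lift f₁ f₂ (fun _ _ => Commute.all _ _)
  let G : k ⊗[S] (S₁ ⊗[S] S₂) →ₐ[S] (k ⊗[S] S₁) ⊗[k] (k ⊗[S] S₂) :=
    Algebra.TensorProduct.lift
      ((Algebra.ofId k ((k ⊗[S] S₁) ⊗[k] (k ⊗[S] S₂))).restrictScalars S) F
      (fun _ _ => Commute.all _ _)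
  haveI : Nontrivial (k ⊗[S] (S₁ ⊗[S] S₂)) := G.toRingHom.domain_nontrivial
  exact (PrimeSpectrum.nontrivial_iff_mem_rangeComap p).mp inferInstance

/-- Common refinement of two local isomorphisms to the same target. -/
theorem combine {t : AzInv.LamInv R A lam} {t' : AzInv.LamInv R A' lam}
    {τ : AzInv.LamInv R A'' lam} (p : PrimeSpectrum S)
    (h₁ : ∃ (S₁ : Type u) (_ : CommRing S₁) (_ : Algebra S S₁), Algebra.Etale S S₁ ∧
      p ∈ Set.range (PrimeSpectrum.comap (algebraMap S S₁)) ∧ Iso lam t τ S₁)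
    (h₂ : ∃ (S₂ : Type u) (_ : CommRing S₂) (_ : Algebra S S₂), Algebra.Etale S S₂ ∧
      p ∈ Set.range (PrimeSpectrum.comap (algebraMap S S₂)) ∧ Iso lam t' τ S₂) :
    ∃ (S₃ : Type u) (_ : CommRing S₃) (_ : Algebra S S₃), Algebra.Etale S S₃ ∧
      p ∈ Set.range (PrimeSpectrum.comap (algebraMap S S₃)) ∧ Iso lam t t' S₃ := by
  obtain ⟨S₁, _, _, het₁, hp₁, I₁⟩ := h₁
  obtain ⟨S₂, _, _, het₂, hp₂, I₂⟩ := h₂
  haveI := het₁
  haveI := het₂
  haveI : Algebra.Etale S (S₁ ⊗[S] S₂) := Algebra.Etale.comp S S₁ (S₁ ⊗[S] S₂)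
  refine ⟨S₁ ⊗[S] S₂, inferInstance, inferInstance, inferInstance,
    mem_range_tensor S₁ S₂ p hp₁ hp₂, ?_⟩
  exact Iso.trans lam (Iso.map lam (Algebra.TensorProduct.includeLeft : S₁ →ₐ[S] S₁ ⊗[S] S₂) I₁)
    (Iso.symm lam (Iso.map lam (Algebra.TensorProduct.includeRight : S₂ →ₐ[S] S₁ ⊗[S] S₂) I₂))

end Groth.Agent.H96.IsoOps
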