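import Mathlib
import Groth.Agent.H71.DimFun

set_option autoImplicit false
set_option linter.style.haveILetI false

universe u v

open CategoryTheory AlgebraicGeometry TopologicalSpace Opposite

namespace Groth.Agent.H96.KeyS1

variable {X : Scheme.{u}} [IsIntegral X]

/-- (S1) for helper34's S1920: the dimension of a local ring of an integral scheme with a
dimension function. -/
theorem exists_dim_stalk (δ : X → ℤ) (hX : Cyc.IsSetup X δ) (x : X) :
    ∃ d : ℕ, ringKrullDim (X.presheaf.stalk x) = (d : WithBot ℕ∞) ∧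
      δ (genericPoint X) = δ x + d := by
  haveI : IsLocallyNoetherian X := hX.1
  let q : PrimeSpectrum (X.presheaf.stalk x) := ⟨⊥, Ideal.isPrime_bot⟩
  obtain ⟨d, hd, hδ⟩ := Groth.Agent.H71.DimFun.delta_eq_add_coheight X δ hX.2.2 x q
  have hmin : IsMin q := by
    intro r _
    exact (bot_le : (⊥ : Ideal (X.presheaf.stalk x)) ≤ r.asIdeal)
  have hgen : X.fromSpecStalk x q = genericPoint X := by
    have h1 := Groth.Agent.H71.DimFun.generic_of_isMin X x q hmin (genericPoint X)
      (genericPoint_specializes _)
    exact h1.symm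
  refine ⟨d, ?_, ?_⟩
  · have h2 := Groth.Agent.H71.DimFun.coheight_eq_ringKrullDim_quotient q
    rw [hd] at h2
    have e : (X.presheaf.stalk x ⧸ q.asIdeal) ≃+* X.presheaf.stalk x := RingEquiv.quotientBot _
    rw [← ringKrullDim_eq_of_ringEquiv e, ← h2]
    rfl
  · rw [← hgen]
    exact hδ

end Groth.Agent.H96.KeyS1
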