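import Groth.Agent.H96.KeyS2aCore
import Groth.Agent.H84.KeyP1

set_option autoImplicit false
set_option linter.style.haveILetI false

universe u v

open CategoryTheory AlgebraicGeometry TopologicalSpace Opposite

namespace Groth.Agent.H96.KeyS2a

variable {X : Scheme.{u}} [IsIntegral X]

/-- (S2a) for helper34's S1920: the term of the key lemma (S1851) at the prime of `ξ`, on the
scheme. -/
theorem skl_term [IsLocallyNoetherian X] {x ξ : X} (h : ξ ⤳ x)
    (hξ : ringKrullDim (X.presheaf.stalk ξ) = 1) (a b : X.presheaf.stalk x) (ha : a ≠ 0)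
    (hb : b ≠ 0) (q : Ideal (X.presheaf.stalk x)) [q.IsPrime]
    (hq : q = RingHom.ker (Cyc.specMap x ξ h)) :
    CycAlg.ordFrac (X.presheaf.stalk x ⧸ q) q.ResidueField
      (CycAlg.tameSymbol (Localization.AtPrime q)
        (algebraMap (X.presheaf.stalk x) (Localization.AtPrime q) a)
        (algebraMap (X.presheaf.stalk x) (Localization.AtPrime q) b)) =
    Cyc.ordAt x ξ h (CycAlg.tameSymbol (X.presheaf.stalk ξ)
      ((X.presheaf.stalkSpecializes h).hom a) ((X.presheaf.stalkSpecializes h).hom b)) :=
  Groth.Agent.H96.KeyS2aCore.skl_term_core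
    (fun hA e a b ha hb => Groth.Agent.H84.KeyP1.tameSymbol_ringEquiv hA e a b ha hb)
    h hξ a b ha hb q hq

end Groth.Agent.H96.KeyS2a
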