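import Groth.Agent.H96.QLin
import Groth.Agent.S17972

/-!
# The Lang map `T - 1` for Frobenius-semilinear maps on free modules over a strictly Henselian
local ring of characteristic `p`
-/

set_option autoImplicit false

namespace Groth.Agent.H96.LangHens

universe u v

section Card

variable {k : Type u} [Field k] {V : Type v} [AddCommGroup V] [Module k V]

/-- The number of fixed vectors of a semisimple `p`-semilinear map over a separably closed field
is `p ^ dim`. -/
theorem card_fixed (p : ℕ) [Fact p.Prime] [CharP k p] [IsSepClosed k] [FiniteDimensional k V]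
    (φ : V →+ V) (hφ : ∀ (a : k) (v : V), φ (a • v) = a ^ p • φ v)
    (hss : Submodule.span k (Set.range φ) = ⊤) :
    Nat.card {v : V // φ v = v} = p ^ Module.finrank k V := by
  classical
  have hp : p.Prime := Fact.out
  obtain ⟨b, hb⟩ := QLin.exists_basis_fixed φ hφ hp.two_le (CharP.cast_eq_zero k p) hss
  letI : Algebra (ZMod p) k := ZMod.algebra k p
  let Φ : (Fin (Module.finrank k V) → ZMod p) → {v : V // φ v = v} := fun c =>
    ⟨∑ i, algebraMap (ZMod p) k (c i) • b i, by
      rw [QLin.map_sum_smul φ hφ]
      refine Finset.sum_congr rfl fun i _ => ?_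
      rw [hb i, ← map_pow, ZMod.pow_card]⟩
  have hΦinj : Function.Injective Φ := by
    intro c c' h
    have h' : ∑ i, algebraMap (ZMod p) k (c i) • b i =
        ∑ i, algebraMap (ZMod p) k (c' i) • b i := congrArg Subtype.val h
    funext i
    exact (algebraMap (ZMod p) k).injective
      (b.linearIndependent.eq_coords_of_eq (f := fun i => algebraMap (ZMod p) k (c i))
        (g := fun i => algebraMap (ZMod p) k (c' i)) h' i)
  have hΦsurj : Function.Surjective Φ := by
    rintro ⟨v, hv⟩
    have hfixc : ∀ i, (b.repr v i) ^ p = b.repr v i := by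
      intro i
      have := QLin.repr_map φ hφ b hb v i
      rw [hv] at this; exact this.symm
    have hint : ∀ i, ∃ n : ℤ, (n : k) = b.repr v i := fun i =>
      (mem_bot_iff_intCast p k).mp ((Subfield.mem_bot_iff_pow_eq_self k p).mpr (hfixc i))
    choose n hn using hint
    refine ⟨fun i => (n i : ZMod p), Subtype.ext ?_⟩
    show ∑ i, algebraMap (ZMod p) k ((n i : ZMod p)) • b i = v
    conv_rhs => rw [← b.sum_repr v]
    refine Finset.sum_congr rfl fun i _ => ?_
    rw [map_intCast, hn]
  rw [Nat.card_congr (Equiv.ofBijective Φ ⟨hΦinj, hΦsurj⟩).symm, Nat.card_eq_fintype_card,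
    Fintype.card_fun, ZMod.card, Fintype.card_fin]

end Card

section Main

variable (p : ℕ) [Fact p.Prime] {R : Type u} [CommRing R] [HenselianLocalRing R]
  [IsSepClosed (IsLocalRing.ResidueField R)] [CharP R p]
  {M : Type v} [AddCommGroup M] [Module R M] [Module.Free R M] [Module.Finite R M]

local notation "κ" => IsLocalRing.ResidueField R
local notation "𝓃" => Module.finrank R M
local notation "res" => IsLocalRing.residue R

theorem main (T : M →+ M) (hT : ∀ (r : R) (m : M), T (r • m) = r ^ p • T m)
    (hspan : Submodule.span R (Set.range T) = ⊤) :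
    Function.Surjective (fun m => T m - m) ∧
      Nat.card {m : M // T m = m} = p ^ Module.finrank R M := by
  classical
  have hp : p.Prime := Fact.out
  have hres_surj : Function.Surjective (res) := IsLocalRing.residue_surjective
  have hpκ : ((p : ℕ) : κ) = 0 := by
    rw [← map_natCast (res) p, CharP.cast_eq_zero R p, map_zero]
  haveI : CharP κ p := (CharP.charP_iff_prime_eq_zero hp).mpr hpκ
  let e : Module.Basis (Fin 𝓃) R M := Module.finBasis R M
  let a : Fin 𝓃 → Fin 𝓃 → R := fun i j => e.repr (T (e j)) i
  have hTsum : ∀ m, T m = ∑ j, (e.repr m j) ^ p • T (e j) := by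
    intro m
    conv_lhs => rw [← e.sum_repr m]
    rw [map_sum]
    exact Finset.sum_congr rfl fun j _ => hT _ _
  have hcoord : ∀ m i, e.repr (T m) i = ∑ j, a i j * (e.repr m j) ^ p := by
    intro m i
    conv_lhs => rw [hTsum m]
    rw [map_sum, Finsupp.finsetSum_apply]
    refine Finset.sum_congr rfl fun j _ => ?_
    rw [map_smul, Finsupp.smul_apply, smul_eq_mul, mul_comm]
  have hrepsum : ∀ (s : Fin 𝓃 → R) j, e.repr (∑ j, s j • e j) j = s j :=
    fun s j => congrFun (e.repr_sum_self s) j
  -- the residual map
  let φ : (Fin 𝓃 → κ) →+ (Fin 𝓃 → κ) :=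
    { toFun := fun x i => ∑ j, res (a i j) * (x j) ^ p
      map_zero' := by
        funext i
        show ∑ j, res (a i j) * ((0 : Fin 𝓃 → κ) j) ^ p = 0
        exact Finset.sum_eq_zero fun j _ => by
          rw [Pi.zero_apply, zero_pow hp.ne_zero, mul_zero]
      map_add' := fun x y => by
        funext i
        show ∑ j, res (a i j) * ((x + y) j) ^ p =
          (∑ j, res (a i j) * (x j) ^ p) + ∑ j, res (a i j) * (y j) ^ p
        rw [← Finset.sum_add_distrib]
        exact Finset.sum_congr rfl fun j _ => by rw [Pi.add_apply, add_pow_char, mul_add] }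
  have hφapp : ∀ x i, φ x i = ∑ j, res (a i j) * (x j) ^ p := fun _ _ => rfl
  have hφ : ∀ (c : κ) (x : Fin 𝓃 → κ), φ (c • x) = c ^ p • φ x := by
    intro c x
    funext i
    rw [Pi.smul_apply, hφapp, hφapp, smul_eq_mul, Finset.mul_sum]
    refine Finset.sum_congr rfl fun j _ => ?_
    rw [Pi.smul_apply, smul_eq_mul, mul_pow]; ring
  let red : M → (Fin 𝓃 → κ) := fun m j => res (e.repr m j)
  have hredapp : ∀ m j, red m j = res (e.repr m j) := fun _ _ => rfl
  have hred_zero : red 0 = 0 := by
    funext j
    rw [hredapp, map_zero, Finsupp.zero_apply, map_zero, Pi.zero_apply]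
  have hred_add : ∀ m m', red (m + m') = red m + red m' := by
    intro m m'; funext j
    rw [Pi.add_apply, hredapp, hredapp, hredapp, map_add, Finsupp.add_apply, map_add]
  have hred_sub : ∀ m m', red (m - m') = red m - red m' := by
    intro m m'; funext j
    rw [Pi.sub_apply, hredapp, hredapp, hredapp, map_sub, Finsupp.sub_apply, map_sub]
  have hred_smul : ∀ (r : R) m, red (r • m) = res r • red m := by
    intro r m; funext j
    rw [Pi.smul_apply, hredapp, hredapp, map_smul, Finsupp.smul_apply, smul_eq_mul, map_mul,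
      smul_eq_mul]
  have hred_T : ∀ m, red (T m) = φ (red m) := by
    intro m; funext i
    rw [hredapp, hφapp, hcoord, map_sum]
    exact Finset.sum_congr rfl fun j _ => by rw [map_mul, map_pow, hredapp]
  have hred_surj : Function.Surjective red := by
    intro x
    choose y hy using fun j => hres_surj (x j)
    refine ⟨∑ j, y j • e j, ?_⟩
    funext j
    rw [hredapp, hrepsum, hy]
  have hφss : Submodule.span κ (Set.range φ) = ⊤ := by
    rw [eq_top_iff]
    intro x _
    obtain ⟨m, rfl⟩ := hred_surj x
    have h1 : ∀ m ∈ Submodule.span R (Set.range T),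
        red m ∈ Submodule.span κ (Set.range φ) := by
      intro m hm
      induction hm using Submodule.span_induction with
      | mem m hm =>
        obtain ⟨m', rfl⟩ := hm
        rw [hred_T]; exact Submodule.subset_span ⟨_, rfl⟩
      | zero => rw [hred_zero]; exact Submodule.zero_mem _
      | add x y _ _ hx hy => rw [hred_add]; exact Submodule.add_mem _ hx hy
      | smul r x _ hx => rw [hred_smul]; exact Submodule.smul_mem _ _ hx
    exact h1 m (by rw [hspan]; exact Submodule.mem_top)
  -- the polynomial system
  let P : (Fin 𝓃 → R) → Fin 𝓃 → MvPolynomial (Fin 𝓃) R := fun w i =>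
    ∑ j, MvPolynomial.C (a i j) * MvPolynomial.X j ^ p - MvPolynomial.X i - MvPolynomial.C (w i)
  have hPeval : ∀ (w x : Fin 𝓃 → R) i,
      MvPolynomial.eval x (P w i) = ∑ j, a i j * (x j) ^ p - x i - w i := by
    intro w x i
    simp only [P, map_sub, map_sum, map_mul, map_pow, MvPolynomial.eval_C, MvPolynomial.eval_X]
  have hPderiv : ∀ (w : Fin 𝓃 → R) i k, MvPolynomial.pderiv k (P w i) =
      if i = k then -1 else 0 := by
    intro w i k
    have hpz : ((p : ℕ) : MvPolynomial (Fin 𝓃) R) = 0 := CharP.cast_eq_zero _ p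
    simp only [P, map_sub, map_sum, MvPolynomial.pderiv_C_mul, MvPolynomial.pderiv_pow, hpz,
      zero_mul, mul_zero, Finset.sum_const_zero, MvPolynomial.pderiv_C, MvPolynomial.pderiv_X,
      zero_sub, sub_zero, Pi.single_apply]
    split_ifs <;> simp
  have hJ : ∀ (w a₀ : Fin 𝓃 → R), IsUnit (Matrix.of (fun i j =>
      MvPolynomial.eval a₀ (MvPolynomial.pderiv j (P w i)))).det := by
    intro w a₀
    have hmat : Matrix.of (fun i j => MvPolynomial.eval a₀ (MvPolynomial.pderiv j (P w i))) =
        -(1 : Matrix (Fin 𝓃) (Fin 𝓃) R) := by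
      ext i j
      rw [Matrix.of_apply, hPderiv, Matrix.neg_apply, Matrix.one_apply]
      split_ifs <;> simp
    rw [hmat, Matrix.det_neg, Matrix.det_one, mul_one]
    exact (isUnit_one.neg).pow _
  have hlift : ∀ (w : M) (xb : Fin 𝓃 → κ), φ xb - xb = red w →
      ∃ m : M, T m - m = w ∧ red m = xb := by
    intro w xb hx
    choose a₀ ha₀ using fun j => hres_surj (xb j)
    have h₀ : ∀ i, MvPolynomial.eval a₀ (P (fun i => e.repr w i) i) ∈
        IsLocalRing.maximalIdeal R := by
      intro i
      rw [← IsLocalRing.residue_eq_zero_iff, hPeval, map_sub, map_sub, map_sum]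
      have h1 := congrFun hx i
      rw [Pi.sub_apply, hφapp, hredapp] at h1
      have h2 : ∑ j, res (a i j * a₀ j ^ p) = ∑ j, res (a i j) * xb j ^ p :=
        Finset.sum_congr rfl fun j _ => by rw [map_mul, map_pow, ha₀]
      rw [h2, ha₀, h1]; exact sub_self _
    obtain ⟨s, hs, hs'⟩ :=
      Groth.Agent.S17972.result R 𝓃 (P fun i => e.repr w i) a₀ h₀ (hJ _ _)
    refine ⟨∑ j, s j • e j, ?_, ?_⟩
    · apply e.repr.injective
      ext i
      rw [map_sub, Finsupp.sub_apply, hcoord, hrepsum]
      simp only [hrepsum]
      have := hs i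
      rw [hPeval] at this
      linear_combination this
    · funext j
      rw [hredapp, hrepsum, ← ha₀ j]
      have := hs' j
      rw [← IsLocalRing.residue_eq_zero_iff, map_sub, sub_eq_zero] at this
      exact this
  refine ⟨?_, ?_⟩
  · intro w
    obtain ⟨yb, hyb⟩ := QLin.sub_surjective φ hφ hp.two_le hpκ (-(red w))
    have hx : φ yb - yb = red w := by rw [← neg_sub, hyb, neg_neg]
    obtain ⟨m, hm, -⟩ := hlift w yb hx
    exact ⟨m, hm⟩
  · have hcardφ := card_fixed p φ hφ hφss
    rw [Module.finrank_fin_fun] at hcardφ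
    rw [← hcardφ]
    refine Nat.card_congr (Equiv.ofBijective (fun m : {m : M // T m = m} =>
      (⟨red m.1, by rw [← hred_T, m.2]⟩ : {x : Fin 𝓃 → κ // φ x = x})) ⟨?_, ?_⟩)
    · rintro ⟨m, hm⟩ ⟨m', hm'⟩ h
      have hr : red m = red m' := congrArg Subtype.val h
      apply Subtype.ext
      show m = m'
      have hTd : T (m - m') = m - m' := by rw [map_sub, hm, hm']
      have hdm : ∀ i, e.repr (m - m') i ∈ IsLocalRing.maximalIdeal R := by
        intro i
        rw [← IsLocalRing.residue_eq_zero_iff]
        have := congrFun (hred_sub m m') i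
        rw [hr, sub_self, hredapp] at this
        exact this
      have hIfg : (Ideal.span (Set.range fun i => e.repr (m - m') i)).FG :=
        Submodule.fg_span (Set.finite_range _)
      have hdI : ∀ i, e.repr (m - m') i ∈ Ideal.span (Set.range fun i => e.repr (m - m') i) :=
        fun i => Ideal.subset_span ⟨i, rfl⟩
      have hle : Ideal.span (Set.range fun i => e.repr (m - m') i) ≤
          IsLocalRing.maximalIdeal R • Ideal.span (Set.range fun i => e.repr (m - m') i) := by
        rw [Ideal.span_le]
        rintro _ ⟨i, rfl⟩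
        have h1 : e.repr (m - m') i = ∑ j, a i j * (e.repr (m - m') j) ^ p := by
          conv_lhs => rw [← hTd]
          exact hcoord (m - m') i
        show e.repr (m - m') i ∈
          IsLocalRing.maximalIdeal R * Ideal.span (Set.range fun i => e.repr (m - m') i)
        rw [h1]
        refine Ideal.sum_mem _ fun j _ => Ideal.mul_mem_left _ _ ?_
        obtain ⟨t, ht⟩ : ∃ t, p = t + 1 := ⟨p - 1, by have := hp.pos; omega⟩
        rw [ht, pow_succ]
        exact Ideal.mul_mem_mul (Ideal.pow_mem_of_mem _ (hdm j) t
          (by have := hp.two_le; omega)) (hdI j)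
      have hI0 := Submodule.eq_bot_of_le_smul_of_le_jacobson_bot _ _ hIfg hle
        (IsLocalRing.maximalIdeal_le_jacobson _)
      have hd0 : m - m' = 0 := by
        apply e.repr.injective
        ext i
        have := hdI i
        rw [hI0, Ideal.mem_bot] at this
        rw [this, map_zero, Finsupp.zero_apply]
      exact sub_eq_zero.mp hd0
    · rintro ⟨xb, hxb⟩
      have hx : φ xb - xb = red 0 := by rw [hxb, sub_self, hred_zero]
      obtain ⟨m, hm, hmr⟩ := hlift 0 xb hx
      exact ⟨⟨m, sub_eq_zero.mp hm⟩, Subtype.ext hmr⟩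

end Main

end Groth.Agent.H96.LangHens
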