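import Groth.Agent.H96.LocUFD
import Mathlib.RingTheory.IntegralClosure.IntegrallyClosed
import Mathlib.RingTheory.Polynomial.RationalRoot
import Mathlib.RingTheory.Localization.FractionRing

/-!
For a UFD `A` and `B = A[1/π]`, an element of `B` integral over `A` lies in the image of `A`.
-/

set_option autoImplicit false

namespace Groth.Agent.H96

variable {A B : Type*} [CommRing A] [IsDomain A] [CommRing B] [Algebra A B]

theorem mem_range_of_isIntegral_of_away [IsIntegrallyClosed A] (π : A) (hπ : π ≠ 0)
    [IsLocalization.Away π B] (y : B) (h : IsIntegral A y) : y ∈ (algebraMap A B).range := by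
  let K := FractionRing A
  have hM : Submonoid.powers π ≤ nonZeroDivisors A := by
    rintro _ ⟨n, rfl⟩
    exact mem_nonZeroDivisors_of_ne_zero (pow_ne_zero n hπ)
  have hg : ∀ s : Submonoid.powers π, IsUnit (algebraMap A K s) := by
    intro s
    exact IsLocalization.map_units K (⟨s.1, hM s.2⟩ : nonZeroDivisors A)
  let g : B →ₐ[A] K := IsLocalization.liftAlgHom (M := Submonoid.powers π) (f := Algebra.ofId A K) hg
  have hginj : Function.Injective g := by
    have : Function.Injective (IsLocalization.lift (M := Submonoid.powers π) (S := B) hg) := by
      rw [IsLocalization.lift_injective_iff]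
      intro a b
      constructor
      · intro hab
        have := algebraMap_injective_of_away (B := B) π hπ hab
        rw [this]
      · intro hab
        have : a = b := IsFractionRing.injective A K hab
        rw [this]
    exact this
  have h1 : IsIntegral A (g y) := h.map g
  obtain ⟨z, hz⟩ := IsIntegrallyClosed.isIntegral_iff.mp h1
  refine ⟨z, hginj ?_⟩
  rw [← hz]
  exact g.commutes z

theorem isIntegral_iff_mem_range_of_away [UniqueFactorizationMonoid A] (π : A) (hπ : π ≠ 0)
    [IsLocalization.Away π B] (y : B) : IsIntegral A y ↔ y ∈ (algebraMap A B).range := by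
  constructor
  · exact mem_range_of_isIntegral_of_away π hπ y
  · rintro ⟨z, rfl⟩
    exact isIntegral_algebraMap

end Groth.Agent.H96
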