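import Mathlib
import Groth.Prelude.Def_AzInv

/-!
# `LocIsoEt` from an etale faithfully flat cover in an arbitrary universe
-/

set_option autoImplicit false
set_option linter.style.haveILetI false
universe u v w w' u'

open TensorProduct

namespace Groth.Agent.H96.LocIsoEtShrink

variable {S : Type u} {R : Type v} [CommRing S] [CommRing R] [Algebra S R]
  {A : Type w} [Ring A] [Algebra S A] [Algebra R A] [IsScalarTower S R A]
  {A' : Type w'} [Ring A'] [Algebra S A'] [Algebra R A'] [IsScalarTower S R A']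
  (lam : R ≃ₐ[S] R)

theorem small_of_finiteType (T₀ : Type u') [CommRing T₀] [Algebra S T₀] [Algebra.FiniteType S T₀] :
    Small.{u} T₀ := by
  obtain ⟨n, f, hf⟩ := Algebra.FiniteType.iff_quotient_mvPolynomial''.mp
    (inferInstance : Algebra.FiniteType S T₀)
  exact small_of_surjective hf

theorem bc_congr (t : AzInv.LamInv R A lam) {T T₀ : Type*} [CommRing T] [CommRing T₀]
    [Algebra S T] [Algebra S T₀] (σ : T ≃ₐ[S] T₀) (x : T ⊗[S] A) :
    t.bc S lam T₀ (Algebra.TensorProduct.congr σ (AlgEquiv.refl : A ≃ₐ[S] A) x) =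
      Algebra.TensorProduct.congr σ (AlgEquiv.refl : A ≃ₐ[S] A) (t.bc S lam T x) := by
  induction x using TensorProduct.induction_on with
  | zero => simp
  | tmul y a => simp
  | add x₁ x₂ h₁ h₂ => rw [map_add, map_add, h₁, h₂, map_add, map_add]

theorem locIsoEt_of_cover (t : AzInv.LamInv R A lam) (t' : AzInv.LamInv R A' lam)
    (T₀ : Type u') [CommRing T₀] [Algebra S T₀] [Algebra.Etale S T₀] [Module.FaithfullyFlat S T₀]
    (f : T₀ ⊗[S] A ≃ₐ[T₀] T₀ ⊗[S] A')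
    (hf1 : ∀ (r : R) (x : T₀ ⊗[S] A),
      f (((1 : T₀) ⊗ₜ[S] algebraMap R A r) * x) = ((1 : T₀) ⊗ₜ[S] algebraMap R A' r) * f x)
    (hf2 : ∀ x : T₀ ⊗[S] A, f (t.bc S lam T₀ x) = t'.bc S lam T₀ (f x)) :
    AzInv.LocIsoEt S lam t t' := by
  haveI : Small.{u} T₀ := small_of_finiteType (S := S) T₀
  let σ : Shrink.{u} T₀ ≃ₐ[S] T₀ := Shrink.algEquiv S T₀
  haveI : Algebra.Etale S (Shrink.{u} T₀) := Algebra.Etale.of_equiv σ.symm
  haveI : Module.FaithfullyFlat S (Shrink.{u} T₀) :=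
    Module.FaithfullyFlat.of_linearEquiv S T₀ σ.toLinearEquiv
  let c : Shrink.{u} T₀ ⊗[S] A ≃ₐ[S] T₀ ⊗[S] A :=
    Algebra.TensorProduct.congr σ (AlgEquiv.refl : A ≃ₐ[S] A)
  let c' : Shrink.{u} T₀ ⊗[S] A' ≃ₐ[S] T₀ ⊗[S] A' :=
    Algebra.TensorProduct.congr σ (AlgEquiv.refl : A' ≃ₐ[S] A')
  let g : Shrink.{u} T₀ ⊗[S] A ≃+* Shrink.{u} T₀ ⊗[S] A' :=
    c.toRingEquiv.trans (f.toRingEquiv.trans c'.symm.toRingEquiv)
  have hg : ∀ x, g x = c'.symm (f (c x)) := fun x => rfl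
  have hc1 : ∀ (y : Shrink.{u} T₀) (a : A), c (y ⊗ₜ[S] a) = σ y ⊗ₜ[S] a := fun y a => by
    simp [c]
  have hc1' : ∀ (y : Shrink.{u} T₀) (a : A'), c' (y ⊗ₜ[S] a) = σ y ⊗ₜ[S] a := fun y a => by
    simp [c']
  have hcomm : ∀ y : Shrink.{u} T₀, g (algebraMap _ (Shrink.{u} T₀ ⊗[S] A) y) =
      algebraMap _ (Shrink.{u} T₀ ⊗[S] A') y := by
    intro y
    have e1 : algebraMap (Shrink.{u} T₀) (Shrink.{u} T₀ ⊗[S] A) y = y ⊗ₜ[S] (1 : A) := rfl
    have e2 : algebraMap (Shrink.{u} T₀) (Shrink.{u} T₀ ⊗[S] A') y = y ⊗ₜ[S] (1 : A') := rfl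
    rw [hg, e1, e2, hc1, AlgEquiv.symm_apply_eq, hc1']
    exact f.commutes (σ y)
  have hb : ∀ x, t.bc S lam T₀ (c x) = c (t.bc S lam (Shrink.{u} T₀) x) := bc_congr lam t σ
  have hb' : ∀ x, t'.bc S lam T₀ (c' x) = c' (t'.bc S lam (Shrink.{u} T₀) x) :=
    bc_congr lam t' σ
  refine ⟨Shrink.{u} T₀, inferInstance, inferInstance, inferInstance, inferInstance,
    AlgEquiv.ofRingEquiv (f := g) hcomm, ?_, ?_⟩
  · intro r x
    show g (_ * x) = _ * g x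
    rw [hg, hg, map_mul, hc1, map_one, hf1, map_mul]
    congr 1
  · intro x
    show g _ = t'.bc S lam _ (g x)
    rw [hg, hg, AlgEquiv.symm_apply_eq, ← hb, hf2, ← hb', AlgEquiv.apply_symm_apply]

end Groth.Agent.H96.LocIsoEtShrink
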