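import Mathlib.RingTheory.Localization.Away.Basic
import Mathlib.RingTheory.UniqueFactorizationDomain.Multiplicity
import Mathlib.Algebra.BigOperators.Associated

/-!
Facts about `B = A[1/π]` for a UFD `A`: the image of `A` in `B` is closed under taking
roots (`y ^ N ∈ A → y ∈ A`), and products of pairwise non-associated primes.
-/

set_option autoImplicit false

namespace Groth.Agent.H96

section

variable {A B : Type*} [CommRing A] [IsDomain A] [CommRing B] [Algebra A B]

theorem algebraMap_injective_of_away (π : A) (hπ : π ≠ 0) [IsLocalization.Away π B] :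
    Function.Injective (algebraMap A B) := by
  apply IsLocalization.injective (M := Submonoid.powers π) B
  rintro _ ⟨n, rfl⟩
  exact mem_nonZeroDivisors_of_ne_zero (pow_ne_zero n hπ)

/-- In a localization `B = A[1/π]` of a UFD `A`, an element whose positive power lies in the image
of `A` already lies in the image of `A`. -/
theorem mem_range_of_pow_mem_range [UniqueFactorizationMonoid A] (π : A) (hπ : π ≠ 0)
    [IsLocalization.Away π B] (y : B) (N : ℕ) (hN : N ≠ 0)
    (h : y ^ N ∈ (algebraMap A B).range) : y ∈ (algebraMap A B).range := by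
  have hinj := algebraMap_injective_of_away (B := B) π hπ
  obtain ⟨w, hw⟩ := h
  obtain ⟨k, a, ha⟩ := IsLocalization.Away.surj π y
  have h1 : a ^ N = w * (π ^ k) ^ N := by
    apply hinj
    rw [map_pow, ← ha, map_mul, map_pow, map_pow, hw, mul_pow]
  have h2 : (π ^ k) ^ N ∣ a ^ N := ⟨w, by rw [h1, mul_comm]⟩
  have h3 : π ^ k ∣ a := (UniqueFactorizationMonoid.pow_dvd_pow_iff_dvd hN).mp h2
  obtain ⟨a', rfl⟩ := h3
  refine ⟨a', ?_⟩
  have hu : IsUnit (algebraMap A B π ^ k) := (IsLocalization.Away.algebraMap_isUnit π).pow k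
  apply hu.mul_left_injective
  simp only
  rw [ha, map_mul, map_pow, mul_comm]

end

section

variable {A : Type*} [CommRing A] [IsDomain A]

/-- A family of pairwise non-associated primes all dividing `t` has product dividing `t`. -/
theorem prod_dvd_of_forall_dvd {ι : Type*} (s : Finset ι) (x : ι → A)
    (hx : ∀ i, Prime (x i)) (hxa : ∀ i j, Associated (x i) (x j) → i = j) (t : A)
    (h : ∀ i ∈ s, x i ∣ t) : ∏ i ∈ s, x i ∣ t := by
  classical
  induction s using Finset.induction_on generalizing t with
  | empty => simp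
  | insert a s ha ih =>
    rw [Finset.prod_insert ha]
    obtain ⟨k, rfl⟩ := ih t fun i hi => h i (Finset.mem_insert_of_mem hi)
    rw [mul_comm]
    apply mul_dvd_mul_left
    have h1 : x a ∣ (∏ i ∈ s, x i) * k := h a (Finset.mem_insert_self a s)
    rcases (hx a).dvd_or_dvd h1 with h2 | h2
    · exfalso
      obtain ⟨b, hb, hab⟩ := (Prime.dvd_finsetProd_iff (hx a) _).mp h2
      have := hxa a b ((hx a).associated_of_dvd (hx b) hab)
      exact ha (this ▸ hb)
    · exact h2

theorem prod_univ_dvd_of_forall_dvd {r : ℕ} (x : Fin r → A)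
    (hx : ∀ i, Prime (x i)) (hxa : ∀ i j, Associated (x i) (x j) → i = j) (t : A)
    (h : ∀ i, x i ∣ t) : ∏ i, x i ∣ t :=
  prod_dvd_of_forall_dvd Finset.univ x hx hxa t fun i _ => h i

theorem prod_ne_zero_of_prime {r : ℕ} (x : Fin r → A) (hx : ∀ i, Prime (x i)) :
    ∏ i, x i ≠ 0 :=
  Finset.prod_ne_zero_iff.mpr fun i _ => (hx i).ne_zero

end

end Groth.Agent.H96
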