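import Mathlib

/-!
# The rings `E[X_1..X_l]/(X_k^2 - s_k)`: functoriality and localisation
-/

set_option autoImplicit false
set_option linter.style.haveILetI false
universe u v w

open scoped TensorProduct

namespace Groth.Agent.H96.SqrtRing

section Defs

variable {B : Type*} [CommRing B]

/-- The ideal `(X_k^2 - s_k)`. -/
noncomputable abbrev I (E : Type*) [CommRing E] {l : ℕ} (s : Fin l → E) : Ideal (MvPolynomial (Fin l) E) :=
  Ideal.span (Set.range fun k : Fin l => MvPolynomial.X k ^ 2 - MvPolynomial.C (s k))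

/-- The ring `E[X_1..X_l]/(X_k^2 - s_k)`. -/
noncomputable abbrev T (E : Type*) [CommRing E] {l : ℕ} (s : Fin l → E) := MvPolynomial (Fin l) E ⧸ I E s

variable {E E' : Type*} [CommRing E] [CommRing E'] [Algebra B E] [Algebra B E']

theorem I_le_ker (ψ : E →ₐ[B] E') {l : ℕ} (s : Fin l → E) (s' : Fin l → E')
    (hs : ∀ k, ψ (s k) = s' k) :
    ∀ a ∈ I E s, ((Ideal.Quotient.mkₐ B (I E' s')).comp (MvPolynomial.mapAlgHom ψ)) a = 0 := by
  have : I E s ≤ RingHom.ker
      (((Ideal.Quotient.mkₐ B (I E' s')).comp (MvPolynomial.mapAlgHom ψ)) :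
        MvPolynomial (Fin l) E →+* T E' s') := by
    rw [Ideal.span_le]
    rintro _ ⟨k, rfl⟩
    rw [SetLike.mem_coe, RingHom.mem_ker]
    show (Ideal.Quotient.mk (I E' s')) (MvPolynomial.map (ψ : E →+* E')
      (MvPolynomial.X k ^ 2 - MvPolynomial.C (s k))) = 0
    rw [map_sub, map_pow, MvPolynomial.map_X, MvPolynomial.map_C]
    rw [Ideal.Quotient.eq_zero_iff_mem]
    refine Ideal.subset_span ⟨k, ?_⟩
    simp only [RingHom.coe_coe, hs]
  intro a ha
  exact this ha

/-- Functoriality of `T`. -/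
noncomputable def Tmap (ψ : E →ₐ[B] E') {l : ℕ} (s : Fin l → E) (s' : Fin l → E')
    (hs : ∀ k, ψ (s k) = s' k) : T E s →ₐ[B] T E' s' :=
  Ideal.Quotient.liftₐ (I E s) ((Ideal.Quotient.mkₐ B (I E' s')).comp (MvPolynomial.mapAlgHom ψ))
    (I_le_ker ψ s s' hs)

theorem Tmap_mk (ψ : E →ₐ[B] E') {l : ℕ} (s : Fin l → E) (s' : Fin l → E')
    (hs : ∀ k, ψ (s k) = s' k) (P : MvPolynomial (Fin l) E) :
    Tmap ψ s s' hs (Ideal.Quotient.mk (I E s) P) =
      Ideal.Quotient.mk (I E' s') (MvPolynomial.map (ψ : E →+* E') P) := rfl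

theorem Tmap_algebraMap (ψ : E →ₐ[B] E') {l : ℕ} (s : Fin l → E) (s' : Fin l → E')
    (hs : ∀ k, ψ (s k) = s' k) (e : E) :
    Tmap ψ s s' hs (algebraMap E (T E s) e) = algebraMap E' (T E' s') (ψ e) := by
  show Tmap ψ s s' hs (Ideal.Quotient.mk (I E s) (MvPolynomial.C e)) = _
  rw [Tmap_mk, MvPolynomial.map_C]
  rfl

end Defs

section TLoc

variable {B : Type*} [CommRing B] (M : Submonoid B) {E E' : Type*} [CommRing E] [CommRing E']
  [Algebra B E] [Algebra B E'] [Algebra E E'] [IsScalarTower B E E']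
  [IsLocalization (Algebra.algebraMapSubmonoid E M) E']

attribute [local instance] MvPolynomial.algebraMvPolynomial

theorem TLoc {l : ℕ} (s : Fin l → E) (s' : Fin l → E')
    (hs : ∀ k, (IsScalarTower.toAlgHom B E E') (s k) = s' k) :
    IsLocalizedModule M (Tmap (IsScalarTower.toAlgHom B E E') s s' hs).toLinearMap := by
  letI : Algebra (T E s) (T E' s') := (Tmap (IsScalarTower.toAlgHom B E E') s s' hs).toRingHom.toAlgebra
  haveI : IsScalarTower B (T E s) (T E' s') := IsScalarTower.of_algebraMap_eq fun x =>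
    ((Tmap (IsScalarTower.toAlgHom B E E') s s' hs).commutes x).symm
  have key : IsLocalization (Algebra.algebraMapSubmonoid (T E s) M) (T E' s') := by
    have h1 := IsLocalization.of_surjective ((Algebra.algebraMapSubmonoid E M).map
        (MvPolynomial.C (σ := Fin l))) (MvPolynomial (Fin l) E')
      (Ideal.Quotient.mk (I E s)) Ideal.Quotient.mk_surjective
      (Ideal.Quotient.mk (I E' s')) Ideal.Quotient.mk_surjective (R' := T E s) (S' := T E' s')
      (by
        ext P
        · rfl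
        · rfl)
      (by
        rw [Ideal.mk_ker, Ideal.mk_ker, Ideal.map_span, Ideal.span_le]
        rintro _ ⟨k, rfl⟩
        refine Ideal.subset_span ⟨_, ⟨k, rfl⟩, ?_⟩
        have h' : algebraMap E E' (s k) = s' k := hs k
        rw [MvPolynomial.algebraMap_def, map_sub, map_pow, MvPolynomial.map_X, MvPolynomial.map_C,
          h'])
    have hsub : ((Algebra.algebraMapSubmonoid E M).map (MvPolynomial.C (σ := Fin l))).map
        (Ideal.Quotient.mk (I E s)) = Algebra.algebraMapSubmonoid (T E s) M := by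
      ext x
      simp only [Algebra.algebraMapSubmonoid, Submonoid.mem_map]
      constructor
      · rintro ⟨_, ⟨_, ⟨m, hm, rfl⟩, rfl⟩, rfl⟩
        exact ⟨m, hm, rfl⟩
      · rintro ⟨m, hm, rfl⟩
        exact ⟨_, ⟨_, ⟨m, hm, rfl⟩, rfl⟩, rfl⟩
    rw [hsub] at h1
    exact h1
  exact isLocalizedModule_iff_isLocalization.mpr key

theorem TLoc' {l : ℕ} (s : Fin l → E) (s' : Fin l → E') (ψ : E →ₐ[B] E')
    (hψ : ∀ x, ψ x = algebraMap E E' x) (hs : ∀ k, ψ (s k) = s' k) :
    IsLocalizedModule M (Tmap ψ s s' hs).toLinearMap := by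
  obtain rfl : ψ = IsScalarTower.toAlgHom B E E' := AlgHom.ext hψ
  exact TLoc M s s' hs

end TLoc

section Away

variable {B : Type*} [CommRing B] {T₀ T₁ : Type*} [CommRing T₀] [CommRing T₁] [Algebra B T₀]
  [Algebra B T₁] (g : T₀ →ₐ[B] T₁) (x₀ : T₀)
  (C₀ : Type*) [CommRing C₀] [Algebra T₀ C₀] [Algebra B C₀] [IsScalarTower B T₀ C₀]
  [IsLocalization.Away x₀ C₀]
  (C₁ : Type*) [CommRing C₁] [Algebra T₁ C₁] [Algebra B C₁] [IsScalarTower B T₁ C₁]
  [IsLocalization.Away (g x₀) C₁]

/-- The map induced on localisations away from `x₀` and `g x₀`. -/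
noncomputable def awayMap : C₀ →ₐ[B] C₁ :=
  IsLocalization.Away.liftAlgHom (S := C₀) x₀ (f := (IsScalarTower.toAlgHom B T₁ C₁).comp g)
    (IsLocalization.Away.algebraMap_isUnit (g x₀))

theorem awayMap_algebraMap (t : T₀) :
    awayMap g x₀ C₀ C₁ (algebraMap T₀ C₀ t) = algebraMap T₁ C₁ (g t) := by
  unfold awayMap
  rw [IsLocalization.Away.liftAlgHom_apply, IsLocalization.Away.lift_eq]
  rfl

theorem awayMap_isLocalizedModule (M : Submonoid B) [hg : IsLocalizedModule M g.toLinearMap] :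
    IsLocalizedModule M (awayMap g x₀ C₀ C₁).toLinearMap := by
  letI : Algebra T₀ T₁ := g.toRingHom.toAlgebra
  haveI : IsScalarTower B T₀ T₁ := IsScalarTower.of_algebraMap_eq fun x => (g.commutes x).symm
  letI : Algebra T₀ C₁ := ((algebraMap T₁ C₁).comp g.toRingHom).toAlgebra
  haveI : IsScalarTower T₀ T₁ C₁ := IsScalarTower.of_algebraMap_eq fun x => rfl
  letI : Algebra C₀ C₁ := (awayMap g x₀ C₀ C₁).toRingHom.toAlgebra
  haveI : IsScalarTower T₀ C₀ C₁ := IsScalarTower.of_algebraMap_eq fun x =>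
    (awayMap_algebraMap g x₀ C₀ C₁ x).symm
  haveI : IsScalarTower B C₀ C₁ := IsScalarTower.of_algebraMap_eq fun x =>
    ((awayMap g x₀ C₀ C₁).commutes x).symm
  have e : IsScalarTower.toAlgHom B T₀ T₁ = g := AlgHom.ext fun _ => rfl
  haveI h1 : IsLocalization (Algebra.algebraMapSubmonoid T₀ M) T₁ :=
    isLocalizedModule_iff_isLocalization.mp (by rw [e]; exact hg)
  haveI h2 : IsLocalization (Algebra.algebraMapSubmonoid T₁ (Submonoid.powers x₀)) C₁ := by
    rw [Algebra.algebraMapSubmonoid, Submonoid.map_powers]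
    exact ‹IsLocalization.Away (g x₀) C₁›
  have h3 := IsLocalization.commutes C₀ T₁ C₁ (Submonoid.powers x₀)
    (Algebra.algebraMapSubmonoid T₀ M)
  rw [Algebra.algebraMapSubmonoid_map_map] at h3
  have e' : IsScalarTower.toAlgHom B C₀ C₁ = awayMap g x₀ C₀ C₁ := AlgHom.ext fun _ => rfl
  have := isLocalizedModule_iff_isLocalization.mpr h3
  rwa [e'] at this

end Away

section Tens

variable {B : Type*} [CommRing B] (A : Type*) [CommRing A] [Algebra B A]
  {C₀ C₁ : Type*} [CommRing C₀] [CommRing C₁] [Algebra B C₀] [Algebra B C₁] (γ : C₀ →ₐ[B] C₁)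

/-- `γ ⊗ id`. -/
noncomputable def tensMap : C₀ ⊗[B] A →ₐ[B] C₁ ⊗[B] A :=
  Algebra.TensorProduct.map γ (AlgHom.id B A)

@[simp]
theorem tensMap_tmul (c : C₀) (a : A) : tensMap A γ (c ⊗ₜ[B] a) = γ c ⊗ₜ[B] a := rfl

theorem tensMap_isLocalizedModule (M : Submonoid B) [IsLocalizedModule M γ.toLinearMap] :
    IsLocalizedModule M (tensMap A γ).toLinearMap := by
  have : (tensMap A γ).toLinearMap =
      TensorProduct.AlgebraTensorModule.rTensor B A γ.toLinearMap := by
    ext c a
    simp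
  rw [this]
  infer_instance

variable (lam : A ≃ₐ[B] A)

/-- `id ⊗ lam` as a `B`-algebra map. -/
noncomputable def tauD (C : Type*) [CommRing C] [Algebra B C] : C ⊗[B] A →ₐ[B] C ⊗[B] A :=
  Algebra.TensorProduct.map (AlgHom.id B C) lam.toAlgHom

@[simp]
theorem tauD_tmul (C : Type*) [CommRing C] [Algebra B C] (c : C) (a : A) :
    tauD A lam C (c ⊗ₜ[B] a) = c ⊗ₜ[B] lam a := rfl

theorem tauD_eq (C : Type*) [CommRing C] [Algebra B C] (x : C ⊗[B] A) :
    tauD A lam C x = Algebra.TensorProduct.congr (AlgEquiv.refl : C ≃ₐ[C] C) lam x := by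
  induction x using TensorProduct.induction_on with
  | zero => simp
  | tmul c a => simp
  | add x y hx hy => rw [map_add, map_add, hx, hy]

theorem tens_tau_comm :
    (tensMap A γ).comp (tauD A lam C₀) = (tauD A lam C₁).comp (tensMap A γ) := by
  apply AlgHom.ext
  intro x
  induction x using TensorProduct.induction_on with
  | zero => simp
  | tmul c a => simp
  | add x y hx hy => rw [map_add, map_add, hx, hy]

end Tens

end Groth.Agent.H96.SqrtRing
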