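import Mathlib
import Groth.Agent.H96.HermLocal
import Groth.Agent.H96.HermDescent
import Groth.Agent.H96.SqrtRing
import Groth.Agent.H77.RInv3

/-!
# Local normal form of an `ε`-hermitian matrix at a prime of the fixed ring (ramified case)
(helper96)
-/

set_option autoImplicit false
set_option linter.unusedSectionVars false
set_option linter.style.haveILetI false
universe u v w

open TensorProduct Matrix

namespace Groth.Agent.H96.RamLocal

open Groth.Agent.H96.HermLocal Groth.Agent.H96.SqrtRing Groth.Agent.H96.HermDescent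

/-- The star ring structure given by an involutive ring endomorphism. -/
@[reducible] def starRingOf (Y : Type*) [CommRing Y] (μ : Y →+* Y) (hμ : ∀ y, μ (μ y) = y) :
    StarRing Y where
  star := μ
  star_involutive := hμ
  star_mul a b := by rw [map_mul, mul_comm]
  star_add := map_add μ

variable {B : Type u} {A : Type v} [CommRing B] [CommRing A] [Algebra B A] (lam : A ≃ₐ[B] A)
  (hlam : ∀ a, lam (lam a) = a) (hB : RInv.IsFixedRing B A lam.toRingEquiv)

section Setup

variable (C : Type*) [CommRing C] [Algebra B C]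

include hlam in
theorem tauD_invol (y : C ⊗[B] A) : tauD A lam C (tauD A lam C y) = y := by
  induction y using TensorProduct.induction_on with
  | zero => simp
  | tmul c a => simp [hlam]
  | add x y hx hy => rw [map_add, map_add, hx, hy]

theorem lamT_eq (y : C ⊗[B] A) :
    Groth.Agent.H77.lamT lam.toRingEquiv C hB y = tauD A lam C y := by
  induction y using TensorProduct.induction_on with
  | zero => simp
  | tmul c a => rw [Groth.Agent.H77.lamT_tmul]; rfl
  | add x y hx hy => rw [map_add, map_add, hx, hy]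

theorem tauD_algebraMap (c : C) :
    tauD A lam C (algebraMap C (C ⊗[B] A) c) = algebraMap C (C ⊗[B] A) c := by
  rw [Algebra.TensorProduct.algebraMap_apply, Algebra.algebraMap_self, RingHom.id_apply]
  simp

theorem nil_tauD (hnil : ∀ a : A, IsNilpotent (a - lam a)) (y : C ⊗[B] A) :
    IsNilpotent (y - tauD A lam C y) := by
  rw [← mem_nilradical]
  induction y using TensorProduct.induction_on with
  | zero => simp
  | tmul c a =>
    have : c ⊗ₜ[B] a - tauD A lam C (c ⊗ₜ[B] a) =
        (c ⊗ₜ[B] (1 : A)) * (Algebra.TensorProduct.includeRight : A →ₐ[B] C ⊗[B] A) (a - lam a) := by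
      rw [tauD_tmul, Algebra.TensorProduct.includeRight_apply,
        Algebra.TensorProduct.tmul_mul_tmul, mul_one, one_mul, TensorProduct.tmul_sub]
    rw [this]
    exact Ideal.mul_mem_left _ _ (mem_nilradical.mpr ((hnil a).map _))
  | add x y hx hy =>
    have : x + y - tauD A lam C (x + y) = (x - tauD A lam C x) + (y - tauD A lam C y) := by
      rw [map_add]; ring
    rw [this]
    exact Ideal.add_mem _ hx hy

end Setup

section Abstract

variable {Y : Type*} [CommRing Y] [StarRing Y]

theorem eps_norm {n : ℕ} (hn : 0 < n) (u : Matrix (Fin n) (Fin n) Y) (hu : IsUnit u) (ε : Y)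
    (hε : uᴴ = ε • u) : star ε * ε = 1 := by
  have h1 : u = (star ε * ε) • u := by
    have := congrArg conjTranspose hε
    rw [conjTranspose_conjTranspose, conjTranspose_smul, hε, smul_smul] at this
    exact this
  have hdet : IsUnit u.det := (Matrix.isUnit_iff_isUnit_det u).mp hu
  have h3 : (1 : Matrix (Fin n) (Fin n) Y) = (star ε * ε) • (1 : Matrix (Fin n) (Fin n) Y) := by
    have := congrArg (fun M => M * u⁻¹) h1
    simp only [Matrix.smul_mul, Matrix.mul_nonsing_inv u hdet] at this
    exact this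
  have := congrFun (congrFun h3 ⟨0, hn⟩) ⟨0, hn⟩
  rw [Matrix.smul_apply, Matrix.one_apply_eq, smul_eq_mul, mul_one] at this
  exact this.symm

variable [IsLocalRing Y] (hnil : ∀ y : Y, IsNilpotent (y - star y)) (h2 : IsUnit (2 : Y))

include hnil h2 in
theorem sign_split (ε : Y) (hN : star ε * ε = 1) : IsUnit (1 + ε) ∨ IsUnit (1 - ε) := by
  obtain ⟨c, hc⟩ := h2.exists_left_inv
  have hc' : 2 * c = 1 := by rw [mul_comm]; exact hc
  have h4c : 4 * c ^ 2 = 1 := by
    calc 4 * c ^ 2 = (2 * c) ^ 2 := by ring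
      _ = 1 := by rw [hc', one_pow]
  set εp := c * (ε + star ε) with hεp
  have hprod : (εp - 1) * (εp + 1) = c ^ 2 * (ε - star ε) ^ 2 := by
    rw [hεp]
    linear_combination (star ε * ε) * h4c + hN
  have hmem : (εp - 1) * (εp + 1) ∈ IsLocalRing.maximalIdeal Y := by
    rw [hprod]
    apply mem_max_of_nilpotent
    rw [← mem_nilradical]
    exact Ideal.mul_mem_left _ _ (Ideal.pow_mem_of_mem _ (mem_nilradical.mpr (hnil ε)) 2 (by norm_num))
  have hd : c * (ε - star ε) ∈ IsLocalRing.maximalIdeal Y :=
    Ideal.mul_mem_left _ _ (mem_max_of_nilpotent (hnil ε))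
  have h2n : (2 : Y) ∉ IsLocalRing.maximalIdeal Y := isUnit_iff_not_mem.mp h2
  rcases (IsLocalRing.maximalIdeal.isMaximal Y).isPrime.mem_or_mem hmem with h | h
  · left
    rw [isUnit_iff_not_mem]
    intro hcon
    apply h2n
    have : (2 : Y) = (1 + ε) - ((εp - 1) + c * (ε - star ε)) := by
      rw [hεp]; linear_combination ε * hc'
    rw [this]
    exact Ideal.sub_mem _ hcon (Ideal.add_mem _ h hd)
  · right
    rw [isUnit_iff_not_mem]
    intro hcon
    apply h2n
    have : (2 : Y) = (1 - ε) + ((εp + 1) + c * (ε - star ε)) := by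
      rw [hεp]; linear_combination (-ε) * hc'
    rw [this]
    exact Ideal.add_mem _ hcon (Ideal.add_mem _ h hd)

end Abstract

section Main

variable (h2 : IsUnit (2 : B)) (hnil : ∀ a : A, IsNilpotent (a - lam a)) {n : ℕ} (hn : 0 < n)
  (u₀ : Matrix (Fin n) (Fin n) A) (ε₀ : A)
  (hε₀ : (u₀.det ^ 2) • (u₀.map lam)ᵀ = ε₀ • u₀)
  (p : Ideal B) [p.IsPrime] (g : B) (hg : algebraMap B A g = u₀.det * lam u₀.det) (hgp : g ∉ p)

local notation "Bp" => Localization.AtPrime p
local notation "DD" => Localization.AtPrime p ⊗[B] A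

/-- The conclusion over any `B`-algebra where `m` is invertible. -/
def Spread (h₀ h₀' : Matrix (Fin n) (Fin n) A) (m : B) : Prop :=
  ∀ (D' : Type w) [CommRing D'] [Algebra B D'] (τ' : D' →ₐ[B] D') (ρ : A →ₐ[B] D'),
    ρ.comp lam.toAlgHom = τ'.comp ρ → IsUnit (algebraMap B D' m) →
    ∃ v' : Matrix (Fin n) (Fin n) D', IsUnit v' ∧
      (v'.map τ')ᵀ * h₀.map ρ * v' = h₀'.map ρ

include hlam hB h2 hnil hn hε₀ hg hgp in
theorem local_normal_form :
    (∃ (c₀ : A) (d₀ : Fin n → B) (m : B), m ∉ p ∧ (∀ i, d₀ i ∉ p) ∧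
      Spread.{u, v, w} lam (c₀ • u₀) (Matrix.diagonal fun i => algebraMap B A (d₀ i)) m) ∨
    (Even n ∧ ∃ c₀ : A, ∀ W : Matrix (Fin n) (Fin n) B, IsUnit W → Wᵀ = -W →
      ∃ m : B, m ∉ p ∧ Spread.{u, v, w} lam (c₀ • u₀) (W.map (algebraMap B A)) m) := by
  classical
  letI : StarRing DD := starRingOf DD (tauD A lam Bp).toRingHom (tauD_invol lam hlam Bp)
  have hstar : ∀ y : DD, star y = tauD A lam Bp y := fun y => rfl
  have hfixD := Groth.Agent.H77.isFixedRing_baseChange lam.toRingEquiv Bp hB
  have hinvD : Function.Involutive (Groth.Agent.H77.lamT lam.toRingEquiv Bp hB) := by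
    intro y
    rw [lamT_eq, lamT_eq, tauD_invol lam hlam]
  have hnilD : ∀ y : DD, IsNilpotent (y - star y) := fun y => nil_tauD lam Bp hnil y
  haveI : IsLocalRing DD := by
    refine Groth.Agent.H77.isLocalRing_of_forall_mem_jacobson
      (Groth.Agent.H77.lamT lam.toRingEquiv Bp hB) hinvD hfixD (fun r => ?_)
    rw [lamT_eq]
    have h1 : IsNilpotent (tauD A lam Bp r - r) := by
      have := (hnilD r).neg
      rwa [neg_sub] at this
    exact nilradical_le_jacobson DD (mem_nilradical.mpr h1)
  have h2D : IsUnit (2 : DD) := by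
    have := h2.map (algebraMap B DD)
    rwa [map_ofNat] at this
  set φ : A →ₐ[B] DD := Algebra.TensorProduct.includeRight with hφ
  have hφτ : φ.comp lam.toAlgHom = (tauD A lam Bp).comp φ := by
    apply AlgHom.ext
    intro a
    simp [hφ]
  have hstarφ : ∀ a : A, star (φ a) = φ (lam a) := fun a => by
    rw [hstar]
    exact (DFunLike.congr_fun hφτ a).symm
  haveI hlocmod : IsLocalizedModule p.primeCompl φ.toLinearMap :=
    (inferInstance : IsLocalizedModule p.primeCompl (TensorProduct.mk B Bp A 1))
  have hmapH : ∀ M : Matrix (Fin n) (Fin n) A, (M.map φ)ᴴ = ((M.map lam)ᵀ).map φ := by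
    intro M
    ext i j
    simp only [conjTranspose_apply, Matrix.map_apply, Matrix.transpose_apply, hstarφ]
  have hstarB : ∀ b : B, star (algebraMap B DD b) = algebraMap B DD b := by
    intro b
    rw [← φ.commutes b, hstarφ, lam.commutes]
  set u : Matrix (Fin n) (Fin n) DD := u₀.map φ with hu
  have hudet : u.det = φ u₀.det := by
    rw [hu]
    exact (RingHom.map_det φ.toRingHom u₀).symm
  have hgunit : IsUnit (algebraMap B DD g) := by
    have h1 : IsUnit (algebraMap B Bp g) :=
      (IsLocalization.AtPrime.isUnit_to_map_iff Bp p g).mpr hgp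
    have := h1.map (algebraMap Bp DD)
    rwa [← IsScalarTower.algebraMap_apply] at this
  have hdetu : IsUnit u.det := by
    rw [hudet]
    have h1 : φ u₀.det * φ (lam u₀.det) = algebraMap B DD g := by
      rw [← map_mul, ← hg, φ.commutes]
    exact isUnit_of_mul_isUnit_left (by rw [h1]; exact hgunit)
  have huu : IsUnit u := (Matrix.isUnit_iff_isUnit_det u).mpr hdetu
  obtain ⟨di, hdi⟩ := hdetu.exists_right_inv
  obtain ⟨ε, hεdef⟩ : ∃ x, x = φ ε₀ * di ^ 2 := ⟨_, rfl⟩
  have hεu : uᴴ = ε • u := by
    have h1 : ((u₀.det ^ 2) • (u₀.map lam)ᵀ).map φ = (ε₀ • u₀).map φ := by rw [hε₀]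
    have e1 : ((u₀.det ^ 2) • (u₀.map lam)ᵀ).map φ = (u.det ^ 2) • uᴴ := by
      rw [hmapH, hudet]
      ext i j
      simp
    have e2 : (ε₀ • u₀).map φ = φ ε₀ • u := by
      ext i j
      simp [hu]
    rw [e1, e2] at h1
    have h3 := congrArg (fun M : Matrix (Fin n) (Fin n) DD => (di ^ 2) • M) h1
    simp only [smul_smul] at h3
    have h4 : di ^ 2 * u.det ^ 2 = 1 := by
      calc di ^ 2 * u.det ^ 2 = (u.det * di) ^ 2 := by ring
        _ = 1 := by rw [hdi, one_pow]
    rw [h4, one_smul] at h3
    rw [h3, hεdef, mul_comm]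
  have hN : star ε * ε = 1 := eps_norm hn u huu ε hεu
  -- the scalar making `u` hermitian or skew-hermitian
  have key : ∀ (c₁ : DD) (sg : DD), IsUnit c₁ → star c₁ * ε = sg * c₁ →
      ∃ (c₀ : A), IsUnit ((c₀ • u₀).map φ) ∧ ((c₀ • u₀).map φ)ᴴ = sg • (c₀ • u₀).map φ := by
    intro c₁ sg hc₁ hc₁ε
    obtain ⟨⟨c₀, s⟩, hs⟩ := IsLocalizedModule.surj p.primeCompl φ.toLinearMap c₁
    have hs' : algebraMap B DD (s : B) * c₁ = φ c₀ := by
      rw [← Algebra.smul_def]
      exact hs
    have hsunit : IsUnit (algebraMap B DD (s : B)) := by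
      have h1 : IsUnit (algebraMap B Bp (s : B)) :=
        (IsLocalization.AtPrime.isUnit_to_map_iff Bp p (s : B)).mpr s.2
      have := h1.map (algebraMap Bp DD)
      rwa [← IsScalarTower.algebraMap_apply] at this
    have e2 : (c₀ • u₀).map φ = φ c₀ • u := by
      ext i j
      simp [hu]
    refine ⟨c₀, ?_, ?_⟩
    · rw [e2, Matrix.isUnit_iff_isUnit_det, Matrix.det_smul]
      refine IsUnit.mul (IsUnit.pow _ ?_) hdetu
      rw [← hs']
      exact hsunit.mul hc₁
    · rw [e2, conjTranspose_smul, hεu, smul_smul, smul_smul, ← hs', star_mul', hstarB]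
      congr 1
      linear_combination (algebraMap B DD (s : B)) * hc₁ε
  rcases sign_split hnilD h2D ε hN with hplus | hminus
  · -- hermitian case
    left
    obtain ⟨c₀, hhu, hhh⟩ := key (1 + ε) 1 hplus (by
      rw [star_add, star_one]; linear_combination hN)
    rw [one_smul] at hhh
    obtain ⟨d, hdu, hds, v, hv, hveq⟩ :=
      herm_diag hnilD h2D n (Fin n) (Fintype.card_fin n) _ hhu hhh
    -- descend the diagonal entries
    have hdB : ∀ i, ∃ x : B × p.primeCompl,
        d i * (algebraMap B DD (x.2 : B)) ^ 2 = algebraMap B DD (x.1 * x.2) ∧ x.1 * x.2 ∉ p := by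
      intro i
      obtain ⟨b, hb⟩ : d i ∈ Set.range (algebraMap Bp DD) := by
        rw [← hfixD.2]
        rw [lamT_eq, ← hstar]
        exact hds i
      have hbu : IsUnit b := Groth.Agent.H77.isUnit_of_isUnit_algebraMap _ hfixD b (by
        rw [hb]; exact hdu i)
      obtain ⟨x, hx⟩ := IsLocalization.surj p.primeCompl b
      refine ⟨x, ?_, ?_⟩
      · rw [← hb, IsScalarTower.algebraMap_apply B Bp DD, IsScalarTower.algebraMap_apply B Bp DD,
          ← map_pow, ← map_mul, map_mul (algebraMap B Bp), ← hx]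
        ring_nf
      · have h1 : IsUnit (algebraMap B Bp (x.1 * x.2)) := by
          rw [map_mul, ← hx]
          have h3 : IsUnit (algebraMap B Bp (x.2 : B)) :=
            (IsLocalization.AtPrime.isUnit_to_map_iff Bp p (x.2 : B)).mpr x.2.2
          exact (hbu.mul h3).mul h3
        exact (IsLocalization.AtPrime.isUnit_to_map_iff Bp p _).mp h1
    choose x hx1 hx2 using hdB
    set sD : Fin n → DD := fun i => algebraMap B DD ((x i).2 : B) with hsD
    have hsDunit : ∀ i, IsUnit (sD i) := by
      intro i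
      have h1 : IsUnit (algebraMap B Bp ((x i).2 : B)) :=
        (IsLocalization.AtPrime.isUnit_to_map_iff Bp p ((x i).2 : B)).mpr (x i).2.2
      have := h1.map (algebraMap Bp DD)
      rwa [← IsScalarTower.algebraMap_apply] at this
    set v₂ := v * Matrix.diagonal sD with hv₂
    have hv₂u : IsUnit v₂ := by
      refine hv.mul ?_
      rw [Matrix.isUnit_iff_isUnit_det, Matrix.det_diagonal]
      exact IsUnit.prod_univ_iff.mpr fun i => hsDunit i
    have hv₂eq : v₂ᴴ * (c₀ • u₀).map φ * v₂ =
        (Matrix.diagonal fun i => algebraMap B A ((x i).1 * (x i).2)).map φ := by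
      rw [hv₂, conjTranspose_mul, Matrix.diagonal_conjTranspose]
      have e1 : (star sD) = sD := by
        funext i
        exact hstarB _
      rw [e1]
      calc Matrix.diagonal sD * vᴴ * (c₀ • u₀).map φ * (v * Matrix.diagonal sD)
          = Matrix.diagonal sD * (vᴴ * (c₀ • u₀).map φ * v) * Matrix.diagonal sD := by
            simp only [Matrix.mul_assoc]
        _ = Matrix.diagonal sD * Matrix.diagonal d * Matrix.diagonal sD := by rw [hveq]
        _ = _ := by
            rw [Matrix.diagonal_mul_diagonal, Matrix.diagonal_mul_diagonal]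
            ext i j
            by_cases hij : i = j
            · subst hij
              simp only [Matrix.diagonal_apply_eq, Matrix.map_apply, φ.commutes]
              rw [← hx1 i]
              ring
            · simp [Matrix.diagonal_apply_ne _ hij]
    obtain ⟨m, hm, hdesc⟩ := desc.{w} p.primeCompl lam.toAlgHom (tauD A lam Bp) φ hφτ
      (c₀ • u₀) (Matrix.diagonal fun i => algebraMap B A ((x i).1 * (x i).2)) v₂ hv₂u hv₂eq
    exact ⟨c₀, fun i => (x i).1 * (x i).2, m, hm, hx2, hdesc⟩
  · -- skew-hermitian case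
    right
    obtain ⟨c₀, hhu, hhh'⟩ := key (1 - ε) (-1) hminus (by
      rw [star_sub, star_one]; linear_combination (-1 : DD) * hN)
    have hhh : ((c₀ • u₀).map φ)ᴴ = -(c₀ • u₀).map φ := by
      rw [hhh']
      ext i j
      simp only [Matrix.smul_apply, Matrix.neg_apply, smul_eq_mul]
      ring
    refine ⟨?_, c₀, ?_⟩
    · have := skew_even hnilD h2D _ hhu hhh
      rwa [Fintype.card_fin] at this
    · intro W hW hWs
      set WD : Matrix (Fin n) (Fin n) DD := (W.map (algebraMap B A)).map φ with hWD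
      have hWDu : IsUnit WD := by
        have h1 : WD = (algebraMap B DD).mapMatrix W := by
          ext i j
          simp [hWD, φ.commutes]
        rw [h1]
        exact hW.map _
      have hWDs : WDᴴ = -WD := by
        ext i j
        simp only [hWD, conjTranspose_apply, Matrix.map_apply, Matrix.neg_apply, φ.commutes,
          hstarB]
        have := congrFun (congrFun hWs i) j
        rw [Matrix.transpose_apply, Matrix.neg_apply] at this
        rw [this, map_neg]
      obtain ⟨v, hv, hveq⟩ := skew_cong hnilD h2D n (Fin n) (Fintype.card_fin n) _ WD hhu hWDu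
        hhh hWDs
      obtain ⟨m, hm, hdesc⟩ := desc.{w} p.primeCompl lam.toAlgHom (tauD A lam Bp) φ hφτ
        (c₀ • u₀) (W.map (algebraMap B A)) v hv hveq
      exact ⟨m, hm, hdesc⟩

end Main

end Groth.Agent.H96.RamLocal
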