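import Mathlib
import Groth.Prelude.Def_AzInv
import Groth.Agent.H96.Spl
import Groth.Agent.H96.SqrtRing
import Groth.Agent.H96.TensorMatrix

/-!
# Matrix presentations of an algebra with involution over `S' ⊗[S] R` (helper96)
-/

set_option autoImplicit false
set_option linter.unusedSectionVars false
set_option linter.style.haveILetI false
universe u v w x y

open TensorProduct Matrix

namespace Groth.Agent.H96.RamPres

open Groth.Agent.H96.SqrtRing

section Functorial

variable {R : Type v} [CommRing R] {A : Type w} [Ring A] [Algebra R A] {n : ℕ}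

/-- Base change of a splitting along an `R`-algebra map, with a formula. -/
noncomputable def ofAlgHomEquiv {X : Type x} {Y : Type y} [CommRing X] [CommRing Y] [Algebra R X]
    [Algebra R Y] (g : X →ₐ[R] Y) (θ : X ⊗[R] A ≃ₐ[X] Matrix (Fin n) (Fin n) X) :
    Y ⊗[R] A ≃ₐ[Y] Matrix (Fin n) (Fin n) Y :=
  letI : Algebra X Y := g.toRingHom.toAlgebra
  haveI : IsScalarTower R X Y := IsScalarTower.of_algebraMap_eq (fun r => (g.commutes r).symm)
  ((InvSplit.cancelBC R X Y Y A).symm.trans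
    (Algebra.TensorProduct.congr (AlgEquiv.refl : Y ≃ₐ[Y] Y) θ)).trans
    (InvSplit.matEquiv X Y n)

theorem ofAlgHomEquiv_one_tmul {X : Type x} {Y : Type y} [CommRing X] [CommRing Y] [Algebra R X]
    [Algebra R Y] (g : X →ₐ[R] Y) (θ : X ⊗[R] A ≃ₐ[X] Matrix (Fin n) (Fin n) X) (a : A) :
    ofAlgHomEquiv g θ ((1 : Y) ⊗ₜ[R] a) = (θ ((1 : X) ⊗ₜ[R] a)).map g := by
  letI : Algebra X Y := g.toRingHom.toAlgebra
  haveI : IsScalarTower R X Y := IsScalarTower.of_algebraMap_eq (fun r => (g.commutes r).symm)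
  show (InvSplit.matEquiv X Y n) ((Algebra.TensorProduct.congr (AlgEquiv.refl : Y ≃ₐ[Y] Y) θ)
    ((InvSplit.cancelBC R X Y Y A).symm ((1 : Y) ⊗ₜ[R] a))) = _
  rw [InvSplit.cancelBC_symm_tmul, Algebra.TensorProduct.congr_apply,
    Algebra.TensorProduct.map_tmul, InvSplit.matEquiv_tmul]
  have : ((AlgEquiv.refl : Y ≃ₐ[Y] Y) : Y →ₐ[Y] Y) (1 : Y) = 1 := rfl
  rw [this, one_smul]
  rfl

/-- Conjugation by an invertible matrix as an algebra automorphism. -/
def conjEquiv {T : Type*} [CommRing T] (a ai : Matrix (Fin n) (Fin n) T) (h1 : a * ai = 1)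
    (h2 : ai * a = 1) : Matrix (Fin n) (Fin n) T ≃ₐ[T] Matrix (Fin n) (Fin n) T where
  toFun x := a * x * ai
  invFun x := ai * x * a
  left_inv x := by
    show ai * (a * x * ai) * a = x
    calc ai * (a * x * ai) * a = (ai * a) * x * (ai * a) := by simp only [Matrix.mul_assoc]
      _ = x := by rw [h2]; simp
  right_inv x := by
    show a * (ai * x * a) * ai = x
    calc a * (ai * x * a) * ai = (a * ai) * x * (a * ai) := by simp only [Matrix.mul_assoc]
      _ = x := by rw [h1]; simp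
  map_mul' x y := by
    show a * (x * y) * ai = a * x * ai * (a * y * ai)
    calc a * (x * y) * ai = a * x * 1 * y * ai := by simp only [Matrix.mul_assoc, Matrix.one_mul]
      _ = a * x * (ai * a) * y * ai := by rw [h2]
      _ = _ := by simp only [Matrix.mul_assoc]
  map_add' x y := by
    show a * (x + y) * ai = a * x * ai + a * y * ai
    rw [Matrix.mul_add, Matrix.add_mul]
  commutes' r := by
    show a * algebraMap T _ r * ai = algebraMap T _ r
    rw [Algebra.algebraMap_eq_smul_one, Matrix.mul_smul, Matrix.smul_mul, Matrix.mul_one, h1]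

end Functorial

section Pres

attribute [local instance] Algebra.TensorProduct.rightAlgebra

variable (S : Type u) {R : Type v} [CommRing S] [CommRing R] [Algebra S R] (lam : R ≃ₐ[S] R)
  {A : Type w} [Ring A] [Algebra R A] {n : ℕ} (t : A → A)

/-- A matrix presentation of `(A, t)` over `S' ⊗[S] R` with the "form" `h`. -/
def HPres (S' : Type x) [CommRing S'] [Algebra S S'] (h : Matrix (Fin n) (Fin n) (S' ⊗[S] R)) :
    Prop :=
  ∃ θ : (S' ⊗[S] R) ⊗[R] A ≃ₐ[S' ⊗[S] R] Matrix (Fin n) (Fin n) (S' ⊗[S] R),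
    ∀ a : A, θ (1 ⊗ₜ[R] t a) * h = h * ((θ (1 ⊗ₜ[R] a)).map (tauD R lam S'))ᵀ

variable {S}

/-- `φ ⊗ id` as an `R`-algebra map. -/
noncomputable def tensMapR {S' : Type x} {S'' : Type y} [CommRing S'] [CommRing S''] [Algebra S S']
    [Algebra S S''] (φ : S' →ₐ[S] S'') : S' ⊗[S] R →ₐ[R] S'' ⊗[S] R :=
  { (tensMap R φ).toRingHom with
    commutes' := fun r => by
      show tensMap R φ ((1 : S') ⊗ₜ[S] r) = (1 : S'') ⊗ₜ[S] r
      rw [tensMap_tmul, map_one] }

theorem tensMapR_apply {S' : Type x} {S'' : Type y} [CommRing S'] [CommRing S''] [Algebra S S']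
    [Algebra S S''] (φ : S' →ₐ[S] S'') (z : S' ⊗[S] R) : tensMapR φ z = tensMap R φ z := rfl

/-- Pulling back a presentation. -/
theorem HPres.map {S' : Type x} {S'' : Type y} [CommRing S'] [CommRing S''] [Algebra S S']
    [Algebra S S''] (φ : S' →ₐ[S] S'') {h : Matrix (Fin n) (Fin n) (S' ⊗[S] R)}
    (H : HPres S lam t S' h) : HPres S lam t S'' (h.map (tensMap R φ)) := by
  obtain ⟨θ, hθ⟩ := H
  refine ⟨ofAlgHomEquiv (tensMapR φ) θ, fun a => ?_⟩
  rw [ofAlgHomEquiv_one_tmul, ofAlgHomEquiv_one_tmul]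
  have h1 : (θ (1 ⊗ₜ[R] t a) * h).map (tensMap R φ) =
      (h * ((θ (1 ⊗ₜ[R] a)).map (tauD R lam S'))ᵀ).map (tensMap R φ) := by rw [hθ a]
  have e1 : ∀ M N : Matrix (Fin n) (Fin n) (S' ⊗[S] R),
      (M * N).map (tensMap R φ) = M.map (tensMap R φ) * N.map (tensMap R φ) := fun M N =>
    Matrix.map_mul
  rw [e1, e1] at h1
  have e2 : ∀ M : Matrix (Fin n) (Fin n) (S' ⊗[S] R),
      ((M.map (tauD R lam S'))ᵀ).map (tensMap R φ) =
        ((M.map (tensMap R φ)).map (tauD R lam S''))ᵀ := by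
    intro M
    ext i j
    simp only [Matrix.map_apply, Matrix.transpose_apply]
    exact DFunLike.congr_fun (tens_tau_comm R φ lam) (M j i)
  rw [e2] at h1
  exact h1

/-- Changing the form by a congruence. -/
theorem HPres.cong {S' : Type x} [CommRing S'] [Algebra S S']
    {h W : Matrix (Fin n) (Fin n) (S' ⊗[S] R)} (hinv : ∀ z, tauD R lam S' (tauD R lam S' z) = z)
    (H : HPres S lam t S' h) (v : Matrix (Fin n) (Fin n) (S' ⊗[S] R)) (hv : IsUnit v)
    (hW : IsUnit W) (hvW : (v.map (tauD R lam S'))ᵀ * h * v = W) : HPres S lam t S' W := by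
  obtain ⟨θ, hθ⟩ := H
  set μT : Matrix (Fin n) (Fin n) (S' ⊗[S] R) → Matrix (Fin n) (Fin n) (S' ⊗[S] R) :=
    fun M => (M.map (tauD R lam S'))ᵀ with hμT
  have hμmul : ∀ M N, μT (M * N) = μT N * μT M := by
    intro M N
    simp only [hμT]
    rw [Matrix.map_mul, Matrix.transpose_mul]
  have hμμ : ∀ M, μT (μT M) = M := by
    intro M
    ext i j
    simp [hμT, hinv]
  have hμone : μT 1 = 1 := by
    ext i j
    simp only [hμT, Matrix.transpose_apply, Matrix.map_apply, Matrix.one_apply]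
    split_ifs with h1 h2 h2
    · simp
    · exact absurd h1.symm h2
    · exact absurd h2.symm h1
    · simp
  obtain ⟨vi, hvvi, hviv⟩ : ∃ vi, v * vi = 1 ∧ vi * v = 1 := by
    obtain ⟨uu, rfl⟩ := hv
    exact ⟨↑uu⁻¹, uu.mul_inv, uu.inv_mul⟩
  set a := μT v with ha
  set ai := μT vi with hai
  have haai : a * ai = 1 := by rw [ha, hai, ← hμmul, hviv, hμone]
  have haia : ai * a = 1 := by rw [ha, hai, ← hμmul, hvvi, hμone]
  have hμa : μT a = v := hμμ v
  have hμai : μT ai = vi := hμμ vi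
  -- `h = ai * W * vi`
  have hvW' : a * h * v = W := hvW
  have hh : h = ai * W * vi := by
    rw [← hvW']
    calc h = (ai * a) * h * (v * vi) := by rw [haia, hvvi]; simp
      _ = _ := by simp only [Matrix.mul_assoc]
  refine ⟨θ.trans (conjEquiv a ai haai haia), fun x => ?_⟩
  show a * θ (1 ⊗ₜ[R] t x) * ai * W = W * μT (a * θ (1 ⊗ₜ[R] x) * ai)
  rw [hμmul, hμmul, hμa, hμai]
  have h1 := hθ x
  rw [hh] at h1
  -- h1 : θ(tx) * (ai * W * vi) = ai * W * vi * μT (θ x)
  have h3 : a * (θ (1 ⊗ₜ[R] t x) * (ai * W * vi)) * v =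
      a * (ai * W * vi * μT (θ (1 ⊗ₜ[R] x))) * v := by rw [h1]
  calc a * θ (1 ⊗ₜ[R] t x) * ai * W = a * (θ (1 ⊗ₜ[R] t x) * (ai * W * vi)) * v := by
        simp only [Matrix.mul_assoc]
        rw [hviv, Matrix.mul_one]
    _ = a * (ai * W * vi * μT (θ (1 ⊗ₜ[R] x))) * v := h3
    _ = (a * ai) * W * (vi * μT (θ (1 ⊗ₜ[R] x)) * v) := by simp only [Matrix.mul_assoc]
    _ = W * (vi * μT (θ (1 ⊗ₜ[R] x)) * v) := by rw [haai, Matrix.one_mul]
    _ = _ := by simp only [Matrix.mul_assoc]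

/-- Scaling the form by a scalar. -/
theorem HPres.smul {S' : Type x} [CommRing S'] [Algebra S S']
    {h : Matrix (Fin n) (Fin n) (S' ⊗[S] R)} (H : HPres S lam t S' h) (c : S' ⊗[S] R) :
    HPres S lam t S' (c • h) := by
  obtain ⟨θ, hθ⟩ := H
  refine ⟨θ, fun a => ?_⟩
  rw [Matrix.mul_smul, Matrix.smul_mul, hθ a]

end Pres

section Convert

attribute [local instance] Algebra.TensorProduct.rightAlgebra

variable (S : Type u) {R : Type v} [CommRing S] [CommRing R] [Algebra S R]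
  {A : Type w} [Ring A] [Algebra S A] [Algebra R A] [IsScalarTower S R A] {n : ℕ}
  (S' : Type x) [CommRing S'] [Algebra S S']

/-- The conversion to the form of the statement, with a formula. -/
theorem convert' (θ : (S' ⊗[S] R) ⊗[R] A ≃ₐ[S' ⊗[S] R] Matrix (Fin n) (Fin n) (S' ⊗[S] R)) :
    ∃ f : S' ⊗[S] A ≃ₐ[S'] Matrix (Fin n) (Fin n) (S' ⊗[S] R),
      (∀ (r : R) (x : S' ⊗[S] A),
        f (((1 : S') ⊗ₜ[S] algebraMap R A r) * x) =
          Matrix.scalar (Fin n) ((1 : S') ⊗ₜ[S] r) * f x) ∧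
      ∀ (s : S') (a : A), f (s ⊗ₜ[S] a) = θ ((s ⊗ₜ[S] (1 : R)) ⊗ₜ[R] a) := by
  let ιR : R →+* S' ⊗[S] A :=
    (Algebra.TensorProduct.includeRight : A →ₐ[S] S' ⊗[S] A).toRingHom.comp (algebraMap R A)
  have hιR : ∀ r, ιR r = (1 : S') ⊗ₜ[S] algebraMap R A r := fun r => rfl
  have hcen : ∀ (r : R) (y : S' ⊗[S] A), ιR r * y = y * ιR r := by
    intro r y
    induction y using TensorProduct.induction_on with
    | zero => simp
    | tmul x' b =>
      rw [hιR, Algebra.TensorProduct.tmul_mul_tmul, Algebra.TensorProduct.tmul_mul_tmul,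
        mul_one, one_mul, Algebra.commutes]
    | add y₁ y₂ h₁ h₂ => rw [mul_add, add_mul, h₁, h₂]
  letI algR : Algebra R (S' ⊗[S] A) := ιR.toAlgebra' hcen
  let g1 : S' ⊗[S] R →ₐ[R] S' ⊗[S] A :=
    { (Algebra.TensorProduct.map (AlgHom.id S' S') (IsScalarTower.toAlgHom S R A)).toRingHom with
      commutes' := fun r => by
        show (Algebra.TensorProduct.map (AlgHom.id S' S') (IsScalarTower.toAlgHom S R A))
          ((1 : S') ⊗ₜ[S] r) = ιR r
        rw [Algebra.TensorProduct.map_tmul, hιR]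
        rfl }
  have hg1 : ∀ (x : S') (r : R), g1 (x ⊗ₜ[S] r) = x ⊗ₜ[S] algebraMap R A r := fun x r => by
    show (Algebra.TensorProduct.map (AlgHom.id S' S') (IsScalarTower.toAlgHom S R A))
      (x ⊗ₜ[S] r) = _
    rw [Algebra.TensorProduct.map_tmul]
    rfl
  let g2 : A →ₐ[R] S' ⊗[S] A :=
    { (Algebra.TensorProduct.includeRight : A →ₐ[S] S' ⊗[S] A).toRingHom with
      commutes' := fun r => rfl }
  have hg2 : ∀ a : A, g2 a = (1 : S') ⊗ₜ[S] a := fun a => rfl
  have hg1cen : ∀ (ρ : S' ⊗[S] R) (y : S' ⊗[S] A), g1 ρ * y = y * g1 ρ := by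
    intro ρ y
    induction ρ using TensorProduct.induction_on with
    | zero => simp
    | tmul x r =>
      induction y using TensorProduct.induction_on with
      | zero => simp
      | tmul x' b =>
        rw [hg1, Algebra.TensorProduct.tmul_mul_tmul, Algebra.TensorProduct.tmul_mul_tmul,
          mul_comm, Algebra.commutes]
      | add y₁ y₂ h₁ h₂ => rw [mul_add, add_mul, h₁, h₂]
    | add ρ₁ ρ₂ h₁ h₂ => rw [map_add, add_mul, mul_add, h₁, h₂]
  let c' : (S' ⊗[S] R) ⊗[R] A →ₐ[R] S' ⊗[S] A :=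
    Algebra.TensorProduct.lift g1 g2 (fun ρ a => hg1cen ρ (g2 a))
  have hc' : ∀ (ρ : S' ⊗[S] R) (a : A), c' (ρ ⊗ₜ[R] a) = g1 ρ * g2 a := fun ρ a =>
    Algebra.TensorProduct.lift_tmul _ _ _ _ _
  let c : S' ⊗[S] A →ₐ[S'] (S' ⊗[S] R) ⊗[R] A :=
    Algebra.TensorProduct.lift (Algebra.ofId S' ((S' ⊗[S] R) ⊗[R] A))
      ((Algebra.TensorProduct.includeRight : A →ₐ[R] (S' ⊗[S] R) ⊗[R] A).restrictScalars S)
      (fun x a => by
        show Commute ((x ⊗ₜ[S] (1 : R)) ⊗ₜ[R] (1 : A)) (((1 : S') ⊗ₜ[S] (1 : R)) ⊗ₜ[R] a)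
        simp only [Commute, SemiconjBy, Algebra.TensorProduct.tmul_mul_tmul, mul_one, one_mul])
  have hc : ∀ (x : S') (a : A), c (x ⊗ₜ[S] a) = (x ⊗ₜ[S] (1 : R)) ⊗ₜ[R] a := fun x a => by
    show (Algebra.TensorProduct.lift _ _ _) (x ⊗ₜ[S] a) = _
    rw [Algebra.TensorProduct.lift_tmul]
    show ((x ⊗ₜ[S] (1 : R)) ⊗ₜ[R] (1 : A)) * (((1 : S') ⊗ₜ[S] (1 : R)) ⊗ₜ[R] a) = _
    simp only [Algebra.TensorProduct.tmul_mul_tmul, mul_one, one_mul]
  have h1 : ∀ z, c' (c z) = z := by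
    intro z
    induction z using TensorProduct.induction_on with
    | zero => simp
    | tmul x a =>
      rw [hc, hc', hg1, hg2, Algebra.TensorProduct.tmul_mul_tmul, mul_one, map_one, one_mul]
    | add z₁ z₂ h₁ h₂ => rw [map_add, map_add, h₁, h₂]
  have h2 : ∀ z, c (c' z) = z := by
    intro z
    induction z using TensorProduct.induction_on with
    | zero => simp
    | tmul ρ a =>
      induction ρ using TensorProduct.induction_on with
      | zero => simp
      | tmul x r =>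
        rw [hc', hg1, hg2, Algebra.TensorProduct.tmul_mul_tmul, mul_one, hc,
          ← Algebra.smul_def, ← TensorProduct.smul_tmul]
        congr 1
        rw [Algebra.smul_def, Algebra.TensorProduct.right_algebraMap_apply,
          Algebra.TensorProduct.tmul_mul_tmul, one_mul, mul_one]
      | add ρ₁ ρ₂ h₁ h₂ => rw [TensorProduct.add_tmul, map_add, map_add, h₁, h₂]
    | add z₁ z₂ h₁ h₂ => rw [map_add, map_add, h₁, h₂]
  let ce : S' ⊗[S] A ≃ₐ[S'] (S' ⊗[S] R) ⊗[R] A :=
    AlgEquiv.ofBijective c ⟨Function.LeftInverse.injective h1, Function.RightInverse.surjective h2⟩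
  refine ⟨ce.trans (θ.restrictScalars S'), ?_, fun s a => ?_⟩
  swap
  · show θ (c (s ⊗ₜ[S] a)) = _
    rw [hc]
  intro r x
  show θ (c (_ * x)) = _ * θ (c x)
  have h3 : c ((1 : S') ⊗ₜ[S] algebraMap R A r) =
      algebraMap (S' ⊗[S] R) ((S' ⊗[S] R) ⊗[R] A) ((1 : S') ⊗ₜ[S] r) := by
    rw [hc, Algebra.TensorProduct.algebraMap_apply, Algebra.algebraMap_self, RingHom.id_apply,
      Algebra.algebraMap_eq_smul_one r, ← TensorProduct.smul_tmul, Algebra.smul_def,
      Algebra.TensorProduct.right_algebraMap_apply, ← Algebra.TensorProduct.one_def, mul_one]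
  rw [map_mul, h3, ← Algebra.smul_def, map_smul, Matrix.scalar_apply, Matrix.smul_eq_diagonal_mul]

end Convert

section Component

attribute [local instance] Algebra.TensorProduct.rightAlgebra

open AzInv Groth.Agent.H96.TensorMatrix

variable {S : Type u} {R : Type v} [CommRing S] [CommRing R] [Algebra S R] (lam : R ≃ₐ[S] R)
  (hlam : ∀ r, lam (lam r) = r)
  {A : Type w} [Ring A] [Algebra S A] [Algebra R A] [IsScalarTower S R A] {n : ℕ}
  (t : AzInv.LamInv R A lam)
  (w : (Matrix (Fin n) (Fin n) R)ˣ) (e : R)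
  (hw : AzInv.LamInv.transpose lam (Fin n) hlam (↑w : Matrix (Fin n) (Fin n) R) =
    e • (↑w : Matrix (Fin n) (Fin n) R)) (he : lam e * e = 1)
  (S' : Type x) [CommRing S'] [Algebra S S']

theorem tm_conj_bc (z : S' ⊗[S] Matrix (Fin n) (Fin n) R) :
    tm S S' R (Fin n) (((AzInv.LamInv.transpose lam (Fin n) hlam).conj w e hw he).bc S lam S' z) =
      (↑w : Matrix (Fin n) (Fin n) R).map (Algebra.TensorProduct.includeRight : R →ₐ[S] S' ⊗[S] R) *
        ((tm S S' R (Fin n) z).map (tauD R lam S'))ᵀ *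
        (↑w⁻¹ : Matrix (Fin n) (Fin n) R).map
          (Algebra.TensorProduct.includeRight : R →ₐ[S] S' ⊗[S] R) := by
  induction z using TensorProduct.induction_on with
  | zero => simp
  | tmul s M =>
    rw [AzInv.LamInv.bc_tmul, AzInv.LamInv.conj_apply]
    ext i j
    rw [tm_tmul, Matrix.mul_apply, Matrix.mul_apply, TensorProduct.tmul_sum]
    refine Finset.sum_congr rfl fun l _ => ?_
    rw [Matrix.mul_apply, Matrix.mul_apply, Finset.sum_mul, Finset.sum_mul,
      TensorProduct.tmul_sum]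
    refine Finset.sum_congr rfl fun k _ => ?_
    simp only [Matrix.map_apply, Matrix.transpose_apply, tm_tmul, tauD_tmul,
      Algebra.TensorProduct.includeRight_apply, Algebra.TensorProduct.tmul_mul_tmul, one_mul,
      mul_one]
    rfl
  | add z₁ z₂ h₁ h₂ =>
    rw [map_add, map_add, h₁, h₂, map_add, Matrix.map_add (hf := fun _ _ => map_add _ _ _),
      Matrix.transpose_add, Matrix.mul_add, Matrix.add_mul]

theorem component
    (H : HPres S lam t S'
      ((↑w : Matrix (Fin n) (Fin n) R).map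
        (Algebra.TensorProduct.includeRight : R →ₐ[S] S' ⊗[S] R))) :
    ∃ F : S' ⊗[S] A ≃ₐ[S'] S' ⊗[S] Matrix (Fin n) (Fin n) R,
      (∀ (r : R) (x : S' ⊗[S] A),
        F (((1 : S') ⊗ₜ[S] algebraMap R A r) * x) =
          ((1 : S') ⊗ₜ[S] algebraMap R (Matrix (Fin n) (Fin n) R) r) * F x) ∧
      ∀ x : S' ⊗[S] A, F (t.bc S lam S' x) =
        ((AzInv.LamInv.transpose lam (Fin n) hlam).conj w e hw he).bc S lam S' (F x) := by
  obtain ⟨θ, hθ⟩ := H
  obtain ⟨f, hf1, hf2⟩ := convert' S S' θ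
  set ι : R →ₐ[S] S' ⊗[S] R := Algebra.TensorProduct.includeRight with hι
  set W' := (↑w : Matrix (Fin n) (Fin n) R).map ι with hW'
  set Wi' := (↑w⁻¹ : Matrix (Fin n) (Fin n) R).map ι with hWi'
  have hWW : W' * Wi' = 1 := by
    rw [hW', hWi', ← Matrix.map_mul, Units.mul_inv]
    exact (ι.toRingHom.mapMatrix).map_one
  have hθsmul : ∀ (s : S') (b : A), θ ((s ⊗ₜ[S] (1 : R)) ⊗ₜ[R] b) =
      (s ⊗ₜ[S] (1 : R)) • θ (1 ⊗ₜ[R] b) := by
    intro s b
    rw [← map_smul, TensorProduct.smul_tmul', smul_eq_mul, mul_one]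
  have key1 : ∀ x : S' ⊗[S] A, f (t.bc S lam S' x) * W' = W' * ((f x).map (tauD R lam S'))ᵀ := by
    intro x
    induction x using TensorProduct.induction_on with
    | zero => simp
    | tmul s a =>
      rw [AzInv.LamInv.bc_tmul, hf2, hf2, hθsmul, hθsmul, Matrix.smul_mul, hθ a]
      have : (((s ⊗ₜ[S] (1 : R)) • θ (1 ⊗ₜ[R] a)).map (tauD R lam S'))ᵀ =
          (s ⊗ₜ[S] (1 : R)) • ((θ (1 ⊗ₜ[R] a)).map (tauD R lam S'))ᵀ := by
        ext i j
        simp only [Matrix.transpose_apply, Matrix.map_apply, Matrix.smul_apply, smul_eq_mul,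
          map_mul, tauD_tmul, map_one]
      rw [this, Matrix.mul_smul]
    | add x₁ x₂ h₁ h₂ =>
      rw [map_add, map_add, Matrix.add_mul, h₁, h₂, map_add,
        Matrix.map_add (hf := fun _ _ => map_add _ _ _), Matrix.transpose_add, Matrix.mul_add]
  refine ⟨f.trans (tm S S' R (Fin n)).symm, ?_, ?_⟩
  · intro r x
    show (tm S S' R (Fin n)).symm (f _) = _ * (tm S S' R (Fin n)).symm (f x)
    rw [hf1, AlgEquiv.symm_apply_eq, map_mul, AlgEquiv.apply_symm_apply]
    congr 1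
    ext i j
    rw [tm_tmul, Matrix.algebraMap_matrix_apply, Matrix.scalar_apply, Matrix.diagonal_apply]
    split_ifs
    · rfl
    · rw [TensorProduct.tmul_zero]
  · intro x
    show (tm S S' R (Fin n)).symm (f _) = _
    rw [AlgEquiv.symm_apply_eq, tm_conj_bc]
    show _ = W' * ((tm S S' R (Fin n) ((tm S S' R (Fin n)).symm (f x))).map (tauD R lam S'))ᵀ * Wi'
    rw [AlgEquiv.apply_symm_apply, ← key1, Matrix.mul_assoc, hWW, Matrix.mul_one]

end Component

end Groth.Agent.H96.RamPres
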