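import Mathlib
import Groth.Prelude.Def_AzInv
import Groth.Agent.H96.RamPres
import Groth.Agent.H96.RamLocal
import Groth.Agent.H96.MatAut
import Groth.Agent.H96.TensorMatrix
import Groth.Agent.H96.LocIsoFamily
import Groth.Agent.H96.HermLocal

/-!
# Uniqueness of the type (orthogonal / symplectic) of an involution at a "ramified" prime, stable
under passing to matrix algebras (helper96)
-/

set_option autoImplicit false
set_option linter.unusedSectionVars false
set_option linter.style.haveILetI false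
universe u v w w' x y

open TensorProduct Matrix

namespace Groth.Agent.H96.MixType

open Groth.Agent.H96.SqrtRing Groth.Agent.H96.RamPres Groth.Agent.H96.TensorMatrix

section Conj

variable {Z : Type*} [CommRing Z] {κ : Type*} [Fintype κ] [DecidableEq κ]

/-- Zariski-locally an automorphism of a matrix algebra (any finite index type) is a conjugation. -/
theorem exists_conj' (g : Matrix κ κ Z ≃ₐ[Z] Matrix κ κ Z) (q : Ideal Z) [hq : q.IsPrime] :
    ∃ b : Matrix κ κ Z, b.det ∉ q ∧ ∀ x, g x * b = b * x := by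
  let eκ := Fintype.equivFin κ
  let ρ : Matrix κ κ Z ≃ₐ[Z] Matrix (Fin (Fintype.card κ)) (Fin (Fintype.card κ)) Z :=
    Matrix.reindexAlgEquiv Z Z eκ
  obtain ⟨u', hdet, hu'⟩ := MatAut.exists_conj (ρ.symm.trans (g.trans ρ)) q
  refine ⟨ρ.symm u', ?_, fun x => ?_⟩
  · have : (ρ.symm u').det = u'.det := by
      show ((Matrix.reindexAlgEquiv Z Z eκ).symm u').det = _
      rw [Matrix.reindexAlgEquiv_symm, Matrix.reindexAlgEquiv_apply, Matrix.det_reindex_self]
    rw [this]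
    exact hdet
  · have h0 := hu' (ρ x)
    have h1 : (ρ.symm.trans (g.trans ρ)) (ρ x) = ρ (g x) := by
      show ρ (g (ρ.symm (ρ x))) = _
      rw [AlgEquiv.symm_apply_apply]
    rw [h1] at h0
    have := congrArg ρ.symm h0
    rwa [map_mul, map_mul, AlgEquiv.symm_apply_apply, AlgEquiv.symm_apply_apply] at this

variable (τ : Z →+* Z) (hττ : ∀ z, τ (τ z) = z) (h2 : IsUnit (2 : Z))
  (q : Ideal Z) [hq : q.IsPrime] (hqτ : ∀ z, z - τ z ∈ q) [Nonempty κ]

include hττ h2 hqτ in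
/-- A matrix algebra over a ring with a prime at which the involution is trivial cannot carry an
isomorphism between the standard hermitian involution and a skew-twisted one. -/
theorem unique_core (J Ji : Matrix κ κ Z) (hJ1 : J * Ji = 1) (hJ2 : Ji * J = 1)
    (hμJ : (J.map τ)ᵀ = -J)
    (g : Matrix κ κ Z ≃ₐ[Z] Matrix κ κ Z)
    (P : ∀ x, g ((x.map τ)ᵀ) * J = J * ((g x).map τ)ᵀ) : False := by
  classical
  set μT : Matrix κ κ Z → Matrix κ κ Z := fun M => (M.map τ)ᵀ with hμT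
  have hμmul : ∀ M N, μT (M * N) = μT N * μT M := by
    intro M N
    simp only [hμT]
    rw [Matrix.map_mul, Matrix.transpose_mul]
  have hμμ : ∀ M, μT (μT M) = M := by
    intro M
    ext i j
    simp [hμT, hττ]
  have hμsmul : ∀ (y : Z) M, μT (y • M) = τ y • μT M := by
    intro y M
    ext i j
    simp [hμT]
  have hμone : μT 1 = 1 := by
    ext i j
    simp only [hμT, Matrix.transpose_apply, Matrix.map_apply, Matrix.one_apply]
    split_ifs with h1 h3 h3
    · simp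
    · exact absurd h1.symm h3
    · exact absurd h3.symm h1
    · simp
  have hμJ' : μT J = -J := hμJ
  have hμJi : μT Ji = -Ji := by
    have h1 : μT J * μT Ji = 1 := by rw [← hμmul, hJ2, hμone]
    rw [hμJ'] at h1
    calc μT Ji = (Ji * J) * μT Ji := by rw [hJ2, Matrix.one_mul]
      _ = -(Ji * (-J * μT Ji)) := by simp [Matrix.mul_assoc]
      _ = -Ji := by rw [h1, Matrix.mul_one]
  have P' : ∀ x, g (μT x) * J = J * μT (g x) := P
  obtain ⟨b, hbdet, hb⟩ := exists_conj' g q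
  have Q : ∀ x, μT (g x) = Ji * g (μT x) * J := by
    intro x
    rw [Matrix.mul_assoc, P' x, ← Matrix.mul_assoc, hJ2, Matrix.one_mul]
  set m := μT b * Ji with hm
  have hmg : ∀ y, m * g y = y * m := by
    intro y
    have h1 : μT (g (μT y) * b) = μT (b * μT y) := by rw [hb]
    rw [hμmul, hμmul, hμμ, Q, hμμ] at h1
    calc m * g y = (μT b * (Ji * g y * J)) * Ji := by
          simp only [hm, Matrix.mul_assoc]
          rw [hJ1, Matrix.mul_one]
      _ = y * μT b * Ji := by rw [h1]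
      _ = y * m := by rw [Matrix.mul_assoc]
  have hcomm : ∀ y, (m * b) * y = y * (m * b) := by
    intro y
    calc m * b * y = m * (b * y) := Matrix.mul_assoc _ _ _
      _ = m * (g y * b) := by rw [hb]
      _ = (m * g y) * b := (Matrix.mul_assoc _ _ _).symm
      _ = y * m * b := by rw [hmg]
      _ = y * (m * b) := Matrix.mul_assoc _ _ _
  obtain ⟨c, hc⟩ := Matrix.mem_range_scalar_iff_commute_single'.mpr
    (fun i j => (hcomm (Matrix.single i j 1)).symm)
  have hc' : m * b = c • (1 : Matrix κ κ Z) := by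
    rw [← hc, Matrix.scalar_apply, ← Matrix.smul_one_eq_diagonal]
  have h3 : μT (m * b) = -(m * b) := by
    rw [hμmul, hm, hμmul, hμμ, hμJi]
    simp [Matrix.mul_assoc]
  obtain ⟨i₀⟩ := ‹Nonempty κ›
  have h4 : τ c = -c := by
    rw [hc', hμsmul, hμone] at h3
    have := congrFun (congrFun h3 i₀) i₀
    simpa using this
  have h2q : (2 : Z) ∉ q := fun h => hq.ne_top (Ideal.eq_top_of_isUnit_mem _ h h2)
  have hcq : c ∈ q := by
    have h5 : 2 * c ∈ q := by
      have : 2 * c = c - τ c := by rw [h4]; ring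
      rw [this]
      exact hqτ c
    rcases hq.mem_or_mem h5 with h | h
    · exact absurd h h2q
    · exact h
  have hdet1 : (m * b).det = c ^ Fintype.card κ := by
    rw [hc', Matrix.det_smul, Matrix.det_one, mul_one]
  have hdet2 : (m * b).det = τ b.det * Ji.det * b.det := by
    rw [Matrix.det_mul, hm, Matrix.det_mul]
    congr 2
    show ((b.map τ)ᵀ).det = τ b.det
    rw [Matrix.det_transpose]
    exact (RingHom.map_det τ b).symm
  have hτdet : τ b.det ∉ q := by
    intro hcon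
    apply hbdet
    have : b.det = (b.det - τ b.det) + τ b.det := by ring
    rw [this]
    exact Ideal.add_mem _ (hqτ _) hcon
  have hJidet : Ji.det ∉ q := by
    intro hcon
    have h5 : J.det * Ji.det = 1 := by rw [← Matrix.det_mul, hJ1, Matrix.det_one]
    exact hq.ne_top ((Ideal.eq_top_iff_one _).mpr (h5 ▸ Ideal.mul_mem_left _ _ hcon))
  have hmem : c ^ Fintype.card κ ∈ q :=
    Ideal.pow_mem_of_mem _ hcq _ Fintype.card_pos
  rw [← hdet1, hdet2] at hmem
  rcases hq.mem_or_mem hmem with h5 | h5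
  · rcases hq.mem_or_mem h5 with h6 | h6
    · exact hτdet h6
    · exact hJidet h6
  · exact hbdet h5

end Conj

section FP

variable {S : Type u} {R : Type v} [CommRing S] [CommRing R] [Algebra S R] (lam : R ≃ₐ[S] R)

/-- A presentation in the `T ⊗[S] B` form. -/
def FPres {B : Type w} [Ring B] [Algebra S B] [Algebra R B] [IsScalarTower S R B]
    (t : AzInv.LamInv R B lam) (T : Type x) [CommRing T] [Algebra S T] {κ : Type y} [Fintype κ]
    [DecidableEq κ] (h : Matrix κ κ (T ⊗[S] R)) : Prop :=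
  ∃ f : T ⊗[S] B ≃ₐ[T] Matrix κ κ (T ⊗[S] R),
    (∀ (r : R) (x : T ⊗[S] B),
      f (((1 : T) ⊗ₜ[S] algebraMap R B r) * x) = ((1 : T) ⊗ₜ[S] r) • f x) ∧
    ∀ x, f (t.bc S lam T x) * h = h * ((f x).map (tauD R lam T))ᵀ

section OfH

attribute [local instance] Algebra.TensorProduct.rightAlgebra

theorem FPres.of_HPres {A : Type w} [Ring A] [Algebra S A] [Algebra R A] [IsScalarTower S R A]
    {n : ℕ} (t : AzInv.LamInv R A lam) (T : Type x) [CommRing T] [Algebra S T]
    (h : Matrix (Fin n) (Fin n) (T ⊗[S] R)) (H : HPres S lam t T h) : FPres lam t T h := by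
  obtain ⟨θ, hθ⟩ := H
  obtain ⟨f, hf1, hf2⟩ := convert' S T θ
  have hθsmul : ∀ (s : T) (b : A), θ ((s ⊗ₜ[S] (1 : R)) ⊗ₜ[R] b) =
      (s ⊗ₜ[S] (1 : R)) • θ (1 ⊗ₜ[R] b) := by
    intro s b
    rw [← map_smul, TensorProduct.smul_tmul', smul_eq_mul, mul_one]
  have key1 : ∀ x : T ⊗[S] A, f (t.bc S lam T x) * h = h * ((f x).map (tauD R lam T))ᵀ := by
    intro x
    induction x using TensorProduct.induction_on with
    | zero => simp
    | tmul s a =>
      rw [AzInv.LamInv.bc_tmul, hf2, hf2, hθsmul, hθsmul, Matrix.smul_mul, hθ a]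
      have : (((s ⊗ₜ[S] (1 : R)) • θ (1 ⊗ₜ[R] a)).map (tauD R lam T))ᵀ =
          (s ⊗ₜ[S] (1 : R)) • ((θ (1 ⊗ₜ[R] a)).map (tauD R lam T))ᵀ := by
        ext i j
        simp only [Matrix.transpose_apply, Matrix.map_apply, Matrix.smul_apply, smul_eq_mul,
          map_mul, tauD_tmul, map_one]
      rw [this, Matrix.mul_smul]
    | add x₁ x₂ h₁ h₂ =>
      rw [map_add, map_add, Matrix.add_mul, h₁, h₂, map_add,
        Matrix.map_add (hf := fun _ _ => map_add _ _ _), Matrix.transpose_add, Matrix.mul_add]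
  refine ⟨f, fun r x => ?_, key1⟩
  rw [hf1, Matrix.scalar_apply, ← Matrix.smul_eq_diagonal_mul]

end OfH

variable {B : Type w} [Ring B] [Algebra S B] [Algebra R B] [IsScalarTower S R B]
  {B' : Type w'} [Ring B'] [Algebra S B'] [Algebra R B'] [IsScalarTower S R B']

theorem FPres.transport (t : AzInv.LamInv R B lam) (t' : AzInv.LamInv R B' lam) (T : Type u)
    [CommRing T] [Algebra S T] (hI : LocIsoFamily.Iso lam t t' T) {κ : Type y} [Fintype κ]
    [DecidableEq κ] (h : Matrix κ κ (T ⊗[S] R)) (H : FPres lam t' T h) : FPres lam t T h := by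
  obtain ⟨F, hF1, hF2⟩ := hI
  obtain ⟨f, hf1, hf2⟩ := H
  refine ⟨F.trans f, fun r x => ?_, fun x => ?_⟩
  · show f (F _) = _ • f (F x)
    rw [hF1, hf1]
  · show f (F _) * h = h * ((f (F x)).map _)ᵀ
    rw [hF2, hf2]

theorem tm_bc' (t : AzInv.LamInv R B lam) (T : Type x) [CommRing T] [Algebra S T] (m : ℕ)
    (z : T ⊗[S] Matrix (Fin m) (Fin m) B) (i j : Fin m) :
    tm S T B (Fin m) ((t.matrix (Fin m)).bc S lam T z) i j =
      t.bc S lam T (tm S T B (Fin m) z j i) := by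
  induction z using TensorProduct.induction_on with
  | zero => simp
  | tmul y M =>
    rw [AzInv.LamInv.bc_tmul, tm_tmul, tm_tmul, AzInv.LamInv.bc_tmul]
    rfl
  | add z₁ z₂ h₁ h₂ =>
    rw [map_add, map_add, Matrix.add_apply, h₁, h₂, map_add, Matrix.add_apply, map_add]

theorem tm_central (T : Type x) [CommRing T] [Algebra S T] (m : ℕ) (r : R)
    (z : T ⊗[S] Matrix (Fin m) (Fin m) B) (i j : Fin m) :
    tm S T B (Fin m) (((1 : T) ⊗ₜ[S] algebraMap R (Matrix (Fin m) (Fin m) B) r) * z) i j =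
      ((1 : T) ⊗ₜ[S] algebraMap R B r) * tm S T B (Fin m) z i j := by
  induction z using TensorProduct.induction_on with
  | zero => simp
  | tmul y M =>
    rw [Algebra.TensorProduct.tmul_mul_tmul, tm_tmul, tm_tmul, Algebra.TensorProduct.tmul_mul_tmul,
      ← Algebra.smul_def, Matrix.smul_apply, Algebra.smul_def]
  | add z₁ z₂ h₁ h₂ =>
    rw [mul_add, map_add, Matrix.add_apply, h₁, h₂, map_add, Matrix.add_apply, mul_add]

/-- Presentation of the matrix algebra with the induced involution. -/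
theorem FPres.matrix (t : AzInv.LamInv R B lam) (T : Type x) [CommRing T] [Algebra S T]
    {κ : Type y} [Fintype κ] [DecidableEq κ] (h : Matrix κ κ (T ⊗[S] R)) (m : ℕ)
    (H : FPres lam t T h) :
    FPres lam (t.matrix (Fin m)) T
      (Matrix.comp (Fin m) (Fin m) κ κ (T ⊗[S] R) (Matrix.diagonal fun _ => h)) := by
  obtain ⟨f, hf1, hf2⟩ := H
  let cm := Matrix.compAlgEquiv (Fin m) κ (T ⊗[S] R) T
  let F : T ⊗[S] Matrix (Fin m) (Fin m) B ≃ₐ[T] Matrix (Fin m × κ) (Fin m × κ) (T ⊗[S] R) :=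
    ((tm S T B (Fin m)).trans (AlgEquiv.mapMatrix f)).trans cm
  have hF : ∀ z (ia jb : Fin m × κ),
      F z ia jb = f (tm S T B (Fin m) z ia.1 jb.1) ia.2 jb.2 := fun z ia jb => rfl
  have hFcm : ∀ z, F z = cm (AlgEquiv.mapMatrix f (tm S T B (Fin m) z)) := fun z => rfl
  refine ⟨F, fun r z => ?_, fun z => ?_⟩
  · ext ia jb
    rw [hF, tm_central, hf1, Matrix.smul_apply, Matrix.smul_apply, hF]
  · set τ := tauD R lam T with hτ
    have hμ : ∀ N : Matrix (Fin m) (Fin m) (Matrix κ κ (T ⊗[S] R)),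
        ((cm N).map τ)ᵀ = cm (Matrix.of fun i j => ((N j i).map τ)ᵀ) := by
      intro N
      ext ia jb
      rfl
    have hD : (Matrix.comp (Fin m) (Fin m) κ κ (T ⊗[S] R) (Matrix.diagonal fun _ => h)) =
        cm (Matrix.diagonal fun _ => h) := rfl
    rw [hD, hFcm, hFcm, hμ, ← map_mul, ← map_mul]
    congr 1
    ext i j : 1
    rw [Matrix.mul_diagonal, Matrix.diagonal_mul]
    show f (tm S T B (Fin m) ((t.matrix (Fin m)).bc S lam T z) i j) * h =
      h * ((f (tm S T B (Fin m) z j i)).map τ)ᵀ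
    rw [tm_bc', hf2]

/-- The transition between two presentations is linear over `T ⊗ R`. -/
theorem exists_trans (T : Type x) [CommRing T] [Algebra S T]
    {κ₁ : Type y} [Fintype κ₁] [DecidableEq κ₁] {κ₂ : Type y} [Fintype κ₂] [DecidableEq κ₂]
    (f₁ : T ⊗[S] B ≃ₐ[T] Matrix κ₁ κ₁ (T ⊗[S] R)) (f₂ : T ⊗[S] B ≃ₐ[T] Matrix κ₂ κ₂ (T ⊗[S] R))
    (h₁ : ∀ (r : R) (z : T ⊗[S] B),
      f₁ (((1 : T) ⊗ₜ[S] algebraMap R B r) * z) = ((1 : T) ⊗ₜ[S] r) • f₁ z)
    (h₂ : ∀ (r : R) (z : T ⊗[S] B),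
      f₂ (((1 : T) ⊗ₜ[S] algebraMap R B r) * z) = ((1 : T) ⊗ₜ[S] r) • f₂ z) :
    ∃ g : Matrix κ₁ κ₁ (T ⊗[S] R) ≃ₐ[T ⊗[S] R] Matrix κ₂ κ₂ (T ⊗[S] R), ∀ z, g (f₁ z) = f₂ z := by
  let g₀ : Matrix κ₁ κ₁ (T ⊗[S] R) ≃ₐ[T] Matrix κ₂ κ₂ (T ⊗[S] R) := f₁.symm.trans f₂
  have hg₀ : ∀ z, g₀ (f₁ z) = f₂ z := fun z => by
    show f₂ (f₁.symm (f₁ z)) = f₂ z
    rw [AlgEquiv.symm_apply_apply]
  have hr : ∀ (r : R) (M : Matrix κ₁ κ₁ (T ⊗[S] R)),
      g₀ (((1 : T) ⊗ₜ[S] r) • M) = ((1 : T) ⊗ₜ[S] r) • g₀ M := by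
    intro r M
    obtain ⟨z, rfl⟩ := f₁.surjective M
    rw [← h₁, hg₀, hg₀, h₂]
  have hsm : ∀ (ζ : T ⊗[S] R) (M : Matrix κ₁ κ₁ (T ⊗[S] R)), g₀ (ζ • M) = ζ • g₀ M := by
    intro ζ M
    induction ζ using TensorProduct.induction_on with
    | zero => simp
    | tmul s r =>
      have e1 : s ⊗ₜ[S] r = s • ((1 : T) ⊗ₜ[S] r) := by
        rw [TensorProduct.smul_tmul', smul_eq_mul, mul_one]
      rw [e1, smul_assoc, map_smul, hr, smul_assoc]
    | add ζ₁ ζ₂ h₁ h₂ => rw [add_smul, map_add, h₁, h₂, add_smul]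
  refine ⟨AlgEquiv.ofRingEquiv (f := g₀.toRingEquiv) (fun ζ => ?_), hg₀⟩
  show g₀ (algebraMap (T ⊗[S] R) _ ζ) = algebraMap (T ⊗[S] R) _ ζ
  rw [Algebra.algebraMap_eq_smul_one, hsm, map_one, ← Algebra.algebraMap_eq_smul_one]

theorem card_eq_of_algEquiv {Z : Type*} [CommRing Z] [Nontrivial Z]
    {κ₁ : Type*} [Fintype κ₁] [DecidableEq κ₁] {κ₂ : Type*} [Fintype κ₂] [DecidableEq κ₂]
    (g : Matrix κ₁ κ₁ Z ≃ₐ[Z] Matrix κ₂ κ₂ Z) : Fintype.card κ₁ = Fintype.card κ₂ := by
  have h := g.toLinearEquiv.finrank_eq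
  rw [Module.finrank_matrix, Module.finrank_matrix, Module.finrank_self, mul_one, mul_one] at h
  exact Nat.mul_self_inj.mp h

end FP

end Groth.Agent.H96.MixType
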