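import Mathlib
import Groth.Prelude.Def_AzInv
import Groth.Agent.H96.LocIsoFamily
import Groth.Agent.H96.IsoOps
import Groth.Agent.H96.TensorMatrix
import Groth.Agent.H96.MixType

/-!
# Matrix algebras over algebras with involution: functoriality and the chain of identifications
`M_m(M_a(B₀)) ≅ M_{m'}(M_{a'}(B₀))` for `m a = m' a'` (helper96)
-/

set_option autoImplicit false
set_option linter.unusedSectionVars false
set_option linter.style.haveILetI false
universe u v w w' w''

open TensorProduct Matrix

namespace Groth.Agent.H96.MatChain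

open Groth.Agent.H96.LocIsoFamily Groth.Agent.H96.TensorMatrix Groth.Agent.H96.MixType

variable {S : Type u} {R : Type v} [CommRing S] [CommRing R] [Algebra S R]
  {A : Type w} [Ring A] [Algebra S A] [Algebra R A] [IsScalarTower S R A]
  {A' : Type w'} [Ring A'] [Algebra S A'] [Algebra R A'] [IsScalarTower S R A']
  {B₀ : Type w''} [Ring B₀] [Algebra S B₀] [Algebra R B₀] [IsScalarTower S R B₀]
  (lam : R ≃ₐ[S] R)

/-- A global isomorphism of algebras with involution gives a local isomorphism datum over any
`S`-algebra. -/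
theorem Iso.of_algEquiv (t : AzInv.LamInv R A lam) (t' : AzInv.LamInv R A' lam) (g : A ≃ₐ[R] A')
    (hg : ∀ a, g (t a) = t' (g a)) (T : Type u) [CommRing T] [Algebra S T] : Iso lam t t' T := by
  refine ⟨Algebra.TensorProduct.congr (AlgEquiv.refl : T ≃ₐ[T] T) (g.restrictScalars S), ?_, ?_⟩
  · intro r x
    rw [_root_.map_mul, Algebra.TensorProduct.congr_apply, Algebra.TensorProduct.map_tmul]
    congr 2
    show g.restrictScalars S (algebraMap R A r) = algebraMap R A' r
    rw [AlgEquiv.restrictScalars_apply, AlgEquiv.commutes]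
  · intro x
    induction x using TensorProduct.induction_on with
    | zero => simp
    | add x y hx hy => rw [_root_.map_add, _root_.map_add, hx, hy, _root_.map_add, _root_.map_add]
    | tmul s a =>
        rw [AzInv.LamInv.bc_tmul, Algebra.TensorProduct.congr_apply, Algebra.TensorProduct.map_tmul,
          Algebra.TensorProduct.congr_apply, Algebra.TensorProduct.map_tmul, AzInv.LamInv.bc_tmul]
        exact congrArg _ (hg a)

/-- Functoriality of matrix algebras for local isomorphism data. -/
theorem Iso.matrix {t : AzInv.LamInv R A lam} {t' : AzInv.LamInv R A' lam} {T : Type u}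
    [CommRing T] [Algebra S T] (m : ℕ) (h : Iso lam t t' T) :
    Iso lam (t.matrix (Fin m)) (t'.matrix (Fin m)) T := by
  obtain ⟨F, hF1, hF2⟩ := h
  let Fm : T ⊗[S] Matrix (Fin m) (Fin m) A ≃ₐ[T] T ⊗[S] Matrix (Fin m) (Fin m) A' :=
    (tm S T A (Fin m)).trans ((AlgEquiv.mapMatrix F).trans (tm S T A' (Fin m)).symm)
  have hFm : ∀ x i j, tm S T A' (Fin m) (Fm x) i j = F (tm S T A (Fin m) x i j) := by
    intro x i j
    show tm S T A' (Fin m) ((tm S T A' (Fin m)).symm _) i j = _
    rw [AlgEquiv.apply_symm_apply]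
    rfl
  refine ⟨Fm, fun r x => ?_, fun x => ?_⟩
  · apply (tm S T A' (Fin m)).injective
    ext i j
    rw [hFm, tm_central, hF1, tm_central, hFm]
  · apply (tm S T A' (Fin m)).injective
    ext i j
    rw [hFm, tm_bc', hF2, tm_bc', hFm]

/-- Flattening matrices of matrices is compatible with the induced involutions. -/
theorem flatten (t₀ : AzInv.LamInv R B₀ lam) (m a : ℕ) (T : Type u) [CommRing T] [Algebra S T] :
    Iso lam ((t₀.matrix (Fin a)).matrix (Fin m)) (t₀.matrix (Fin m × Fin a)) T :=
  Iso.of_algEquiv lam _ _ (Matrix.compAlgEquiv (Fin m) (Fin a) B₀ R) (fun N => rfl) T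

/-- Reindexing is compatible with the induced involutions. -/
theorem reindex (t₀ : AzInv.LamInv R B₀ lam) {κ κ' : Type} [Fintype κ] [DecidableEq κ]
    [Fintype κ'] [DecidableEq κ'] (e : κ ≃ κ') (T : Type u) [CommRing T] [Algebra S T] :
    Iso lam (t₀.matrix κ) (t₀.matrix κ') T :=
  Iso.of_algEquiv lam _ _ (Matrix.reindexAlgEquiv R B₀ e) (fun N => rfl) T

/-- The chain: algebras locally isomorphic to matrix algebras over a common `(B₀, t₀)` have
locally isomorphic matrix algebras of matching total sizes. -/
theorem chain (t : AzInv.LamInv R A lam) (t' : AzInv.LamInv R A' lam)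
    (t₀ : AzInv.LamInv R B₀ lam) (a a' m m' : ℕ) (hsize : m * a = m' * a')
    (T : Type u) [CommRing T] [Algebra S T]
    (h : Iso lam t (t₀.matrix (Fin a)) T) (h' : Iso lam t' (t₀.matrix (Fin a')) T) :
    Iso lam (t.matrix (Fin m)) (t'.matrix (Fin m')) T := by
  have e : Fin m × Fin a ≃ Fin m' × Fin a' := Fintype.equivOfCardEq (by
    simp only [Fintype.card_prod, Fintype.card_fin]
    exact hsize)
  have I₁ := Iso.matrix lam m h
  have I₂ := flatten lam t₀ m a T
  have I₃ := reindex lam t₀ e T
  have I₄ := flatten lam t₀ m' a' T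
  have I₅ := Iso.matrix lam m' h'
  exact IsoOps.Iso.trans lam I₁ (IsoOps.Iso.trans lam I₂ (IsoOps.Iso.trans lam I₃
    (IsoOps.Iso.trans lam (IsoOps.Iso.symm lam I₄) (IsoOps.Iso.symm lam I₅))))

end Groth.Agent.H96.MatChain
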