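import Mathlib
import Groth.Agent.H96.HermLocal

/-!
# Hermitian matrices over a local ring with an involution that is trivial modulo the maximal ideal
(`2` invertible): the "mixed" analogue of `HermLocal` (helper96)
-/

set_option autoImplicit false
set_option linter.unusedSectionVars false
set_option linter.style.haveILetI false

open Matrix

namespace Groth.Agent.H96.MixHerm

open Groth.Agent.H96.HermLocal

variable {Y : Type*} [CommRing Y] [StarRing Y]

section Local

variable [IsLocalRing Y]

variable (hm : ∀ y : Y, y - star y ∈ IsLocalRing.maximalIdeal Y) (h2 : IsUnit (2 : Y))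

include hm h2 in
theorem isUnit_add_star {y : Y} (hy : IsUnit y) : IsUnit (y + star y) := by
  rw [isUnit_iff_not_mem] at hy ⊢
  intro h
  have h1 : y - star y ∈ IsLocalRing.maximalIdeal Y := hm y
  have h3 : 2 * y ∈ IsLocalRing.maximalIdeal Y := by
    have : 2 * y = (y + star y) + (y - star y) := by ring
    rw [this]
    exact Ideal.add_mem _ h h1
  rcases (IsLocalRing.maximalIdeal.isMaximal Y).isPrime.mem_or_mem h3 with h4 | h4
  · exact (isUnit_iff_not_mem.mp h2) h4
  · exact hy h4

include hm h2 in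
theorem mem_max_of_star_eq_neg {y : Y} (h : star y = -y) : y ∈ IsLocalRing.maximalIdeal Y := by
  have h1 : y - star y ∈ IsLocalRing.maximalIdeal Y := hm y
  have h3 : 2 * y ∈ IsLocalRing.maximalIdeal Y := by
    have : 2 * y = y - star y := by rw [h]; ring
    rw [this]
    exact h1
  rcases (IsLocalRing.maximalIdeal.isMaximal Y).isPrime.mem_or_mem h3 with h4 | h4
  · exact absurd h4 (isUnit_iff_not_mem.mp h2)
  · exact h4

/-- A row of an invertible matrix over a local ring contains a unit. -/
theorem exists_isUnit_row {ι : Type*} [Fintype ι] [DecidableEq ι] (u : Matrix ι ι Y)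
    (hu : IsUnit u) (i : ι) : ∃ j, IsUnit (u i j) := by
  by_contra hcon
  push Not at hcon
  have hdet : IsUnit u.det := (Matrix.isUnit_iff_isUnit_det u).mp hu
  have h1 : (u * u⁻¹) i i = 1 := by rw [Matrix.mul_nonsing_inv u hdet, Matrix.one_apply_eq]
  rw [Matrix.mul_apply] at h1
  have h3 : (∑ j, u i j * u⁻¹ j i) ∈ IsLocalRing.maximalIdeal Y :=
    Ideal.sum_mem _ fun j _ => Ideal.mul_mem_right _ _ (by
      have := hcon j
      rwa [isUnit_iff_not_mem, not_not] at this)
  rw [h1] at h3
  exact (isUnit_iff_not_mem.mp isUnit_one) h3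

include hm h2 in
/-- Making a diagonal entry invertible. -/
theorem exists_unit_diag {ι : Type*} [Fintype ι] [DecidableEq ι] [Nonempty ι] (u : Matrix ι ι Y)
    (hu : IsUnit u) (hherm : uᴴ = u) :
    ∃ u₁ : Matrix ι ι Y, Cong u u₁ ∧ ∃ i₀, IsUnit (u₁ i₀ i₀) := by
  by_cases hex : ∃ i, IsUnit (u i i)
  · exact ⟨u, Cong.refl u, hex⟩
  push Not at hex
  obtain ⟨i₀⟩ := ‹Nonempty ι›
  obtain ⟨j₀, hj₀⟩ := exists_isUnit_row u hu i₀
  have hne : j₀ ≠ i₀ := by
    rintro rfl
    exact hex _ hj₀
  have hji : u j₀ i₀ = star (u i₀ j₀) := by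
    have := congrFun (congrFun hherm j₀) i₀
    rw [conjTranspose_apply] at this
    exact this.symm
  set E : Matrix ι ι Y := Matrix.single j₀ i₀ 1 with hE
  have hEH : Eᴴ = Matrix.single i₀ j₀ 1 := by
    ext a b
    simp only [hE, conjTranspose_apply, Matrix.single_apply]
    split_ifs <;> simp_all
  refine ⟨(Matrix.transvection j₀ i₀ 1)ᴴ * u * Matrix.transvection j₀ i₀ 1,
    ⟨Matrix.transvection j₀ i₀ 1, ?_, rfl⟩, i₀, ?_⟩
  · rw [Matrix.isUnit_iff_isUnit_det, Matrix.det_transvection_of_ne _ _ hne]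
    exact isUnit_one
  · have hexp : (Matrix.transvection j₀ i₀ (1 : Y))ᴴ * u * Matrix.transvection j₀ i₀ 1 =
        u + Eᴴ * u + u * E + Eᴴ * (u * E) := by
      simp only [Matrix.transvection, ← hE, conjTranspose_add, conjTranspose_one]
      simp only [Matrix.add_mul, Matrix.mul_add, Matrix.one_mul, Matrix.mul_one, Matrix.mul_assoc]
      abel
    rw [hexp, hEH, hE]
    simp only [Matrix.add_apply, Matrix.single_mul_apply_same, Matrix.mul_single_apply_same,
      one_mul, mul_one]
    rw [isUnit_iff_not_mem]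
    intro hmem
    have h1 : u i₀ i₀ ∈ IsLocalRing.maximalIdeal Y := by
      have := hex i₀
      rwa [isUnit_iff_not_mem, not_not] at this
    have h3 : u j₀ j₀ ∈ IsLocalRing.maximalIdeal Y := by
      have := hex j₀
      rwa [isUnit_iff_not_mem, not_not] at this
    have h4 : u i₀ j₀ + star (u i₀ j₀) ∈ IsLocalRing.maximalIdeal Y := by
      have : u i₀ j₀ + star (u i₀ j₀) =
          (u i₀ i₀ + u j₀ i₀ + u i₀ j₀ + u j₀ j₀) - u i₀ i₀ - u j₀ j₀ := by
        rw [hji]; ring
      rw [this]
      exact Ideal.sub_mem _ (Ideal.sub_mem _ hmem h1) h3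
    exact (isUnit_iff_not_mem.mp (isUnit_add_star hm h2 hj₀)) h4

include hm h2 in
/-- Invertible hermitian matrices over a local ring (with "ramified" involution, `2` a unit) are
diagonalisable. -/
theorem herm_diag : ∀ (N : ℕ) (ι : Type) [Fintype ι] [DecidableEq ι], Fintype.card ι = N →
    ∀ u : Matrix ι ι Y, IsUnit u → uᴴ = u →
    ∃ d : ι → Y, (∀ i, IsUnit (d i)) ∧ (∀ i, star (d i) = d i) ∧ Cong u (Matrix.diagonal d) := by
  intro N
  induction N with
  | zero =>
    intro ι _ _ hcard u _ _
    haveI : IsEmpty ι := Fintype.card_eq_zero_iff.mp hcard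
    exact ⟨fun i => isEmptyElim i, fun i => isEmptyElim i, fun i => isEmptyElim i,
      ⟨1, isUnit_one, Subsingleton.elim _ _⟩⟩
  | succ N ih =>
    intro ι _ _ hcard u hu hherm
    haveI : Nonempty ι := by
      rw [← Fintype.card_pos_iff, hcard]; exact Nat.succ_pos N
    obtain ⟨u₁, hc1, i₀, hi₀⟩ := exists_unit_diag hm h2 u hu hherm
    have hu₁ : IsUnit u₁ := hc1.isUnit hu
    have hherm₁ : u₁ᴴ = u₁ := by
      have := hc1.herm 1 (by rw [one_smul]; exact hherm)
      rwa [one_smul] at this
    let e : {a // a = i₀} ⊕ {a // ¬ a = i₀} ≃ ι := Equiv.sumCompl (fun a => a = i₀)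
    haveI : Unique {a // a = i₀} := ⟨⟨⟨i₀, rfl⟩⟩, fun ⟨a, ha⟩ => Subtype.ext ha⟩
    set u₂ := u₁.submatrix e e with hu₂def
    have hu₂ : IsUnit u₂ := (Matrix.isUnit_submatrix_equiv e e).mpr hu₁
    have hherm₂ : u₂ᴴ = u₂ := by rw [hu₂def, conjTranspose_submatrix, hherm₁]
    set A := u₂.toBlocks₁₁ with hA
    set B := u₂.toBlocks₁₂ with hB
    set C := u₂.toBlocks₂₁ with hC
    set D := u₂.toBlocks₂₂ with hD
    have hblocks : u₂ = Matrix.fromBlocks A B C D := (Matrix.fromBlocks_toBlocks u₂).symm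
    have hbH : Matrix.fromBlocks Aᴴ Cᴴ Bᴴ Dᴴ = Matrix.fromBlocks A B C D := by
      rw [← Matrix.fromBlocks_conjTranspose, ← hblocks, hherm₂]
    obtain ⟨hAA, hCB, hBC, hDD⟩ := Matrix.fromBlocks_inj.mp hbH
    have hA00 : A default default = u₁ i₀ i₀ := by
      simp only [hA, hu₂def, Matrix.toBlocks₁₁, Matrix.of_apply, Matrix.submatrix_apply]
      have he0 : e (Sum.inl default) = i₀ := (default : {a // a = i₀}).2
      rw [he0]
    have hAunit : IsUnit A := by
      rw [Matrix.isUnit_iff_isUnit_det, Matrix.det_unique, hA00]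
      exact hi₀
    have hsch := schur (1 : Y) (star_one Y) (one_mul 1) A B C D hAunit
      (by rw [one_smul]; exact hAA) (by rw [one_smul]; exact hBC.symm)
    rw [← hblocks] at hsch
    set D' := D - C * A⁻¹ * B with hD'
    have hu₃ : IsUnit (Matrix.fromBlocks A 0 0 D') := hsch.isUnit hu₂
    have hD'unit : IsUnit D' := by
      rw [Matrix.isUnit_iff_isUnit_det, Matrix.det_fromBlocks_zero₂₁] at hu₃
      rw [Matrix.isUnit_iff_isUnit_det]
      exact isUnit_of_mul_isUnit_right hu₃
    have hD'herm : D'ᴴ = D' := by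
      have := hsch.herm 1 (by rw [one_smul]; exact hherm₂)
      rw [one_smul, Matrix.fromBlocks_conjTranspose] at this
      exact (Matrix.fromBlocks_inj.mp this).2.2.2
    have hcardQ : Fintype.card {a // ¬ a = i₀} = N := by
      have h1 := Fintype.card_congr e
      rw [Fintype.card_sum, Fintype.card_unique, hcard] at h1
      omega
    obtain ⟨d', hd'u, hd's, hd'c⟩ := ih {a // ¬ a = i₀} hcardQ D' hD'unit hD'herm
    have hAdiag : A = Matrix.diagonal (fun _ => u₁ i₀ i₀) := by
      ext a b
      rw [Subsingleton.elim a default, Subsingleton.elim b default, hA00,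
        Matrix.diagonal_apply_eq]
    have hstep : Cong u₂ (Matrix.diagonal (Sum.elim (fun _ => u₁ i₀ i₀) d')) := by
      refine hsch.trans ?_
      rw [← Matrix.fromBlocks_diagonal]
      refine Cong.fromBlocks ?_ hd'c
      rw [← hAdiag]
      exact Cong.refl A
    let δ : {a // a = i₀} ⊕ {a // ¬ a = i₀} → Y := Sum.elim (fun _ => u₁ i₀ i₀) d'
    refine ⟨δ ∘ e.symm, ?_, ?_, ?_⟩
    · intro i
      show IsUnit (δ (e.symm i))
      rcases e.symm i with a | a
      · exact hi₀
      · exact hd'u a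
    · intro i
      show star (δ (e.symm i)) = δ (e.symm i)
      rcases e.symm i with a | a
      · have := congrFun (congrFun hherm₁ i₀) i₀
        rw [conjTranspose_apply] at this
        exact this
      · exact hd's a
    · refine hc1.trans (Cong.of_submatrix e ?_)
      rw [Matrix.submatrix_diagonal_equiv]
      have : (δ ∘ e.symm) ∘ e = δ := by
        funext x
        simp
      rw [this]
      exact hstep

include hm h2 in
/-- An invertible skew-hermitian matrix has even size. -/
theorem skew_even {ι : Type*} [Fintype ι] [DecidableEq ι] (u : Matrix ι ι Y) (hu : IsUnit u)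
    (hskew : uᴴ = -u) : Even (Fintype.card ι) := by
  by_contra hodd
  rw [Nat.not_even_iff_odd] at hodd
  have hdet : IsUnit u.det := (Matrix.isUnit_iff_isUnit_det u).mp hu
  have h1 : star u.det = -u.det := by
    rw [← det_conjTranspose, hskew, Matrix.det_neg, hodd.neg_one_pow, neg_one_mul]
  exact (isUnit_iff_not_mem.mp hdet) (mem_max_of_star_eq_neg hm h2 h1)

end Local

section Sign

variable [IsLocalRing Y] (hm : ∀ y : Y, y - star y ∈ IsLocalRing.maximalIdeal Y)
  (h2 : IsUnit (2 : Y))

include hm h2 in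
theorem sign_split (ε : Y) (hN : star ε * ε = 1) : IsUnit (1 + ε) ∨ IsUnit (1 - ε) := by
  obtain ⟨c, hc⟩ := h2.exists_left_inv
  have hc' : 2 * c = 1 := by rw [mul_comm]; exact hc
  have h4c : 4 * c ^ 2 = 1 := by
    calc 4 * c ^ 2 = (2 * c) ^ 2 := by ring
      _ = 1 := by rw [hc', one_pow]
  set εp := c * (ε + star ε) with hεp
  have hprod : (εp - 1) * (εp + 1) = c ^ 2 * (ε - star ε) ^ 2 := by
    rw [hεp]
    linear_combination (star ε * ε) * h4c + hN
  have hmem : (εp - 1) * (εp + 1) ∈ IsLocalRing.maximalIdeal Y := by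
    rw [hprod]
    exact Ideal.mul_mem_left _ _ (Ideal.pow_mem_of_mem _ (hm ε) 2 (by norm_num))
  have hd : c * (ε - star ε) ∈ IsLocalRing.maximalIdeal Y :=
    Ideal.mul_mem_left _ _ (hm ε)
  have h2n : (2 : Y) ∉ IsLocalRing.maximalIdeal Y := isUnit_iff_not_mem.mp h2
  rcases (IsLocalRing.maximalIdeal.isMaximal Y).isPrime.mem_or_mem hmem with h | h
  · left
    rw [isUnit_iff_not_mem]
    intro hcon
    apply h2n
    have : (2 : Y) = (1 + ε) - ((εp - 1) + c * (ε - star ε)) := by
      rw [hεp]; linear_combination ε * hc'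
    rw [this]
    exact Ideal.sub_mem _ hcon (Ideal.add_mem _ h hd)
  · right
    rw [isUnit_iff_not_mem]
    intro hcon
    apply h2n
    have : (2 : Y) = (1 - ε) + ((εp + 1) + c * (ε - star ε)) := by
      rw [hεp]; linear_combination (-ε) * hc'
    rw [this]
    exact Ideal.add_mem _ hcon (Ideal.add_mem _ h hd)

end Sign

end Groth.Agent.H96.MixHerm
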