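import Mathlib
import Groth.Agent.H96.HermLocal
import Groth.Agent.H96.MixHerm

/-!
# Skew-hermitian matrices over a local ring with an involution trivial modulo the maximal ideal:
decomposition into planes (helper96)
-/

set_option autoImplicit false
set_option linter.unusedSectionVars false
set_option linter.style.haveILetI false

open Matrix

namespace Groth.Agent.H96.MixSkew

open Groth.Agent.H96.HermLocal

variable {Y : Type*} [CommRing Y] [StarRing Y]

/-- The index equivalence splitting off the first plane. -/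
def psi (k : ℕ) : Fin 2 × Fin (k + 1) ≃ Fin 2 ⊕ Fin 2 × Fin k where
  toFun p := Fin.cases (motive := fun _ => Fin 2 ⊕ Fin 2 × Fin k) (Sum.inl p.1)
    (fun i => Sum.inr (p.1, i)) p.2
  invFun := Sum.elim (fun x => (x, 0)) (fun q => (q.1, q.2.succ))
  left_inv := by
    rintro ⟨x, i⟩
    refine Fin.cases ?_ (fun j => ?_) i <;> simp
  right_inv := by
    rintro (x | ⟨x, i⟩) <;> simp

omit [StarRing Y] in
theorem blockDiagonal_cons {k : ℕ} (P₀ : Matrix (Fin 2) (Fin 2) Y)
    (P' : Fin k → Matrix (Fin 2) (Fin 2) Y) :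
    (Matrix.fromBlocks P₀ 0 0 (Matrix.blockDiagonal P')).submatrix (psi k) (psi k) =
      Matrix.blockDiagonal (Fin.cons P₀ P' : Fin (k + 1) → Matrix (Fin 2) (Fin 2) Y) := by
  ext ⟨x, i⟩ ⟨y, j⟩
  refine Fin.cases ?_ (fun i' => ?_) i <;> refine Fin.cases ?_ (fun j' => ?_) j
  · simp [psi, Matrix.blockDiagonal_apply]
  · simp [psi, Matrix.blockDiagonal_apply, (Fin.succ_ne_zero j').symm]
  · simp [psi, Matrix.blockDiagonal_apply, Fin.succ_ne_zero i']
  · simp [psi, Matrix.blockDiagonal_apply]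

/-- Block diagonal congruence. -/
theorem Cong.blockDiagonal {κ μ : Type*} [Fintype κ] [DecidableEq κ] [Fintype μ] [DecidableEq μ]
    (M N : κ → Matrix μ μ Y) (h : ∀ i, Cong (M i) (N i)) :
    Cong (Matrix.blockDiagonal M) (Matrix.blockDiagonal N) := by
  choose v hv hveq using h
  refine ⟨Matrix.blockDiagonal v, ?_, ?_⟩
  · rw [Matrix.isUnit_iff_isUnit_det, Matrix.det_blockDiagonal]
    exact IsUnit.prod_univ_iff.mpr fun i => (Matrix.isUnit_iff_isUnit_det _).mp (hv i)
  · rw [Matrix.blockDiagonal_conjTranspose, ← Matrix.blockDiagonal_mul, ← Matrix.blockDiagonal_mul]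
    congr 1
    funext i
    exact hveq i

/-- Normalising a skew-hermitian plane with invertible off-diagonal entry. -/
theorem plane_normal (A₂ : Matrix (Fin 2) (Fin 2) Y) (hs : A₂ᴴ = -A₂) (hb : IsUnit (A₂ 0 1)) :
    ∃ a c : Y, star a = -a ∧ star c = -c ∧ Cong A₂ !![a, 1; -1, c] := by
  obtain ⟨β, hβ⟩ := hb.exists_right_inv
  have hent : ∀ i j, star (A₂ j i) = -A₂ i j := by
    intro i j
    have := congrFun (congrFun hs i) j
    rwa [conjTranspose_apply, Matrix.neg_apply] at this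
  have hβu : IsUnit β := IsUnit.of_mul_eq_one _ (by rw [mul_comm]; exact hβ)
  refine ⟨A₂ 0 0, star β * A₂ 1 1 * β, hent 0 0, ?_, ⟨!![1, 0; 0, β], ?_, ?_⟩⟩
  · rw [star_mul', star_mul', star_star, hent 1 1]
    ring
  · rw [Matrix.isUnit_iff_isUnit_det, Matrix.det_fin_two_of]
    simpa using hβu
  · have h10 : A₂ 1 0 = -star (A₂ 0 1) := by rw [hent 1 0, neg_neg]
    have hsb : star β * star (A₂ 0 1) = 1 := by
      rw [← star_mul', mul_comm, hβ, star_one]
    rw [conjT_fin_two, Matrix.eta_fin_two A₂, Matrix.mul_fin_two, Matrix.mul_fin_two]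
    simp only [star_one, star_zero, one_mul, zero_mul, mul_one, mul_zero, add_zero, zero_add]
    refine fin_two_ext' rfl hβ ?_ rfl
    rw [h10, mul_neg, hsb]

variable [IsLocalRing Y] (hm : ∀ y : Y, y - star y ∈ IsLocalRing.maximalIdeal Y)
  (h2 : IsUnit (2 : Y))

include hm h2 in
theorem plane_isUnit (a c : Y) (ha : star a = -a) : IsUnit (!![a, 1; -1, c] : Matrix (Fin 2) (Fin 2) Y) := by
  rw [Matrix.isUnit_iff_isUnit_det, Matrix.det_fin_two_of]
  have h1 : a * c ∈ IsLocalRing.maximalIdeal Y :=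
    Ideal.mul_mem_right _ _ (MixHerm.mem_max_of_star_eq_neg hm h2 ha)
  have : a * c - 1 * -1 = 1 + a * c := by ring
  rw [this, isUnit_iff_not_mem]
  intro hcon
  apply isUnit_iff_not_mem.mp (isUnit_one (M := Y))
  have : (1 : Y) = (1 + a * c) - a * c := by ring
  rw [this]
  exact Ideal.sub_mem _ hcon h1

include hm h2 in
/-- Decomposition of an invertible skew-hermitian matrix into planes. -/
theorem skew_planes : ∀ (k : ℕ) (ι : Type) [Fintype ι] [DecidableEq ι], Fintype.card ι = 2 * k →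
    ∀ u : Matrix ι ι Y, IsUnit u → uᴴ = -u →
    ∃ (e : Fin 2 × Fin k ≃ ι) (a c : Fin k → Y), (∀ i, star (a i) = -a i) ∧
      (∀ i, star (c i) = -c i) ∧
      Cong (u.submatrix e e) (Matrix.blockDiagonal fun i => !![a i, 1; -1, c i]) := by
  intro k
  induction k with
  | zero =>
    intro ι _ _ hcard u _ _
    haveI : IsEmpty ι := Fintype.card_eq_zero_iff.mp (by rw [hcard])
    exact ⟨Equiv.equivOfIsEmpty _ _, fun i => Fin.elim0 i, fun i => Fin.elim0 i,
      fun i => Fin.elim0 i, fun i => Fin.elim0 i, ⟨1, isUnit_one, Subsingleton.elim _ _⟩⟩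
  | succ k ih =>
    intro ι _ _ hcard u hu hus
    haveI : Nonempty ι := by
      rw [← Fintype.card_pos_iff, hcard]; omega
    obtain ⟨i₀⟩ := ‹Nonempty ι›
    obtain ⟨j₀, hj₀⟩ := exists_isUnit_row u hu i₀
    have hne0 : i₀ ≠ j₀ := by
      intro hij
      subst hij
      have h1 : star (u i₀ i₀) = -u i₀ i₀ := by
        have := congrFun (congrFun hus i₀) i₀
        rwa [conjTranspose_apply, Matrix.neg_apply] at this
      exact (isUnit_iff_not_mem.mp hj₀) (MixHerm.mem_max_of_star_eq_neg hm h2 h1)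
    obtain ⟨e₂, he0, he1⟩ : ∃ e₂ : Fin 2 ≃ {a // a = i₀ ∨ a = j₀},
        (e₂ 0 : ι) = i₀ ∧ (e₂ 1 : ι) = j₀ := by
      let f : Fin 2 → {a // a = i₀ ∨ a = j₀} := ![⟨i₀, Or.inl rfl⟩, ⟨j₀, Or.inr rfl⟩]
      have hf : Function.Bijective f := by
        constructor
        · intro a b hab
          fin_cases a <;> fin_cases b
          · rfl
          · exact absurd (congrArg Subtype.val hab) hne0
          · exact absurd (congrArg Subtype.val hab).symm hne0
          · rfl
        · rintro ⟨a, rfl | rfl⟩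
          · exact ⟨0, rfl⟩
          · exact ⟨1, rfl⟩
      exact ⟨Equiv.ofBijective f hf, rfl, rfl⟩
    set e := (Equiv.sumCompl fun a => a = i₀ ∨ a = j₀) with he
    set u₂ := u.submatrix e e with hu₂def
    have hu₂ : IsUnit u₂ := (Matrix.isUnit_submatrix_equiv e e).mpr hu
    have hskew₂ : u₂ᴴ = -u₂ := by rw [hu₂def, conjTranspose_submatrix, hus]; rfl
    set A := u₂.toBlocks₁₁ with hA
    set B := u₂.toBlocks₁₂ with hB
    set C := u₂.toBlocks₂₁ with hC
    set D := u₂.toBlocks₂₂ with hD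
    have hblocks : u₂ = Matrix.fromBlocks A B C D := (Matrix.fromBlocks_toBlocks u₂).symm
    have hbH : Matrix.fromBlocks Aᴴ Cᴴ Bᴴ Dᴴ = Matrix.fromBlocks (-A) (-B) (-C) (-D) := by
      rw [← Matrix.fromBlocks_conjTranspose, ← hblocks, hskew₂, hblocks, Matrix.fromBlocks_neg]
    obtain ⟨hAA, hCB, hBC, hDD⟩ := Matrix.fromBlocks_inj.mp hbH
    have hCB' : C = (-1 : Y) • Bᴴ := by
      rw [neg_smul, one_smul, hBC, neg_neg]
    set A₂ := A.submatrix e₂ e₂ with hA₂
    have hA₂s : A₂ᴴ = -A₂ := by rw [hA₂, conjTranspose_submatrix, hAA]; rfl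
    have hA₂01 : A₂ 0 1 = u i₀ j₀ := by
      show u (e (Sum.inl (e₂ 0))) (e (Sum.inl (e₂ 1))) = _
      have h0 : e (Sum.inl (e₂ 0)) = i₀ := he0
      have h1 : e (Sum.inl (e₂ 1)) = j₀ := he1
      rw [h0, h1]
    obtain ⟨a₀, c₀, ha₀, hc₀, hcA₂⟩ := plane_normal A₂ hA₂s (by rw [hA₂01]; exact hj₀)
    have hPunit := plane_isUnit hm h2 a₀ c₀ ha₀
    have hA₂u : IsUnit A₂ := hcA₂.symm.isUnit hPunit
    have hAu : IsUnit A := (Matrix.isUnit_submatrix_equiv e₂ e₂).mp hA₂u
    have hsch := schur (-1 : Y) (by rw [star_neg, star_one]) (by ring) A B C D hAu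
      (by rw [neg_smul, one_smul]; exact hAA) hCB'
    rw [← hblocks] at hsch
    set D' := D - C * A⁻¹ * B with hD'
    have hu₃ : IsUnit (Matrix.fromBlocks A 0 0 D') := hsch.isUnit hu₂
    have hD'unit : IsUnit D' := by
      rw [Matrix.isUnit_iff_isUnit_det, Matrix.det_fromBlocks_zero₂₁] at hu₃
      rw [Matrix.isUnit_iff_isUnit_det]
      exact isUnit_of_mul_isUnit_right hu₃
    have hD'skew : D'ᴴ = -D' := by
      have := hsch.herm (-1) (by rw [neg_smul, one_smul]; exact hskew₂)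
      rw [neg_smul, one_smul, Matrix.fromBlocks_conjTranspose, Matrix.fromBlocks_neg] at this
      exact (Matrix.fromBlocks_inj.mp this).2.2.2
    have hcardQ : Fintype.card {a // ¬ (a = i₀ ∨ a = j₀)} = 2 * k := by
      have h1 := Fintype.card_congr e
      have h3 := Fintype.card_congr e₂
      rw [Fintype.card_sum, hcard] at h1
      rw [Fintype.card_fin] at h3
      omega
    obtain ⟨e', a', c', ha', hc', hcD⟩ := ih {a // ¬ (a = i₀ ∨ a = j₀)} hcardQ D' hD'unit hD'skew
    -- assemble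
    let σ : Fin 2 ⊕ Fin 2 × Fin k ≃ {a // a = i₀ ∨ a = j₀} ⊕ {a // ¬ (a = i₀ ∨ a = j₀)} :=
      Equiv.sumCongr e₂ e'
    have hσ : (Matrix.fromBlocks A 0 0 D').submatrix σ σ =
        Matrix.fromBlocks A₂ 0 0 (D'.submatrix e' e') := by
      ext (x | x) (y | y) <;> rfl
    have h1 : Cong (u₂.submatrix σ σ)
        (Matrix.fromBlocks !![a₀, 1; -1, c₀] 0 0
          (Matrix.blockDiagonal fun i => !![a' i, 1; -1, c' i])) := by
      have := hsch.submatrix σ
      rw [hσ] at this
      exact this.trans (Cong.fromBlocks hcA₂ hcD)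
    have h3 := h1.submatrix (psi k)
    rw [blockDiagonal_cons] at h3
    refine ⟨(psi k).trans (σ.trans e), Fin.cons a₀ a', Fin.cons c₀ c', ?_, ?_, ?_⟩
    · intro i
      refine Fin.cases ?_ (fun j => ?_) i
      · simpa using ha₀
      · simpa using ha' j
    · intro i
      refine Fin.cases ?_ (fun j => ?_) i
      · simpa using hc₀
      · simpa using hc' j
    · have e1 : (fun i : Fin (k + 1) => (!![(Fin.cons a₀ a' : Fin (k + 1) → Y) i, 1; -1,
          (Fin.cons c₀ c' : Fin (k + 1) → Y) i] : Matrix (Fin 2) (Fin 2) Y)) =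
          Fin.cons !![a₀, 1; -1, c₀] (fun i => !![a' i, 1; -1, c' i]) := by
        funext i
        refine Fin.cases ?_ (fun j => ?_) i
        · simp
        · simp
      rw [e1]
      exact h3

end Groth.Agent.H96.MixSkew
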