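import Mathlib
import Groth.Agent.H96.HermLocal

/-!
# Diagonalisation of odd-rank hermitian forms over a local ring with involution (any characteristic)
(helper96)

No hypothesis on `2` or on the involution: an invertible hermitian matrix of odd size over a local
ring with involution is congruent to a diagonal matrix with invertible self-adjoint entries.
-/

set_option autoImplicit false
set_option linter.unusedSectionVars false
set_option linter.style.haveILetI false

open Matrix

namespace Groth.Agent.H96.OddDiag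

open Groth.Agent.H96.HermLocal

variable {Y : Type*} [CommRing Y] [StarRing Y] [IsLocalRing Y]

theorem isUnit_add_of_mem {s x : Y} (hs : IsUnit s) (hx : ¬ IsUnit x) : IsUnit (s + x) := by
  rw [isUnit_iff_not_mem] at hs ⊢
  rw [isUnit_iff_not_mem, not_not] at hx
  intro h
  apply hs
  have : s = (s + x) - x := by ring
  rw [this]
  exact Ideal.sub_mem _ h hx

theorem isUnit_sub_of_mem {s x : Y} (hs : IsUnit s) (hx : ¬ IsUnit x) : IsUnit (x - s) := by
  rw [isUnit_iff_not_mem] at hs ⊢
  rw [isUnit_iff_not_mem, not_not] at hx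
  intro h
  apply hs
  have : s = x - (x - s) := by ring
  rw [this]
  exact Ideal.sub_mem _ hx h

/-- The mixing step: if the complement has no invertible diagonal entry, change the first basis
vector so that the new complement has one. -/
theorem mix_step {υ κ : Type*} [Fintype υ] [DecidableEq υ] [Unique υ] [Fintype κ] [DecidableEq κ]
    [Nonempty κ] (s : Y) (hs : IsUnit s) (hss : star s = s)
    (D' : Matrix κ κ Y) (hD'u : IsUnit D') (hD'h : D'ᴴ = D') (hno : ∀ q, ¬ IsUnit (D' q q)) :
    ∃ (s₄ : Y) (D'' : Matrix κ κ Y), IsUnit s₄ ∧ star s₄ = s₄ ∧ IsUnit D'' ∧ D''ᴴ = D'' ∧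
      (∃ b, IsUnit (D'' b b)) ∧
      Cong (Matrix.fromBlocks (Matrix.diagonal fun _ : υ => s) 0 0 D')
        (Matrix.fromBlocks (Matrix.diagonal fun _ : υ => s₄) 0 0 D'') := by
  classical
  obtain ⟨a⟩ := ‹Nonempty κ›
  obtain ⟨b, hb⟩ := exists_isUnit_row D' hD'u a
  have hba : D' b a = star (D' a b) := by
    have := congrFun (congrFun hD'h b) a
    rw [conjTranspose_apply] at this
    exact this.symm
  have haa : star (D' a a) = D' a a := by
    have := congrFun (congrFun hD'h a) a
    rw [conjTranspose_apply] at this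
    exact this
  set X : Matrix κ υ Y := Matrix.of fun q _ => if q = a then 1 else 0 with hX
  set A : Matrix υ υ Y := Matrix.diagonal fun _ : υ => s with hA
  have hAH : Aᴴ = A := by
    rw [hA, Matrix.diagonal_conjTranspose]
    congr 1
    funext i
    exact hss
  set A₄ : Matrix υ υ Y := A + Xᴴ * D' * X with hA₄
  set B₄ : Matrix υ κ Y := Xᴴ * D' with hB₄
  set C₄ : Matrix κ υ Y := D' * X with hC₄
  have hXH : ∀ (i : υ) (q : κ), Xᴴ i q = if q = a then 1 else 0 := by
    intro i q
    rw [conjTranspose_apply, hX, Matrix.of_apply]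
    split_ifs
    · exact star_one Y
    · exact star_zero Y
  have hB₄e : ∀ (i : υ) (q : κ), B₄ i q = D' a q := by
    intro i q
    rw [hB₄, Matrix.mul_apply]
    simp only [hXH, ite_mul, one_mul, zero_mul, Finset.sum_ite_eq', Finset.mem_univ, if_true]
  have hC₄e : ∀ (q : κ) (i : υ), C₄ q i = D' q a := by
    intro q i
    rw [hC₄, Matrix.mul_apply]
    simp only [hX, Matrix.of_apply, mul_ite, mul_one, mul_zero, Finset.sum_ite_eq',
      Finset.mem_univ, if_true]
  have hA₄e : ∀ i j : υ, A₄ i j = s + D' a a := by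
    intro i j
    rw [hA₄, Matrix.add_apply, Matrix.mul_apply]
    simp only [hB₄e, hX, Matrix.of_apply, mul_ite, mul_one, mul_zero, Finset.sum_ite_eq',
      Finset.mem_univ, if_true]
    rw [hA, Subsingleton.elim j i, Matrix.diagonal_apply_eq]
  obtain ⟨s₄, hs₄⟩ : ∃ s₄ : Y, s₄ = s + D' a a := ⟨_, rfl⟩
  have hs₄u : IsUnit s₄ := by
    rw [hs₄]
    exact isUnit_add_of_mem hs (hno a)
  have hs₄s : star s₄ = s₄ := by rw [hs₄, star_add, hss, haa]
  have hA₄d : A₄ = Matrix.diagonal fun _ : υ => s₄ := by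
    ext i j
    rw [hA₄e, Subsingleton.elim j i, Matrix.diagonal_apply_eq, hs₄]
  have hA₄unit : IsUnit A₄ := by
    rw [hA₄d, Matrix.isUnit_iff_isUnit_det, Matrix.det_diagonal]
    exact IsUnit.prod_univ_iff.mpr fun _ => hs₄u
  have hA₄H : A₄ᴴ = A₄ := by
    rw [hA₄d, Matrix.diagonal_conjTranspose]
    congr 1
    funext i
    exact hs₄s
  have hCB : C₄ = B₄ᴴ := by
    rw [hC₄, hB₄, conjTranspose_mul, conjTranspose_conjTranspose, hD'h]
  -- the first congruence
  have hstep1 : Cong (Matrix.fromBlocks A 0 0 D') (Matrix.fromBlocks A₄ B₄ C₄ D') := by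
    refine ⟨Matrix.fromBlocks (1 : Matrix υ υ Y) 0 X (1 : Matrix κ κ Y), ?_, ?_⟩
    · rw [Matrix.isUnit_iff_isUnit_det, Matrix.det_fromBlocks_zero₁₂]
      simp
    · rw [Matrix.fromBlocks_conjTranspose, Matrix.fromBlocks_multiply, Matrix.fromBlocks_multiply]
      simp only [conjTranspose_one, conjTranspose_zero, Matrix.one_mul, Matrix.zero_mul, add_zero,
        Matrix.mul_one, zero_add, Matrix.mul_zero]
      rw [hA₄, hB₄, hC₄]
  have hsch := schur (1 : Y) (star_one Y) (one_mul 1) A₄ B₄ C₄ D' hA₄unit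
    (by rw [one_smul]; exact hA₄H) (by rw [one_smul]; exact hCB)
  set D'' := D' - C₄ * A₄⁻¹ * B₄ with hD''
  have hherm0 : (Matrix.fromBlocks A 0 0 D')ᴴ = Matrix.fromBlocks A 0 0 D' := by
    rw [Matrix.fromBlocks_conjTranspose, hAH, hD'h]
    simp
  have hunit0 : IsUnit (Matrix.fromBlocks A 0 0 D') := by
    rw [Matrix.isUnit_iff_isUnit_det, Matrix.det_fromBlocks_zero₂₁]
    refine IsUnit.mul ?_ ((Matrix.isUnit_iff_isUnit_det D').mp hD'u)
    rw [hA, Matrix.det_diagonal]
    exact IsUnit.prod_univ_iff.mpr fun _ => hs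
  have hcong := hstep1.trans hsch
  have hu₃ : IsUnit (Matrix.fromBlocks A₄ 0 0 D'') := hcong.isUnit hunit0
  have hD''unit : IsUnit D'' := by
    rw [Matrix.isUnit_iff_isUnit_det, Matrix.det_fromBlocks_zero₂₁] at hu₃
    rw [Matrix.isUnit_iff_isUnit_det]
    exact isUnit_of_mul_isUnit_right hu₃
  have hD''herm : D''ᴴ = D'' := by
    have := hcong.herm 1 (by rw [one_smul]; exact hherm0)
    rw [one_smul, Matrix.fromBlocks_conjTranspose] at this
    exact (Matrix.fromBlocks_inj.mp this).2.2.2
  -- the diagonal entry at `b`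
  have hdet4 : IsUnit A₄.det := (Matrix.isUnit_iff_isUnit_det A₄).mp hA₄unit
  have hainv : s₄ * A₄⁻¹ default default = 1 := by
    have h1 : (A₄ * A₄⁻¹) default default = 1 := by
      rw [Matrix.mul_nonsing_inv A₄ hdet4, Matrix.one_apply_eq]
    rw [Matrix.mul_apply, Fintype.sum_unique, hA₄e, ← hs₄] at h1
    exact h1
  have hainvu : IsUnit (A₄⁻¹ default default) := IsUnit.of_mul_eq_one _ (by
    rw [mul_comm]; exact hainv)
  have hbb : D'' b b = D' b b - D' b a * A₄⁻¹ default default * D' a b := by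
    rw [hD'', Matrix.sub_apply, Matrix.mul_apply, Fintype.sum_unique, Matrix.mul_apply,
      Fintype.sum_unique, hC₄e, hB₄e]
  refine ⟨s₄, D'', hs₄u, hs₄s, hD''unit, hD''herm, ⟨b, ?_⟩, ?_⟩
  · rw [hbb]
    refine isUnit_sub_of_mem ?_ (hno b)
    refine (IsUnit.mul ?_ hainvu).mul hb
    rw [hba]
    exact hb.star
  · rw [← hA₄d]
    exact hcong

/-- An invertible hermitian matrix with an invertible diagonal entry is diagonalisable. -/
theorem diag_of_unit_entry : ∀ (N : ℕ) (ι : Type) [Fintype ι] [DecidableEq ι],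
    Fintype.card ι = N → ∀ u : Matrix ι ι Y, IsUnit u → uᴴ = u → (∃ i₀, IsUnit (u i₀ i₀)) →
    ∃ d : ι → Y, (∀ i, IsUnit (d i)) ∧ (∀ i, star (d i) = d i) ∧ Cong u (Matrix.diagonal d) := by
  intro N
  induction N with
  | zero =>
    intro ι _ _ hcard u _ _ hex
    obtain ⟨i₀, _⟩ := hex
    exact ((Fintype.card_eq_zero_iff.mp hcard).false i₀).elim
  | succ N ih =>
    intro ι _ _ hcard u₁ hu₁ hherm₁ hex
    obtain ⟨i₀, hi₀⟩ := hex
    let e : {a // a = i₀} ⊕ {a // ¬ a = i₀} ≃ ι := Equiv.sumCompl (fun a => a = i₀)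
    haveI : Unique {a // a = i₀} := ⟨⟨⟨i₀, rfl⟩⟩, fun ⟨a, ha⟩ => Subtype.ext ha⟩
    set u₂ := u₁.submatrix e e with hu₂def
    have hu₂ : IsUnit u₂ := (Matrix.isUnit_submatrix_equiv e e).mpr hu₁
    have hherm₂ : u₂ᴴ = u₂ := by rw [hu₂def, conjTranspose_submatrix, hherm₁]
    set A := u₂.toBlocks₁₁ with hA
    set B := u₂.toBlocks₁₂ with hB
    set C := u₂.toBlocks₂₁ with hC
    set D := u₂.toBlocks₂₂ with hD
    have hblocks : u₂ = Matrix.fromBlocks A B C D := (Matrix.fromBlocks_toBlocks u₂).symm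
    have hbH : Matrix.fromBlocks Aᴴ Cᴴ Bᴴ Dᴴ = Matrix.fromBlocks A B C D := by
      rw [← Matrix.fromBlocks_conjTranspose, ← hblocks, hherm₂]
    obtain ⟨hAA, hCB, hBC, hDD⟩ := Matrix.fromBlocks_inj.mp hbH
    have hA00 : A default default = u₁ i₀ i₀ := by
      simp only [hA, hu₂def, Matrix.toBlocks₁₁, Matrix.of_apply, Matrix.submatrix_apply]
      have he0 : e (Sum.inl default) = i₀ := (default : {a // a = i₀}).2
      rw [he0]
    have hAunit : IsUnit A := by
      rw [Matrix.isUnit_iff_isUnit_det, Matrix.det_unique, hA00]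
      exact hi₀
    have hsch := schur (1 : Y) (star_one Y) (one_mul 1) A B C D hAunit
      (by rw [one_smul]; exact hAA) (by rw [one_smul]; exact hBC.symm)
    rw [← hblocks] at hsch
    set D' := D - C * A⁻¹ * B with hD'
    have hu₃ : IsUnit (Matrix.fromBlocks A 0 0 D') := hsch.isUnit hu₂
    have hD'unit : IsUnit D' := by
      rw [Matrix.isUnit_iff_isUnit_det, Matrix.det_fromBlocks_zero₂₁] at hu₃
      rw [Matrix.isUnit_iff_isUnit_det]
      exact isUnit_of_mul_isUnit_right hu₃
    have hD'herm : D'ᴴ = D' := by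
      have := hsch.herm 1 (by rw [one_smul]; exact hherm₂)
      rw [one_smul, Matrix.fromBlocks_conjTranspose] at this
      exact (Matrix.fromBlocks_inj.mp this).2.2.2
    have hcardQ : Fintype.card {a // ¬ a = i₀} = N := by
      have h1 := Fintype.card_congr e
      rw [Fintype.card_sum, Fintype.card_unique, hcard] at h1
      omega
    have hAdiag : A = Matrix.diagonal (fun _ => u₁ i₀ i₀) := by
      ext a b
      rw [Subsingleton.elim a default, Subsingleton.elim b default, hA00,
        Matrix.diagonal_apply_eq]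
    have hs0 : star (u₁ i₀ i₀) = u₁ i₀ i₀ := by
      have := congrFun (congrFun hherm₁ i₀) i₀
      rw [conjTranspose_apply] at this
      exact this
    rw [hAdiag] at hsch
    obtain ⟨s', D₂, hs'u, hs's, hD₂u, hD₂h, hgood, hcong⟩ :
        ∃ (s' : Y) (D₂ : Matrix {a // ¬ a = i₀} {a // ¬ a = i₀} Y), IsUnit s' ∧ star s' = s' ∧
          IsUnit D₂ ∧ D₂ᴴ = D₂ ∧ ((∃ q, IsUnit (D₂ q q)) ∨ IsEmpty {a // ¬ a = i₀}) ∧
          Cong u₂ (Matrix.fromBlocks (Matrix.diagonal fun _ : {a // a = i₀} => s') 0 0 D₂) := by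
      by_cases hQ : ∃ q, IsUnit (D' q q)
      · exact ⟨u₁ i₀ i₀, D', hi₀, hs0, hD'unit, hD'herm, Or.inl hQ, hsch⟩
      · by_cases hemp : IsEmpty {a // ¬ a = i₀}
        · exact ⟨u₁ i₀ i₀, D', hi₀, hs0, hD'unit, hD'herm, Or.inr hemp, hsch⟩
        · haveI : Nonempty {a // ¬ a = i₀} := not_isEmpty_iff.mp hemp
          push Not at hQ
          obtain ⟨s₄, D'', h1, h2, h3, h4, h5, h6⟩ :=
            mix_step (υ := {a // a = i₀}) (u₁ i₀ i₀) hi₀ hs0 D' hD'unit hD'herm hQ
          exact ⟨s₄, D'', h1, h2, h3, h4, Or.inl h5, hsch.trans h6⟩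
    obtain ⟨d', hd'u, hd's, hd'c⟩ : ∃ d' : {a // ¬ a = i₀} → Y, (∀ i, IsUnit (d' i)) ∧
        (∀ i, star (d' i) = d' i) ∧ Cong D₂ (Matrix.diagonal d') := by
      rcases hgood with hq | hemp
      · exact ih {a // ¬ a = i₀} hcardQ D₂ hD₂u hD₂h hq
      · exact ⟨fun i => hemp.elim i, fun i => hemp.elim i, fun i => hemp.elim i,
          ⟨1, isUnit_one, Subsingleton.elim _ _⟩⟩
    have hstep : Cong u₂ (Matrix.diagonal (Sum.elim (fun _ => s') d')) := by
      refine hcong.trans ?_
      rw [← Matrix.fromBlocks_diagonal]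
      exact Cong.fromBlocks (Cong.refl _) hd'c
    let δ : {a // a = i₀} ⊕ {a // ¬ a = i₀} → Y := Sum.elim (fun _ => s') d'
    refine ⟨δ ∘ e.symm, ?_, ?_, ?_⟩
    · intro i
      show IsUnit (δ (e.symm i))
      rcases e.symm i with a | a
      · exact hs'u
      · exact hd'u a
    · intro i
      show star (δ (e.symm i)) = δ (e.symm i)
      rcases e.symm i with a | a
      · exact hs's
      · exact hd's a
    · refine Cong.of_submatrix e ?_
      rw [Matrix.submatrix_diagonal_equiv]
      have : (δ ∘ e.symm) ∘ e = δ := by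
        funext x
        simp
      rw [this]
      exact hstep

/-- An invertible hermitian matrix of odd size is congruent to one with an invertible diagonal
entry. -/
theorem exists_unit_diag_odd : ∀ (N : ℕ) (ι : Type) [Fintype ι] [DecidableEq ι],
    Fintype.card ι = N → Odd N → ∀ u : Matrix ι ι Y, IsUnit u → uᴴ = u →
    ∃ u₁ : Matrix ι ι Y, Cong u u₁ ∧ ∃ i, IsUnit (u₁ i i) := by
  intro N
  induction N using Nat.strong_induction_on with
  | _ N ih =>
    intro ι _ _ hcard hodd u hu hherm
    by_cases hex : ∃ i, IsUnit (u i i)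
    · exact ⟨u, Cong.refl u, hex⟩
    push Not at hex
    haveI : Nonempty ι := by
      rw [← Fintype.card_pos_iff, hcard]; exact hodd.pos
    obtain ⟨a⟩ := ‹Nonempty ι›
    obtain ⟨b, hb⟩ := exists_isUnit_row u hu a
    have hne : b ≠ a := by
      rintro rfl
      exact hex _ hb
    have hba : u b a = star (u a b) := by
      have := congrFun (congrFun hherm b) a
      rw [conjTranspose_apply] at this
      exact this.symm
    let P : ι → Prop := fun x => x = a ∨ x = b
    let e : {x // P x} ⊕ {x // ¬ P x} ≃ ι := Equiv.sumCompl P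
    set u₂ := u.submatrix e e with hu₂def
    have hu₂ : IsUnit u₂ := (Matrix.isUnit_submatrix_equiv e e).mpr hu
    have hherm₂ : u₂ᴴ = u₂ := by rw [hu₂def, conjTranspose_submatrix, hherm]
    set A := u₂.toBlocks₁₁ with hA
    set B := u₂.toBlocks₁₂ with hB
    set C := u₂.toBlocks₂₁ with hC
    set D := u₂.toBlocks₂₂ with hD
    have hblocks : u₂ = Matrix.fromBlocks A B C D := (Matrix.fromBlocks_toBlocks u₂).symm
    have hbH : Matrix.fromBlocks Aᴴ Cᴴ Bᴴ Dᴴ = Matrix.fromBlocks A B C D := by
      rw [← Matrix.fromBlocks_conjTranspose, ← hblocks, hherm₂]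
    obtain ⟨hAA, hCB, hBC, hDD⟩ := Matrix.fromBlocks_inj.mp hbH
    -- the two-element index set
    let pa : {x // P x} := ⟨a, Or.inl rfl⟩
    let pb : {x // P x} := ⟨b, Or.inr rfl⟩
    let g : Fin 2 → {x // P x} := ![pa, pb]
    have hg : Function.Bijective g := by
      constructor
      · intro i j hij
        fin_cases i <;> fin_cases j
        · rfl
        · exfalso
          have : (pa : ι) = (pb : ι) := congrArg Subtype.val hij
          exact hne this.symm
        · exfalso
          have : (pb : ι) = (pa : ι) := congrArg Subtype.val hij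
          exact hne this
        · rfl
      · rintro ⟨x, hx | hx⟩
        · exact ⟨0, Subtype.ext hx.symm⟩
        · exact ⟨1, Subtype.ext hx.symm⟩
    let ge : Fin 2 ≃ {x // P x} := Equiv.ofBijective g hg
    have hAe : ∀ x y : {x // P x}, A x y = u x y := by
      intro x y
      simp only [hA, hu₂def, Matrix.toBlocks₁₁, Matrix.of_apply, Matrix.submatrix_apply]
      rfl
    have hdetA : A.det = u a a * u b b - u a b * u b a := by
      rw [← Matrix.det_submatrix_equiv_self ge A, Matrix.det_fin_two]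
      simp only [Matrix.submatrix_apply, hAe]
      rfl
    have hAunit : IsUnit A := by
      rw [Matrix.isUnit_iff_isUnit_det, hdetA]
      refine isUnit_sub_of_mem ?_ ?_
      · rw [hba]
        exact hb.mul hb.star
      · intro h
        exact hex a (isUnit_of_mul_isUnit_left h)
    have hsch := schur (1 : Y) (star_one Y) (one_mul 1) A B C D hAunit
      (by rw [one_smul]; exact hAA) (by rw [one_smul]; exact hBC.symm)
    rw [← hblocks] at hsch
    set D' := D - C * A⁻¹ * B with hD'
    have hu₃ : IsUnit (Matrix.fromBlocks A 0 0 D') := hsch.isUnit hu₂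
    have hD'unit : IsUnit D' := by
      rw [Matrix.isUnit_iff_isUnit_det, Matrix.det_fromBlocks_zero₂₁] at hu₃
      rw [Matrix.isUnit_iff_isUnit_det]
      exact isUnit_of_mul_isUnit_right hu₃
    have hD'herm : D'ᴴ = D' := by
      have := hsch.herm 1 (by rw [one_smul]; exact hherm₂)
      rw [one_smul, Matrix.fromBlocks_conjTranspose] at this
      exact (Matrix.fromBlocks_inj.mp this).2.2.2
    have hcardP : Fintype.card {x // P x} = 2 := by
      rw [← Fintype.card_congr ge, Fintype.card_fin]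
    have hcardQ : Fintype.card {x // ¬ P x} + 2 = N := by
      have h1 := Fintype.card_congr e
      rw [Fintype.card_sum, hcardP, hcard] at h1
      omega
    have hoddQ : Odd (Fintype.card {x // ¬ P x}) := by
      obtain ⟨k, hk⟩ := hodd
      refine ⟨k - 1, ?_⟩
      omega
    obtain ⟨D₁, hc, q₁, hq₁⟩ := ih (Fintype.card {x // ¬ P x}) (by omega) {x // ¬ P x} rfl hoddQ
      D' hD'unit hD'herm
    refine ⟨(Matrix.fromBlocks A 0 0 D₁).submatrix e.symm e.symm, ?_, e (Sum.inr q₁), ?_⟩
    · refine Cong.of_submatrix e ?_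
      have : ((Matrix.fromBlocks A 0 0 D₁).submatrix e.symm e.symm).submatrix e e =
          Matrix.fromBlocks A 0 0 D₁ := by
        rw [Matrix.submatrix_submatrix]
        simp
      rw [this]
      exact hsch.trans (Cong.fromBlocks (Cong.refl A) hc)
    · rw [Matrix.submatrix_apply, Equiv.symm_apply_apply, Matrix.fromBlocks_apply₂₂]
      exact hq₁

/-- Invertible hermitian matrices of odd size over a local ring with involution are
diagonalisable, in any characteristic. -/
theorem odd_diag : ∀ (N : ℕ) (ι : Type) [Fintype ι] [DecidableEq ι], Fintype.card ι = N → Odd N →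
    ∀ u : Matrix ι ι Y, IsUnit u → uᴴ = u →
    ∃ d : ι → Y, (∀ i, IsUnit (d i)) ∧ (∀ i, star (d i) = d i) ∧ Cong u (Matrix.diagonal d) := by
  intro N ι _ _ hcard hodd u hu hherm
  obtain ⟨u₁, hc, hi⟩ := exists_unit_diag_odd N ι hcard hodd u hu hherm
  have hu₁ : IsUnit u₁ := hc.isUnit hu
  have hherm₁ : u₁ᴴ = u₁ := by
    have := hc.herm 1 (by rw [one_smul]; exact hherm)
    rwa [one_smul] at this
  obtain ⟨d, hdu, hds, hdc⟩ := diag_of_unit_entry N ι hcard u₁ hu₁ hherm₁ hi
  exact ⟨d, hdu, hds, hc.trans hdc⟩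

end Groth.Agent.H96.OddDiag
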