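import Mathlib
import Groth.Agent.H96.HermLocal
import Groth.Agent.H96.HermDescent
import Groth.Agent.H96.SqrtRing
import Groth.Agent.H96.RamLocal
import Groth.Agent.H96.OddDiag
import Groth.Agent.H77.RInv3

/-!
# Local normal form of a hermitian matrix of odd size at a prime of the fixed ring where the
localisation is a local ring (any characteristic)
(helper96)
-/

set_option autoImplicit false
set_option linter.unusedSectionVars false
set_option linter.style.haveILetI false
universe u v w

open TensorProduct Matrix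

namespace Groth.Agent.H96.OddLocal

open Groth.Agent.H96.HermLocal Groth.Agent.H96.SqrtRing Groth.Agent.H96.HermDescent
  Groth.Agent.H96.RamLocal Groth.Agent.H96.OddDiag

variable {B : Type u} {A : Type v} [CommRing B] [CommRing A] [Algebra B A] (lam : A ≃ₐ[B] A)
  (hlam : ∀ a, lam (lam a) = a) (hB : RInv.IsFixedRing B A lam.toRingEquiv)

section Main

variable {n : ℕ} (hodd : Odd n)
  (u₀ : Matrix (Fin n) (Fin n) A) (ε₀ : A)
  (hε₀ : (u₀.det ^ 2) • (u₀.map lam)ᵀ = ε₀ • u₀)
  (p : Ideal B) [p.IsPrime] (g : B) (hg : algebraMap B A g = u₀.det * lam u₀.det) (hgp : g ∉ p)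

local notation "Bp" => Localization.AtPrime p
local notation "DD" => Localization.AtPrime p ⊗[B] A

include hlam hB hodd hε₀ hg hgp in
theorem odd_normal_form (hloc : IsLocalRing (Localization.AtPrime p ⊗[B] A)) :
    ∃ (c₀ : A) (d₀ : Fin n → B) (m : B), m ∉ p ∧ (∀ i, d₀ i ∉ p) ∧
      Spread.{u, v, w} lam (c₀ • u₀) (Matrix.diagonal fun i => algebraMap B A (d₀ i)) m := by
  have hn : 0 < n := hodd.pos
  classical
  letI : StarRing DD := starRingOf DD (tauD A lam Bp).toRingHom (tauD_invol lam hlam Bp)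
  have hstar : ∀ y : DD, star y = tauD A lam Bp y := fun y => rfl
  have hfixD := Groth.Agent.H77.isFixedRing_baseChange lam.toRingEquiv Bp hB
  have hinvD : Function.Involutive (Groth.Agent.H77.lamT lam.toRingEquiv Bp hB) := by
    intro y
    rw [lamT_eq, lamT_eq, tauD_invol lam hlam]
  haveI : IsLocalRing DD := hloc
  set φ : A →ₐ[B] DD := Algebra.TensorProduct.includeRight with hφ
  have hφτ : φ.comp lam.toAlgHom = (tauD A lam Bp).comp φ := by
    apply AlgHom.ext
    intro a
    simp [hφ]
  have hstarφ : ∀ a : A, star (φ a) = φ (lam a) := fun a => by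
    rw [hstar]
    exact (DFunLike.congr_fun hφτ a).symm
  haveI hlocmod : IsLocalizedModule p.primeCompl φ.toLinearMap :=
    (inferInstance : IsLocalizedModule p.primeCompl (TensorProduct.mk B Bp A 1))
  have hmapH : ∀ M : Matrix (Fin n) (Fin n) A, (M.map φ)ᴴ = ((M.map lam)ᵀ).map φ := by
    intro M
    ext i j
    simp only [conjTranspose_apply, Matrix.map_apply, Matrix.transpose_apply, hstarφ]
  have hstarB : ∀ b : B, star (algebraMap B DD b) = algebraMap B DD b := by
    intro b
    rw [← φ.commutes b, hstarφ, lam.commutes]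
  set u : Matrix (Fin n) (Fin n) DD := u₀.map φ with hu
  have hudet : u.det = φ u₀.det := by
    rw [hu]
    exact (RingHom.map_det φ.toRingHom u₀).symm
  have hgunit : IsUnit (algebraMap B DD g) := by
    have h1 : IsUnit (algebraMap B Bp g) :=
      (IsLocalization.AtPrime.isUnit_to_map_iff Bp p g).mpr hgp
    have := h1.map (algebraMap Bp DD)
    rwa [← IsScalarTower.algebraMap_apply] at this
  have hdetu : IsUnit u.det := by
    rw [hudet]
    have h1 : φ u₀.det * φ (lam u₀.det) = algebraMap B DD g := by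
      rw [← map_mul, ← hg, φ.commutes]
    exact isUnit_of_mul_isUnit_left (by rw [h1]; exact hgunit)
  have huu : IsUnit u := (Matrix.isUnit_iff_isUnit_det u).mpr hdetu
  obtain ⟨di, hdi⟩ := hdetu.exists_right_inv
  obtain ⟨ε, hεdef⟩ : ∃ x, x = φ ε₀ * di ^ 2 := ⟨_, rfl⟩
  have hεu : uᴴ = ε • u := by
    have h1 : ((u₀.det ^ 2) • (u₀.map lam)ᵀ).map φ = (ε₀ • u₀).map φ := by rw [hε₀]
    have e1 : ((u₀.det ^ 2) • (u₀.map lam)ᵀ).map φ = (u.det ^ 2) • uᴴ := by
      rw [hmapH, hudet]
      ext i j
      simp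
    have e2 : (ε₀ • u₀).map φ = φ ε₀ • u := by
      ext i j
      simp [hu]
    rw [e1, e2] at h1
    have h3 := congrArg (fun M : Matrix (Fin n) (Fin n) DD => (di ^ 2) • M) h1
    simp only [smul_smul] at h3
    have h4 : di ^ 2 * u.det ^ 2 = 1 := by
      calc di ^ 2 * u.det ^ 2 = (u.det * di) ^ 2 := by ring
        _ = 1 := by rw [hdi, one_pow]
    rw [h4, one_smul] at h3
    rw [h3, hεdef, mul_comm]
  have hN : star ε * ε = 1 := eps_norm hn u huu ε hεu
  -- the scalar making `u` hermitian or skew-hermitian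
  have key : ∀ (c₁ : DD) (sg : DD), IsUnit c₁ → star c₁ * ε = sg * c₁ →
      ∃ (c₀ : A), IsUnit ((c₀ • u₀).map φ) ∧ ((c₀ • u₀).map φ)ᴴ = sg • (c₀ • u₀).map φ := by
    intro c₁ sg hc₁ hc₁ε
    obtain ⟨⟨c₀, s⟩, hs⟩ := IsLocalizedModule.surj p.primeCompl φ.toLinearMap c₁
    have hs' : algebraMap B DD (s : B) * c₁ = φ c₀ := by
      rw [← Algebra.smul_def]
      exact hs
    have hsunit : IsUnit (algebraMap B DD (s : B)) := by
      have h1 : IsUnit (algebraMap B Bp (s : B)) :=
        (IsLocalization.AtPrime.isUnit_to_map_iff Bp p (s : B)).mpr s.2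
      have := h1.map (algebraMap Bp DD)
      rwa [← IsScalarTower.algebraMap_apply] at this
    have e2 : (c₀ • u₀).map φ = φ c₀ • u := by
      ext i j
      simp [hu]
    refine ⟨c₀, ?_, ?_⟩
    · rw [e2, Matrix.isUnit_iff_isUnit_det, Matrix.det_smul]
      refine IsUnit.mul (IsUnit.pow _ ?_) hdetu
      rw [← hs']
      exact hsunit.mul hc₁
    · rw [e2, conjTranspose_smul, hεu, smul_smul, smul_smul, ← hs', star_mul', hstarB]
      congr 1
      linear_combination (algebraMap B DD (s : B)) * hc₁ε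
  -- the scalar making `u` hermitian (determinant trick, `n` odd)
  obtain ⟨k, hk⟩ := hodd
  have hodd : Odd n := ⟨k, hk⟩
  have hdetstar : star u.det = ε ^ n * u.det := by
    have := congrArg Matrix.det hεu
    rwa [Matrix.det_conjTranspose, Matrix.det_smul, Fintype.card_fin] at this
  have hεε : ε * star ε = 1 := by rw [mul_comm]; exact hN
  have hεunit : IsUnit ε := IsUnit.of_mul_eq_one _ hεε
  obtain ⟨c₁, hc₁def⟩ : ∃ c₁ : DD, c₁ = star (u.det * ε ^ k) := ⟨_, rfl⟩
  have hc₁ : IsUnit c₁ := by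
    rw [hc₁def]
    exact (hdetu.mul (hεunit.pow k)).star
  have hc₁ε : star c₁ * ε = 1 * c₁ := by
    have h3 : ε ^ n * star ε ^ k = ε ^ (k + 1) := by
      rw [hk, show 2 * k + 1 = (k + 1) + k by ring, pow_add, mul_assoc, ← mul_pow, hεε, one_pow,
        mul_one]
    rw [one_mul, hc₁def, star_star, star_mul', star_pow, hdetstar]
    calc u.det * ε ^ k * ε = (ε ^ (k + 1)) * u.det := by ring
      _ = (ε ^ n * star ε ^ k) * u.det := by rw [h3]
      _ = ε ^ n * u.det * star ε ^ k := by ring
  obtain ⟨c₀, hhu, hhh⟩ := key c₁ 1 hc₁ hc₁ε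
  rw [one_smul] at hhh
  obtain ⟨d, hdu, hds, v, hv, hveq⟩ :=
    odd_diag n (Fin n) (Fintype.card_fin n) hodd _ hhu hhh
  -- descend the diagonal entries
  have hdB : ∀ i, ∃ x : B × p.primeCompl,
      d i * (algebraMap B DD (x.2 : B)) ^ 2 = algebraMap B DD (x.1 * x.2) ∧ x.1 * x.2 ∉ p := by
    intro i
    obtain ⟨b, hb⟩ : d i ∈ Set.range (algebraMap Bp DD) := by
      rw [← hfixD.2]
      rw [lamT_eq, ← hstar]
      exact hds i
    have hbu : IsUnit b := Groth.Agent.H77.isUnit_of_isUnit_algebraMap _ hfixD b (by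
      rw [hb]; exact hdu i)
    obtain ⟨x, hx⟩ := IsLocalization.surj p.primeCompl b
    refine ⟨x, ?_, ?_⟩
    · rw [← hb, IsScalarTower.algebraMap_apply B Bp DD, IsScalarTower.algebraMap_apply B Bp DD,
        ← map_pow, ← map_mul, map_mul (algebraMap B Bp), ← hx]
      ring_nf
    · have h1 : IsUnit (algebraMap B Bp (x.1 * x.2)) := by
        rw [map_mul, ← hx]
        have h3 : IsUnit (algebraMap B Bp (x.2 : B)) :=
          (IsLocalization.AtPrime.isUnit_to_map_iff Bp p (x.2 : B)).mpr x.2.2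
        exact (hbu.mul h3).mul h3
      exact (IsLocalization.AtPrime.isUnit_to_map_iff Bp p _).mp h1
  choose x hx1 hx2 using hdB
  set sD : Fin n → DD := fun i => algebraMap B DD ((x i).2 : B) with hsD
  have hsDunit : ∀ i, IsUnit (sD i) := by
    intro i
    have h1 : IsUnit (algebraMap B Bp ((x i).2 : B)) :=
      (IsLocalization.AtPrime.isUnit_to_map_iff Bp p ((x i).2 : B)).mpr (x i).2.2
    have := h1.map (algebraMap Bp DD)
    rwa [← IsScalarTower.algebraMap_apply] at this
  set v₂ := v * Matrix.diagonal sD with hv₂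
  have hv₂u : IsUnit v₂ := by
    refine hv.mul ?_
    rw [Matrix.isUnit_iff_isUnit_det, Matrix.det_diagonal]
    exact IsUnit.prod_univ_iff.mpr fun i => hsDunit i
  have hv₂eq : v₂ᴴ * (c₀ • u₀).map φ * v₂ =
      (Matrix.diagonal fun i => algebraMap B A ((x i).1 * (x i).2)).map φ := by
    rw [hv₂, conjTranspose_mul, Matrix.diagonal_conjTranspose]
    have e1 : (star sD) = sD := by
      funext i
      exact hstarB _
    rw [e1]
    calc Matrix.diagonal sD * vᴴ * (c₀ • u₀).map φ * (v * Matrix.diagonal sD)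
        = Matrix.diagonal sD * (vᴴ * (c₀ • u₀).map φ * v) * Matrix.diagonal sD := by
          simp only [Matrix.mul_assoc]
      _ = Matrix.diagonal sD * Matrix.diagonal d * Matrix.diagonal sD := by rw [hveq]
      _ = _ := by
          rw [Matrix.diagonal_mul_diagonal, Matrix.diagonal_mul_diagonal]
          ext i j
          by_cases hij : i = j
          · subst hij
            simp only [Matrix.diagonal_apply_eq, Matrix.map_apply, φ.commutes]
            rw [← hx1 i]
            ring
          · simp [Matrix.diagonal_apply_ne _ hij]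
  obtain ⟨m, hm, hdesc⟩ := desc.{w} p.primeCompl lam.toAlgHom (tauD A lam Bp) φ hφτ
    (c₀ • u₀) (Matrix.diagonal fun i => algebraMap B A ((x i).1 * (x i).2)) v₂ hv₂u hv₂eq
  exact ⟨c₀, fun i => (x i).1 * (x i).2, m, hm, hx2, hdesc⟩

end Main

end Groth.Agent.H96.OddLocal
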