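import Mathlib
import Groth.Prelude.Def_AzInv
import Groth.Prelude.Def_W4c2azumayainvolQEt

/-!
# The norm polynomial `Q * Q^lam` and extracting a root of `Q` from a quadratic factor (helper96)
-/

set_option autoImplicit false
set_option linter.style.haveILetI false
set_option linter.unusedSectionVars false
universe u v

open Polynomial

namespace Groth.Agent.H96.NormRoot

section Norm

variable {S : Type u} {R : Type v} [CommRing S] [CommRing R] [Algebra S R]
  (lam : R ≃ₐ[S] R) (hlam : ∀ r, lam (lam r) = r) (hfix : RInv.IsFixedRing S R lam.toRingEquiv)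

include hlam hfix in
/-- The norm polynomial of a monic polynomial descends to the fixed ring. -/
theorem exists_norm (Q : R[X]) (hQ : Q.Monic) :
    ∃ F : S[X], F.Monic ∧ F.natDegree = 2 * Q.natDegree ∧
      F.map (algebraMap S R) = Q * Q.map (lam : R →+* R) := by
  set P : R[X] := Q * Q.map (lam : R →+* R) with hP
  have hQl : (Q.map (lam : R →+* R)).Monic := hQ.map _
  have hPm : P.Monic := hQ.mul hQl
  have hPdeg : P.natDegree = 2 * Q.natDegree := by
    rcases subsingleton_or_nontrivial R with h | h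
    · rw [Subsingleton.elim P 0, Subsingleton.elim Q 0]
      simp
    · rw [hP, hQ.natDegree_mul hQl, hQ.natDegree_map, two_mul]
  have hll : (Q.map (lam : R →+* R)).map (lam : R →+* R) = Q := by
    rw [Polynomial.map_map]
    have : ((lam : R →+* R).comp (lam : R →+* R)) = RingHom.id R := by
      ext r
      exact hlam r
    rw [this, Polynomial.map_id]
  have hPfix : P.map (lam : R →+* R) = P := by
    rw [hP, Polynomial.map_mul, hll, mul_comm]
  have hlift : P ∈ Polynomial.lifts (algebraMap S R) := by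
    rw [Polynomial.lifts_iff_coeff_lifts]
    intro i
    have h1 : lam (P.coeff i) = P.coeff i := by
      have := congrArg (fun p => p.coeff i) hPfix
      simpa [Polynomial.coeff_map] using this
    exact (hfix.2 (P.coeff i)).mp h1
  obtain ⟨F, hF1, hF2, hF3⟩ := Polynomial.lifts_and_natDegree_eq_and_monic hlift hPm
  exact ⟨F, hF3, hF2.trans hPdeg, hF1⟩

end Norm

section Root

variable {Y : Type u} [CommRing Y] (μ : Y →+* Y)

/-- If a monic quadratic `F₁`, fixed by `μ`, divides `Q * Q^μ` and the linear remainder of `Q`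
modulo `F₁` has invertible leading coefficient, then `Q` has a root. -/
theorem exists_root (F₁ Q G : Y[X]) (hF₁ : F₁.Monic) (hdeg : F₁.natDegree = 2)
    (hμ : F₁.map μ = F₁) (hdiv : Q * Q.map μ = F₁ * G)
    (hα : IsUnit ((Q %ₘ F₁).coeff 1)) (hμα : IsUnit (μ ((Q %ₘ F₁).coeff 1))) :
    ∃ ρ : Y, Q.eval ρ = 0 := by
  nontriviality Y
  set ℓ := Q %ₘ F₁ with hℓ
  set α := ℓ.coeff 1 with hαdef
  set β := ℓ.coeff 0 with hβdef
  set D := Q /ₘ F₁ with hD
  have hF₁deg : F₁.degree = 2 := by
    rw [Polynomial.degree_eq_natDegree hF₁.ne_zero, hdeg]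
    rfl
  have hℓdeg : ℓ.degree ≤ 1 := by
    have h1 : ℓ.degree < F₁.degree := Polynomial.degree_modByMonic_lt Q hF₁
    rw [hF₁deg] at h1
    exact Order.le_of_lt_succ h1
  have hℓeq : ℓ = C α * X + C β := Polynomial.eq_X_add_C_of_degree_le_one hℓdeg
  have hQ : Q = ℓ + F₁ * D := (Polynomial.modByMonic_add_div Q F₁).symm
  have hQμ : Q.map μ = ℓ.map μ + F₁ * D.map μ := by
    conv_lhs => rw [hQ]
    rw [Polynomial.map_add, Polynomial.map_mul, hμ]
  -- `F₁ ∣ ℓ * ℓ^μ`
  have hdvd : F₁ ∣ ℓ * ℓ.map μ := by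
    refine ⟨G - (ℓ * D.map μ + D * ℓ.map μ + F₁ * D * D.map μ), ?_⟩
    have h1 : ℓ * ℓ.map μ = Q * Q.map μ - F₁ * (ℓ * D.map μ + D * ℓ.map μ + F₁ * D * D.map μ) := by
      rw [hQμ]
      conv_rhs => rw [hQ]
      ring
    rw [h1, hdiv]
    ring
  have hℓμ : ℓ.map μ = C (μ α) * X + C (μ β) := by
    rw [hℓeq]
    simp
  set c := α * μ α with hc
  have hprod : ℓ * ℓ.map μ = C c * X ^ 2 + C (α * μ β + β * μ α) * X + C (β * μ β) := by
    rw [hℓμ]
    conv_lhs => rw [hℓeq]
    simp only [hc, map_mul, map_add]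
    ring
  set W := ℓ * ℓ.map μ - C c * F₁ with hW
  have hWdvd : F₁ ∣ W := dvd_sub hdvd (Dvd.intro_left _ rfl)
  have hWdeg : W.degree < F₁.degree := by
    rw [hF₁deg]
    show W.degree < ((2 : ℕ) : WithBot ℕ)
    rw [Polynomial.degree_lt_iff_coeff_zero]
    intro m hm
    have hm2 : 2 ≤ m := by exact_mod_cast hm
    rw [hW, Polynomial.coeff_sub, Polynomial.coeff_C_mul, hprod]
    rcases Nat.eq_or_lt_of_le hm2 with h2 | h2
    · subst h2
      have : F₁.coeff 2 = 1 := by
        have := hF₁.coeff_natDegree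
        rwa [hdeg] at this
      rw [this]
      simp [Polynomial.coeff_X, Polynomial.coeff_C]
    · have : F₁.coeff m = 0 := Polynomial.coeff_eq_zero_of_natDegree_lt (by rw [hdeg]; exact h2)
      rw [this]
      have h3 : m ≠ 2 := by omega
      have h4 : m ≠ 1 := by omega
      have h5 : m ≠ 0 := by omega
      have e1 : (C c * X ^ 2 : Y[X]).coeff m = 0 := by
        rw [Polynomial.coeff_C_mul, Polynomial.coeff_X_pow, if_neg h3, mul_zero]
      have e2 : (C (α * μ β + β * μ α) * X : Y[X]).coeff m = 0 := by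
        rw [Polynomial.coeff_C_mul, Polynomial.coeff_X, if_neg (Ne.symm h4), mul_zero]
      have e3 : (C (β * μ β) : Y[X]).coeff m = 0 := by
        rw [Polynomial.coeff_C, if_neg h5]
      rw [Polynomial.coeff_add, Polynomial.coeff_add, e1, e2, e3]
      simp
  have hW0 : W = 0 := by
    by_contra hne
    exact hF₁.not_dvd_of_degree_lt hne hWdeg hWdvd
  have hkey : ℓ * ℓ.map μ = C c * F₁ := sub_eq_zero.mp hW0
  obtain ⟨a', ha'⟩ := hα.exists_left_inv
  refine ⟨-(β * a'), ?_⟩
  set ρ := -(β * a') with hρ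
  have hℓρ : ℓ.eval ρ = 0 := by
    rw [hℓeq]
    simp only [eval_add, eval_mul, eval_C, eval_X, hρ]
    have : α * -(β * a') = -(β * (a' * α)) := by ring
    rw [this, ha']
    ring
  have hcF : c * F₁.eval ρ = 0 := by
    have := congrArg (Polynomial.eval ρ) hkey
    rw [eval_mul, hℓρ, zero_mul, eval_mul, eval_C] at this
    exact this.symm
  have hcunit : IsUnit c := hα.mul hμα
  have hFρ : F₁.eval ρ = 0 := (hcunit.mul_right_eq_zero).mp hcF
  conv_lhs => rw [hQ]
  rw [eval_add, eval_mul, hℓρ, hFρ]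
  ring

end Root

section ModSq

variable {K : Type u} [CommRing K] [Nontrivial K]

/-- The remainder of `(X - x₀) * G` modulo `(X - x₀) ^ 2`. -/
theorem mod_sq (x₀ : K) (G : K[X]) :
    ((X - C x₀) * G) %ₘ ((X - C x₀) ^ 2) = C (G.eval x₀) * (X - C x₀) := by
  have hm : ((X - C x₀ : K[X]) ^ 2).Monic := (monic_X_sub_C x₀).pow 2
  have hG : G = C (G.eval x₀) + (X - C x₀) * (G /ₘ (X - C x₀)) := by
    have := Polynomial.modByMonic_add_div G (X - C x₀)
    rw [Polynomial.modByMonic_X_sub_C_eq_C_eval] at this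
    exact this.symm
  refine (Polynomial.div_modByMonic_unique (G /ₘ (X - C x₀)) _ hm ⟨?_, ?_⟩).2
  · conv_rhs => rw [hG]
    ring
  · have h2 : ((X - C x₀ : K[X]) ^ 2).degree = 2 := by
      rw [Polynomial.degree_eq_natDegree hm.ne_zero, (monic_X_sub_C x₀).natDegree_pow,
        Polynomial.natDegree_X_sub_C]
      rfl
    rw [h2]
    calc (C (G.eval x₀) * (X - C x₀)).degree ≤ (C (G.eval x₀)).degree + (X - C x₀).degree :=
          Polynomial.degree_mul_le _ _
      _ ≤ 0 + 1 := add_le_add Polynomial.degree_C_le (by rw [Polynomial.degree_X_sub_C])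
      _ < 2 := by norm_num

theorem mod_sq_coeff_one (x₀ : K) (G : K[X]) :
    (((X - C x₀) * G) %ₘ ((X - C x₀) ^ 2)).coeff 1 = G.eval x₀ := by
  rw [mod_sq]
  simp [Polynomial.coeff_C, mul_sub]

end ModSq

end Groth.Agent.H96.NormRoot
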