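import Mathlib
import Groth.Agent.H96.Spl
import Groth.Agent.H96.EtCoverMono
import Groth.Agent.H96.NormRoot
import Groth.Agent.H77.RInv3

/-!
# Splitting an Azumaya algebra etale-locally on the fixed ring at a ramified prime (helper96)
-/

set_option autoImplicit false
set_option linter.style.haveILetI false
set_option linter.unusedSectionVars false
universe u v w

open TensorProduct Polynomial

namespace Groth.Agent.H96.RamSplit

attribute [local instance] Algebra.TensorProduct.rightAlgebra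

open Groth.Agent.H77 Groth.Agent.H96.Spl

section BC

variable {S : Type u} {R : Type v} [CommRing S] [CommRing R] [Algebra S R]
  (lam : R ≃ₐ[S] R) (hfix : RInv.IsFixedRing S R lam.toRingEquiv)
  (S' : Type u) [CommRing S'] [Algebra S S']

/-- polynomials coming from `S'` are fixed by the involution. -/
theorem map_lamT_left (p : S'[X]) :
    (p.map (algebraMap S' (S' ⊗[S] R))).map (lamT lam.toRingEquiv S' hfix).toRingHom =
      p.map (algebraMap S' (S' ⊗[S] R)) := by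
  rw [Polynomial.map_map]
  congr 1
  ext x
  show lamT lam.toRingEquiv S' hfix (x ⊗ₜ[S] (1 : R)) = x ⊗ₜ[S] (1 : R)
  rw [lamT_tmul]
  congr 1
  exact map_one lam

theorem map_lamT_right (Q : R[X]) :
    (Q.map (lam : R →+* R)).map (algebraMap R (S' ⊗[S] R)) =
      (Q.map (algebraMap R (S' ⊗[S] R))).map
        (lamT lam.toRingEquiv S' hfix).toRingHom := by
  rw [Polynomial.map_map, Polynomial.map_map]
  congr 1

theorem map_two_ways (F : S[X]) :
    (F.map (algebraMap S S')).map (algebraMap S' (S' ⊗[S] R)) =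
      (F.map (algebraMap S R)).map (algebraMap R (S' ⊗[S] R)) := by
  rw [Polynomial.map_map, Polynomial.map_map]
  congr 1
  ext s
  show (algebraMap S S' s) ⊗ₜ[S] (1 : R) = (1 : S') ⊗ₜ[S] (algebraMap S R s)
  rw [Algebra.algebraMap_eq_smul_one, Algebra.algebraMap_eq_smul_one, TensorProduct.smul_tmul]

variable {S'} in
/-- functoriality in `S'`. -/
noncomputable def J {S'' : Type u} [CommRing S''] [Algebra S S''] (g : S' →ₐ[S] S'') :
    S' ⊗[S] R →ₐ[S] S'' ⊗[S] R :=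
  Algebra.TensorProduct.map g (AlgHom.id S R)

variable {S'} in
theorem J_tmul {S'' : Type u} [CommRing S''] [Algebra S S''] (g : S' →ₐ[S] S'') (x : S') (r : R) :
    J (R := R) g (x ⊗ₜ[S] r) = g x ⊗ₜ[S] r := by
  simp [J]

variable {S'} in
theorem J_lamT {S'' : Type u} [CommRing S''] [Algebra S S''] (g : S' →ₐ[S] S'')
    (z : S' ⊗[S] R) :
    J (R := R) g (lamT lam.toRingEquiv S' hfix z) = lamT lam.toRingEquiv S'' hfix (J g z) := by
  induction z using TensorProduct.induction_on with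
  | zero => simp
  | tmul x r => rw [lamT_tmul, J_tmul, J_tmul, lamT_tmul]
  | add z₁ z₂ h₁ h₂ => rw [map_add, map_add, h₁, h₂, map_add, map_add]

end BC

section Level

variable {S : Type u} {R : Type v} [CommRing S] [CommRing R] [Algebra S R]
  (lam : R ≃ₐ[S] R) (hlam : ∀ r, lam (lam r) = r) (hfix : RInv.IsFixedRing S R lam.toRingEquiv)
  (S' : Type u) [CommRing S'] [Algebra S S'] (Q : R[X]) (F₁ : S'[X]) (f : R)

/-- the linear coefficient of `Q mod F₁`. -/
noncomputable def alpha : S' ⊗[S] R :=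
  ((Q.map (algebraMap R (S' ⊗[S] R))) %ₘ (F₁.map (algebraMap S' (S' ⊗[S] R)))).coeff 1

/-- the norm of `alpha * f`. -/
noncomputable def Nrm : S' ⊗[S] R :=
  alpha S' Q F₁ * lamT lam.toRingEquiv S' hfix (alpha S' Q F₁) *
    (((1 : S') ⊗ₜ[S] f) * lamT lam.toRingEquiv S' hfix ((1 : S') ⊗ₜ[S] f))

include hlam in
theorem Nrm_fixed : lamT lam.toRingEquiv S' hfix (Nrm lam hfix S' Q F₁ f) = Nrm lam hfix S' Q F₁ f := by
  have hinv := lamT_involutive lam.toRingEquiv S' (fun r => hlam r) hfix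
  unfold Nrm
  rw [map_mul, map_mul, map_mul, hinv, hinv]
  ring

include hlam in
theorem exists_h [Module.Flat S S'] :
    ∃ h : S', algebraMap S' (S' ⊗[S] R) h = Nrm lam hfix S' Q F₁ f :=
  ((isFixedRing_baseChange lam.toRingEquiv S' hfix).2 _).mp (Nrm_fixed lam hlam hfix S' Q F₁ f)

variable {S'} in
theorem J_alpha {S'' : Type u} [CommRing S''] [Algebra S S''] (g : S' →ₐ[S] S'')
    (hF₁ : F₁.Monic) :
    J (R := R) g (alpha S' Q F₁) = alpha S'' Q (F₁.map (g : S' →+* S'')) := by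
  unfold alpha
  have hjQ : (Q.map (algebraMap R (S' ⊗[S] R))).map (J (R := R) g).toRingHom =
      Q.map (algebraMap R (S'' ⊗[S] R)) := by
    rw [Polynomial.map_map]
    congr 1
    ext r
    show J (R := R) g ((1 : S') ⊗ₜ[S] r) = (1 : S'') ⊗ₜ[S] r
    rw [J_tmul, map_one]
  have hjF : (F₁.map (algebraMap S' (S' ⊗[S] R))).map (J (R := R) g).toRingHom =
      (F₁.map (g : S' →+* S'')).map (algebraMap S'' (S'' ⊗[S] R)) := by
    rw [Polynomial.map_map, Polynomial.map_map]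
    congr 1
  rw [← hjQ, ← hjF, ← Polynomial.map_modByMonic _ (hF₁.map _), Polynomial.coeff_map]
  rfl

variable {S'} in
theorem J_Nrm {S'' : Type u} [CommRing S''] [Algebra S S''] (g : S' →ₐ[S] S'')
    (hF₁ : F₁.Monic) :
    J (R := R) g (Nrm lam hfix S' Q F₁ f) = Nrm lam hfix S'' Q (F₁.map (g : S' →+* S'')) f := by
  unfold Nrm
  rw [map_mul, map_mul, map_mul, J_lamT, J_lamT, J_alpha Q F₁ g hF₁, J_tmul, map_one]

/-- If the norm element is a unit, `Q` has a root and `f` is a unit. -/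
theorem root_of_unit (F : S[X]) (F₂ : S'[X]) (hF₁ : F₁.Monic) (hdeg : F₁.natDegree = 2)
    (hF₁₂ : F₁ * F₂ = F.map (algebraMap S S'))
    (hFmap : F.map (algebraMap S R) = Q * Q.map (lam : R →+* R))
    (hu : IsUnit (Nrm lam hfix S' Q F₁ f)) :
    (∃ ρ : S' ⊗[S] R, aeval ρ Q = 0) ∧ IsUnit (algebraMap R (S' ⊗[S] R) f) := by
  rcases subsingleton_or_nontrivial (S' ⊗[S] R) with hsub | hnt
  · exact ⟨⟨0, Subsingleton.elim _ _⟩, isUnit_of_subsingleton _⟩
  set lam' : (S' ⊗[S] R) →+* (S' ⊗[S] R) :=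
    (lamT lam.toRingEquiv S' hfix).toRingHom with hlam'
  set Q' : (S' ⊗[S] R)[X] := Q.map (algebraMap R (S' ⊗[S] R)) with hQ'
  set F₁' : (S' ⊗[S] R)[X] := F₁.map (algebraMap S' (S' ⊗[S] R)) with hF₁'
  set F₂' : (S' ⊗[S] R)[X] := F₂.map (algebraMap S' (S' ⊗[S] R)) with hF₂'
  have hF₁'m : F₁'.Monic := hF₁.map _
  have hF₁'deg : F₁'.natDegree = 2 := by rw [hF₁', hF₁.natDegree_map, hdeg]
  have hdiv : Q' * Q'.map lam' = F₁' * F₂' := by
    have h1 : F₁' * F₂' = (F.map (algebraMap S S')).map (algebraMap S' (S' ⊗[S] R)) := by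
      rw [← hF₁₂, Polynomial.map_mul]
    rw [h1, map_two_ways S' F, hFmap, Polynomial.map_mul, map_lamT_right lam hfix S' Q]
  have hμ : F₁'.map lam' = F₁' := map_lamT_left lam hfix S' F₁
  unfold Nrm at hu
  have hu12 := isUnit_of_mul_isUnit_left hu
  have hu1 : IsUnit (alpha S' Q F₁) := isUnit_of_mul_isUnit_left hu12
  have hu2 : IsUnit (lamT lam.toRingEquiv S' hfix (alpha S' Q F₁)) :=
    isUnit_of_mul_isUnit_right hu12
  have hfu : IsUnit ((1 : S') ⊗ₜ[S] f) :=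
    isUnit_of_mul_isUnit_left (isUnit_of_mul_isUnit_right hu)
  obtain ⟨ρ, hρ⟩ := NormRoot.exists_root lam' F₁' Q' F₂' hF₁'m hF₁'deg hμ hdiv hu1 hu2
  refine ⟨⟨ρ, ?_⟩, hfu⟩
  rw [← hρ]
  exact (Polynomial.eval_map_algebraMap Q ρ).symm

section Eval

variable {Ω : Type v} [Field Ω] [Algebra S Ω] (φ : S' →ₐ[S] Ω) (φR : R →ₐ[S] Ω)

/-- the induced point of `S' ⊗[S] R`. -/
noncomputable def pt : S' ⊗[S] R →ₐ[S] Ω :=
  Algebra.TensorProduct.lift φ φR (fun _ _ => Commute.all _ _)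

theorem pt_tmul (x : S') (r : R) : pt S' φ φR (x ⊗ₜ[S] r) = φ x * φR r := by
  simp [pt]

theorem pt_lamT (hφl : ∀ r, φR (lam r) = φR r) (z : S' ⊗[S] R) :
    pt S' φ φR (lamT lam.toRingEquiv S' hfix z) = pt S' φ φR z := by
  induction z using TensorProduct.induction_on with
  | zero => simp
  | tmul x r =>
    rw [lamT_tmul, pt_tmul, pt_tmul]
    congr 1
    exact hφl r
  | add z₁ z₂ h₁ h₂ => rw [map_add, map_add, h₁, h₂, map_add]

theorem pt_alpha (hF₁ : F₁.Monic) :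
    pt S' φ φR (alpha S' Q F₁) =
      ((Q.map (φR : R →+* Ω)) %ₘ (F₁.map (φ : S' →+* Ω))).coeff 1 := by
  unfold alpha
  have h1 : (Q.map (algebraMap R (S' ⊗[S] R))).map (pt S' φ φR).toRingHom =
      Q.map (φR : R →+* Ω) := by
    rw [Polynomial.map_map]
    congr 1
    ext r
    show pt S' φ φR ((1 : S') ⊗ₜ[S] r) = φR r
    rw [pt_tmul, map_one, one_mul]
  have h2 : (F₁.map (algebraMap S' (S' ⊗[S] R))).map (pt S' φ φR).toRingHom =
      F₁.map (φ : S' →+* Ω) := by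
    rw [Polynomial.map_map]
    congr 1
    ext x
    show pt S' φ φR (x ⊗ₜ[S] (1 : R)) = φ x
    rw [pt_tmul, map_one, mul_one]
  rw [← h1, ← h2, ← Polynomial.map_modByMonic _ (hF₁.map _), Polynomial.coeff_map]
  rfl

theorem pt_Nrm (hφl : ∀ r, φR (lam r) = φR r) :
    pt S' φ φR (Nrm lam hfix S' Q F₁ f) =
      pt S' φ φR (alpha S' Q F₁) * pt S' φ φR (alpha S' Q F₁) * (φR f * φR f) := by
  unfold Nrm
  rw [map_mul, map_mul, map_mul, pt_lamT lam hfix S' φ φR hφl, pt_lamT lam hfix S' φ φR hφl,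
    pt_tmul, map_one, one_mul]

theorem pt_algebraMap (x : S') : pt S' φ φR (algebraMap S' (S' ⊗[S] R) x) = φ x := by
  show pt S' φ φR (x ⊗ₜ[S] (1 : R)) = φ x
  rw [pt_tmul, map_one, mul_one]

end Eval

end Level

section Univ

variable {S : Type u} [CommRing S] (F : S[X]) (hF : F.Monic) (n : ℕ) (hn : 0 < n)
  (hFdeg : F.natDegree = 2 * n)
  {Ω : Type v} [Field Ω] [Algebra S Ω] (x₀ : Ω) (Gb : Polynomial Ω) (hGbm : Gb.Monic)
  (hGbdeg : Gb.natDegree = n - 1)
  (hFb : F.map (algebraMap S Ω) = (X - C x₀) ^ 2 * Gb ^ 2)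
  (hcop : IsCoprime ((X - C x₀) ^ 2) (Gb ^ 2))

include hF hn hFdeg hGbm hGbdeg hFb hcop in
theorem exists_point : ∃ (S₂ : Type u) (_ : CommRing S₂) (_ : Algebra S S₂)
    (_ : Algebra.Etale S S₂) (φ : S₂ →ₐ[S] Ω) (F₁ F₂ : S₂[X]), F₁.Monic ∧ F₁.natDegree = 2 ∧
      F₁ * F₂ = F.map (algebraMap S S₂) ∧ F₁.map (φ : S₂ →+* Ω) = (X - C x₀) ^ 2 := by
  have hn2 : 2 * n = 2 + (2 * n - 2) := by omega
  let pF : MonicDegreeEq S (2 * n) := .mk F hF hFdeg
  let fb : MonicDegreeEq Ω 2 := .mk ((X - C x₀) ^ 2) ((monic_X_sub_C x₀).pow 2)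
    (by rw [(monic_X_sub_C x₀).natDegree_pow, natDegree_X_sub_C])
  let gb : MonicDegreeEq Ω (2 * n - 2) := .mk (Gb ^ 2) (hGbm.pow 2)
    (by rw [hGbm.natDegree_pow, hGbdeg]; omega)
  let φ : UniversalCoprimeFactorizationRing 2 (2 * n - 2) hn2 pF →ₐ[S] Ω :=
    (UniversalCoprimeFactorizationRing.homEquiv Ω 2 (2 * n - 2) hn2 pF).symm
      ⟨(fb, gb), hFb.symm, hcop⟩
  haveI : Nontrivial (UniversalCoprimeFactorizationRing 2 (2 * n - 2) hn2 pF) :=
    φ.toRingHom.domain_nontrivial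
  refine ⟨UniversalCoprimeFactorizationRing 2 (2 * n - 2) hn2 pF, inferInstance, inferInstance,
    inferInstance, φ, (UniversalCoprimeFactorizationRing.factor₁ 2 (2 * n - 2) hn2 pF).1,
    (UniversalCoprimeFactorizationRing.factor₂ 2 (2 * n - 2) hn2 pF).1,
    (UniversalCoprimeFactorizationRing.factor₁ 2 (2 * n - 2) hn2 pF).monic,
    (UniversalCoprimeFactorizationRing.factor₁ 2 (2 * n - 2) hn2 pF).natDegree,
    UniversalCoprimeFactorizationRing.factor₁_mul_factor₂ 2 (2 * n - 2) hn2 pF, ?_⟩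
  have := (UniversalCoprimeFactorizationRing.homEquiv Ω 2 (2 * n - 2) hn2 pF).apply_symm_apply
    ⟨(fb, gb), hFb.symm, hcop⟩
  have h2 := congrArg (fun z => z.1.1.1) this
  show Polynomial.map (φ : UniversalCoprimeFactorizationRing 2 (2 * n - 2) hn2 pF →+* Ω)
    (Polynomial.map (algebraMap _ _)
    (UniversalFactorizationRing.factor₁ 2 (2 * n - 2) hn2 pF).1) = _
  rw [Polynomial.map_map]
  exact h2

end Univ

section Finish

variable {S : Type u} {R : Type v} [CommRing S] [CommRing R] [Algebra S R]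
  (lam : R ≃ₐ[S] R) (hlam : ∀ r, lam (lam r) = r) (hfix : RInv.IsFixedRing S R lam.toRingEquiv)
  (S₂ : Type u) [CommRing S₂] [Algebra S S₂] (Q : R[X]) (F₁ : S₂[X]) (f : R)

theorem finish (h : S₂) (hh : algebraMap S₂ (S₂ ⊗[S] R) h = Nrm lam hfix S₂ Q F₁ f)
    (F : S[X]) (F₂ : S₂[X]) (hF₁ : F₁.Monic) (hdeg : F₁.natDegree = 2)
    (hF₁₂ : F₁ * F₂ = F.map (algebraMap S S₂))
    (hFmap : F.map (algebraMap S R) = Q * Q.map (lam : R →+* R))
    [Nontrivial (Localization.Away h)] :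
    (∃ ρ : Localization.Away h ⊗[S] R, aeval ρ Q = 0) ∧
      IsUnit (algebraMap R (Localization.Away h ⊗[S] R) f) := by
  let g : S₂ →ₐ[S] Localization.Away h := IsScalarTower.toAlgHom S S₂ (Localization.Away h)
  refine root_of_unit lam hfix (Localization.Away h) Q (F₁.map (g : S₂ →+* Localization.Away h)) f F
    (F₂.map (g : S₂ →+* Localization.Away h)) (hF₁.map _) (by rw [hF₁.natDegree_map, hdeg]) ?_
    hFmap ?_
  · rw [← Polynomial.map_mul, hF₁₂, Polynomial.map_map]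
    congr 1
  · rw [← J_Nrm lam hfix Q F₁ f g hF₁, ← hh]
    show IsUnit (J (R := R) g (h ⊗ₜ[S] (1 : R)))
    rw [J_tmul]
    have e1 : g h = algebraMap S₂ (Localization.Away h) h := rfl
    rw [e1, ← algebraMap_tensor (S := S) (R := R) (Localization.Away h)]
    exact (IsLocalization.Away.algebraMap_isUnit h).map
      (algebraMap (Localization.Away h) (Localization.Away h ⊗[S] R))

end Finish

section Main

variable (S : Type u) (R : Type v) [CommRing S] [CommRing R] [Algebra S R]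
  (lam : R ≃ₐ[S] R) (hlam : ∀ r, lam (lam r) = r) (hfix : RInv.IsFixedRing S R lam.toRingEquiv)
  (A : Type w) [Ring A] [Algebra R A] [IsAzumaya R A]
  (n : ℕ) (hn : 0 < n) (hrk : ∀ p : PrimeSpectrum R, Module.rankAtStalk (R := R) A p = n ^ 2)
  (q : Ideal R) [q.IsPrime] (hram : ∀ r, lam r - r ∈ q)

include hlam hfix hn hrk hram in
theorem ram_split : ∃ (S₃ : Type u) (_ : CommRing S₃) (_ : Algebra S S₃), Algebra.Etale S S₃ ∧
    (∃ P : Ideal S₃, P.IsPrime ∧ P.comap (algebraMap S S₃) = q.comap (algebraMap S R)) ∧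
    Spl R A n (S₃ ⊗[S] R) := by
  classical
  obtain ⟨Q, f, hQ, hQdeg, hf, hQsep, hspl⟩ := EtCoverMono.cover'' R A n hrk q
  obtain ⟨F, hF, hFdeg, hFmap⟩ := NormRoot.exists_norm lam hlam hfix Q hQ
  rw [hQdeg] at hFdeg
  -- the geometric point
  let κ := q.ResidueField
  let Ω := AlgebraicClosure κ
  let φR : R →+* Ω := (algebraMap κ Ω).comp (algebraMap R κ)
  have hker : ∀ r, φR r = 0 ↔ r ∈ q := by
    intro r
    show algebraMap κ Ω (algebraMap R κ r) = 0 ↔ _
    rw [map_eq_zero_iff _ (algebraMap κ Ω).injective, Ideal.algebraMap_residueField_eq_zero]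
  have hφl : ∀ r, φR (lam r) = φR r := by
    intro r
    have := (hker (lam r - r)).mpr (hram r)
    rwa [map_sub, sub_eq_zero] at this
  have hφl' : φR.comp (lam : R →+* R) = φR := RingHom.ext hφl
  set Qb : Polynomial Ω := Q.map φR with hQb
  have hQbm : Qb.Monic := hQ.map _
  have hQbsep : Qb.Separable := by
    have : Qb = (Q.map (algebraMap R κ)).map (algebraMap κ Ω) := by
      rw [hQb, Polynomial.map_map]
    rw [this]
    exact hQsep.map
  have hQbdeg : Qb.natDegree = n := by rw [hQb, hQ.natDegree_map, hQdeg]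
  obtain ⟨x₀, hx₀⟩ : ∃ x₀, Qb.IsRoot x₀ := IsAlgClosed.exists_root Qb (by
    rw [Polynomial.degree_eq_natDegree hQbm.ne_zero, hQbdeg]
    exact_mod_cast hn.ne')
  set Gb : Polynomial Ω := Qb /ₘ (X - C x₀) with hGb
  have hQG : (X - C x₀) * Gb = Qb := Polynomial.mul_divByMonic_eq_iff_isRoot.mpr hx₀
  have hGbm : Gb.Monic := by
    have h1 : ((X - C x₀) * Gb).Monic := by rw [hQG]; exact hQbm
    exact (monic_X_sub_C x₀).of_mul_monic_left h1
  have hGbdeg : Gb.natDegree = n - 1 := by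
    have h1 := (monic_X_sub_C x₀).natDegree_mul hGbm
    rw [hQG, hQbdeg, natDegree_X_sub_C] at h1
    omega
  have he : Gb.eval x₀ ≠ 0 := by
    have h1 := hQbsep.eval₂_derivative_ne_zero (RingHom.id Ω) (x := x₀)
      (by rw [Polynomial.eval₂_id]; exact hx₀)
    rw [Polynomial.eval₂_id, ← hQG] at h1
    simpa [derivative_mul] using h1
  -- F over Ω
  letI algSΩ : Algebra S Ω := (φR.comp (algebraMap S R)).toAlgebra
  have hFb : F.map (algebraMap S Ω) = (X - C x₀) ^ 2 * Gb ^ 2 := by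
    have h1 : F.map (algebraMap S Ω) = (F.map (algebraMap S R)).map φR := by
      rw [Polynomial.map_map]; rfl
    rw [h1, hFmap, Polynomial.map_mul, Polynomial.map_map, hφl', ← hQb, ← hQG]
    ring
  have hcop : IsCoprime ((X - C x₀) ^ 2) (Gb ^ 2) := by
    apply IsCoprime.pow
    have hG := Polynomial.modByMonic_add_div Gb (X - C x₀)
    rw [Polynomial.modByMonic_X_sub_C_eq_C_eval] at hG
    have hG' : C (Gb.eval x₀) = Gb - (X - C x₀) * (Gb /ₘ (X - C x₀)) := eq_sub_of_add_eq hG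
    refine ⟨- C (Gb.eval x₀)⁻¹ * (Gb /ₘ (X - C x₀)), C (Gb.eval x₀)⁻¹, ?_⟩
    have h1 : C (Gb.eval x₀)⁻¹ * C (Gb.eval x₀) = (1 : Polynomial Ω) := by
      rw [← C_mul, inv_mul_cancel₀ he, C_1]
    calc _ = C (Gb.eval x₀)⁻¹ * (Gb - (X - C x₀) * (Gb /ₘ (X - C x₀))) := by ring
      _ = C (Gb.eval x₀)⁻¹ * C (Gb.eval x₀) := by rw [← hG']
      _ = 1 := h1
  obtain ⟨S₂, _, _, _, φ, F₁, F₂, hF₁m, hF₁deg, hF₁₂, hF₁φ⟩ :=
    exists_point F hF n hn hFdeg x₀ Gb hGbm hGbdeg hFb hcop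
  obtain ⟨h, hh⟩ := exists_h lam hlam hfix S₂ Q F₁ f
  let φRa : R →ₐ[S] Ω := { φR with commutes' := fun s => rfl }
  have hφRa : ∀ r, φRa r = φR r := fun r => rfl
  have hφh : φ h ≠ 0 := by
    rw [← pt_algebraMap S₂ φ φRa h, hh, pt_Nrm lam hfix S₂ Q F₁ f φ φRa hφl,
      pt_alpha S₂ Q F₁ φ φRa hF₁m, hF₁φ]
    have h1 : Polynomial.map (φRa : R →+* Ω) Q = Qb := rfl
    rw [h1, ← hQG, NormRoot.mod_sq_coeff_one]
    have hφf : φRa f ≠ 0 := fun h0 => hf ((hker f).mp h0)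
    exact mul_ne_zero (mul_ne_zero he he) (mul_ne_zero hφf hφf)
  have hφhu : IsUnit (φ h) := isUnit_iff_ne_zero.mpr hφh
  let φ₃ : Localization.Away h →ₐ[S] Ω :=
    IsLocalization.Away.liftAlgHom (A := S) (f := φ) h hφhu
  haveI : Nontrivial (Localization.Away h) := φ₃.toRingHom.domain_nontrivial
  obtain ⟨⟨ρ, hρ⟩, hfu⟩ := finish lam hfix S₂ Q F₁ f h hh F F₂ hF₁m hF₁deg hF₁₂ hFmap
  refine ⟨Localization.Away h, inferInstance, inferInstance, inferInstance,
    ⟨RingHom.ker φ₃.toRingHom, RingHom.ker_isPrime _, ?_⟩,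
    EtCoverMono.of_root R A n Q f hspl _ hfu ρ hρ⟩
  ext s
  rw [Ideal.mem_comap, RingHom.mem_ker, Ideal.mem_comap, ← hker]
  show φ₃ (algebraMap S (Localization.Away h) s) = 0 ↔ _
  rw [φ₃.commutes]
  rfl

end Main

end Groth.Agent.H96.RamSplit
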