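import Mathlib
import Groth.Agent.H77.RInv3

/-!
# Quadratic etale algebras with involution are Galois: `R ⊗[S] R ≃ R × R`
-/

set_option autoImplicit false
set_option linter.style.haveILetI false
universe u v w

open TensorProduct RInv

namespace Groth.Agent.H96.QuadGalois

variable {S : Type u} {R : Type v} [CommRing S] [CommRing R] [Algebra S R]

theorem isQuadEtale_baseChange (S' : Type w) [CommRing S'] [Algebra S S'] (hq : IsQuadEtale S R) :
    IsQuadEtale S' (S' ⊗[S] R) := by
  obtain ⟨h1, h2, h3, h4⟩ := hq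
  refine ⟨inferInstance, inferInstance, inferInstance, ?_⟩
  intro p
  haveI : Module.Flat S R := inferInstance
  rw [Module.rankAtStalk_baseChange, h4]

variable (lam : R ≃ₐ[S] R)

/-- The ideal generated by the `r - lam r` is the unit ideal. -/
theorem span_top (hlam : ∀ r, lam (lam r) = r) (hfix : IsFixedRing S R lam.toRingEquiv)
    (hq : IsQuadEtale S R) : Ideal.span (Set.range fun r : R => r - lam r) = ⊤ := by
  by_contra h
  obtain ⟨m, hm, hle⟩ := Ideal.exists_le_maximal _ h
  haveI := hm.isPrime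
  let p : Ideal S := m.comap (algebraMap S R)
  haveI : p.IsPrime := Ideal.comap_isPrime _ _
  have hQ : IsQuadEtale (Localization.AtPrime p) (Localization.AtPrime p ⊗[S] R) :=
    isQuadEtale_baseChange _ hq
  obtain ⟨r, r', m₀, h0⟩ := Groth.Agent.H77.exists_of_isQuadEtale_loc lam.toRingEquiv
    (Localization.AtPrime p) p.primeCompl (fun r => hlam r) hfix hQ
  have h1 : algebraMap S R m₀ ∈ m := by
    rw [← h0]
    exact Ideal.mul_mem_right _ _ (hle (Ideal.subset_span ⟨r, rfl⟩))
  exact m₀.2 h1

/-- The Galois map `a ⊗ b ↦ (a b, a lam(b))`. -/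
noncomputable def Phi : R ⊗[S] R →ₐ[R] R × R :=
  Algebra.TensorProduct.lift (Algebra.ofId R (R × R))
    (AlgHom.prod (AlgHom.id S R) lam.toAlgHom) (fun _ _ => Commute.all _ _)

@[simp] theorem Phi_tmul (a b : R) : Phi lam (a ⊗ₜ[S] b) = (a * b, a * lam b) := by
  simp [Phi, Algebra.ofId_apply, Prod.algebraMap_apply]

theorem Phi_surjective (htop : Ideal.span (Set.range fun r : R => r - lam r) = ⊤) :
    Function.Surjective (Phi lam) := by
  have key : ∀ x ∈ Ideal.span (Set.range fun r : R => r - lam r),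
      ∃ z, Phi lam z = ((0, x) : R × R) := by
    intro x hx
    induction hx using Submodule.span_induction with
    | mem x hx =>
      obtain ⟨r, rfl⟩ := hx
      refine ⟨r ⊗ₜ[S] 1 - 1 ⊗ₜ[S] r, ?_⟩
      rw [map_sub, Phi_tmul, Phi_tmul]
      simp
    | zero => exact ⟨0, by rw [map_zero]; rfl⟩
    | add x y _ _ hx hy =>
      obtain ⟨a, ha⟩ := hx
      obtain ⟨b, hb⟩ := hy
      exact ⟨a + b, by rw [map_add, ha, hb]; simp⟩
    | smul c x _ hx =>
      obtain ⟨a, ha⟩ := hx
      exact ⟨c • a, by rw [map_smul, ha]; ext <;> simp⟩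
  have h01 : ∃ z, Phi lam z = ((0, 1) : R × R) := key 1 (by rw [htop]; trivial)
  obtain ⟨z, hz⟩ := h01
  intro ⟨a, b⟩
  refine ⟨a • (1 - z) + b • z, ?_⟩
  rw [map_add, map_smul, map_smul, map_sub, map_one, hz]
  ext <;> simp

theorem Phi_bijective (hq : IsQuadEtale S R)
    (htop : Ideal.span (Set.range fun r : R => r - lam r) = ⊤) :
    Function.Bijective (Phi lam) := by
  obtain ⟨h1, h2, h3, h4⟩ := hq
  haveI : Module.Flat S R := inferInstance
  refine Module.bijective_of_surjective_of_rankAtStalk_eq (φ := (Phi lam).toLinearMap)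
    (Phi_surjective lam htop) ?_
  intro m hm
  haveI : Nontrivial R := ⟨⟨0, 1, fun h => hm.ne_top ((Ideal.eq_top_iff_one _).mpr (h ▸ m.zero_mem))⟩⟩
  rw [Module.rankAtStalk_baseChange, h4, Module.rankAtStalk_prod, Module.rankAtStalk_self]
  rfl

/-- The Galois isomorphism. -/
noncomputable def PhiE (hq : IsQuadEtale S R)
    (htop : Ideal.span (Set.range fun r : R => r - lam r) = ⊤) : R ⊗[S] R ≃ₐ[R] R × R :=
  AlgEquiv.ofBijective (Phi lam) (Phi_bijective lam hq htop)


section Idem
variable (hlam : ∀ r, lam (lam r) = r) (hq : IsQuadEtale S R)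
  (htop : Ideal.span (Set.range fun r : R => r - lam r) = ⊤)

/-- The separability idempotent, cutting out the diagonal. -/
noncomputable def e0 : R ⊗[S] R := (PhiE lam hq htop).symm (1, 0)

theorem Phi_e0 : Phi lam (e0 lam hq htop) = (1, 0) := (PhiE lam hq htop).apply_symm_apply _

include hq htop in
theorem Phi_injective : Function.Injective (Phi lam) := (Phi_bijective lam hq htop).1

theorem e0_idem : e0 lam hq htop * e0 lam hq htop = e0 lam hq htop := by
  apply Phi_injective lam hq htop
  rw [map_mul, Phi_e0]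
  ext <;> simp

theorem e0_mul (r : R) :
    e0 lam hq htop * ((1 : R) ⊗ₜ[S] r) = e0 lam hq htop * (r ⊗ₜ[S] (1 : R)) := by
  apply Phi_injective lam hq htop
  rw [map_mul, map_mul, Phi_e0, Phi_tmul, Phi_tmul]
  ext <;> simp

/-- `id ⊗ lam`. -/
noncomputable def idLam : R ⊗[S] R →ₐ[R] R ⊗[S] R :=
  Algebra.TensorProduct.map (AlgHom.id R R) lam.toAlgHom

@[simp] theorem idLam_tmul (a b : R) : idLam lam (a ⊗ₜ[S] b) = a ⊗ₜ[S] lam b := by
  simp [idLam]

include hlam in
theorem Phi_idLam (z : R ⊗[S] R) : Phi lam (idLam lam z) = (Phi lam z).swap := by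
  induction z using TensorProduct.induction_on with
  | zero => simp
  | tmul a b => rw [idLam_tmul, Phi_tmul, Phi_tmul, hlam]; rfl
  | add x y hx hy => rw [map_add, map_add, hx, hy, map_add]; rfl

include hlam in
theorem idLam_e0 : idLam lam (e0 lam hq htop) = 1 - e0 lam hq htop := by
  apply Phi_injective lam hq htop
  rw [Phi_idLam lam hlam, map_sub, map_one, Phi_e0]
  ext <;> simp

include hq in
theorem faithfullyFlat : Module.FaithfullyFlat S R := by
  obtain ⟨h1, h2, h3, h4⟩ := hq
  haveI : Module.Flat S R := inferInstance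
  apply Module.FaithfullyFlat.of_comap_surjective
  rw [← PrimeSpectrum.rankAtStalk_pos_iff_comap_surjective]
  intro p
  rw [h4]
  norm_num

theorem etale_prod : Algebra.Etale R (R × R) := by
  let E : (Fin 2 → R) ≃ₐ[R] R × R :=
    AlgEquiv.ofRingEquiv (f := RingEquiv.piFinTwo (fun _ => R)) (by intro r; rfl)
  exact Algebra.Etale.of_equiv E

include hq htop in
theorem etale : Algebra.Etale S R := by
  haveI : Module.FaithfullyFlat S R := faithfullyFlat hq
  haveI : Algebra.Etale R (R × R) := etale_prod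
  haveI : Algebra.Etale R (R ⊗[S] R) := Algebra.Etale.of_equiv (PhiE lam hq htop).symm
  exact Algebra.Etale.of_etale_tensorProduct_of_faithfullyFlat R

end Idem

end Groth.Agent.H96.QuadGalois
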