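import Mathlib
import Groth.Agent.H96.Spl
import Groth.Agent.H96.QuadGalois
import Groth.Agent.H96.Hyperbolic
import Groth.Agent.H96.AzSplitEt
import Groth.Agent.S19588

/-!
# The quadratic etale case: splitting an Azumaya algebra etale-locally on the fixed ring (helper96)
-/

set_option autoImplicit false
set_option linter.style.haveILetI false
set_option linter.unusedSectionVars false
universe u v w x

open TensorProduct

namespace Groth.Agent.H96.TwSplit

open Groth.Agent.H96.Spl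

section Tw

variable {S : Type u} {R : Type v} [CommRing S] [CommRing R] [Algebra S R]

/-- `T` with `R`-algebra structure twisted by `lam`. -/
def Tw (_lam : R ≃ₐ[S] R) (T : Type x) : Type x := T

variable (lam : R ≃ₐ[S] R) (T : Type x)

instance [CommRing T] : CommRing (Tw lam T) := inferInstanceAs (CommRing T)

instance [CommRing T] [Algebra R T] : Algebra R (Tw lam T) :=
  ((algebraMap R T).comp (lam : R →+* R)).toAlgebra

instance [CommRing T] [Algebra S T] : Algebra S (Tw lam T) := inferInstanceAs (Algebra S T)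

variable {lam T} in
/-- the underlying element. -/
def Tw.out (x : Tw lam T) : T := x

theorem algebraMap_tw [CommRing T] [Algebra R T] (r : R) :
    algebraMap R (Tw lam T) r = (algebraMap R T (lam r) : T) := rfl

instance [CommRing T] [Algebra S T] [Algebra R T] [IsScalarTower S R T] :
    IsScalarTower S R (Tw lam T) :=
  IsScalarTower.of_algebraMap_eq (fun s => by
    show algebraMap S T s = algebraMap R T (lam (algebraMap S R s))
    rw [lam.commutes, ← IsScalarTower.algebraMap_apply])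

end Tw

section Tower

variable {R : Type v} [CommRing R] {A : Type w} [Ring A] [Algebra R A] {n : ℕ}

theorem spl_of_tower (X : Type*) (Y : Type*) [CommRing X] [CommRing Y] [Algebra R X] [Algebra R Y]
    [Algebra X Y] [IsScalarTower R X Y]
    (φ : Y ⊗[X] (X ⊗[R] A) ≃ₐ[Y] Matrix (Fin n) (Fin n) Y) : Spl R A n Y :=
  ⟨(InvSplit.cancelBC R X Y Y A).symm.trans φ⟩

end Tower

section Psi

variable {S : Type u} {R : Type v} [CommRing S] [CommRing R] [Algebra S R]
  (lam : R ≃ₐ[S] R) {A : Type w} [Ring A] [Algebra R A] {n : ℕ}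

theorem splBC_of_split (T : Type x) [CommRing T] [Algebra S T] [Algebra R T]
    [IsScalarTower S R T] (e : T ⊗[S] R)
    (he_mul : ∀ r : R, e * ((1 : T) ⊗ₜ[S] r) = e * (algebraMap R T r ⊗ₜ[S] (1 : R)))
    (he_idem : e * e = e)
    (he_mul' : ∀ r : R, (1 - e) * ((1 : T) ⊗ₜ[S] r) =
      (1 - e) * (algebraMap R T (lam r) ⊗ₜ[S] (1 : R)))
    (h1 : Spl R A n T) (h2 : Spl R A n (Tw lam T)) : SplBC S R A n T := by
  have h12 : Spl R A n (T × Tw lam T) := Spl.prod h1 h2
  letI : Algebra R (T ⊗[S] R) := Algebra.TensorProduct.rightAlgebra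
  have hmulT : ∀ x x' : T, (x * x') ⊗ₜ[S] (1 : R) = (x ⊗ₜ[S] (1 : R)) * (x' ⊗ₜ[S] (1 : R)) := by
    intro x x'
    rw [Algebra.TensorProduct.tmul_mul_tmul, mul_one]
  let Ψ : T × Tw lam T →ₐ[R] T ⊗[S] R :=
    { toFun := fun xy => e * (xy.1 ⊗ₜ[S] (1 : R)) + (1 - e) * ((Tw.out xy.2) ⊗ₜ[S] (1 : R))
      map_one' := by
        show e * ((1 : T) ⊗ₜ[S] (1 : R)) + (1 - e) * ((1 : T) ⊗ₜ[S] (1 : R)) = 1
        rw [← Algebra.TensorProduct.one_def]
        ring
      map_mul' := by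
        intro xy xy'
        show e * ((xy.1 * xy'.1) ⊗ₜ[S] (1 : R)) +
          (1 - e) * (((Tw.out xy.2) * (Tw.out xy'.2)) ⊗ₜ[S] (1 : R)) =
          (e * (xy.1 ⊗ₜ[S] (1 : R)) + (1 - e) * ((Tw.out xy.2) ⊗ₜ[S] (1 : R))) *
          (e * (xy'.1 ⊗ₜ[S] (1 : R)) + (1 - e) * ((Tw.out xy'.2) ⊗ₜ[S] (1 : R)))
        rw [hmulT, hmulT]
        generalize (xy.1 ⊗ₜ[S] (1 : R) : T ⊗[S] R) = a
        generalize (xy'.1 ⊗ₜ[S] (1 : R) : T ⊗[S] R) = a'
        generalize ((Tw.out xy.2) ⊗ₜ[S] (1 : R) : T ⊗[S] R) = b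
        generalize ((Tw.out xy'.2) ⊗ₜ[S] (1 : R) : T ⊗[S] R) = b'
        linear_combination (-(a * a' - a * b' - b * a' + b * b')) * he_idem
      map_zero' := by
        show e * ((0 : T) ⊗ₜ[S] (1 : R)) + (1 - e) * ((0 : T) ⊗ₜ[S] (1 : R)) = 0
        rw [TensorProduct.zero_tmul, mul_zero, mul_zero, add_zero]
      map_add' := by
        intro xy xy'
        show e * ((xy.1 + xy'.1) ⊗ₜ[S] (1 : R)) +
          (1 - e) * (((Tw.out xy.2) + (Tw.out xy'.2)) ⊗ₜ[S] (1 : R)) =
          (e * (xy.1 ⊗ₜ[S] (1 : R)) + (1 - e) * ((Tw.out xy.2) ⊗ₜ[S] (1 : R))) +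
          (e * (xy'.1 ⊗ₜ[S] (1 : R)) + (1 - e) * ((Tw.out xy'.2) ⊗ₜ[S] (1 : R)))
        rw [TensorProduct.add_tmul, TensorProduct.add_tmul]
        ring
      commutes' := by
        intro r
        show e * ((algebraMap R T r) ⊗ₜ[S] (1 : R)) +
          (1 - e) * ((algebraMap R T (lam r)) ⊗ₜ[S] (1 : R)) = (1 : T) ⊗ₜ[S] r
        rw [← he_mul, ← he_mul']
        ring }
  exact of_algHom Ψ h12

end Psi

section QE

variable (S : Type u) (R : Type v) [CommRing S] [CommRing R] [Algebra S R]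
  (lam : R ≃ₐ[S] R) (hlam : ∀ r, lam (lam r) = r) (hfix : RInv.IsFixedRing S R lam.toRingEquiv)
  (hq : RInv.IsQuadEtale S R)
  (A : Type w) [Ring A] [Algebra R A] [IsAzumaya R A]
  (n : ℕ) (hrk : ∀ p : PrimeSpectrum R, Module.rankAtStalk (R := R) A p = n ^ 2)

include hlam hfix hq hrk in
/-- The quadratic etale case. -/
theorem qe_split : ∃ (T : Type v) (_ : CommRing T) (_ : Algebra S T) (_ : Algebra.Etale S T)
    (_ : Module.FaithfullyFlat S T), SplBC S R A n T := by
  have htop := QuadGalois.span_top lam hlam hfix hq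
  haveI : Algebra.Etale S R := QuadGalois.etale lam hq htop
  haveI : Module.FaithfullyFlat S R := QuadGalois.faithfullyFlat hq
  obtain ⟨T₁, _, _, het₁, hff₁, ⟨φ₁⟩⟩ := AzSplitEt.exists_splitting' R A n hrk
  -- the twisted algebra
  haveI : IsAzumaya (Tw lam T₁) (Tw lam T₁ ⊗[R] A) := Groth.Agent.S19588.result R (Tw lam T₁) A
  have hrk' : ∀ p : PrimeSpectrum (Tw lam T₁),
      Module.rankAtStalk (R := Tw lam T₁) (Tw lam T₁ ⊗[R] A) p = n ^ 2 := by
    intro p
    rw [Module.rankAtStalk_baseChange, hrk]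
  obtain ⟨T₂, _, alg12, het₂, hff₂, ⟨φ₂⟩⟩ :=
    AzSplitEt.exists_splitting' (Tw lam T₁) (Tw lam T₁ ⊗[R] A) n hrk'
  letI a12 : Algebra T₁ T₂ := alg12
  letI aR2 : Algebra R T₂ := ((algebraMap T₁ T₂).comp (algebraMap R T₁)).toAlgebra
  haveI : IsScalarTower R T₁ T₂ := IsScalarTower.of_algebraMap_eq (fun _ => rfl)
  letI aS2 : Algebra S T₂ := ((algebraMap R T₂).comp (algebraMap S R)).toAlgebra
  haveI : IsScalarTower S R T₂ := IsScalarTower.of_algebraMap_eq (fun _ => rfl)
  haveI : Algebra.Etale T₁ T₂ := het₂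
  haveI : Module.FaithfullyFlat T₁ T₂ := hff₂
  haveI : Algebra.Etale R T₂ := Algebra.Etale.comp R T₁ T₂
  haveI : Algebra.Etale S T₂ := Algebra.Etale.comp S R T₂
  haveI : Module.FaithfullyFlat R T₂ := Module.FaithfullyFlat.trans R T₁ T₂
  haveI : Module.FaithfullyFlat S T₂ := Module.FaithfullyFlat.trans S R T₂
  have h1 : Spl R A n T₂ := of_algHom (IsScalarTower.toAlgHom R T₁ T₂) ⟨φ₁⟩
  have h2 : Spl R A n (Tw lam T₂) := by
    letI : Algebra (Tw lam T₁) (Tw lam T₂) := alg12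
    haveI : IsScalarTower R (Tw lam T₁) (Tw lam T₂) :=
      IsScalarTower.of_algebraMap_eq (fun _ => rfl)
    exact spl_of_tower (Tw lam T₁) (Tw lam T₂) φ₂
  -- the idempotent
  let J : R ⊗[S] R →ₐ[R] T₂ ⊗[S] R :=
    Algebra.TensorProduct.map (Algebra.ofId R T₂) (AlgHom.id S R)
  have hJ : ∀ a b : R, J (a ⊗ₜ[S] b) = algebraMap R T₂ a ⊗ₜ[S] b := fun a b => by
    simp [J, Algebra.ofId_apply]
  let e : T₂ ⊗[S] R := J (QuadGalois.e0 lam hq htop)
  have he_mul : ∀ r : R, e * ((1 : T₂) ⊗ₜ[S] r) = e * (algebraMap R T₂ r ⊗ₜ[S] (1 : R)) := by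
    intro r
    have := congrArg J (QuadGalois.e0_mul lam hq htop r)
    rw [map_mul, map_mul, hJ, hJ, map_one] at this
    exact this
  have he_idem : e * e = e := by
    have := congrArg J (QuadGalois.e0_idem lam hq htop)
    rwa [map_mul] at this
  have hLTJ : ∀ z : R ⊗[S] R, Hyperbolic.LT T₂ lam (J z) = J (QuadGalois.idLam lam z) := by
    intro z
    induction z using TensorProduct.induction_on with
    | zero => simp
    | tmul a b => rw [hJ, Hyperbolic.LT_tmul, QuadGalois.idLam_tmul, hJ]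
    | add x y hx hy => rw [map_add, map_add, hx, hy, map_add, map_add]
  have he_lam : Hyperbolic.LT T₂ lam e = 1 - e := by
    rw [hLTJ, QuadGalois.idLam_e0 lam hlam hq htop, map_sub, map_one]
  have he_mul' : ∀ r : R, (1 - e) * ((1 : T₂) ⊗ₜ[S] r) =
      (1 - e) * (algebraMap R T₂ (lam r) ⊗ₜ[S] (1 : R)) := by
    intro r
    have := congrArg (Hyperbolic.LT T₂ lam) (he_mul (lam r))
    rw [map_mul, map_mul, he_lam, Hyperbolic.LT_tmul, Hyperbolic.LT_tmul, hlam, map_one] at this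
    exact this
  exact ⟨T₂, inferInstance, inferInstance, inferInstance, inferInstance,
    splBC_of_split lam T₂ e he_mul he_idem he_mul' h1 h2⟩

end QE

end Groth.Agent.H96.TwSplit
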