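import Mathlib
import Groth.Agent.H96.Spl
import Groth.Agent.H96.TwSplit
import Groth.Agent.H96.LocIsoEtShrink
import Groth.Agent.H77.RInv3

/-!
# Splitting an Azumaya algebra etale-locally on the fixed ring over the unramified locus (helper96)
-/

set_option autoImplicit false
set_option linter.style.haveILetI false
set_option linter.unusedSectionVars false
universe u v w

open TensorProduct

namespace Groth.Agent.H96.UnramSplit

attribute [local instance] Algebra.TensorProduct.rightAlgebra

open Groth.Agent.H77 Groth.Agent.H96.Spl Groth.Agent.H96.TwSplit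

variable (S : Type u) (R : Type v) [CommRing S] [CommRing R] [Algebra S R]
  (lam : R ≃ₐ[S] R) (hlam : ∀ r, lam (lam r) = r) (hfix : RInv.IsFixedRing S R lam.toRingEquiv)
  (A : Type w) [Ring A] [Algebra R A] [IsAzumaya R A]
  (n : ℕ) (hrk : ∀ p : PrimeSpectrum R, Module.rankAtStalk (R := R) A p = n ^ 2)

include hlam hfix hrk in
theorem unram_split (r₀ : R) (m : S)
    (hm : (r₀ - lam r₀) * (r₀ - lam r₀) = algebraMap S R m) :
    ∃ (S' : Type u) (_ : CommRing S') (_ : Algebra S S'), Algebra.Etale S S' ∧
      Module.Flat S S' ∧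
      (∀ P : PrimeSpectrum S, m ∉ P.asIdeal →
        ∃ Q : PrimeSpectrum S', Q.comap (algebraMap S S') = P) ∧
      SplBC S R A n S' := by
  -- localize
  have hunit : IsUnit (algebraMap S (Localization.Away m) m) :=
    IsLocalization.Away.algebraMap_isUnit m
  have hq : RInv.IsQuadEtale (Localization.Away m) (Localization.Away m ⊗[S] R) :=
    isQuadEtale_of_exists lam.toRingEquiv (Localization.Away m) (fun r => hlam r) hfix r₀
      (r₀ - lam r₀) m hunit hm
  have hfixm : RInv.IsFixedRing (Localization.Away m) (Localization.Away m ⊗[S] R)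
      (lamTAlg lam.toRingEquiv (Localization.Away m) hfix).toRingEquiv :=
    isFixedRing_baseChange lam.toRingEquiv (Localization.Away m) hfix
  have hlamm : ∀ z, lamTAlg lam.toRingEquiv (Localization.Away m) hfix
      (lamTAlg lam.toRingEquiv (Localization.Away m) hfix z) = z :=
    lamT_involutive lam.toRingEquiv (Localization.Away m) (fun r => hlam r) hfix
  haveI : IsAzumaya (Localization.Away m ⊗[S] R) ((Localization.Away m ⊗[S] R) ⊗[R] A) :=
    Groth.Agent.S19588.result R (Localization.Away m ⊗[S] R) A
  have hrkm : ∀ p : PrimeSpectrum (Localization.Away m ⊗[S] R),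
      Module.rankAtStalk (R := Localization.Away m ⊗[S] R)
        ((Localization.Away m ⊗[S] R) ⊗[R] A) p = n ^ 2 := by
    intro p
    rw [Module.rankAtStalk_baseChange, hrk]
  have key := qe_split (Localization.Away m)
    (Localization.Away m ⊗[S] R) (lamTAlg lam.toRingEquiv (Localization.Away m) hfix) hlamm hfixm hq
    ((Localization.Away m ⊗[S] R) ⊗[R] A) n hrkm
  obtain ⟨T, _, _, hetT, hffT, hθ⟩ := key
  have hθ' : Spl (Localization.Away m ⊗[S] R) ((Localization.Away m ⊗[S] R) ⊗[R] A) n
      (T ⊗[Localization.Away m] (Localization.Away m ⊗[S] R)) := hθ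
  obtain ⟨θ⟩ := hθ'
  -- `X := T ⊗ Rm` as an `R`-algebra splits `A`
  letI algRX : Algebra R (T ⊗[Localization.Away m] (Localization.Away m ⊗[S] R)) :=
    ((algebraMap (Localization.Away m ⊗[S] R)
      (T ⊗[Localization.Away m] (Localization.Away m ⊗[S] R))).comp
      (algebraMap R (Localization.Away m ⊗[S] R))).toAlgebra
  haveI : IsScalarTower R (Localization.Away m ⊗[S] R)
      (T ⊗[Localization.Away m] (Localization.Away m ⊗[S] R)) :=
    IsScalarTower.of_algebraMap_eq (fun _ => rfl)
  have hX : Spl R A n (T ⊗[Localization.Away m] (Localization.Away m ⊗[S] R)) :=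
    spl_of_tower (Localization.Away m ⊗[S] R) _ θ
  -- structures on `T` over `S`
  letI algST : Algebra S T :=
    ((algebraMap (Localization.Away m) T).comp (algebraMap S (Localization.Away m))).toAlgebra
  haveI : IsScalarTower S (Localization.Away m) T := IsScalarTower.of_algebraMap_eq (fun _ => rfl)
  haveI : Algebra.Etale S T := Algebra.Etale.comp S (Localization.Away m) T
  haveI : Module.Flat S T := Module.Flat.trans S (Localization.Away m) T
  haveI : Small.{u} T := LocIsoEtShrink.small_of_finiteType (S := S) T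
  let σ : Shrink.{u} T ≃ₐ[S] T := Shrink.algEquiv S T
  haveI : Algebra.Etale S (Shrink.{u} T) := Algebra.Etale.of_equiv σ.symm
  haveI : Module.Flat S (Shrink.{u} T) := Module.Flat.of_linearEquiv σ.toLinearEquiv
  refine ⟨Shrink.{u} T, inferInstance, inferInstance, inferInstance, inferInstance, ?_, ?_⟩
  · intro P hP
    have hdisj : Disjoint (Submonoid.powers m : Set S) (P.asIdeal : Set S) := by
      rw [Set.disjoint_left]
      rintro x ⟨k, rfl⟩ hx
      exact hP (P.isPrime.mem_of_pow_mem k hx)
    let Q₀ : Ideal (Localization.Away m) :=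
      Ideal.map (algebraMap S (Localization.Away m)) P.asIdeal
    have hQ₀ : Q₀.IsPrime :=
      IsLocalization.isPrime_of_isPrime_disjoint (Submonoid.powers m) _ _ P.isPrime hdisj
    have hQ₀c : Q₀.comap (algebraMap S (Localization.Away m)) = P.asIdeal :=
      IsLocalization.under_map_of_isPrime_disjoint (Submonoid.powers m) _ P.isPrime hdisj
    obtain ⟨Q, hQ⟩ := PrimeSpectrum.comap_surjective_of_faithfullyFlat
      (A := Localization.Away m) (B := T) ⟨Q₀, hQ₀⟩
    refine ⟨⟨Q.asIdeal.comap (σ : Shrink.{u} T →+* T), Ideal.comap_isPrime _ _⟩, ?_⟩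
    apply PrimeSpectrum.ext
    show (Q.asIdeal.comap (σ : Shrink.{u} T →+* T)).comap (algebraMap S (Shrink.{u} T)) = P.asIdeal
    rw [Ideal.comap_comap]
    have h1 : (σ : Shrink.{u} T →+* T).comp (algebraMap S (Shrink.{u} T)) = algebraMap S T := by
      ext x
      exact σ.commutes x
    rw [h1, IsScalarTower.algebraMap_eq S (Localization.Away m) T, ← Ideal.comap_comap]
    have : Q.asIdeal.comap (algebraMap (Localization.Away m) T) = Q₀ :=
      congrArg PrimeSpectrum.asIdeal hQ
    rw [this, hQ₀c]
  · -- the `R`-algebra map `X → Shrink T ⊗ R`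
    let c1 : T ⊗[Localization.Away m] (Localization.Away m ⊗[S] R) ≃ₐ[T] T ⊗[S] R :=
      Algebra.TensorProduct.cancelBaseChange S (Localization.Away m) T T R
    let c2 : T ⊗[S] R ≃ₐ[S] Shrink.{u} T ⊗[S] R :=
      Algebra.TensorProduct.congr σ.symm (AlgEquiv.refl : R ≃ₐ[S] R)
    let Ξ : T ⊗[Localization.Away m] (Localization.Away m ⊗[S] R) →ₐ[R] Shrink.{u} T ⊗[S] R :=
      { toRingHom := (c2 : T ⊗[S] R →+* Shrink.{u} T ⊗[S] R).comp
          (c1 : T ⊗[Localization.Away m] (Localization.Away m ⊗[S] R) →+* T ⊗[S] R)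
        commutes' := fun r => by
          show c2 (c1 ((1 : T) ⊗ₜ[Localization.Away m] ((1 : Localization.Away m) ⊗ₜ[S] r))) =
            (1 : Shrink.{u} T) ⊗ₜ[S] r
          rw [Algebra.TensorProduct.cancelBaseChange_tmul, one_smul,
            Algebra.TensorProduct.congr_apply, Algebra.TensorProduct.map_tmul]
          simp }
    exact of_algHom Ξ hX

end Groth.Agent.H96.UnramSplit
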