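import Mathlib
import Groth.Agent.H96.RamPres
import Groth.Agent.H96.RamLocal
import Groth.Agent.H96.MatAut
import Groth.Agent.H96.AzInvUnitary
import Groth.Agent.S17356

/-!
# Existence of normalised matrix presentations etale-locally (ramified case) (helper96)
-/

set_option autoImplicit false
set_option linter.unusedSectionVars false
set_option linter.style.haveILetI false
universe u v w x y

open TensorProduct Matrix

namespace Groth.Agent.H96.RamExist

open Groth.Agent.H96.SqrtRing Groth.Agent.H96.RamPres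

section Sqrts

variable {S : Type u} [CommRing S]
  (hsq : ∀ (S₁ : Type u) [CommRing S₁] [Algebra S S₁] [Algebra.Etale S S₁] (x : S₁ˣ),
      ∃ (S₂ : Type u) (_ : CommRing S₂) (_ : Algebra S₁ S₂) (_ : Algebra.Etale S₁ S₂)
        (_ : Module.FaithfullyFlat S₁ S₂) (y : S₂), y * y = algebraMap S₁ S₂ ↑x)

include hsq in
/-- Finitely many units acquire square roots on an etale faithfully flat extension. -/
theorem exists_sqrts : ∀ (k : ℕ) (S₁ : Type u) [CommRing S₁] [Algebra S S₁] [Algebra.Etale S S₁]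
    (d : Fin k → S₁ˣ),
    ∃ (S₂ : Type u) (_ : CommRing S₂) (_ : Algebra S₁ S₂) (_ : Algebra.Etale S₁ S₂)
      (_ : Module.FaithfullyFlat S₁ S₂), ∀ i, ∃ y : S₂, y * y = algebraMap S₁ S₂ ↑(d i) := by
  intro k
  induction k with
  | zero =>
    intro S₁ _ _ _ d
    exact ⟨S₁, inferInstance, inferInstance, inferInstance, inferInstance, fun i => Fin.elim0 i⟩
  | succ k ih =>
    intro S₁ _ _ _ d
    obtain ⟨S₂, _, _, het₂, hff₂, hy⟩ := ih S₁ (fun i => d i.castSucc)
    letI : Algebra S S₂ := ((algebraMap S₁ S₂).comp (algebraMap S S₁)).toAlgebra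
    haveI : IsScalarTower S S₁ S₂ := IsScalarTower.of_algebraMap_eq (fun _ => rfl)
    haveI : Algebra.Etale S S₂ := Algebra.Etale.comp S S₁ S₂
    obtain ⟨S₃, _, _, het₃, hff₃, y, hyy⟩ := hsq S₂ (Units.map (algebraMap S₁ S₂).toMonoidHom
      (d (Fin.last k)))
    letI : Algebra S₁ S₃ := ((algebraMap S₂ S₃).comp (algebraMap S₁ S₂)).toAlgebra
    haveI : IsScalarTower S₁ S₂ S₃ := IsScalarTower.of_algebraMap_eq (fun _ => rfl)
    haveI : Algebra.Etale S₁ S₃ := Algebra.Etale.comp S₁ S₂ S₃
    haveI : Module.FaithfullyFlat S₁ S₃ := Module.FaithfullyFlat.trans S₁ S₂ S₃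
    refine ⟨S₃, inferInstance, inferInstance, inferInstance, inferInstance, fun i => ?_⟩
    refine Fin.lastCases ?_ (fun j => ?_) i
    · exact ⟨y, hyy⟩
    · obtain ⟨z, hz⟩ := hy j
      refine ⟨algebraMap S₂ S₃ z, ?_⟩
      rw [← map_mul, hz]
      rfl

end Sqrts

section U0

attribute [local instance] Algebra.TensorProduct.rightAlgebra

open AzInv

variable {S : Type u} {R : Type v} [CommRing S] [CommRing R] [Algebra S R] (lam : R ≃ₐ[S] R)
  (hlam : ∀ r, lam (lam r) = r)
  {A : Type w} [Ring A] [Algebra S A] [Algebra R A] [IsScalarTower S R A] {n : ℕ}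
  (t : AzInv.LamInv R A lam) (S' : Type x) [CommRing S'] [Algebra S S']

/-- The base change of the involution of `R` to `S' ⊗[S] R`. -/
noncomputable abbrev lamBC : (S' ⊗[S] R) ≃ₐ[S'] (S' ⊗[S] R) :=
  Algebra.TensorProduct.congr (AlgEquiv.refl : S' ≃ₐ[S'] S') lam

theorem central_tmul (r : R) (z : S' ⊗[S] A) :
    z * ((1 : S') ⊗ₜ[S] algebraMap R A r) = ((1 : S') ⊗ₜ[S] algebraMap R A r) * z := by
  induction z using TensorProduct.induction_on with
  | zero => simp
  | tmul x' b =>
    rw [Algebra.TensorProduct.tmul_mul_tmul, Algebra.TensorProduct.tmul_mul_tmul,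
      mul_one, one_mul, Algebra.commutes]
  | add y₁ y₂ h₁ h₂ => rw [mul_add, add_mul, h₁, h₂]

include hlam in
theorem exists_u0
    (θ : (S' ⊗[S] R) ⊗[R] A ≃ₐ[S' ⊗[S] R] Matrix (Fin n) (Fin n) (S' ⊗[S] R))
    (q : Ideal (S' ⊗[S] R)) [q.IsPrime] :
    ∃ (u₀ : Matrix (Fin n) (Fin n) (S' ⊗[S] R)) (ε₀ : S' ⊗[S] R), u₀.det ∉ q ∧
      (u₀.det ^ 2) • (u₀.map (lamBC lam S'))ᵀ = ε₀ • u₀ ∧ HPres S lam t S' u₀ := by
  classical
  obtain ⟨f, hf1, hf2⟩ := convert' S S' θ
  set τ := tauD R lam S' with hτ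
  have hττ : ∀ z, τ (τ z) = z := RamLocal.tauD_invol lam hlam S'
  set μT : Matrix (Fin n) (Fin n) (S' ⊗[S] R) → Matrix (Fin n) (Fin n) (S' ⊗[S] R) :=
    fun M => (M.map τ)ᵀ with hμT
  have hμmul : ∀ M N, μT (M * N) = μT N * μT M := by
    intro M N
    simp only [hμT]
    rw [Matrix.map_mul, Matrix.transpose_mul]
  have hμμ : ∀ M, μT (μT M) = M := by
    intro M
    ext i j
    simp [hμT, hττ]
  have hμadd : ∀ M N, μT (M + N) = μT M + μT N := by
    intro M N
    ext i j
    simp [hμT]
  have hμsmul : ∀ (y : S' ⊗[S] R) M, μT (y • M) = τ y • μT M := by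
    intro y M
    ext i j
    simp [hμT]
  have hμone : μT 1 = 1 := by
    ext i j
    simp only [hμT, Matrix.transpose_apply, Matrix.map_apply, Matrix.one_apply]
    split_ifs with h1 h3 h3
    · simp
    · exact absurd h1.symm h3
    · exact absurd h3.symm h1
    · simp
  set τ₀ : Matrix (Fin n) (Fin n) (S' ⊗[S] R) → Matrix (Fin n) (Fin n) (S' ⊗[S] R) :=
    fun x => f (t.bc S lam S' (f.symm x)) with hτ₀
  have hτ₀mul : ∀ x y, τ₀ (x * y) = τ₀ y * τ₀ x := by
    intro x y
    simp only [hτ₀]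
    rw [map_mul, AzInvUnitary.bc_mul, map_mul]
  have hτ₀τ₀ : ∀ x, τ₀ (τ₀ x) = x := by
    intro x
    simp only [hτ₀]
    rw [AlgEquiv.symm_apply_apply, AzInvUnitary.bc_bc, AlgEquiv.apply_symm_apply]
  have hτ₀add : ∀ x y, τ₀ (x + y) = τ₀ x + τ₀ y := by
    intro x y
    simp only [hτ₀]
    rw [map_add, map_add, map_add]
  have hτ₀one : τ₀ 1 = 1 := by
    simp only [hτ₀]
    rw [map_one, AzInvUnitary.bc_one, map_one]
  have hτ₀zero : τ₀ 0 = 0 := by
    simp only [hτ₀]
    rw [map_zero, map_zero, map_zero]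
  have hτ₀s : ∀ (s : S') x, τ₀ (s • x) = s • τ₀ x := by
    intro s x
    simp only [hτ₀]
    rw [map_smul, map_smul, map_smul]
  have hfsymm : ∀ (r : R) x, f.symm (((1 : S') ⊗ₜ[S] r : S' ⊗[S] R) • x) =
      ((1 : S') ⊗ₜ[S] algebraMap R A r) * f.symm x := by
    intro r x
    rw [AlgEquiv.symm_apply_eq, hf1, AlgEquiv.apply_symm_apply, Matrix.scalar_apply,
      ← Matrix.smul_eq_diagonal_mul]
  have hτ₀r : ∀ (r : R) x, τ₀ (((1 : S') ⊗ₜ[S] r : S' ⊗[S] R) • x) =
      ((1 : S') ⊗ₜ[S] lam r : S' ⊗[S] R) • τ₀ x := by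
    intro r x
    simp only [hτ₀]
    rw [hfsymm, AzInvUnitary.bc_mul, AzInv.LamInv.bc_tmul, t.map_algebraMap, central_tmul, hf1,
      Matrix.scalar_apply, ← Matrix.smul_eq_diagonal_mul]
  have hτ₀smul : ∀ (y : S' ⊗[S] R) x, τ₀ (y • x) = τ y • τ₀ x := by
    intro y x
    induction y using TensorProduct.induction_on with
    | zero => rw [zero_smul, map_zero, zero_smul, hτ₀zero]
    | tmul s r =>
      have e1 : (s ⊗ₜ[S] r : S' ⊗[S] R) = s • ((1 : S') ⊗ₜ[S] r) := by
        rw [TensorProduct.smul_tmul', smul_eq_mul, mul_one]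
      have e2 : τ (s ⊗ₜ[S] r) = s • ((1 : S') ⊗ₜ[S] lam r : S' ⊗[S] R) := by
        rw [hτ, tauD_tmul, TensorProduct.smul_tmul', smul_eq_mul, mul_one]
      rw [e1, smul_assoc, hτ₀s, hτ₀r, ← smul_assoc, ← e1, e2]
    | add y₁ y₂ h₁ h₂ => rw [add_smul, hτ₀add, h₁, h₂, map_add, add_smul]
  let ψ : Matrix (Fin n) (Fin n) (S' ⊗[S] R) ≃ₐ[S' ⊗[S] R] Matrix (Fin n) (Fin n) (S' ⊗[S] R) :=
    { toFun := fun N => τ₀ (μT N)
      invFun := fun N => μT (τ₀ N)
      left_inv := fun N => by
        show μT (τ₀ (τ₀ (μT N))) = N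
        rw [hτ₀τ₀, hμμ]
      right_inv := fun N => by
        show τ₀ (μT (μT (τ₀ N))) = N
        rw [hμμ, hτ₀τ₀]
      map_mul' := fun M N => by
        show τ₀ (μT (M * N)) = τ₀ (μT M) * τ₀ (μT N)
        rw [hμmul, hτ₀mul]
      map_add' := fun M N => by
        show τ₀ (μT (M + N)) = τ₀ (μT M) + τ₀ (μT N)
        rw [hμadd, hτ₀add]
      commutes' := fun y => by
        show τ₀ (μT (algebraMap _ _ y)) = algebraMap _ _ y
        rw [Algebra.algebraMap_eq_smul_one, hμsmul, hμone, hτ₀smul, hττ, hτ₀one] }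
  have hψ : ∀ N, ψ N = τ₀ (μT N) := fun N => rfl
  obtain ⟨u₀, hdet, hconj⟩ := MatAut.exists_conj ψ q
  have hss : ∀ x, τ₀ x * u₀ = u₀ * μT x := by
    intro x
    have := hconj (μT x)
    rwa [hψ, hμμ] at this
  have hs : ∀ y, τ₀ y * μT u₀ = μT u₀ * μT y := by
    intro y
    have h1 := hss (τ₀ y)
    rw [hτ₀τ₀] at h1
    have h3 : μT (y * u₀) = μT (u₀ * μT (τ₀ y)) := by rw [h1]
    rw [hμmul, hμmul, hμμ] at h3
    exact h3.symm
  set D := u₀.det with hD
  set c₀ := μT u₀ * u₀.adjugate with hc₀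
  have hcen : ∀ z, (D • c₀) * z = z * (D • c₀) := by
    intro z
    obtain ⟨y, rfl⟩ : ∃ y, z = τ₀ y := ⟨τ₀ z, (hτ₀τ₀ z).symm⟩
    have key : c₀ * τ₀ y * (u₀ * u₀.adjugate) = D • (τ₀ y * c₀) := by
      calc c₀ * τ₀ y * (u₀ * u₀.adjugate)
          = μT u₀ * u₀.adjugate * (τ₀ y * u₀) * u₀.adjugate := by
            simp only [hc₀, Matrix.mul_assoc]
        _ = μT u₀ * (u₀.adjugate * u₀) * μT y * u₀.adjugate := by
            rw [hss]; simp only [Matrix.mul_assoc]
        _ = D • (μT u₀ * μT y * u₀.adjugate) := by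
            rw [Matrix.adjugate_mul]
            simp only [Matrix.mul_smul, Matrix.smul_mul, Matrix.mul_one]
            rfl
        _ = D • (τ₀ y * c₀) := by
            rw [← hs, hc₀]; simp only [Matrix.mul_assoc]
    rw [Matrix.mul_adjugate, Matrix.mul_smul, Matrix.mul_one] at key
    rw [Matrix.smul_mul, key, Matrix.mul_smul]
  obtain ⟨ε₀, hε₀⟩ := Matrix.mem_range_scalar_iff_commute_single'.mpr
    (fun i j => (hcen (Matrix.single i j 1)).symm)
  have hε₀' : D • c₀ = ε₀ • (1 : Matrix (Fin n) (Fin n) (S' ⊗[S] R)) := by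
    rw [← hε₀, Matrix.scalar_apply, ← Matrix.smul_one_eq_diagonal]
  refine ⟨u₀, ε₀, hdet, ?_, θ, fun a => ?_⟩
  · have e1 : (u₀.map (lamBC lam S'))ᵀ = μT u₀ := by
      ext i j
      simp only [hμT, Matrix.transpose_apply, Matrix.map_apply]
      exact (tauD_eq R lam S' _).symm
    rw [e1]
    calc (D ^ 2) • μT u₀ = D • (μT u₀ * (u₀.adjugate * u₀)) := by
          rw [Matrix.adjugate_mul, Matrix.mul_smul, Matrix.mul_one, smul_smul, pow_two]
      _ = (D • c₀) * u₀ := by rw [hc₀, Matrix.smul_mul, Matrix.mul_assoc]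
      _ = ε₀ • u₀ := by rw [hε₀', Matrix.smul_mul, Matrix.one_mul]
  · have e1 : ∀ b : A, f ((1 : S') ⊗ₜ[S] b) = θ (1 ⊗ₜ[R] b) := by
      intro b
      rw [hf2, ← Algebra.TensorProduct.one_def]
    have e2 : τ₀ (θ (1 ⊗ₜ[R] a)) = θ (1 ⊗ₜ[R] t a) := by
      simp only [hτ₀]
      rw [← e1 a, AlgEquiv.symm_apply_apply, AzInv.LamInv.bc_tmul, e1]
    rw [← e2]
    exact hss _

end U0

section SpreadApply

variable {S : Type u} {R : Type v} [CommRing S] [CommRing R] [Algebra S R] (lam : R ≃ₐ[S] R)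
  {n : ℕ} (S' : Type u) [CommRing S'] [Algebra S S']
  (S₂ : Type u) [CommRing S₂] [Algebra S S₂] [Algebra S' S₂] [IsScalarTower S S' S₂]

theorem apply_spread (h₀ h₀' : Matrix (Fin n) (Fin n) (S' ⊗[S] R)) (m : S')
    (hsp : RamLocal.Spread.{u, max u v, max u v} (lamBC lam S') h₀ h₀' m)
    (hm : IsUnit (algebraMap S' S₂ m)) :
    ∃ v' : Matrix (Fin n) (Fin n) (S₂ ⊗[S] R), IsUnit v' ∧
      (v'.map (tauD R lam S₂))ᵀ * h₀.map (tensMap R (IsScalarTower.toAlgHom S S' S₂)) * v' =
        h₀'.map (tensMap R (IsScalarTower.toAlgHom S S' S₂)) := by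
  let τ' : S₂ ⊗[S] R →ₐ[S'] S₂ ⊗[S] R :=
    Algebra.TensorProduct.map (AlgHom.id S' S₂) lam.toAlgHom
  let ρ : S' ⊗[S] R →ₐ[S'] S₂ ⊗[S] R :=
    Algebra.TensorProduct.map (Algebra.ofId S' S₂) (AlgHom.id S R)
  have hτ' : ∀ z, τ' z = tauD R lam S₂ z := by
    intro z
    induction z using TensorProduct.induction_on with
    | zero => simp
    | tmul a b => simp [τ']
    | add z₁ z₂ h₁ h₂ => rw [map_add, map_add, h₁, h₂]
  have hρ : ∀ z, ρ z = tensMap R (IsScalarTower.toAlgHom S S' S₂) z := by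
    intro z
    induction z using TensorProduct.induction_on with
    | zero => simp
    | tmul a b => simp [ρ, Algebra.ofId_apply]
    | add z₁ z₂ h₁ h₂ => rw [map_add, map_add, h₁, h₂]
  have hcomp : ρ.comp (lamBC lam S').toAlgHom = τ'.comp ρ := by
    apply AlgHom.ext
    intro z
    induction z using TensorProduct.induction_on with
    | zero => simp
    | tmul a b => simp [ρ, τ']
    | add z₁ z₂ h₁ h₂ => rw [map_add, map_add, h₁, h₂]
  have hunit : IsUnit (algebraMap S' (S₂ ⊗[S] R) m) := by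
    rw [Algebra.TensorProduct.algebraMap_apply]
    exact hm.map (Algebra.TensorProduct.includeLeft : S₂ →ₐ[S] S₂ ⊗[S] R)
  obtain ⟨v', hv', heq⟩ := hsp (S₂ ⊗[S] R) τ' ρ hcomp hunit
  refine ⟨v', hv', ?_⟩
  have e1 : v'.map τ' = v'.map (tauD R lam S₂) := by
    ext i j
    exact hτ' _
  have e2 : ∀ M : Matrix (Fin n) (Fin n) (S' ⊗[S] R),
      M.map ρ = M.map (tensMap R (IsScalarTower.toAlgHom S S' S₂)) := by
    intro M
    ext i j
    exact hρ _
  rw [← e1, ← e2, ← e2]
  exact heq

end SpreadApply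

section Finish

attribute [local instance] Algebra.TensorProduct.rightAlgebra

variable {S : Type u} {R : Type v} [CommRing S] [CommRing R] [Algebra S R] (lam : R ≃ₐ[S] R)
  (hlam : ∀ r, lam (lam r) = r)
  {A : Type w} [Ring A] [Algebra R A] {n : ℕ} (t : A → A)
  (S' : Type u) [CommRing S'] [Algebra S S']
  (S₂ : Type u) [CommRing S₂] [Algebra S S₂] [Algebra S' S₂] [IsScalarTower S S' S₂]

include hlam in
theorem finish (h₀ h₀' : Matrix (Fin n) (Fin n) (S' ⊗[S] R)) (m : S')
    (H : HPres S lam t S' h₀)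
    (hsp : RamLocal.Spread.{u, max u v, max u v} (lamBC lam S') h₀ h₀' m)
    (hm : IsUnit (algebraMap S' S₂ m))
    (W : Matrix (Fin n) (Fin n) (S₂ ⊗[S] R)) (hW : IsUnit W)
    (c : Matrix (Fin n) (Fin n) (S₂ ⊗[S] R)) (hc : IsUnit c)
    (hcW : (c.map (tauD R lam S₂))ᵀ * h₀'.map (tensMap R (IsScalarTower.toAlgHom S S' S₂)) * c = W) :
    HPres S lam t S₂ W := by
  obtain ⟨v', hv', heq⟩ := apply_spread lam S' S₂ h₀ h₀' m hsp hm
  have H₂ := H.map lam t (IsScalarTower.toAlgHom S S' S₂)
  refine H₂.cong lam t (RamLocal.tauD_invol lam hlam S₂) (v' * c) (hv'.mul hc) hW ?_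
  rw [Matrix.map_mul, Matrix.transpose_mul, ← hcW, ← heq]
  simp only [Matrix.mul_assoc]

end Finish

theorem exists_prime_away {T : Type*} [CommRing T] (g : T) (P : PrimeSpectrum T)
    (hg : g ∉ P.asIdeal) :
    ∃ Q : PrimeSpectrum (Localization.Away g), Q.comap (algebraMap T (Localization.Away g)) = P := by
  have hdisj : Disjoint (Submonoid.powers g : Set T) (P.asIdeal : Set T) := by
    rw [Set.disjoint_left]
    rintro x ⟨k, rfl⟩ hx
    exact hg (P.isPrime.mem_of_pow_mem k hx)
  let Q : Ideal (Localization.Away g) := Ideal.map (algebraMap T (Localization.Away g)) P.asIdeal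
  have hQ : Q.IsPrime :=
    IsLocalization.isPrime_of_isPrime_disjoint (Submonoid.powers g) _ _ P.isPrime hdisj
  have hQc : Q.comap (algebraMap T (Localization.Away g)) = P.asIdeal :=
    IsLocalization.under_map_of_isPrime_disjoint (Submonoid.powers g) _ P.isPrime hdisj
  exact ⟨⟨Q, hQ⟩, PrimeSpectrum.ext hQc⟩

section Main

attribute [local instance] Algebra.TensorProduct.rightAlgebra

open AzInv

variable (S : Type u) (R : Type v) [CommRing S] [CommRing R] [Algebra S R] (lam : R ≃ₐ[S] R)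
  (hlam : ∀ r, lam (lam r) = r) (hfix : RInv.IsFixedRing S R lam.toRingEquiv)
  (hsq : ∀ (S₁ : Type u) [CommRing S₁] [Algebra S S₁] [Algebra.Etale S S₁] (x : S₁ˣ),
      ∃ (S₂ : Type u) (_ : CommRing S₂) (_ : Algebra S₁ S₂) (_ : Algebra.Etale S₁ S₂)
        (_ : Module.FaithfullyFlat S₁ S₂) (y : S₂), y * y = algebraMap S₁ S₂ ↑x)
  (h2 : IsUnit (2 : S)) (hnil : ∀ r : R, IsNilpotent (r - lam r))
  (A : Type w) [Ring A] [Algebra S A] [Algebra R A] [IsScalarTower S R A] [IsAzumaya R A]
  (n : ℕ) (hn : 0 < n) (hrk : ∀ p : PrimeSpectrum R, Module.rankAtStalk (R := R) A p = n ^ 2)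
  (t : AzInv.LamInv R A lam)

include hlam hfix hsq h2 hnil hn hrk in
theorem exists_pres (J : Matrix (Fin n) (Fin n) S) (hJ : Even n → IsUnit J ∧ Jᵀ = -J)
    (p : PrimeSpectrum S) :
    ∃ (S'' : Type u) (_ : CommRing S'') (_ : Algebra S S''), Algebra.Etale S S'' ∧
      p ∈ Set.range (PrimeSpectrum.comap (algebraMap S S'')) ∧
      (HPres S lam t S'' ((1 : Matrix (Fin n) (Fin n) R).map
          (Algebra.TensorProduct.includeRight : R →ₐ[S] S'' ⊗[S] R)) ∨
        (Even n ∧ HPres S lam t S'' ((J.map (algebraMap S R)).map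
          (Algebra.TensorProduct.includeRight : R →ₐ[S] S'' ⊗[S] R)))) := by
  classical
  obtain ⟨S', _, _, het, hff, ⟨θ⟩⟩ :=
    Groth.Agent.S17356.exists_cover S R lam hlam hfix A n hn hrk
  haveI := het
  haveI := hff
  obtain ⟨p', hp'⟩ := PrimeSpectrum.comap_surjective_of_faithfullyFlat (A := S) (B := S') p
  -- the ring with involution `(S', S' ⊗ R)`
  have hfix' : RInv.IsFixedRing S' (S' ⊗[S] R) (lamBC lam S').toRingEquiv := by
    have h := Groth.Agent.H77.isFixedRing_baseChange lam.toRingEquiv S' hfix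
    refine ⟨h.1, fun z => ?_⟩
    rw [← h.2 z, RamLocal.lamT_eq]
    show lamBC lam S' z = z ↔ _
    rw [← tauD_eq]
  have hlam' : ∀ z, lamBC lam S' (lamBC lam S' z) = z := by
    intro z
    rw [← tauD_eq, ← tauD_eq, RamLocal.tauD_invol lam hlam]
  have hnil' : ∀ z : S' ⊗[S] R, IsNilpotent (z - lamBC lam S' z) := by
    intro z
    rw [← tauD_eq]
    exact RamLocal.nil_tauD lam S' hnil z
  have h2' : IsUnit (2 : S') := by
    have := h2.map (algebraMap S S')
    rwa [map_ofNat] at this
  haveI hint : Algebra.IsIntegral S' (S' ⊗[S] R) :=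
    Groth.Agent.S17356.isIntegral S' (S' ⊗[S] R) (lamBC lam S') hlam' hfix'
  obtain ⟨q', -, hq', hq'p⟩ := Ideal.exists_ideal_over_prime_of_isIntegral p'.asIdeal
    (⊥ : Ideal (S' ⊗[S] R)) (by
      intro x hx
      have h0 : algebraMap S' (S' ⊗[S] R) x = 0 := hx
      have : x = 0 := hfix'.1 (by rw [h0, map_zero])
      rw [this]
      exact p'.asIdeal.zero_mem)
  haveI := hq'
  obtain ⟨u₀, ε₀, hdet, hε₀, H₀⟩ := exists_u0 lam hlam t S' θ q'
  -- the norm of the determinant
  obtain ⟨g, hg⟩ := (hfix'.2 (u₀.det * lamBC lam S' u₀.det)).mp (by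
    show lamBC lam S' (u₀.det * lamBC lam S' u₀.det) = u₀.det * lamBC lam S' u₀.det
    rw [map_mul, hlam', mul_comm])
  have hmemq : ∀ z : S' ⊗[S] R, IsNilpotent z → z ∈ q' := by
    rintro z ⟨k, hk⟩
    exact hq'.mem_of_pow_mem k (by rw [hk]; exact zero_mem _)
  have hgp : g ∉ p'.asIdeal := by
    intro hcon
    have h1 : algebraMap S' (S' ⊗[S] R) g ∈ q' := by
      have : g ∈ q'.comap (algebraMap S' (S' ⊗[S] R)) := by rw [hq'p]; exact hcon
      exact this
    rw [hg] at h1
    rcases hq'.mem_or_mem h1 with h3 | h3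
    · exact hdet h3
    · apply hdet
      have : u₀.det = (u₀.det - lamBC lam S' u₀.det) + lamBC lam S' u₀.det := by ring
      rw [this]
      exact Ideal.add_mem _ (hmemq _ (hnil' _)) h3
  have hLT := RamLocal.local_normal_form.{u, max u v, max u v} (lamBC lam S') hlam' hfix' h2' hnil'
    hn u₀ ε₀ hε₀ p'.asIdeal g hg hgp
  rcases hLT with ⟨c₀, d₀, m, hm, hd₀, hsp⟩ | ⟨heven, c₀, hW⟩
  · -- orthogonal case
    set gg : S' := m * ∏ i, d₀ i with hgg
    have hggp : gg ∉ p'.asIdeal := by
      intro hcon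
      rcases p'.isPrime.mem_or_mem hcon with h1 | h1
      · exact hm h1
      · obtain ⟨i, -, hi⟩ := (Ideal.IsPrime.prod_mem_iff).mp h1
        exact hd₀ i hi
    haveI : Algebra.Etale S (Localization.Away gg) := Algebra.Etale.comp S S' (Localization.Away gg)
    have hdu : ∀ i, IsUnit (algebraMap S' (Localization.Away gg) (d₀ i)) := fun i =>
      IsLocalization.Away.isUnit_of_dvd gg
        (Dvd.dvd.trans (Finset.dvd_prod_of_mem _ (Finset.mem_univ i)) (Dvd.intro_left _ rfl))
    have hmu : IsUnit (algebraMap S' (Localization.Away gg) m) :=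
      IsLocalization.Away.isUnit_of_dvd gg (Dvd.intro _ rfl)
    obtain ⟨S₂, _, _, het₂, hff₂, hy⟩ := exists_sqrts hsq n (Localization.Away gg)
      (fun i => (hdu i).unit)
    letI : Algebra S' S₂ :=
      ((algebraMap (Localization.Away gg) S₂).comp (algebraMap S' (Localization.Away gg))).toAlgebra
    haveI : IsScalarTower S' (Localization.Away gg) S₂ :=
      IsScalarTower.of_algebraMap_eq (fun _ => rfl)
    letI : Algebra S S₂ :=
      ((algebraMap (Localization.Away gg) S₂).comp (algebraMap S (Localization.Away gg))).toAlgebra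
    haveI : IsScalarTower S (Localization.Away gg) S₂ :=
      IsScalarTower.of_algebraMap_eq (fun _ => rfl)
    haveI : IsScalarTower S S' S₂ := IsScalarTower.of_algebraMap_eq (fun s => by
      show algebraMap (Localization.Away gg) S₂ (algebraMap S (Localization.Away gg) s) =
        algebraMap (Localization.Away gg) S₂ (algebraMap S' (Localization.Away gg) (algebraMap S S' s))
      rw [← IsScalarTower.algebraMap_apply S S' (Localization.Away gg)])
    haveI : Algebra.Etale S S₂ := Algebra.Etale.comp S (Localization.Away gg) S₂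
    choose y hyy using hy
    have hyu : ∀ i, IsUnit (y i) := by
      intro i
      have h1 : IsUnit (y i * y i) := by
        rw [hyy i]
        exact ((hdu i).unit.isUnit).map _
      exact isUnit_of_mul_isUnit_left h1
    choose yi hyi using fun i => (hyu i).exists_right_inv
    set c : Matrix (Fin n) (Fin n) (S₂ ⊗[S] R) :=
      Matrix.diagonal fun i => yi i ⊗ₜ[S] (1 : R) with hc
    have hcu : IsUnit c := by
      rw [Matrix.isUnit_iff_isUnit_det, hc, Matrix.det_diagonal]
      refine IsUnit.prod_univ_iff.mpr fun i => ?_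
      refine IsUnit.of_mul_eq_one (y i ⊗ₜ[S] (1 : R)) ?_
      rw [Algebra.TensorProduct.tmul_mul_tmul, mul_one, mul_comm, hyi,
        Algebra.TensorProduct.one_def]
    have hmu₂ : IsUnit (algebraMap S' S₂ m) := by
      rw [IsScalarTower.algebraMap_apply S' (Localization.Away gg) S₂]
      exact hmu.map _
    have hone : (1 : Matrix (Fin n) (Fin n) R).map
        (Algebra.TensorProduct.includeRight : R →ₐ[S] S₂ ⊗[S] R) = 1 :=
      ((Algebra.TensorProduct.includeRight : R →ₐ[S] S₂ ⊗[S] R).toRingHom.mapMatrix).map_one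
    have hfin := finish lam hlam t S' S₂ (c₀ • u₀) _ m (H₀.smul lam t c₀) hsp hmu₂
      ((1 : Matrix (Fin n) (Fin n) R).map (Algebra.TensorProduct.includeRight : R →ₐ[S] S₂ ⊗[S] R))
      (by rw [hone]; exact isUnit_one) c hcu (by
        rw [hone, hc]
        have e1 : ((Matrix.diagonal fun i => yi i ⊗ₜ[S] (1 : R)).map (tauD R lam S₂))ᵀ =
            Matrix.diagonal fun i => yi i ⊗ₜ[S] (1 : R) := by
          ext i j
          by_cases hij : i = j
          · subst hij
            simp
          · simp [Matrix.diagonal_apply_ne _ hij, Matrix.diagonal_apply_ne _ (Ne.symm hij)]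
        have e2 : (Matrix.diagonal fun i => algebraMap S' (S' ⊗[S] R) (d₀ i)).map
            (tensMap R (IsScalarTower.toAlgHom S S' S₂)) =
            Matrix.diagonal fun i => (y i * y i) ⊗ₜ[S] (1 : R) := by
          ext i j
          by_cases hij : i = j
          · subst hij
            simp only [Matrix.map_apply, Matrix.diagonal_apply_eq,
              Algebra.TensorProduct.algebraMap_apply, Algebra.algebraMap_self, RingHom.id_apply,
              tensMap_tmul, IsScalarTower.coe_toAlgHom']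
            rw [hyy i, IsScalarTower.algebraMap_apply S' (Localization.Away gg) S₂]
            rfl
          · simp [Matrix.diagonal_apply_ne _ hij]
        rw [e1, e2, Matrix.diagonal_mul_diagonal, Matrix.diagonal_mul_diagonal,
          ← Matrix.diagonal_one]
        congr 1
        funext i
        rw [Algebra.TensorProduct.tmul_mul_tmul, Algebra.TensorProduct.tmul_mul_tmul, mul_one,
          mul_one, Algebra.TensorProduct.one_def]
        congr 1
        calc yi i * (y i * y i) * yi i = (y i * yi i) * (y i * yi i) := by ring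
          _ = 1 := by rw [hyi, one_mul])
    refine ⟨S₂, inferInstance, inferInstance, inferInstance, ?_, Or.inl hfin⟩
    obtain ⟨Q₁, hQ₁⟩ := exists_prime_away gg p' hggp
    obtain ⟨Q₂, hQ₂⟩ := PrimeSpectrum.comap_surjective_of_faithfullyFlat
      (A := Localization.Away gg) (B := S₂) Q₁
    refine ⟨Q₂, ?_⟩
    apply PrimeSpectrum.ext
    have e1 : algebraMap S S₂ = (algebraMap (Localization.Away gg) S₂).comp
        ((algebraMap S' (Localization.Away gg)).comp (algebraMap S S')) := by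
      ext s
      show algebraMap S S₂ s = algebraMap (Localization.Away gg) S₂
        (algebraMap S' (Localization.Away gg) (algebraMap S S' s))
      rw [← IsScalarTower.algebraMap_apply S S' (Localization.Away gg)]
      rfl
    show Q₂.asIdeal.comap (algebraMap S S₂) = p.asIdeal
    rw [e1, ← Ideal.comap_comap, ← Ideal.comap_comap]
    have h1 : Q₂.asIdeal.comap (algebraMap (Localization.Away gg) S₂) = Q₁.asIdeal :=
      congrArg PrimeSpectrum.asIdeal hQ₂
    have h3 : Q₁.asIdeal.comap (algebraMap S' (Localization.Away gg)) = p'.asIdeal :=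
      congrArg PrimeSpectrum.asIdeal hQ₁
    have h4 : p'.asIdeal.comap (algebraMap S S') = p.asIdeal :=
      congrArg PrimeSpectrum.asIdeal hp'
    rw [h1, h3, h4]
  · -- symplectic case
    obtain ⟨hJu, hJt⟩ := hJ heven
    obtain ⟨m, hm, hsp⟩ := hW (J.map (algebraMap S S')) (by
        have : J.map (algebraMap S S') = (algebraMap S S').mapMatrix J := rfl
        rw [this]
        exact hJu.map _) (by
        rw [← Matrix.transpose_map, hJt]
        ext i j
        simp)
    haveI : Algebra.Etale S (Localization.Away m) := Algebra.Etale.comp S S' (Localization.Away m)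
    have hmu : IsUnit (algebraMap S' (Localization.Away m) m) :=
      IsLocalization.Away.isUnit_of_dvd m (dvd_refl m)
    have hWeq : ((J.map (algebraMap S S')).map (algebraMap S' (S' ⊗[S] R))).map
        (tensMap R (IsScalarTower.toAlgHom S S' (Localization.Away m))) =
        (J.map (algebraMap S R)).map
          (Algebra.TensorProduct.includeRight : R →ₐ[S] Localization.Away m ⊗[S] R) := by
      ext i j
      simp only [Matrix.map_apply, Algebra.TensorProduct.algebraMap_apply, Algebra.algebraMap_self,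
        RingHom.id_apply, tensMap_tmul, IsScalarTower.coe_toAlgHom',
        Algebra.TensorProduct.includeRight_apply]
      rw [← IsScalarTower.algebraMap_apply S S' (Localization.Away m),
        Algebra.algebraMap_eq_smul_one (J i j), Algebra.algebraMap_eq_smul_one (J i j),
        TensorProduct.smul_tmul]
    have hfin := finish lam hlam t S' (Localization.Away m) (c₀ • u₀) _ m (H₀.smul lam t c₀) hsp hmu
      ((J.map (algebraMap S R)).map
        (Algebra.TensorProduct.includeRight : R →ₐ[S] Localization.Away m ⊗[S] R))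
      (by
        have : (J.map (algebraMap S R)).map
            (Algebra.TensorProduct.includeRight : R →ₐ[S] Localization.Away m ⊗[S] R) =
            (((Algebra.TensorProduct.includeRight : R →ₐ[S] Localization.Away m ⊗[S] R).toRingHom.comp
              (algebraMap S R)).mapMatrix) J := by
          ext i j
          simp
        rw [this]
        exact hJu.map _)
      1 isUnit_one (by
        rw [hWeq]
        simp)
    refine ⟨Localization.Away m, inferInstance, inferInstance, inferInstance, ?_,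
      Or.inr ⟨heven, hfin⟩⟩
    obtain ⟨Q₁, hQ₁⟩ := exists_prime_away m p' hm
    refine ⟨Q₁, ?_⟩
    apply PrimeSpectrum.ext
    show Q₁.asIdeal.comap (algebraMap S (Localization.Away m)) = p.asIdeal
    rw [IsScalarTower.algebraMap_eq S S' (Localization.Away m), ← Ideal.comap_comap]
    have h3 : Q₁.asIdeal.comap (algebraMap S' (Localization.Away m)) = p'.asIdeal :=
      congrArg PrimeSpectrum.asIdeal hQ₁
    have h4 : p'.asIdeal.comap (algebraMap S S') = p.asIdeal :=
      congrArg PrimeSpectrum.asIdeal hp'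
    rw [h3, h4]

end Main

end Groth.Agent.H96.RamExist
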