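import Mathlib
import Groth.Agent.H96.RamPres
import Groth.Agent.H96.RamLocal
import Groth.Agent.H96.RamExist
import Groth.Agent.H96.OddLocal
import Groth.Agent.H96.MatAut
import Groth.Agent.H96.AzInvUnitary
import Groth.Agent.S17356

/-!
# Existence of normalised matrix presentations etale-locally: odd degree, at a prime where the
involution is "ramified" (any characteristic) (helper96)
-/

set_option autoImplicit false
set_option linter.unusedSectionVars false
set_option linter.style.haveILetI false
universe u v w x y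

open TensorProduct Matrix

namespace Groth.Agent.H96.OddExist

open Groth.Agent.H96.SqrtRing Groth.Agent.H96.RamPres Groth.Agent.H96.RamExist

section Loc

variable {B : Type u} {A : Type v} [CommRing B] [CommRing A] [Algebra B A] (lam : A ≃ₐ[B] A)
  (hlam : ∀ a, lam (lam a) = a) (hB : RInv.IsFixedRing B A lam.toRingEquiv)
  (p : Ideal B) [p.IsPrime]

include hlam hB in
/-- Locality of the localisation at a "ramified" prime. -/
theorem isLocalRing_of_ram
    (hram : ∀ (a : A) (q : Ideal A), q.IsPrime → q.comap (algebraMap B A) = p → a - lam a ∈ q) :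
    IsLocalRing (Localization.AtPrime p ⊗[B] A) := by
  haveI hint : Algebra.IsIntegral B A := Groth.Agent.S17356.isIntegral B A lam hlam hB
  have hfixD := Groth.Agent.H77.isFixedRing_baseChange lam.toRingEquiv (Localization.AtPrime p) hB
  have hinvD : Function.Involutive
      (Groth.Agent.H77.lamT lam.toRingEquiv (Localization.AtPrime p) hB) := by
    intro y
    rw [RamLocal.lamT_eq, RamLocal.lamT_eq, RamLocal.tauD_invol lam hlam]
  refine Groth.Agent.H77.isLocalRing_of_forall_mem_jacobson
    (Groth.Agent.H77.lamT lam.toRingEquiv (Localization.AtPrime p) hB) hinvD hfixD (fun y => ?_)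
  rw [Ring.jacobson_eq_sInf_isMaximal, Ideal.mem_sInf]
  intro M hM
  haveI : M.IsMaximal := hM
  have hM₀ : M.comap (algebraMap (Localization.AtPrime p) (Localization.AtPrime p ⊗[B] A)) =
      IsLocalRing.maximalIdeal (Localization.AtPrime p) :=
    IsLocalRing.eq_maximalIdeal (Ideal.isMaximal_comap_of_isIntegral_of_isMaximal M)
  set φ : A →ₐ[B] Localization.AtPrime p ⊗[B] A := Algebra.TensorProduct.includeRight with hφ
  have hq : (M.comap φ).comap (algebraMap B A) = p := by
    ext x
    rw [Ideal.mem_comap, Ideal.mem_comap, φ.commutes,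
      IsScalarTower.algebraMap_apply B (Localization.AtPrime p) (Localization.AtPrime p ⊗[B] A),
      ← Ideal.mem_comap, hM₀, IsLocalization.AtPrime.to_map_mem_maximal_iff _ p]
  induction y using TensorProduct.induction_on with
  | zero => simp
  | tmul b a =>
    rw [Groth.Agent.H77.lamT_tmul, ← TensorProduct.tmul_sub]
    have h1 : b ⊗ₜ[B] (lam.toRingEquiv a - a) = (b ⊗ₜ[B] (1 : A)) * φ (lam a - a) := by
      rw [hφ, Algebra.TensorProduct.includeRight_apply, Algebra.TensorProduct.tmul_mul_tmul,
        mul_one, one_mul]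
      rfl
    rw [h1]
    refine Ideal.mul_mem_left _ _ ?_
    have h3 : a - lam a ∈ M.comap φ := hram a (M.comap φ) inferInstance hq
    have h4 : lam a - a ∈ M.comap φ := by
      have := (M.comap φ).neg_mem h3
      rwa [neg_sub] at this
    exact h4
  | add y₁ y₂ h₁ h₂ =>
    have : Groth.Agent.H77.lamT lam.toRingEquiv (Localization.AtPrime p) hB (y₁ + y₂) - (y₁ + y₂) =
        (Groth.Agent.H77.lamT lam.toRingEquiv (Localization.AtPrime p) hB y₁ - y₁) +
        (Groth.Agent.H77.lamT lam.toRingEquiv (Localization.AtPrime p) hB y₂ - y₂) := by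
      rw [map_add]; ring
    rw [this]
    exact Ideal.add_mem _ h₁ h₂

omit [p.IsPrime] in
/-- Ramification at a prime passes to base change. -/
theorem ram_baseChange
    (hram : ∀ (a : A) (q : Ideal A), q.IsPrime → q.comap (algebraMap B A) = p → a - lam a ∈ q)
    (B' : Type x) [CommRing B'] [Algebra B B'] (p' : Ideal B')
    (hp' : p'.comap (algebraMap B B') = p) :
    ∀ (z : B' ⊗[B] A) (q' : Ideal (B' ⊗[B] A)), q'.IsPrime →
      q'.comap (algebraMap B' (B' ⊗[B] A)) = p' → z - lamBC lam B' z ∈ q' := by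
  intro z q' hq' hq'p
  haveI := hq'
  set φ : A →ₐ[B] B' ⊗[B] A := Algebra.TensorProduct.includeRight with hφ
  have hq : (q'.comap φ).comap (algebraMap B A) = p := by
    rw [← hp', ← hq'p]
    ext x
    rw [Ideal.mem_comap, Ideal.mem_comap, Ideal.mem_comap, Ideal.mem_comap, φ.commutes,
      ← IsScalarTower.algebraMap_apply B B' (B' ⊗[B] A)]
  induction z using TensorProduct.induction_on with
  | zero => simp
  | tmul b a =>
    have h1 : b ⊗ₜ[B] a - lamBC lam B' (b ⊗ₜ[B] a) = (b ⊗ₜ[B] (1 : A)) * φ (a - lam a) := by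
      rw [hφ, Algebra.TensorProduct.includeRight_apply, Algebra.TensorProduct.tmul_mul_tmul,
        mul_one, one_mul, TensorProduct.tmul_sub]
      simp [lamBC]
    rw [h1]
    exact Ideal.mul_mem_left _ _ (hram a (q'.comap φ) inferInstance hq)
  | add y₁ y₂ h₁ h₂ =>
    have : y₁ + y₂ - lamBC lam B' (y₁ + y₂) = (y₁ - lamBC lam B' y₁) + (y₂ - lamBC lam B' y₂) := by
      rw [map_add]; ring
    rw [this]
    exact Ideal.add_mem _ h₁ h₂

end Loc

section Main

attribute [local instance] Algebra.TensorProduct.rightAlgebra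

open AzInv

variable (S : Type u) (R : Type v) [CommRing S] [CommRing R] [Algebra S R] (lam : R ≃ₐ[S] R)
  (hlam : ∀ r, lam (lam r) = r) (hfix : RInv.IsFixedRing S R lam.toRingEquiv)
  (hsq : ∀ (S₁ : Type u) [CommRing S₁] [Algebra S S₁] [Algebra.Etale S S₁] (x : S₁ˣ),
      ∃ (S₂ : Type u) (_ : CommRing S₂) (_ : Algebra S₁ S₂) (_ : Algebra.Etale S₁ S₂)
        (_ : Module.FaithfullyFlat S₁ S₂) (y : S₂), y * y = algebraMap S₁ S₂ ↑x)
  (A : Type w) [Ring A] [Algebra S A] [Algebra R A] [IsScalarTower S R A] [IsAzumaya R A]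
  (n : ℕ) (hodd : Odd n) (hrk : ∀ p : PrimeSpectrum R, Module.rankAtStalk (R := R) A p = n ^ 2)
  (t : AzInv.LamInv R A lam)

include hlam hfix hsq hodd hrk in
theorem exists_pres_odd (p : PrimeSpectrum S)
    (hram : ∀ (r : R) (q : Ideal R), q.IsPrime → q.comap (algebraMap S R) = p.asIdeal →
      r - lam r ∈ q) :
    ∃ (S'' : Type u) (_ : CommRing S'') (_ : Algebra S S''), Algebra.Etale S S'' ∧
      p ∈ Set.range (PrimeSpectrum.comap (algebraMap S S'')) ∧
      HPres S lam t S'' ((1 : Matrix (Fin n) (Fin n) R).map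
          (Algebra.TensorProduct.includeRight : R →ₐ[S] S'' ⊗[S] R)) := by
  have hn : 0 < n := hodd.pos
  classical
  obtain ⟨S', _, _, het, hff, ⟨θ⟩⟩ :=
    Groth.Agent.S17356.exists_cover S R lam hlam hfix A n hn hrk
  haveI := het
  haveI := hff
  obtain ⟨p', hp'⟩ := PrimeSpectrum.comap_surjective_of_faithfullyFlat (A := S) (B := S') p
  -- the ring with involution `(S', S' ⊗ R)`
  have hfix' : RInv.IsFixedRing S' (S' ⊗[S] R) (lamBC lam S').toRingEquiv := by
    have h := Groth.Agent.H77.isFixedRing_baseChange lam.toRingEquiv S' hfix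
    refine ⟨h.1, fun z => ?_⟩
    rw [← h.2 z, RamLocal.lamT_eq]
    show lamBC lam S' z = z ↔ _
    rw [← tauD_eq]
  have hlam' : ∀ z, lamBC lam S' (lamBC lam S' z) = z := by
    intro z
    rw [← tauD_eq, ← tauD_eq, RamLocal.tauD_invol lam hlam]
  haveI hint : Algebra.IsIntegral S' (S' ⊗[S] R) :=
    Groth.Agent.S17356.isIntegral S' (S' ⊗[S] R) (lamBC lam S') hlam' hfix'
  obtain ⟨q', -, hq', hq'p⟩ := Ideal.exists_ideal_over_prime_of_isIntegral p'.asIdeal
    (⊥ : Ideal (S' ⊗[S] R)) (by
      intro x hx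
      have h0 : algebraMap S' (S' ⊗[S] R) x = 0 := hx
      have : x = 0 := hfix'.1 (by rw [h0, map_zero])
      rw [this]
      exact p'.asIdeal.zero_mem)
  haveI := hq'
  obtain ⟨u₀, ε₀, hdet, hε₀, H₀⟩ := exists_u0 lam hlam t S' θ q'
  -- the norm of the determinant
  obtain ⟨g, hg⟩ := (hfix'.2 (u₀.det * lamBC lam S' u₀.det)).mp (by
    show lamBC lam S' (u₀.det * lamBC lam S' u₀.det) = u₀.det * lamBC lam S' u₀.det
    rw [map_mul, hlam', mul_comm])
  have hram' := ram_baseChange lam p.asIdeal hram S' p'.asIdeal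
    (congrArg PrimeSpectrum.asIdeal hp')
  have hgp : g ∉ p'.asIdeal := by
    intro hcon
    have h1 : algebraMap S' (S' ⊗[S] R) g ∈ q' := by
      have : g ∈ q'.comap (algebraMap S' (S' ⊗[S] R)) := by rw [hq'p]; exact hcon
      exact this
    rw [hg] at h1
    rcases hq'.mem_or_mem h1 with h3 | h3
    · exact hdet h3
    · apply hdet
      have : u₀.det = (u₀.det - lamBC lam S' u₀.det) + lamBC lam S' u₀.det := by ring
      rw [this]
      exact Ideal.add_mem _ (hram' _ q' hq' hq'p) h3
  have hlocD : IsLocalRing (Localization.AtPrime p'.asIdeal ⊗[S'] (S' ⊗[S] R)) :=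
    isLocalRing_of_ram (lamBC lam S') hlam' hfix' p'.asIdeal hram'
  obtain ⟨c₀, d₀, m, hm, hd₀, hsp⟩ := OddLocal.odd_normal_form.{u, max u v, max u v}
    (lamBC lam S') hlam' hfix' hodd u₀ ε₀ hε₀ p'.asIdeal g hg hgp hlocD
  set gg : S' := m * ∏ i, d₀ i with hgg
  have hggp : gg ∉ p'.asIdeal := by
    intro hcon
    rcases p'.isPrime.mem_or_mem hcon with h1 | h1
    · exact hm h1
    · obtain ⟨i, -, hi⟩ := (Ideal.IsPrime.prod_mem_iff).mp h1
      exact hd₀ i hi
  haveI : Algebra.Etale S (Localization.Away gg) := Algebra.Etale.comp S S' (Localization.Away gg)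
  have hdu : ∀ i, IsUnit (algebraMap S' (Localization.Away gg) (d₀ i)) := fun i =>
    IsLocalization.Away.isUnit_of_dvd gg
      (Dvd.dvd.trans (Finset.dvd_prod_of_mem _ (Finset.mem_univ i)) (Dvd.intro_left _ rfl))
  have hmu : IsUnit (algebraMap S' (Localization.Away gg) m) :=
    IsLocalization.Away.isUnit_of_dvd gg (Dvd.intro _ rfl)
  obtain ⟨S₂, _, _, het₂, hff₂, hy⟩ := exists_sqrts hsq n (Localization.Away gg)
    (fun i => (hdu i).unit)
  letI : Algebra S' S₂ :=
    ((algebraMap (Localization.Away gg) S₂).comp (algebraMap S' (Localization.Away gg))).toAlgebra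
  haveI : IsScalarTower S' (Localization.Away gg) S₂ :=
    IsScalarTower.of_algebraMap_eq (fun _ => rfl)
  letI : Algebra S S₂ :=
    ((algebraMap (Localization.Away gg) S₂).comp (algebraMap S (Localization.Away gg))).toAlgebra
  haveI : IsScalarTower S (Localization.Away gg) S₂ :=
    IsScalarTower.of_algebraMap_eq (fun _ => rfl)
  haveI : IsScalarTower S S' S₂ := IsScalarTower.of_algebraMap_eq (fun s => by
    show algebraMap (Localization.Away gg) S₂ (algebraMap S (Localization.Away gg) s) =
      algebraMap (Localization.Away gg) S₂ (algebraMap S' (Localization.Away gg) (algebraMap S S' s))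
    rw [← IsScalarTower.algebraMap_apply S S' (Localization.Away gg)])
  haveI : Algebra.Etale S S₂ := Algebra.Etale.comp S (Localization.Away gg) S₂
  choose y hyy using hy
  have hyu : ∀ i, IsUnit (y i) := by
    intro i
    have h1 : IsUnit (y i * y i) := by
      rw [hyy i]
      exact ((hdu i).unit.isUnit).map _
    exact isUnit_of_mul_isUnit_left h1
  choose yi hyi using fun i => (hyu i).exists_right_inv
  set c : Matrix (Fin n) (Fin n) (S₂ ⊗[S] R) :=
    Matrix.diagonal fun i => yi i ⊗ₜ[S] (1 : R) with hc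
  have hcu : IsUnit c := by
    rw [Matrix.isUnit_iff_isUnit_det, hc, Matrix.det_diagonal]
    refine IsUnit.prod_univ_iff.mpr fun i => ?_
    refine IsUnit.of_mul_eq_one (y i ⊗ₜ[S] (1 : R)) ?_
    rw [Algebra.TensorProduct.tmul_mul_tmul, mul_one, mul_comm, hyi,
      Algebra.TensorProduct.one_def]
  have hmu₂ : IsUnit (algebraMap S' S₂ m) := by
    rw [IsScalarTower.algebraMap_apply S' (Localization.Away gg) S₂]
    exact hmu.map _
  have hone : (1 : Matrix (Fin n) (Fin n) R).map
      (Algebra.TensorProduct.includeRight : R →ₐ[S] S₂ ⊗[S] R) = 1 :=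
    ((Algebra.TensorProduct.includeRight : R →ₐ[S] S₂ ⊗[S] R).toRingHom.mapMatrix).map_one
  have hfin := finish lam hlam t S' S₂ (c₀ • u₀) _ m (H₀.smul lam t c₀) hsp hmu₂
    ((1 : Matrix (Fin n) (Fin n) R).map (Algebra.TensorProduct.includeRight : R →ₐ[S] S₂ ⊗[S] R))
    (by rw [hone]; exact isUnit_one) c hcu (by
      rw [hone, hc]
      have e1 : ((Matrix.diagonal fun i => yi i ⊗ₜ[S] (1 : R)).map (tauD R lam S₂))ᵀ =
          Matrix.diagonal fun i => yi i ⊗ₜ[S] (1 : R) := by
        ext i j
        by_cases hij : i = j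
        · subst hij
          simp
        · simp [Matrix.diagonal_apply_ne _ hij, Matrix.diagonal_apply_ne _ (Ne.symm hij)]
      have e2 : (Matrix.diagonal fun i => algebraMap S' (S' ⊗[S] R) (d₀ i)).map
          (tensMap R (IsScalarTower.toAlgHom S S' S₂)) =
          Matrix.diagonal fun i => (y i * y i) ⊗ₜ[S] (1 : R) := by
        ext i j
        by_cases hij : i = j
        · subst hij
          simp only [Matrix.map_apply, Matrix.diagonal_apply_eq,
            Algebra.TensorProduct.algebraMap_apply, Algebra.algebraMap_self, RingHom.id_apply,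
            tensMap_tmul, IsScalarTower.coe_toAlgHom']
          rw [hyy i, IsScalarTower.algebraMap_apply S' (Localization.Away gg) S₂]
          rfl
        · simp [Matrix.diagonal_apply_ne _ hij]
      rw [e1, e2, Matrix.diagonal_mul_diagonal, Matrix.diagonal_mul_diagonal,
        ← Matrix.diagonal_one]
      congr 1
      funext i
      rw [Algebra.TensorProduct.tmul_mul_tmul, Algebra.TensorProduct.tmul_mul_tmul, mul_one,
        mul_one, Algebra.TensorProduct.one_def]
      congr 1
      calc yi i * (y i * y i) * yi i = (y i * yi i) * (y i * yi i) := by ring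
        _ = 1 := by rw [hyi, one_mul])
  refine ⟨S₂, inferInstance, inferInstance, inferInstance, ?_, hfin⟩
  obtain ⟨Q₁, hQ₁⟩ := exists_prime_away gg p' hggp
  obtain ⟨Q₂, hQ₂⟩ := PrimeSpectrum.comap_surjective_of_faithfullyFlat
    (A := Localization.Away gg) (B := S₂) Q₁
  refine ⟨Q₂, ?_⟩
  apply PrimeSpectrum.ext
  have e1 : algebraMap S S₂ = (algebraMap (Localization.Away gg) S₂).comp
      ((algebraMap S' (Localization.Away gg)).comp (algebraMap S S')) := by
    ext s
    show algebraMap S S₂ s = algebraMap (Localization.Away gg) S₂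
      (algebraMap S' (Localization.Away gg) (algebraMap S S' s))
    rw [← IsScalarTower.algebraMap_apply S S' (Localization.Away gg)]
    rfl
  show Q₂.asIdeal.comap (algebraMap S S₂) = p.asIdeal
  rw [e1, ← Ideal.comap_comap, ← Ideal.comap_comap]
  have h1 : Q₂.asIdeal.comap (algebraMap (Localization.Away gg) S₂) = Q₁.asIdeal :=
    congrArg PrimeSpectrum.asIdeal hQ₂
  have h3 : Q₁.asIdeal.comap (algebraMap S' (Localization.Away gg)) = p'.asIdeal :=
    congrArg PrimeSpectrum.asIdeal hQ₁
  have h4 : p'.asIdeal.comap (algebraMap S S') = p.asIdeal :=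
    congrArg PrimeSpectrum.asIdeal hp'
  rw [h1, h3, h4]

end Main

end Groth.Agent.H96.OddExist
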