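import Mathlib
import Groth.Agent.H96.HermLocal
import Groth.Agent.H96.HermDescent
import Groth.Agent.H96.SqrtRing
import Groth.Agent.H96.RamLocal
import Groth.Agent.H96.OddExist
import Groth.Agent.H96.MixHerm
import Groth.Agent.H96.MixSkew
import Groth.Agent.H77.RInv3

/-!
# Local normal form of an `ε`-hermitian matrix at a prime of the fixed ring where the involution is
"ramified" (`2` invertible; mixed case) (helper96)
-/

set_option autoImplicit false
set_option linter.unusedSectionVars false
set_option linter.style.haveILetI false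
universe u v w

open TensorProduct Matrix

namespace Groth.Agent.H96.MixLocal

open Groth.Agent.H96.HermLocal Groth.Agent.H96.SqrtRing Groth.Agent.H96.HermDescent
  Groth.Agent.H96.RamLocal

variable {B : Type u} {A : Type v} [CommRing B] [CommRing A] [Algebra B A] (lam : A ≃ₐ[B] A)
  (hlam : ∀ a, lam (lam a) = a) (hB : RInv.IsFixedRing B A lam.toRingEquiv)

section Mem

variable (p : Ideal B) [p.IsPrime]

include hlam hB in
/-- At a "ramified" prime the involution is trivial modulo every maximal ideal of the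
localisation. -/
theorem ram_mem
    (hram : ∀ (a : A) (q : Ideal A), q.IsPrime → q.comap (algebraMap B A) = p → a - lam a ∈ q)
    (M : Ideal (Localization.AtPrime p ⊗[B] A)) [hM : M.IsMaximal]
    (y : Localization.AtPrime p ⊗[B] A) :
    y - tauD A lam (Localization.AtPrime p) y ∈ M := by
  haveI hint : Algebra.IsIntegral B A := Groth.Agent.S17356.isIntegral B A lam hlam hB
  have hM₀ : M.comap (algebraMap (Localization.AtPrime p) (Localization.AtPrime p ⊗[B] A)) =
      IsLocalRing.maximalIdeal (Localization.AtPrime p) :=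
    IsLocalRing.eq_maximalIdeal (Ideal.isMaximal_comap_of_isIntegral_of_isMaximal M)
  set φ : A →ₐ[B] Localization.AtPrime p ⊗[B] A := Algebra.TensorProduct.includeRight with hφ
  have hq : (M.comap φ).comap (algebraMap B A) = p := by
    ext x
    rw [Ideal.mem_comap, Ideal.mem_comap, φ.commutes,
      IsScalarTower.algebraMap_apply B (Localization.AtPrime p) (Localization.AtPrime p ⊗[B] A),
      ← Ideal.mem_comap, hM₀, IsLocalization.AtPrime.to_map_mem_maximal_iff _ p]
  induction y using TensorProduct.induction_on with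
  | zero => simp
  | tmul b a =>
    have h1 : b ⊗ₜ[B] a - tauD A lam (Localization.AtPrime p) (b ⊗ₜ[B] a) =
        (b ⊗ₜ[B] (1 : A)) * φ (a - lam a) := by
      rw [hφ, Algebra.TensorProduct.includeRight_apply, Algebra.TensorProduct.tmul_mul_tmul,
        mul_one, one_mul, tauD_tmul, TensorProduct.tmul_sub]
    rw [h1]
    exact Ideal.mul_mem_left _ _ (hram a (M.comap φ) inferInstance hq)
  | add y₁ y₂ h₁ h₂ =>
    have : y₁ + y₂ - tauD A lam (Localization.AtPrime p) (y₁ + y₂) =
        (y₁ - tauD A lam (Localization.AtPrime p) y₁) +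
        (y₂ - tauD A lam (Localization.AtPrime p) y₂) := by
      rw [map_add]; ring
    rw [this]
    exact Ideal.add_mem _ h₁ h₂

end Mem

section Main

variable (h2 : IsUnit (2 : B)) {n : ℕ} (hn : 0 < n)
  (u₀ : Matrix (Fin n) (Fin n) A) (ε₀ : A)
  (hε₀ : (u₀.det ^ 2) • (u₀.map lam)ᵀ = ε₀ • u₀)
  (p : Ideal B) [p.IsPrime] (g : B) (hg : algebraMap B A g = u₀.det * lam u₀.det) (hgp : g ∉ p)

local notation "Bp" => Localization.AtPrime p
local notation "DD" => Localization.AtPrime p ⊗[B] A

include hlam hB h2 hn hε₀ hg hgp in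
theorem mixed_normal_form
    (hram : ∀ (a : A) (q : Ideal A), q.IsPrime → q.comap (algebraMap B A) = p → a - lam a ∈ q) :
    (∃ (c₀ : A) (d₀ : Fin n → B) (m : B), m ∉ p ∧ (∀ i, d₀ i ∉ p) ∧
      Spread.{u, v, w} lam (c₀ • u₀) (Matrix.diagonal fun i => algebraMap B A (d₀ i)) m) ∨
    (∃ (k : ℕ) (e : Fin 2 × Fin k ≃ Fin n) (c₀ : A) (P : Fin k → Matrix (Fin 2) (Fin 2) A)
      (b : Fin k → B) (m : B), m ∉ p ∧ (∀ i, b i ∉ p) ∧ (∀ i, ((P i).map lam)ᵀ = -(P i)) ∧
      (∀ i, P i 0 1 = algebraMap B A (b i)) ∧
      Spread.{u, v, w} lam (c₀ • u₀) ((Matrix.blockDiagonal P).submatrix e.symm e.symm) m) := by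
  classical
  letI : StarRing DD := starRingOf DD (tauD A lam Bp).toRingHom (tauD_invol lam hlam Bp)
  have hstar : ∀ y : DD, star y = tauD A lam Bp y := fun y => rfl
  have hfixD := Groth.Agent.H77.isFixedRing_baseChange lam.toRingEquiv Bp hB
  have hinvD : Function.Involutive (Groth.Agent.H77.lamT lam.toRingEquiv Bp hB) := by
    intro y
    rw [lamT_eq, lamT_eq, tauD_invol lam hlam]
  haveI : IsLocalRing DD := OddExist.isLocalRing_of_ram lam hlam hB p hram
  have hmD : ∀ y : DD, y - star y ∈ IsLocalRing.maximalIdeal DD := fun y =>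
    ram_mem lam hlam hB p hram (IsLocalRing.maximalIdeal DD) y
  have h2D : IsUnit (2 : DD) := by
    have := h2.map (algebraMap B DD)
    rwa [map_ofNat] at this
  set φ : A →ₐ[B] DD := Algebra.TensorProduct.includeRight with hφ
  have hφτ : φ.comp lam.toAlgHom = (tauD A lam Bp).comp φ := by
    apply AlgHom.ext
    intro a
    simp [hφ]
  have hstarφ : ∀ a : A, star (φ a) = φ (lam a) := fun a => by
    rw [hstar]
    exact (DFunLike.congr_fun hφτ a).symm
  haveI hlocmod : IsLocalizedModule p.primeCompl φ.toLinearMap :=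
    (inferInstance : IsLocalizedModule p.primeCompl (TensorProduct.mk B Bp A 1))
  have hmapH : ∀ M : Matrix (Fin n) (Fin n) A, (M.map φ)ᴴ = ((M.map lam)ᵀ).map φ := by
    intro M
    ext i j
    simp only [conjTranspose_apply, Matrix.map_apply, Matrix.transpose_apply, hstarφ]
  have hstarB : ∀ b : B, star (algebraMap B DD b) = algebraMap B DD b := by
    intro b
    rw [← φ.commutes b, hstarφ, lam.commutes]
  set u : Matrix (Fin n) (Fin n) DD := u₀.map φ with hu
  have hudet : u.det = φ u₀.det := by
    rw [hu]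
    exact (RingHom.map_det φ.toRingHom u₀).symm
  have hgunit : IsUnit (algebraMap B DD g) := by
    have h1 : IsUnit (algebraMap B Bp g) :=
      (IsLocalization.AtPrime.isUnit_to_map_iff Bp p g).mpr hgp
    have := h1.map (algebraMap Bp DD)
    rwa [← IsScalarTower.algebraMap_apply] at this
  have hdetu : IsUnit u.det := by
    rw [hudet]
    have h1 : φ u₀.det * φ (lam u₀.det) = algebraMap B DD g := by
      rw [← map_mul, ← hg, φ.commutes]
    exact isUnit_of_mul_isUnit_left (by rw [h1]; exact hgunit)
  have huu : IsUnit u := (Matrix.isUnit_iff_isUnit_det u).mpr hdetu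
  obtain ⟨di, hdi⟩ := hdetu.exists_right_inv
  obtain ⟨ε, hεdef⟩ : ∃ x, x = φ ε₀ * di ^ 2 := ⟨_, rfl⟩
  have hεu : uᴴ = ε • u := by
    have h1 : ((u₀.det ^ 2) • (u₀.map lam)ᵀ).map φ = (ε₀ • u₀).map φ := by rw [hε₀]
    have e1 : ((u₀.det ^ 2) • (u₀.map lam)ᵀ).map φ = (u.det ^ 2) • uᴴ := by
      rw [hmapH, hudet]
      ext i j
      simp
    have e2 : (ε₀ • u₀).map φ = φ ε₀ • u := by
      ext i j
      simp [hu]
    rw [e1, e2] at h1
    have h3 := congrArg (fun M : Matrix (Fin n) (Fin n) DD => (di ^ 2) • M) h1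
    simp only [smul_smul] at h3
    have h4 : di ^ 2 * u.det ^ 2 = 1 := by
      calc di ^ 2 * u.det ^ 2 = (u.det * di) ^ 2 := by ring
        _ = 1 := by rw [hdi, one_pow]
    rw [h4, one_smul] at h3
    rw [h3, hεdef, mul_comm]
  have hN : star ε * ε = 1 := eps_norm hn u huu ε hεu
  -- the scalar making `u` hermitian or skew-hermitian
  have key : ∀ (c₁ : DD) (sg : DD), IsUnit c₁ → star c₁ * ε = sg * c₁ →
      ∃ (c₀ : A), IsUnit ((c₀ • u₀).map φ) ∧ ((c₀ • u₀).map φ)ᴴ = sg • (c₀ • u₀).map φ := by
    intro c₁ sg hc₁ hc₁ε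
    obtain ⟨⟨c₀, s⟩, hs⟩ := IsLocalizedModule.surj p.primeCompl φ.toLinearMap c₁
    have hs' : algebraMap B DD (s : B) * c₁ = φ c₀ := by
      rw [← Algebra.smul_def]
      exact hs
    have hsunit : IsUnit (algebraMap B DD (s : B)) := by
      have h1 : IsUnit (algebraMap B Bp (s : B)) :=
        (IsLocalization.AtPrime.isUnit_to_map_iff Bp p (s : B)).mpr s.2
      have := h1.map (algebraMap Bp DD)
      rwa [← IsScalarTower.algebraMap_apply] at this
    have e2 : (c₀ • u₀).map φ = φ c₀ • u := by
      ext i j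
      simp [hu]
    refine ⟨c₀, ?_, ?_⟩
    · rw [e2, Matrix.isUnit_iff_isUnit_det, Matrix.det_smul]
      refine IsUnit.mul (IsUnit.pow _ ?_) hdetu
      rw [← hs']
      exact hsunit.mul hc₁
    · rw [e2, conjTranspose_smul, hεu, smul_smul, smul_smul, ← hs', star_mul', hstarB]
      congr 1
      linear_combination (algebraMap B DD (s : B)) * hc₁ε
  rcases MixHerm.sign_split hmD h2D ε hN with hplus | hminus
  · -- hermitian case
    left
    obtain ⟨c₀, hhu, hhh⟩ := key (1 + ε) 1 hplus (by
      rw [star_add, star_one]; linear_combination hN)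
    rw [one_smul] at hhh
    obtain ⟨d, hdu, hds, v, hv, hveq⟩ :=
      MixHerm.herm_diag hmD h2D n (Fin n) (Fintype.card_fin n) _ hhu hhh
    -- descend the diagonal entries
    have hdB : ∀ i, ∃ x : B × p.primeCompl,
        d i * (algebraMap B DD (x.2 : B)) ^ 2 = algebraMap B DD (x.1 * x.2) ∧ x.1 * x.2 ∉ p := by
      intro i
      obtain ⟨b, hb⟩ : d i ∈ Set.range (algebraMap Bp DD) := by
        rw [← hfixD.2]
        rw [lamT_eq, ← hstar]
        exact hds i
      have hbu : IsUnit b := Groth.Agent.H77.isUnit_of_isUnit_algebraMap _ hfixD b (by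
        rw [hb]; exact hdu i)
      obtain ⟨x, hx⟩ := IsLocalization.surj p.primeCompl b
      refine ⟨x, ?_, ?_⟩
      · rw [← hb, IsScalarTower.algebraMap_apply B Bp DD, IsScalarTower.algebraMap_apply B Bp DD,
          ← map_pow, ← map_mul, map_mul (algebraMap B Bp), ← hx]
        ring_nf
      · have h1 : IsUnit (algebraMap B Bp (x.1 * x.2)) := by
          rw [map_mul, ← hx]
          have h3 : IsUnit (algebraMap B Bp (x.2 : B)) :=
            (IsLocalization.AtPrime.isUnit_to_map_iff Bp p (x.2 : B)).mpr x.2.2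
          exact (hbu.mul h3).mul h3
        exact (IsLocalization.AtPrime.isUnit_to_map_iff Bp p _).mp h1
    choose x hx1 hx2 using hdB
    set sD : Fin n → DD := fun i => algebraMap B DD ((x i).2 : B) with hsD
    have hsDunit : ∀ i, IsUnit (sD i) := by
      intro i
      have h1 : IsUnit (algebraMap B Bp ((x i).2 : B)) :=
        (IsLocalization.AtPrime.isUnit_to_map_iff Bp p ((x i).2 : B)).mpr (x i).2.2
      have := h1.map (algebraMap Bp DD)
      rwa [← IsScalarTower.algebraMap_apply] at this
    set v₂ := v * Matrix.diagonal sD with hv₂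
    have hv₂u : IsUnit v₂ := by
      refine hv.mul ?_
      rw [Matrix.isUnit_iff_isUnit_det, Matrix.det_diagonal]
      exact IsUnit.prod_univ_iff.mpr fun i => hsDunit i
    have hv₂eq : v₂ᴴ * (c₀ • u₀).map φ * v₂ =
        (Matrix.diagonal fun i => algebraMap B A ((x i).1 * (x i).2)).map φ := by
      rw [hv₂, conjTranspose_mul, Matrix.diagonal_conjTranspose]
      have e1 : (star sD) = sD := by
        funext i
        exact hstarB _
      rw [e1]
      calc Matrix.diagonal sD * vᴴ * (c₀ • u₀).map φ * (v * Matrix.diagonal sD)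
          = Matrix.diagonal sD * (vᴴ * (c₀ • u₀).map φ * v) * Matrix.diagonal sD := by
            simp only [Matrix.mul_assoc]
        _ = Matrix.diagonal sD * Matrix.diagonal d * Matrix.diagonal sD := by rw [hveq]
        _ = _ := by
            rw [Matrix.diagonal_mul_diagonal, Matrix.diagonal_mul_diagonal]
            ext i j
            by_cases hij : i = j
            · subst hij
              simp only [Matrix.diagonal_apply_eq, Matrix.map_apply, φ.commutes]
              rw [← hx1 i]
              ring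
            · simp [Matrix.diagonal_apply_ne _ hij]
    obtain ⟨m, hm, hdesc⟩ := desc.{w} p.primeCompl lam.toAlgHom (tauD A lam Bp) φ hφτ
      (c₀ • u₀) (Matrix.diagonal fun i => algebraMap B A ((x i).1 * (x i).2)) v₂ hv₂u hv₂eq
    exact ⟨c₀, fun i => (x i).1 * (x i).2, m, hm, hx2, hdesc⟩
  · -- skew-hermitian case
    right
    obtain ⟨c₀, hhu, hhh'⟩ := key (1 - ε) (-1) hminus (by
      rw [star_sub, star_one]; linear_combination (-1 : DD) * hN)
    have hhh : ((c₀ • u₀).map φ)ᴴ = -(c₀ • u₀).map φ := by
      rw [hhh']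
      ext i j
      simp only [Matrix.smul_apply, Matrix.neg_apply, smul_eq_mul]
      ring
    obtain ⟨k, hk⟩ : ∃ k, n = 2 * k := by
      have := MixHerm.skew_even hmD h2D _ hhu hhh
      rw [Fintype.card_fin] at this
      obtain ⟨k, hk⟩ := this
      exact ⟨k, by omega⟩
    obtain ⟨e, a, c, ha, hc, hcong⟩ := MixSkew.skew_planes hmD h2D k (Fin n)
      (by rw [Fintype.card_fin, hk]) _ hhu hhh
    obtain ⟨c₂, hc₂⟩ := h2.exists_right_inv
    have hc₂D : (2 : DD) * algebraMap B DD c₂ = 1 := by
      rw [← map_ofNat (algebraMap B DD) 2, ← map_mul, hc₂, map_one]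
    -- lifting a skew element
    have hlift : ∀ x : DD, star x = -x → ∃ (α : A) (s : B), s ∉ p ∧ lam α = -α ∧
        algebraMap B DD s * x = φ α := by
      intro x hx
      obtain ⟨⟨α, s⟩, hs⟩ := IsLocalizedModule.surj p.primeCompl φ.toLinearMap x
      have hs' : algebraMap B DD (s : B) * x = φ α := by
        rw [← Algebra.smul_def]
        exact hs
      refine ⟨algebraMap B A c₂ * (α - lam α), s, s.2, ?_, ?_⟩
      · rw [map_mul, map_sub, hlam, lam.commutes]
        ring
      · rw [map_mul, map_sub, φ.commutes, ← hstarφ, ← hs', star_mul', hstarB, hx]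
        linear_combination (-(algebraMap B DD (s : B) * x)) * hc₂D
    choose α sa hsa hα hαeq using fun i => hlift (a i) (ha i)
    choose γ sc hsc hγ hγeq using fun i => hlift (c i) (hc i)
    set P : Fin k → Matrix (Fin 2) (Fin 2) A := fun i =>
      !![algebraMap B A (sa i) * α i, algebraMap B A (sa i * sc i);
        -algebraMap B A (sa i * sc i), algebraMap B A (sc i) * γ i] with hP
    have hPskew : ∀ i, ((P i).map lam)ᵀ = -(P i) := by
      intro i
      ext x y
      fin_cases x <;> fin_cases y <;>
        simp [hP, hα, hγ, lam.commutes]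
    have hunitB : ∀ s : B, s ∉ p → IsUnit (algebraMap B DD s) := by
      intro s hs
      have h1 : IsUnit (algebraMap B Bp s) :=
        (IsLocalization.AtPrime.isUnit_to_map_iff Bp p s).mpr hs
      have := h1.map (algebraMap Bp DD)
      rwa [← IsScalarTower.algebraMap_apply] at this
    have hplane : ∀ i, Cong (!![a i, 1; -1, c i] : Matrix (Fin 2) (Fin 2) DD) ((P i).map φ) := by
      intro i
      refine ⟨!![algebraMap B DD (sa i), 0; 0, algebraMap B DD (sc i)], ?_, ?_⟩
      · rw [Matrix.isUnit_iff_isUnit_det, Matrix.det_fin_two_of]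
        simpa using (hunitB _ (hsa i)).mul (hunitB _ (hsc i))
      · rw [conjT_fin_two, Matrix.mul_fin_two, Matrix.mul_fin_two]
        simp only [star_zero, hstarB, zero_mul, mul_zero, add_zero, zero_add, mul_one]
        ext x y
        fin_cases x <;> fin_cases y
        · simp [hP, φ.commutes, ← hαeq i, -Algebra.TensorProduct.algebraMap_apply]; ring
        · simp [hP, φ.commutes, -Algebra.TensorProduct.algebraMap_apply]
        · simp [hP, φ.commutes, -Algebra.TensorProduct.algebraMap_apply]; ring
        · simp [hP, φ.commutes, ← hγeq i, -Algebra.TensorProduct.algebraMap_apply]; ring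
    have hcong2 : Cong ((c₀ • u₀).map φ)
        (((Matrix.blockDiagonal P).submatrix e.symm e.symm).map φ) := by
      apply Cong.of_submatrix e
      refine hcong.trans ?_
      have e1 : (((Matrix.blockDiagonal P).submatrix e.symm e.symm).map φ).submatrix e e =
          Matrix.blockDiagonal fun i => (P i).map φ := by
        rw [← Matrix.blockDiagonal_map _ _ (map_zero φ)]
        ext x y
        simp
      rw [e1]
      exact MixSkew.Cong.blockDiagonal _ _ hplane
    obtain ⟨v, hv, hveq⟩ := hcong2
    obtain ⟨m, hm, hdesc⟩ := desc.{w} p.primeCompl lam.toAlgHom (tauD A lam Bp) φ hφτ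
      (c₀ • u₀) ((Matrix.blockDiagonal P).submatrix e.symm e.symm) v hv hveq
    refine ⟨k, e, c₀, P, fun i => sa i * sc i, m, hm, fun i => ?_, hPskew, fun i => ?_, hdesc⟩
    · intro hcon
      rcases (inferInstance : p.IsPrime).mem_or_mem hcon with h | h
      · exact hsa i h
      · exact hsc i h
    · simp [hP]

end Main

end Groth.Agent.H96.MixLocal
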