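import Mathlib
import Groth.Agent.H96.RamPres
import Groth.Agent.H96.RamLocal
import Groth.Agent.H96.RamExist
import Groth.Agent.H96.OddExist
import Groth.Agent.H96.MixLocal
import Groth.Agent.H96.SkewCore1
import Groth.Agent.H96.MatAut
import Groth.Agent.H96.AzInvUnitary
import Groth.Agent.S17356

/-!
# Existence of normalised matrix presentations etale-locally at a prime where the involution is
"ramified" (`2` invertible; mixed case) (helper96)
-/

set_option autoImplicit false
set_option linter.unusedSectionVars false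
set_option linter.style.haveILetI false
universe u v w x y

open TensorProduct Matrix

namespace Groth.Agent.H96.MixExist

open Groth.Agent.H96.SqrtRing Groth.Agent.H96.RamPres Groth.Agent.H96.RamExist
  Groth.Agent.H96.OddExist

/-- The standard index equivalence. -/
def e₀ {n : ℕ} (k : ℕ) (hk : n = 2 * k) : Fin 2 × Fin k ≃ Fin n :=
  finProdFinEquiv.trans (finCongr hk.symm)

/-- The standard alternating matrix of size `n = 2 k`. -/
def Jn (S : Type*) [CommRing S] {n : ℕ} (k : ℕ) (hk : n = 2 * k) : Matrix (Fin n) (Fin n) S :=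
  (Matrix.blockDiagonal fun _ : Fin k => (!![0, 1; -1, 0] : Matrix (Fin 2) (Fin 2) S)).submatrix
    (e₀ k hk).symm (e₀ k hk).symm

theorem Jn_map {S T : Type*} [CommRing S] [CommRing T] (f : S →+* T) {n : ℕ} (k : ℕ)
    (hk : n = 2 * k) : (Jn S k hk).map f = Jn T k hk := by
  ext i j
  simp only [Jn, Matrix.map_apply, Matrix.submatrix_apply, Matrix.blockDiagonal_apply]
  split_ifs
  · generalize ((e₀ k hk).symm i).1 = x
    generalize ((e₀ k hk).symm j).1 = y
    fin_cases x <;> fin_cases y <;> simp
  · simp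

section Main

attribute [local instance] Algebra.TensorProduct.rightAlgebra

open AzInv

variable (S : Type u) (R : Type v) [CommRing S] [CommRing R] [Algebra S R] (lam : R ≃ₐ[S] R)
  (hlam : ∀ r, lam (lam r) = r) (hfix : RInv.IsFixedRing S R lam.toRingEquiv)
  (hsq : ∀ (S₁ : Type u) [CommRing S₁] [Algebra S S₁] [Algebra.Etale S S₁] (x : S₁ˣ),
      ∃ (S₂ : Type u) (_ : CommRing S₂) (_ : Algebra S₁ S₂) (_ : Algebra.Etale S₁ S₂)
        (_ : Module.FaithfullyFlat S₁ S₂) (y : S₂), y * y = algebraMap S₁ S₂ ↑x)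
  (h2 : IsUnit (2 : S))
  (A : Type w) [Ring A] [Algebra S A] [Algebra R A] [IsScalarTower S R A] [IsAzumaya R A]
  (n : ℕ) (hn : 0 < n) (hrk : ∀ p : PrimeSpectrum R, Module.rankAtStalk (R := R) A p = n ^ 2)
  (t : AzInv.LamInv R A lam)

include hlam hfix hsq h2 hn hrk in
theorem exists_pres_mixed (p : PrimeSpectrum S)
    (hram : ∀ (r : R) (q : Ideal R), q.IsPrime → q.comap (algebraMap S R) = p.asIdeal →
      r - lam r ∈ q) :
    ∃ (S'' : Type u) (_ : CommRing S'') (_ : Algebra S S''), Algebra.Etale S S'' ∧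
      p ∈ Set.range (PrimeSpectrum.comap (algebraMap S S'')) ∧
      (HPres S lam t S'' ((1 : Matrix (Fin n) (Fin n) R).map
          (Algebra.TensorProduct.includeRight : R →ₐ[S] S'' ⊗[S] R)) ∨
        (∃ (k : ℕ) (hk : n = 2 * k), HPres S lam t S'' ((Jn R k hk).map
          (Algebra.TensorProduct.includeRight : R →ₐ[S] S'' ⊗[S] R)))) := by
  classical
  obtain ⟨S', _, _, het, hff, ⟨θ⟩⟩ :=
    Groth.Agent.S17356.exists_cover S R lam hlam hfix A n hn hrk
  haveI := het
  haveI := hff
  obtain ⟨p', hp'⟩ := PrimeSpectrum.comap_surjective_of_faithfullyFlat (A := S) (B := S') p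
  -- the ring with involution `(S', S' ⊗ R)`
  have hfix' : RInv.IsFixedRing S' (S' ⊗[S] R) (lamBC lam S').toRingEquiv := by
    have h := Groth.Agent.H77.isFixedRing_baseChange lam.toRingEquiv S' hfix
    refine ⟨h.1, fun z => ?_⟩
    rw [← h.2 z, RamLocal.lamT_eq]
    show lamBC lam S' z = z ↔ _
    rw [← tauD_eq]
  have hlam' : ∀ z, lamBC lam S' (lamBC lam S' z) = z := by
    intro z
    rw [← tauD_eq, ← tauD_eq, RamLocal.tauD_invol lam hlam]
  haveI hint : Algebra.IsIntegral S' (S' ⊗[S] R) :=
    Groth.Agent.S17356.isIntegral S' (S' ⊗[S] R) (lamBC lam S') hlam' hfix'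
  obtain ⟨q', -, hq', hq'p⟩ := Ideal.exists_ideal_over_prime_of_isIntegral p'.asIdeal
    (⊥ : Ideal (S' ⊗[S] R)) (by
      intro x hx
      have h0 : algebraMap S' (S' ⊗[S] R) x = 0 := hx
      have : x = 0 := hfix'.1 (by rw [h0, map_zero])
      rw [this]
      exact p'.asIdeal.zero_mem)
  haveI := hq'
  obtain ⟨u₀, ε₀, hdet, hε₀, H₀⟩ := exists_u0 lam hlam t S' θ q'
  -- the norm of the determinant
  obtain ⟨g, hg⟩ := (hfix'.2 (u₀.det * lamBC lam S' u₀.det)).mp (by
    show lamBC lam S' (u₀.det * lamBC lam S' u₀.det) = u₀.det * lamBC lam S' u₀.det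
    rw [map_mul, hlam', mul_comm])
  have hram' := ram_baseChange lam p.asIdeal hram S' p'.asIdeal
    (congrArg PrimeSpectrum.asIdeal hp')
  have hgp : g ∉ p'.asIdeal := by
    intro hcon
    have h1 : algebraMap S' (S' ⊗[S] R) g ∈ q' := by
      have : g ∈ q'.comap (algebraMap S' (S' ⊗[S] R)) := by rw [hq'p]; exact hcon
      exact this
    rw [hg] at h1
    rcases hq'.mem_or_mem h1 with h3 | h3
    · exact hdet h3
    · apply hdet
      have : u₀.det = (u₀.det - lamBC lam S' u₀.det) + lamBC lam S' u₀.det := by ring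
      rw [this]
      exact Ideal.add_mem _ (hram' _ q' hq' hq'p) h3
  have h2' : IsUnit (2 : S') := by
    have := h2.map (algebraMap S S')
    rwa [map_ofNat] at this
  have hLT := MixLocal.mixed_normal_form.{u, max u v, max u v} (lamBC lam S') hlam' hfix' h2'
    hn u₀ ε₀ hε₀ p'.asIdeal g hg hgp hram'
  rcases hLT with ⟨c₀, d₀, m, hm, hd₀, hsp⟩ | ⟨k, e, c₀, P, b, m, hm, hb, hPskew, hP01, hsp⟩
  · -- orthogonal case
    set gg : S' := m * ∏ i, d₀ i with hgg
    have hggp : gg ∉ p'.asIdeal := by
      intro hcon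
      rcases p'.isPrime.mem_or_mem hcon with h1 | h1
      · exact hm h1
      · obtain ⟨i, -, hi⟩ := (Ideal.IsPrime.prod_mem_iff).mp h1
        exact hd₀ i hi
    haveI : Algebra.Etale S (Localization.Away gg) := Algebra.Etale.comp S S' (Localization.Away gg)
    have hdu : ∀ i, IsUnit (algebraMap S' (Localization.Away gg) (d₀ i)) := fun i =>
      IsLocalization.Away.isUnit_of_dvd gg
        (Dvd.dvd.trans (Finset.dvd_prod_of_mem _ (Finset.mem_univ i)) (Dvd.intro_left _ rfl))
    have hmu : IsUnit (algebraMap S' (Localization.Away gg) m) :=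
      IsLocalization.Away.isUnit_of_dvd gg (Dvd.intro _ rfl)
    obtain ⟨S₂, _, _, het₂, hff₂, hy⟩ := exists_sqrts hsq n (Localization.Away gg)
      (fun i => (hdu i).unit)
    letI : Algebra S' S₂ :=
      ((algebraMap (Localization.Away gg) S₂).comp (algebraMap S' (Localization.Away gg))).toAlgebra
    haveI : IsScalarTower S' (Localization.Away gg) S₂ :=
      IsScalarTower.of_algebraMap_eq (fun _ => rfl)
    letI : Algebra S S₂ :=
      ((algebraMap (Localization.Away gg) S₂).comp (algebraMap S (Localization.Away gg))).toAlgebra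
    haveI : IsScalarTower S (Localization.Away gg) S₂ :=
      IsScalarTower.of_algebraMap_eq (fun _ => rfl)
    haveI : IsScalarTower S S' S₂ := IsScalarTower.of_algebraMap_eq (fun s => by
      show algebraMap (Localization.Away gg) S₂ (algebraMap S (Localization.Away gg) s) =
        algebraMap (Localization.Away gg) S₂ (algebraMap S' (Localization.Away gg) (algebraMap S S' s))
      rw [← IsScalarTower.algebraMap_apply S S' (Localization.Away gg)])
    haveI : Algebra.Etale S S₂ := Algebra.Etale.comp S (Localization.Away gg) S₂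
    choose y hyy using hy
    have hyu : ∀ i, IsUnit (y i) := by
      intro i
      have h1 : IsUnit (y i * y i) := by
        rw [hyy i]
        exact ((hdu i).unit.isUnit).map _
      exact isUnit_of_mul_isUnit_left h1
    choose yi hyi using fun i => (hyu i).exists_right_inv
    set c : Matrix (Fin n) (Fin n) (S₂ ⊗[S] R) :=
      Matrix.diagonal fun i => yi i ⊗ₜ[S] (1 : R) with hc
    have hcu : IsUnit c := by
      rw [Matrix.isUnit_iff_isUnit_det, hc, Matrix.det_diagonal]
      refine IsUnit.prod_univ_iff.mpr fun i => ?_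
      refine IsUnit.of_mul_eq_one (y i ⊗ₜ[S] (1 : R)) ?_
      rw [Algebra.TensorProduct.tmul_mul_tmul, mul_one, mul_comm, hyi,
        Algebra.TensorProduct.one_def]
    have hmu₂ : IsUnit (algebraMap S' S₂ m) := by
      rw [IsScalarTower.algebraMap_apply S' (Localization.Away gg) S₂]
      exact hmu.map _
    have hone : (1 : Matrix (Fin n) (Fin n) R).map
        (Algebra.TensorProduct.includeRight : R →ₐ[S] S₂ ⊗[S] R) = 1 :=
      ((Algebra.TensorProduct.includeRight : R →ₐ[S] S₂ ⊗[S] R).toRingHom.mapMatrix).map_one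
    have hfin := finish lam hlam t S' S₂ (c₀ • u₀) _ m (H₀.smul lam t c₀) hsp hmu₂
      ((1 : Matrix (Fin n) (Fin n) R).map (Algebra.TensorProduct.includeRight : R →ₐ[S] S₂ ⊗[S] R))
      (by rw [hone]; exact isUnit_one) c hcu (by
        rw [hone, hc]
        have e1 : ((Matrix.diagonal fun i => yi i ⊗ₜ[S] (1 : R)).map (tauD R lam S₂))ᵀ =
            Matrix.diagonal fun i => yi i ⊗ₜ[S] (1 : R) := by
          ext i j
          by_cases hij : i = j
          · subst hij
            simp
          · simp [Matrix.diagonal_apply_ne _ hij, Matrix.diagonal_apply_ne _ (Ne.symm hij)]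
        have e2 : (Matrix.diagonal fun i => algebraMap S' (S' ⊗[S] R) (d₀ i)).map
            (tensMap R (IsScalarTower.toAlgHom S S' S₂)) =
            Matrix.diagonal fun i => (y i * y i) ⊗ₜ[S] (1 : R) := by
          ext i j
          by_cases hij : i = j
          · subst hij
            simp only [Matrix.map_apply, Matrix.diagonal_apply_eq,
              Algebra.TensorProduct.algebraMap_apply, Algebra.algebraMap_self, RingHom.id_apply,
              tensMap_tmul, IsScalarTower.coe_toAlgHom']
            rw [hyy i, IsScalarTower.algebraMap_apply S' (Localization.Away gg) S₂]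
            rfl
          · simp [Matrix.diagonal_apply_ne _ hij]
        rw [e1, e2, Matrix.diagonal_mul_diagonal, Matrix.diagonal_mul_diagonal,
          ← Matrix.diagonal_one]
        congr 1
        funext i
        rw [Algebra.TensorProduct.tmul_mul_tmul, Algebra.TensorProduct.tmul_mul_tmul, mul_one,
          mul_one, Algebra.TensorProduct.one_def]
        congr 1
        calc yi i * (y i * y i) * yi i = (y i * yi i) * (y i * yi i) := by ring
          _ = 1 := by rw [hyi, one_mul])
    refine ⟨S₂, inferInstance, inferInstance, inferInstance, ?_, Or.inl hfin⟩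
    obtain ⟨Q₁, hQ₁⟩ := exists_prime_away gg p' hggp
    obtain ⟨Q₂, hQ₂⟩ := PrimeSpectrum.comap_surjective_of_faithfullyFlat
      (A := Localization.Away gg) (B := S₂) Q₁
    refine ⟨Q₂, ?_⟩
    apply PrimeSpectrum.ext
    have e1 : algebraMap S S₂ = (algebraMap (Localization.Away gg) S₂).comp
        ((algebraMap S' (Localization.Away gg)).comp (algebraMap S S')) := by
      ext s
      show algebraMap S S₂ s = algebraMap (Localization.Away gg) S₂
        (algebraMap S' (Localization.Away gg) (algebraMap S S' s))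
      rw [← IsScalarTower.algebraMap_apply S S' (Localization.Away gg)]
      rfl
    show Q₂.asIdeal.comap (algebraMap S S₂) = p.asIdeal
    rw [e1, ← Ideal.comap_comap, ← Ideal.comap_comap]
    have h1 : Q₂.asIdeal.comap (algebraMap (Localization.Away gg) S₂) = Q₁.asIdeal :=
      congrArg PrimeSpectrum.asIdeal hQ₂
    have h3 : Q₁.asIdeal.comap (algebraMap S' (Localization.Away gg)) = p'.asIdeal :=
      congrArg PrimeSpectrum.asIdeal hQ₁
    have h4 : p'.asIdeal.comap (algebraMap S S') = p.asIdeal :=
      congrArg PrimeSpectrum.asIdeal hp'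
    rw [h1, h3, h4]
  · -- symplectic case
    have hk : n = 2 * k := by
      have := Fintype.card_congr e
      simpa [Fintype.card_prod, Fintype.card_fin] using this.symm
    have hent : ∀ i x y, lamBC lam S' (P i y x) = -(P i x y) := by
      intro i x y
      have := congrFun (congrFun (hPskew i) x) y
      simpa [Matrix.transpose_apply, Matrix.map_apply] using this
    have hγex : ∀ i, ∃ γ : S', algebraMap S' (S' ⊗[S] R) γ = P i 0 0 * P i 1 1 := fun i =>
      (hfix'.2 _).mp (by
        show lamBC lam S' (P i 0 0 * P i 1 1) = _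
        rw [map_mul, hent i 0 0, hent i 1 1]; ring)
    choose γ hγ using hγex
    have h2Z : IsUnit (2 : S' ⊗[S] R) := by
      have := h2'.map (algebraMap S' (S' ⊗[S] R))
      rwa [map_ofNat] at this
    have h2q : (2 : S' ⊗[S] R) ∉ q' := fun h =>
      hq'.ne_top (Ideal.eq_top_of_isUnit_mem _ h h2Z)
    have hskewq : ∀ z : S' ⊗[S] R, lamBC lam S' z = -z → z ∈ q' := by
      intro z hz
      have h1 : z - lamBC lam S' z ∈ q' := hram' z q' hq' hq'p
      rw [hz] at h1
      have h3 : 2 * z ∈ q' := by
        have : 2 * z = z - -z := by ring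
        rw [this]; exact h1
      rcases hq'.mem_or_mem h3 with h | h
      · exact absurd h h2q
      · exact h
    have hγp : ∀ i, γ i ∈ p'.asIdeal := by
      intro i
      rw [← hq'p]
      show algebraMap S' (S' ⊗[S] R) (γ i) ∈ q'
      rw [hγ]
      exact Ideal.mul_mem_right _ _ (hskewq _ (hent i 0 0))
    set d : Fin k → S' := fun i => b i * b i + γ i with hd
    have hdp : ∀ i, d i ∉ p'.asIdeal := by
      intro i hcon
      have h1 : b i * b i ∈ p'.asIdeal := by
        have := Ideal.sub_mem _ hcon (hγp i)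
        simpa [hd] using this
      rcases p'.isPrime.mem_or_mem h1 with h | h <;> exact hb i h
    set gg : S' := m * ((∏ i, b i) * ∏ i, d i) with hgg
    have hggp : gg ∉ p'.asIdeal := by
      intro hcon
      rcases p'.isPrime.mem_or_mem hcon with h1 | h1
      · exact hm h1
      · rcases p'.isPrime.mem_or_mem h1 with h3 | h3
        · obtain ⟨i, -, hi⟩ := (Ideal.IsPrime.prod_mem_iff).mp h3
          exact hb i hi
        · obtain ⟨i, -, hi⟩ := (Ideal.IsPrime.prod_mem_iff).mp h3
          exact hdp i hi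
    haveI : Algebra.Etale S (Localization.Away gg) := Algebra.Etale.comp S S' (Localization.Away gg)
    have hbu : ∀ i, IsUnit (algebraMap S' (Localization.Away gg) (b i)) := fun i =>
      IsLocalization.Away.isUnit_of_dvd gg
        (Dvd.dvd.trans (Finset.dvd_prod_of_mem _ (Finset.mem_univ i))
          (Dvd.dvd.trans (Dvd.intro _ rfl) (Dvd.intro_left _ rfl)))
    have hdu : ∀ i, IsUnit (algebraMap S' (Localization.Away gg) (d i)) := fun i =>
      IsLocalization.Away.isUnit_of_dvd gg
        (Dvd.dvd.trans (Finset.dvd_prod_of_mem _ (Finset.mem_univ i))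
          (Dvd.dvd.trans (Dvd.intro_left _ rfl) (Dvd.intro_left _ rfl)))
    have hmu : IsUnit (algebraMap S' (Localization.Away gg) m) :=
      IsLocalization.Away.isUnit_of_dvd gg (Dvd.intro _ rfl)
    obtain ⟨S₂, _, _, het₂, hff₂, hy⟩ := exists_sqrts hsq k (Localization.Away gg)
      (fun i => (hdu i).unit)
    letI : Algebra S' S₂ :=
      ((algebraMap (Localization.Away gg) S₂).comp (algebraMap S' (Localization.Away gg))).toAlgebra
    haveI : IsScalarTower S' (Localization.Away gg) S₂ :=
      IsScalarTower.of_algebraMap_eq (fun _ => rfl)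
    letI : Algebra S S₂ :=
      ((algebraMap (Localization.Away gg) S₂).comp (algebraMap S (Localization.Away gg))).toAlgebra
    haveI : IsScalarTower S (Localization.Away gg) S₂ :=
      IsScalarTower.of_algebraMap_eq (fun _ => rfl)
    haveI : IsScalarTower S S' S₂ := IsScalarTower.of_algebraMap_eq (fun s => by
      show algebraMap (Localization.Away gg) S₂ (algebraMap S (Localization.Away gg) s) =
        algebraMap (Localization.Away gg) S₂ (algebraMap S' (Localization.Away gg) (algebraMap S S' s))
      rw [← IsScalarTower.algebraMap_apply S S' (Localization.Away gg)])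
    haveI : Algebra.Etale S S₂ := Algebra.Etale.comp S (Localization.Away gg) S₂
    choose y hyy using hy
    have hyy' : ∀ i, y i * y i = algebraMap S' S₂ (d i) := fun i => by
      rw [hyy i]
      rfl
    -- primes
    obtain ⟨Q₁, hQ₁⟩ := exists_prime_away gg p' hggp
    obtain ⟨Q₂, hQ₂⟩ := PrimeSpectrum.comap_surjective_of_faithfullyFlat
      (A := Localization.Away gg) (B := S₂) Q₁
    have hQ₂p' : Q₂.asIdeal.comap (algebraMap S' S₂) = p'.asIdeal := by
      rw [IsScalarTower.algebraMap_eq S' (Localization.Away gg) S₂, ← Ideal.comap_comap]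
      have h1 : Q₂.asIdeal.comap (algebraMap (Localization.Away gg) S₂) = Q₁.asIdeal :=
        congrArg PrimeSpectrum.asIdeal hQ₂
      have h3 : Q₁.asIdeal.comap (algebraMap S' (Localization.Away gg)) = p'.asIdeal :=
        congrArg PrimeSpectrum.asIdeal hQ₁
      rw [h1, h3]
    have h2S₂ : IsUnit (2 : S₂) := by
      have := h2.map (algebraMap S S₂)
      rwa [map_ofNat] at this
    have hbQ : ∀ i, algebraMap S' S₂ (b i) ∉ Q₂.asIdeal := by
      intro i hcon
      apply hb i
      rw [← hQ₂p']
      exact hcon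
    have hsign : ∀ i, ∃ ζ : S₂, ζ * ζ = algebraMap S' S₂ (d i) ∧
        algebraMap S' S₂ (b i) + ζ ∉ Q₂.asIdeal := by
      intro i
      by_cases h : algebraMap S' S₂ (b i) + y i ∈ Q₂.asIdeal
      · refine ⟨-y i, by rw [neg_mul_neg, hyy'], ?_⟩
        intro h'
        have h4 : 2 * algebraMap S' S₂ (b i) ∈ Q₂.asIdeal := by
          have := Ideal.add_mem _ h h'
          have e1 : algebraMap S' S₂ (b i) + y i + (algebraMap S' S₂ (b i) + -y i) =
              2 * algebraMap S' S₂ (b i) := by ring
          rwa [e1] at this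
        rcases Q₂.isPrime.mem_or_mem h4 with h5 | h5
        · exact Q₂.isPrime.ne_top (Ideal.eq_top_of_isUnit_mem _ h5 h2S₂)
        · exact hbQ i h5
      · exact ⟨y i, hyy' i, h⟩
    choose ζ hζ hζQ using hsign
    set gg₂ : S₂ := ∏ i, (algebraMap S' S₂ (b i) + ζ i) with hgg₂
    have hgg₂Q : gg₂ ∉ Q₂.asIdeal := by
      intro hcon
      obtain ⟨i, -, hi⟩ := (Ideal.IsPrime.prod_mem_iff).mp hcon
      exact hζQ i hi
    haveI : Algebra.Etale S (Localization.Away gg₂) :=
      Algebra.Etale.comp S S₂ (Localization.Away gg₂)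
    haveI : IsScalarTower S S' (Localization.Away gg₂) := IsScalarTower.of_algebraMap_eq (fun s => by
      rw [IsScalarTower.algebraMap_apply S S₂ (Localization.Away gg₂),
        IsScalarTower.algebraMap_apply S' S₂ (Localization.Away gg₂),
        ← IsScalarTower.algebraMap_apply S S' S₂])
    obtain ⟨Q₃, hQ₃⟩ := exists_prime_away gg₂ Q₂ hgg₂Q
    -- notation
    obtain ⟨S₃, hS₃⟩ : ∃ T : Type u, T = Localization.Away gg₂ := ⟨_, rfl⟩
    subst hS₃
    set j₂ : S₂ →+* Localization.Away gg₂ := algebraMap S₂ (Localization.Away gg₂) with hj₂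
    set j' : S' →+* Localization.Away gg₂ := algebraMap S' (Localization.Away gg₂) with hj'
    have hj'j₂ : ∀ x, j' x = j₂ (algebraMap S' S₂ x) := fun x =>
      IsScalarTower.algebraMap_apply S' S₂ (Localization.Away gg₂) x
    have hσu : ∀ i, IsUnit (j' (b i) + j₂ (ζ i)) := by
      intro i
      have h1 : IsUnit (j₂ (algebraMap S' S₂ (b i) + ζ i)) :=
        IsLocalization.Away.isUnit_of_dvd gg₂ (Finset.dvd_prod_of_mem _ (Finset.mem_univ i))
      rwa [map_add, ← hj'j₂] at h1
    have hβu : ∀ i, IsUnit (j' (b i)) := by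
      intro i
      rw [hj'j₂, IsScalarTower.algebraMap_apply S' (Localization.Away gg) S₂]
      exact ((hbu i).map _).map _
    have hdu₃ : ∀ i, IsUnit (j' (d i)) := by
      intro i
      rw [hj'j₂, IsScalarTower.algebraMap_apply S' (Localization.Away gg) S₂]
      exact ((hdu i).map _).map _
    have hmu₃ : IsUnit (algebraMap S' (Localization.Away gg₂) m) := by
      show IsUnit (j' m)
      rw [hj'j₂, IsScalarTower.algebraMap_apply S' (Localization.Away gg) S₂]
      exact (hmu.map _).map _
    have hζ₃ : ∀ i, j₂ (ζ i) * j₂ (ζ i) = j' (b i) * j' (b i) + j' (γ i) := by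
      intro i
      rw [← map_mul, hζ i, ← hj'j₂, hd, map_add, map_mul]
    choose βi hβi using fun i => (hβu i).exists_right_inv
    choose σi hσi using fun i => (hσu i).exists_right_inv
    -- the ring with involution `Z₃`
    set ρ := tensMap R (IsScalarTower.toAlgHom S S' (Localization.Away gg₂)) with hρ
    set τ₃ := tauD R lam (Localization.Away gg₂) with hτ₃
    set ι₃ : Localization.Away gg₂ →+* Localization.Away gg₂ ⊗[S] R :=
      algebraMap (Localization.Away gg₂) (Localization.Away gg₂ ⊗[S] R) with hι₃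
    have hτι : ∀ x, τ₃ (ι₃ x) = ι₃ x := fun x => RamLocal.tauD_algebraMap lam _ x
    have hρι : ∀ x : S', ρ (algebraMap S' (S' ⊗[S] R) x) = ι₃ (j' x) := by
      intro x
      rw [Algebra.TensorProduct.algebraMap_apply, Algebra.TensorProduct.algebraMap_apply,
        Algebra.algebraMap_self, Algebra.algebraMap_self, RingHom.id_apply, RingHom.id_apply, hρ,
        tensMap_tmul]
      rfl
    have hτρ : ∀ z, τ₃ (ρ z) = ρ (lamBC lam S' z) := by
      intro z
      rw [← tauD_eq]
      exact (DFunLike.congr_fun (tens_tau_comm R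
        (IsScalarTower.toAlgHom S S' (Localization.Away gg₂)) lam) z).symm
    obtain ⟨c₂, hc₂⟩ := h2.exists_right_inv
    have hplane : ∀ i, ∃ v : Matrix (Fin 2) (Fin 2) (Localization.Away gg₂ ⊗[S] R), IsUnit v ∧
        (v.map τ₃)ᵀ * (P i).map ρ * v = !![0, 1; -1, 0] := by
      intro i
      have h10 : P i 1 0 = -algebraMap S' (S' ⊗[S] R) (b i) := by
        have := hent i 1 0
        rw [hP01, AlgEquiv.commutes] at this
        rw [this, neg_neg]
      have hdetP : (P i).det = algebraMap S' (S' ⊗[S] R) (d i) := by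
        rw [Matrix.det_fin_two, h10, hP01, ← hγ i, hd, map_add, map_mul]
        ring
      refine SkewCore1.core1 τ₃.toRingHom ((P i).map ρ) ?_ ?_ ?_
        (ι₃ (algebraMap S (Localization.Away gg₂) c₂)) ?_ (hτι _)
        (ι₃ (j' (γ i) * βi i ^ 2)) (ι₃ (j₂ (ζ i) * βi i)) (ι₃ (j' (b i) * σi i)) ?_ ?_ (hτι _) ?_
      · rw [Matrix.isUnit_iff_isUnit_det]
        have : ((P i).map ρ).det = ρ (P i).det := (RingHom.map_det ρ.toRingHom (P i)).symm
        rw [this, hdetP, hρι]
        exact (hdu₃ i).map _
      · ext x y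
        simp only [Matrix.neg_apply, Matrix.transpose_apply, Matrix.map_apply]
        show -τ₃ (ρ (P i y x)) = ρ (P i x y)
        rw [hτρ, hent i x y, map_neg, neg_neg]
      · show IsUnit (ρ (P i 0 1))
        rw [hP01, hρι]
        exact (hβu i).map _
      · rw [← map_ofNat ι₃ 2, ← map_mul, ← map_ofNat (algebraMap S (Localization.Away gg₂)) 2,
          ← map_mul, hc₂, map_one, map_one]
      · show _ * (ρ (P i 0 1) * τ₃ (ρ (P i 0 1))) = ρ (P i 0 0) * ρ (P i 1 1)
        have hr : ρ (P i 0 0) * ρ (P i 1 1) = ι₃ (j' (γ i)) := by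
          rw [← map_mul, ← hγ i, hρι]
        rw [hP01, hρι, hτι, hr, ← map_mul, ← map_mul]
        congr 1
        calc j' (γ i) * βi i ^ 2 * (j' (b i) * j' (b i)) = j' (γ i) * (j' (b i) * βi i) ^ 2 := by ring
          _ = j' (γ i) := by rw [hβi, one_pow, mul_one]
      · rw [← map_one ι₃, ← map_add, ← map_mul]
        congr 1
        calc j' (b i) * σi i * (1 + j₂ (ζ i) * βi i)
            = σi i * (j' (b i) + j₂ (ζ i) * (j' (b i) * βi i)) := by ring
          _ = 1 := by rw [hβi, mul_one, mul_comm, hσi]
      · rw [← map_pow, ← map_one ι₃, ← map_add]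
        congr 1
        calc (j₂ (ζ i) * βi i) ^ 2 = (j₂ (ζ i) * j₂ (ζ i)) * βi i ^ 2 := by ring
          _ = (j' (b i) * βi i) ^ 2 + j' (γ i) * βi i ^ 2 := by rw [hζ₃]; ring
          _ = _ := by rw [hβi, one_pow]
    choose v hv hveq using hplane
    -- assembling the congruence
    letI : StarRing (Localization.Away gg₂ ⊗[S] R) :=
      RamLocal.starRingOf _ τ₃.toRingHom (RamLocal.tauD_invol lam hlam _)
    have hcong1 : HermLocal.Cong (Matrix.blockDiagonal fun i => (P i).map ρ)
        (Matrix.blockDiagonal fun _ : Fin k =>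
          (!![0, 1; -1, 0] : Matrix (Fin 2) (Fin 2) (Localization.Away gg₂ ⊗[S] R))) :=
      MixSkew.Cong.blockDiagonal _ _ fun i => ⟨v i, hv i, hveq i⟩
    let s : Fin n ≃ Fin n := (e₀ k hk).symm.trans e
    have hcong2 : HermLocal.Cong
        (((Matrix.blockDiagonal P).submatrix e.symm e.symm).map ρ)
        (Jn (Localization.Away gg₂ ⊗[S] R) k hk) := by
      have h1 := (hcong1.submatrix e.symm).trans (HermLocal.Cong.perm s _)
      have e1 : ((Matrix.blockDiagonal P).submatrix e.symm e.symm).map ρ =
          (Matrix.blockDiagonal fun i => (P i).map ρ).submatrix e.symm e.symm := by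
        rw [← Matrix.blockDiagonal_map _ _ (map_zero ρ)]
        rfl
      have e2 : ((Matrix.blockDiagonal fun _ : Fin k =>
          (!![0, 1; -1, 0] : Matrix (Fin 2) (Fin 2) (Localization.Away gg₂ ⊗[S] R))).submatrix
            e.symm e.symm).submatrix s s = Jn (Localization.Away gg₂ ⊗[S] R) k hk := by
        ext x y
        simp [Jn, s]
      rw [e1, ← e2]
      exact h1
    obtain ⟨c, hc, hceq⟩ := hcong2
    have hWeq : (Jn R k hk).map
        (Algebra.TensorProduct.includeRight : R →ₐ[S] Localization.Away gg₂ ⊗[S] R) =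
        Jn (Localization.Away gg₂ ⊗[S] R) k hk :=
      Jn_map (Algebra.TensorProduct.includeRight :
        R →ₐ[S] Localization.Away gg₂ ⊗[S] R).toRingHom k hk
    have hJunit : IsUnit (Jn (Localization.Away gg₂ ⊗[S] R) k hk) := by
      rw [Jn, Matrix.isUnit_submatrix_equiv, Matrix.isUnit_iff_isUnit_det, Matrix.det_blockDiagonal]
      refine IsUnit.prod_univ_iff.mpr fun i => ?_
      rw [Matrix.det_fin_two_of]
      simp
    have hfin := finish lam hlam t S' (Localization.Away gg₂) (c₀ • u₀) _ m (H₀.smul lam t c₀) hsp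
      hmu₃ ((Jn R k hk).map
        (Algebra.TensorProduct.includeRight : R →ₐ[S] Localization.Away gg₂ ⊗[S] R))
      (by rw [hWeq]; exact hJunit) c hc (by rw [hWeq]; exact hceq)
    refine ⟨Localization.Away gg₂, inferInstance, inferInstance, inferInstance, ?_,
      Or.inr ⟨k, hk, hfin⟩⟩
    refine ⟨Q₃, ?_⟩
    apply PrimeSpectrum.ext
    show Q₃.asIdeal.comap (algebraMap S (Localization.Away gg₂)) = p.asIdeal
    rw [IsScalarTower.algebraMap_eq S S' (Localization.Away gg₂), ← Ideal.comap_comap,
      IsScalarTower.algebraMap_eq S' S₂ (Localization.Away gg₂), ← Ideal.comap_comap]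
    have h3 : Q₃.asIdeal.comap (algebraMap S₂ (Localization.Away gg₂)) = Q₂.asIdeal :=
      congrArg PrimeSpectrum.asIdeal hQ₃
    have h4 : p'.asIdeal.comap (algebraMap S S') = p.asIdeal :=
      congrArg PrimeSpectrum.asIdeal hp'
    rw [h3, hQ₂p', h4]

end Main

end Groth.Agent.H96.MixExist
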