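import Mathlib
import Groth.Agent.H96.RamPres
import Groth.Agent.H96.MatAut
import Groth.Agent.H96.HermLocal
import Groth.Agent.H96.RamLocal

/-!
# Uniqueness of the sign of a matrix presentation (helper96)
-/

set_option autoImplicit false
set_option linter.unusedSectionVars false
set_option linter.style.haveILetI false
universe u v w x y

open TensorProduct Matrix

namespace Groth.Agent.H96.RamUnique

open Groth.Agent.H96.SqrtRing Groth.Agent.H96.RamPres

/-- Two algebras with primes over a common prime have a nontrivial tensor product. -/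
theorem nontrivial_tensor {S : Type u} [CommRing S] (S₁ : Type x) (S₂ : Type y) [CommRing S₁]
    [CommRing S₂] [Algebra S S₁] [Algebra S S₂] (p : PrimeSpectrum S)
    (h₁ : p ∈ Set.range (PrimeSpectrum.comap (algebraMap S S₁)))
    (h₂ : p ∈ Set.range (PrimeSpectrum.comap (algebraMap S S₂))) : Nontrivial (S₁ ⊗[S] S₂) := by
  let k := p.asIdeal.ResidueField
  haveI n₁ : Nontrivial (k ⊗[S] S₁) := (PrimeSpectrum.nontrivial_iff_mem_rangeComap p).mpr h₁
  haveI n₂ : Nontrivial (k ⊗[S] S₂) := (PrimeSpectrum.nontrivial_iff_mem_rangeComap p).mpr h₂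
  haveI : Nontrivial ((k ⊗[S] S₁) ⊗[k] (k ⊗[S] S₂)) :=
    Algebra.TensorProduct.nontrivial_of_algebraMap_injective_of_flat_left k (k ⊗[S] S₁) (k ⊗[S] S₂)
      (algebraMap k (k ⊗[S] S₂)).injective
  let f₁ : S₁ →ₐ[S] (k ⊗[S] S₁) ⊗[k] (k ⊗[S] S₂) :=
    ((Algebra.TensorProduct.includeLeft :
      (k ⊗[S] S₁) →ₐ[k] (k ⊗[S] S₁) ⊗[k] (k ⊗[S] S₂)).restrictScalars S).comp
      (Algebra.TensorProduct.includeRight : S₁ →ₐ[S] k ⊗[S] S₁)
  let f₂ : S₂ →ₐ[S] (k ⊗[S] S₁) ⊗[k] (k ⊗[S] S₂) :=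
    ((Algebra.TensorProduct.includeRight :
      (k ⊗[S] S₂) →ₐ[k] (k ⊗[S] S₁) ⊗[k] (k ⊗[S] S₂)).restrictScalars S).comp
      (Algebra.TensorProduct.includeRight : S₂ →ₐ[S] k ⊗[S] S₂)
  let F : S₁ ⊗[S] S₂ →ₐ[S] (k ⊗[S] S₁) ⊗[k] (k ⊗[S] S₂) :=
    Algebra.TensorProduct.lift f₁ f₂ (fun _ _ => Commute.all _ _)
  exact F.toRingHom.domain_nontrivial

section Unique

attribute [local instance] Algebra.TensorProduct.rightAlgebra

variable {S : Type u} {R : Type v} [CommRing S] [CommRing R] [Algebra S R] (lam : R ≃ₐ[S] R)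
  (hlam : ∀ r, lam (lam r) = r)
  (h2 : IsUnit (2 : S)) (hnil : ∀ r : R, IsNilpotent (r - lam r))
  {A : Type w} [Ring A] [Algebra R A] {n : ℕ} (hn : 0 < n) (t : A → A)

theorem map_include (M : Matrix (Fin n) (Fin n) R) {S' : Type x} {S'' : Type y} [CommRing S']
    [CommRing S''] [Algebra S S'] [Algebra S S''] (φ : S' →ₐ[S] S'') :
    (M.map (Algebra.TensorProduct.includeRight : R →ₐ[S] S' ⊗[S] R)).map (tensMap R φ) =
      M.map (Algebra.TensorProduct.includeRight : R →ₐ[S] S'' ⊗[S] R) := by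
  ext i j
  simp

include hlam h2 hnil hn in
/-- A nonzero ring cannot carry an orthogonal and a symplectic presentation at the same time. -/
theorem unique_aux (S₃ : Type x) [CommRing S₃] [Algebra S S₃] [Nontrivial (S₃ ⊗[S] R)]
    (J Ji : Matrix (Fin n) (Fin n) R) (hJJi : J * Ji = 1) (hJiJ : Ji * J = 1) (hJt : Jᵀ = -J)
    (hJlam : J.map lam = J)
    (H₁ : HPres S lam t S₃ ((1 : Matrix (Fin n) (Fin n) R).map
      (Algebra.TensorProduct.includeRight : R →ₐ[S] S₃ ⊗[S] R)))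
    (H₂ : HPres S lam t S₃ (J.map (Algebra.TensorProduct.includeRight : R →ₐ[S] S₃ ⊗[S] R))) :
    False := by
  classical
  obtain ⟨θ₁, hθ₁⟩ := H₁
  obtain ⟨θ₂, hθ₂⟩ := H₂
  set ι : R →ₐ[S] S₃ ⊗[S] R := Algebra.TensorProduct.includeRight with hι
  set τ := tauD R lam S₃ with hτ
  have hττ : ∀ z, τ (τ z) = z := RamLocal.tauD_invol lam hlam S₃
  have hnilY : ∀ z : S₃ ⊗[S] R, IsNilpotent (z - τ z) := RamLocal.nil_tauD lam S₃ hnil
  have h2Y : IsUnit (2 : S₃ ⊗[S] R) := by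
    have := h2.map (algebraMap S (S₃ ⊗[S] R))
    rwa [map_ofNat] at this
  have h1map : (1 : Matrix (Fin n) (Fin n) R).map ι = 1 := (ι.toRingHom.mapMatrix).map_one
  rw [h1map] at hθ₁
  simp only [Matrix.mul_one, Matrix.one_mul] at hθ₁
  set J' := J.map ι with hJ'
  set Ji' := Ji.map ι with hJi'
  have hJ1 : J' * Ji' = 1 := by rw [hJ', hJi', ← Matrix.map_mul, hJJi, h1map]
  have hJ2 : Ji' * J' = 1 := by rw [hJ', hJi', ← Matrix.map_mul, hJiJ, h1map]
  set μT : Matrix (Fin n) (Fin n) (S₃ ⊗[S] R) → Matrix (Fin n) (Fin n) (S₃ ⊗[S] R) :=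
    fun M => (M.map τ)ᵀ with hμT
  have hμmul : ∀ M N, μT (M * N) = μT N * μT M := by
    intro M N
    simp only [hμT]
    rw [Matrix.map_mul, Matrix.transpose_mul]
  have hμμ : ∀ M, μT (μT M) = M := by
    intro M
    ext i j
    simp [hμT, hττ]
  have hμadd : ∀ M N, μT (M + N) = μT M + μT N := by
    intro M N
    ext i j
    simp [hμT]
  have hμsmul : ∀ (y : S₃ ⊗[S] R) M, μT (y • M) = τ y • μT M := by
    intro y M
    ext i j
    simp [hμT]
  have hμone : μT 1 = 1 := by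
    ext i j
    simp only [hμT, Matrix.transpose_apply, Matrix.map_apply, Matrix.one_apply]
    split_ifs with h1 h3 h3
    · simp
    · exact absurd h1.symm h3
    · exact absurd h3.symm h1
    · simp
  have hμneg : ∀ M, μT (-M) = -μT M := by
    intro M
    ext i j
    simp [hμT]
  have hτι : ∀ r, τ (ι r) = ι (lam r) := fun r => by simp [hτ, hι]
  have hμJ : μT J' = -J' := by
    have e1 : J'.map τ = J' := by
      ext i j
      simp only [hJ', Matrix.map_apply, hτι]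
      have := congrFun (congrFun hJlam i) j
      rw [Matrix.map_apply] at this
      rw [this]
    show (J'.map τ)ᵀ = -J'
    rw [e1, hJ']
    ext i j
    have := congrFun (congrFun hJt i) j
    simp only [Matrix.transpose_apply, Matrix.neg_apply] at this
    simp only [Matrix.transpose_apply, Matrix.map_apply, Matrix.neg_apply, this, map_neg]
  have hμJi : μT Ji' = -Ji' := by
    have h1 : μT J' * μT Ji' = 1 := by rw [← hμmul, hJ2, hμone]
    rw [hμJ] at h1
    calc μT Ji' = (Ji' * J') * μT Ji' := by rw [hJ2, Matrix.one_mul]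
      _ = -(Ji' * (-J' * μT Ji')) := by simp [Matrix.mul_assoc]
      _ = -Ji' := by rw [h1, Matrix.mul_one]
  let g : Matrix (Fin n) (Fin n) (S₃ ⊗[S] R) ≃ₐ[S₃ ⊗[S] R] Matrix (Fin n) (Fin n) (S₃ ⊗[S] R) :=
    θ₁.symm.trans θ₂
  have hg : ∀ z, g (θ₁ z) = θ₂ z := fun z => by
    show θ₂ (θ₁.symm (θ₁ z)) = θ₂ z
    rw [AlgEquiv.symm_apply_apply]
  have hθ₁' : ∀ a, θ₁ (1 ⊗ₜ[R] t a) = μT (θ₁ (1 ⊗ₜ[R] a)) := hθ₁
  have hθ₂' : ∀ a, θ₂ (1 ⊗ₜ[R] t a) * J' = J' * μT (θ₂ (1 ⊗ₜ[R] a)) := hθ₂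
  have P : ∀ x, g (μT x) * J' = J' * μT (g x) := by
    intro x
    obtain ⟨z, rfl⟩ := θ₁.surjective x
    induction z using TensorProduct.induction_on with
    | zero =>
      have : μT 0 = 0 := by ext i j; simp [hμT]
      simp [this]
    | tmul y a =>
      have e1 : y ⊗ₜ[R] a = y • ((1 : S₃ ⊗[S] R) ⊗ₜ[R] a) := by
        rw [TensorProduct.smul_tmul', smul_eq_mul, mul_one]
      rw [e1, map_smul, hμsmul, ← hθ₁' a, ← map_smul, hg, ← map_smul, hg, map_smul, map_smul,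
        hμsmul, Matrix.smul_mul, Matrix.mul_smul, hθ₂' a]
    | add z₁ z₂ h₁ h₂ =>
      rw [map_add, hμadd, map_add, Matrix.add_mul, h₁, h₂, map_add, hμadd, Matrix.mul_add]
  obtain ⟨q, hq⟩ := Ideal.exists_maximal (S₃ ⊗[S] R)
  haveI := hq.isPrime
  obtain ⟨b, hbdet, hb⟩ := MatAut.exists_conj g q
  have Q : ∀ x, μT (g x) = Ji' * g (μT x) * J' := by
    intro x
    rw [Matrix.mul_assoc, P x, ← Matrix.mul_assoc, hJ2, Matrix.one_mul]
  set m := μT b * Ji' with hm
  have hmg : ∀ y, m * g y = y * m := by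
    intro y
    have h1 : μT (g (μT y) * b) = μT (b * μT y) := by rw [hb]
    rw [hμmul, hμmul, hμμ, Q, hμμ] at h1
    calc m * g y = (μT b * (Ji' * g y * J')) * Ji' := by
          simp only [hm, Matrix.mul_assoc]
          rw [hJ1, Matrix.mul_one]
      _ = y * μT b * Ji' := by rw [h1]
      _ = y * m := by rw [Matrix.mul_assoc]
  have hcomm : ∀ y, (m * b) * y = y * (m * b) := by
    intro y
    calc m * b * y = m * (b * y) := Matrix.mul_assoc _ _ _
      _ = m * (g y * b) := by rw [hb]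
      _ = (m * g y) * b := (Matrix.mul_assoc _ _ _).symm
      _ = y * m * b := by rw [hmg]
      _ = y * (m * b) := Matrix.mul_assoc _ _ _
  obtain ⟨κ, hκ⟩ := Matrix.mem_range_scalar_iff_commute_single'.mpr
    (fun i j => (hcomm (Matrix.single i j 1)).symm)
  have hκ' : m * b = κ • (1 : Matrix (Fin n) (Fin n) (S₃ ⊗[S] R)) := by
    rw [← hκ, Matrix.scalar_apply, ← Matrix.smul_one_eq_diagonal]
  have h3 : μT (m * b) = -(m * b) := by
    rw [hμmul, hm, hμmul, hμμ, hμJi]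
    simp [Matrix.mul_assoc]
  have h4 : τ κ = -κ := by
    rw [hκ', hμsmul, hμone] at h3
    have := congrFun (congrFun h3 ⟨0, hn⟩) ⟨0, hn⟩
    simpa using this
  have hκnil : IsNilpotent κ := by
    apply HermLocal.nilpotent_of_two_mul h2Y
    have : 2 * κ = κ - τ κ := by rw [h4]; ring
    rw [this]
    exact hnilY κ
  have hκq : κ ∈ q := by
    obtain ⟨k, hk⟩ := hκnil
    exact hq.isPrime.mem_of_pow_mem k (by rw [hk]; exact zero_mem _)
  have hdet1 : (m * b).det = κ ^ n := by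
    rw [hκ', Matrix.det_smul, Matrix.det_one, mul_one, Fintype.card_fin]
  have hdet2 : (m * b).det = τ b.det * Ji'.det * b.det := by
    rw [Matrix.det_mul, hm, Matrix.det_mul]
    congr 2
    show ((b.map τ)ᵀ).det = τ b.det
    rw [Matrix.det_transpose]
    exact (RingHom.map_det τ.toRingHom b).symm
  have hτdet : τ b.det ∉ q := by
    intro hcon
    apply hbdet
    have h5 : b.det - τ b.det ∈ q := by
      obtain ⟨k, hk⟩ := hnilY b.det
      exact hq.isPrime.mem_of_pow_mem k (by rw [hk]; exact zero_mem _)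
    have : b.det = (b.det - τ b.det) + τ b.det := by ring
    rw [this]
    exact Ideal.add_mem _ h5 hcon
  have hJidet : Ji'.det ∉ q := by
    intro hcon
    have h5 : J'.det * Ji'.det = 1 := by rw [← Matrix.det_mul, hJ1, Matrix.det_one]
    exact hq.isPrime.ne_top ((Ideal.eq_top_iff_one _).mpr (h5 ▸ Ideal.mul_mem_left _ _ hcon))
  have hmem : κ ^ n ∈ q := Ideal.pow_mem_of_mem _ hκq n hn
  rw [← hdet1, hdet2] at hmem
  rcases hq.isPrime.mem_or_mem hmem with h5 | h5
  · rcases hq.isPrime.mem_or_mem h5 with h6 | h6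
    · exact hτdet h6
    · exact hJidet h6
  · exact hbdet h5

include hlam h2 hnil hn in
/-- The two signs cannot occur over a common point of `Spec S`. -/
theorem unique_sign (hinj : Function.Injective (algebraMap S R)) (S₁ : Type x) (S₂ : Type y)
    [CommRing S₁] [CommRing S₂] [Algebra S S₁] [Algebra S S₂] [Module.Flat S S₁]
    [Module.Flat S S₂] (p : PrimeSpectrum S)
    (h₁ : p ∈ Set.range (PrimeSpectrum.comap (algebraMap S S₁)))
    (h₂ : p ∈ Set.range (PrimeSpectrum.comap (algebraMap S S₂)))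
    (J Ji : Matrix (Fin n) (Fin n) R) (hJJi : J * Ji = 1) (hJiJ : Ji * J = 1) (hJt : Jᵀ = -J)
    (hJlam : J.map lam = J)
    (H₁ : HPres S lam t S₁ ((1 : Matrix (Fin n) (Fin n) R).map
      (Algebra.TensorProduct.includeRight : R →ₐ[S] S₁ ⊗[S] R)))
    (H₂ : HPres S lam t S₂ (J.map (Algebra.TensorProduct.includeRight : R →ₐ[S] S₂ ⊗[S] R))) :
    False := by
  haveI : Nontrivial (S₁ ⊗[S] S₂) := nontrivial_tensor S₁ S₂ p h₁ h₂
  haveI : Module.Flat S (S₁ ⊗[S] S₂) := inferInstance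
  haveI : Nontrivial ((S₁ ⊗[S] S₂) ⊗[S] R) :=
    Algebra.TensorProduct.nontrivial_of_algebraMap_injective_of_flat_left S (S₁ ⊗[S] S₂) R hinj
  have H₁' := H₁.map lam t (Algebra.TensorProduct.includeLeft : S₁ →ₐ[S] S₁ ⊗[S] S₂)
  have H₂' := H₂.map lam t (Algebra.TensorProduct.includeRight : S₂ →ₐ[S] S₁ ⊗[S] S₂)
  rw [map_include] at H₁' H₂'
  exact unique_aux lam hlam h2 hnil hn t (S₁ ⊗[S] S₂) J Ji hJJi hJiJ hJt hJlam H₁' H₂'

end Unique

end Groth.Agent.H96.RamUnique
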