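import Mathlib
import Groth.Prelude.Def_AzInv
import Groth.Agent.H96.MixType
import Groth.Agent.H96.MixTypeMain
import Groth.Agent.H96.MixExist
import Groth.Agent.H96.IsoOps
import Groth.Agent.H96.RamUnique
import Groth.Agent.H96.OddExist
import Groth.Agent.S17356

/-!
# The orthogonal and symplectic types cannot be matched after passing to matrix algebras:
version for algebras of different degrees (helper96)
-/

set_option autoImplicit false
set_option linter.unusedSectionVars false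
set_option linter.style.haveILetI false
universe u v w w' x y

open TensorProduct Matrix

namespace Groth.Agent.H96.MixTypeMain2

open Groth.Agent.H96.SqrtRing Groth.Agent.H96.RamPres Groth.Agent.H96.MixType
  Groth.Agent.H96.MixExist Groth.Agent.H96.RamExist Groth.Agent.H96.MixTypeMain

section Core2

variable {Z : Type*} [CommRing Z] {κ₁ κ₂ : Type*} [Fintype κ₁] [DecidableEq κ₁] [Fintype κ₂]
  [DecidableEq κ₂]
  (τ : Z →+* Z) (hττ : ∀ z, τ (τ z) = z) (h2 : IsUnit (2 : Z))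
  (q : Ideal Z) [hq : q.IsPrime] (hqτ : ∀ z, z - τ z ∈ q) [Nonempty κ₁]

include hττ h2 hqτ in
theorem unique_core2 (ε : κ₁ ≃ κ₂) (J Ji : Matrix κ₂ κ₂ Z) (hJ1 : J * Ji = 1) (hJ2 : Ji * J = 1)
    (hμJ : (J.map τ)ᵀ = -J)
    (g : Matrix κ₁ κ₁ Z ≃ₐ[Z] Matrix κ₂ κ₂ Z)
    (P : ∀ x, g ((x.map τ)ᵀ) * J = J * ((g x).map τ)ᵀ) : False := by
  let g' : Matrix κ₁ κ₁ Z ≃ₐ[Z] Matrix κ₁ κ₁ Z := g.trans (Matrix.reindexAlgEquiv Z Z ε.symm)
  have hg' : ∀ x, g' x = (g x).submatrix ε ε := fun x => rfl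
  refine unique_core τ hττ h2 q hqτ (J.submatrix ε ε) (Ji.submatrix ε ε) ?_ ?_ ?_ g' ?_
  · rw [Matrix.submatrix_mul_equiv, hJ1, Matrix.submatrix_one_equiv]
  · rw [Matrix.submatrix_mul_equiv, hJ2, Matrix.submatrix_one_equiv]
  · rw [← Matrix.submatrix_map, Matrix.transpose_submatrix, hμJ]
    rfl
  · intro x
    rw [hg', hg', Matrix.submatrix_mul_equiv, P x, ← Matrix.submatrix_mul_equiv _ _ ε ε ε]
    rfl

end Core2

section Main

attribute [local instance] Algebra.TensorProduct.rightAlgebra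

open AzInv

variable (S : Type u) (R : Type v) [CommRing S] [CommRing R] [Algebra S R] (lam : R ≃ₐ[S] R)
  (hlam : ∀ r, lam (lam r) = r) (hfix : RInv.IsFixedRing S R lam.toRingEquiv)
  (h2 : IsUnit (2 : S))
  {A : Type w} [Ring A] [Algebra S A] [Algebra R A] [IsScalarTower S R A]
  {A' : Type w'} [Ring A'] [Algebra S A'] [Algebra R A'] [IsScalarTower S R A']
  (n n' : ℕ) (hn : 0 < n) (t : AzInv.LamInv R A lam) (t' : AzInv.LamInv R A' lam)

include hlam hfix h2 hn in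
theorem type_unique_aux2 (p : PrimeSpectrum S)
    (hram : ∀ (r : R) (q : Ideal R), q.IsPrime → q.comap (algebraMap S R) = p.asIdeal →
      r - lam r ∈ q)
    (T : Type u) [CommRing T] [Algebra S T] [Module.Flat S T] (PT : PrimeSpectrum T)
    (hPT : PrimeSpectrum.comap (algebraMap S T) PT = p)
    (H₁ : HPres S lam t T ((1 : Matrix (Fin n) (Fin n) R).map
      (Algebra.TensorProduct.includeRight : R →ₐ[S] T ⊗[S] R)))
    (k : ℕ) (hk : n' = 2 * k)
    (H₂ : HPres S lam t' T ((Jn R k hk).map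
      (Algebra.TensorProduct.includeRight : R →ₐ[S] T ⊗[S] R)))
    (m m' : ℕ) (hm : 0 < m) (hm' : 0 < m')
    (hI : LocIsoFamily.Iso lam (t.matrix (Fin m)) (t'.matrix (Fin m')) T) : False := by
  classical
  have hfixT : RInv.IsFixedRing T (T ⊗[S] R) (lamBC lam T).toRingEquiv := by
    have h := Groth.Agent.H77.isFixedRing_baseChange lam.toRingEquiv T hfix
    refine ⟨h.1, fun z => ?_⟩
    rw [← h.2 z, RamLocal.lamT_eq]
    show lamBC lam T z = z ↔ _
    rw [← tauD_eq]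
  have hlamT : ∀ z, lamBC lam T (lamBC lam T z) = z := by
    intro z
    rw [← tauD_eq, ← tauD_eq, RamLocal.tauD_invol lam hlam]
  haveI hint : Algebra.IsIntegral T (T ⊗[S] R) :=
    Groth.Agent.S17356.isIntegral T (T ⊗[S] R) (lamBC lam T) hlamT hfixT
  obtain ⟨q, -, hq, hqp⟩ := Ideal.exists_ideal_over_prime_of_isIntegral PT.asIdeal
    (⊥ : Ideal (T ⊗[S] R)) (by
      intro x hx
      have h0 : algebraMap T (T ⊗[S] R) x = 0 := hx
      have : x = 0 := hfixT.1 (by rw [h0, map_zero])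
      rw [this]
      exact PT.asIdeal.zero_mem)
  haveI := hq
  have hramT := OddExist.ram_baseChange lam p.asIdeal hram T PT.asIdeal
    (congrArg PrimeSpectrum.asIdeal hPT)
  obtain ⟨τ, hτ⟩ : ∃ τ : T ⊗[S] R →+* T ⊗[S] R, τ = (tauD R lam T).toRingHom := ⟨_, rfl⟩
  have hτapp : ∀ z, τ z = tauD R lam T z := fun z => by rw [hτ]; rfl
  have hqτ : ∀ z, z - τ z ∈ q := by
    intro z
    rw [hτapp, tauD_eq]
    exact hramT z q hq hqp
  have hττ : ∀ z, τ (τ z) = z := by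
    intro z
    rw [hτapp, hτapp]
    exact RamLocal.tauD_invol lam hlam T z
  have h2Z : IsUnit (2 : T ⊗[S] R) := by
    have := h2.map (algebraMap S (T ⊗[S] R))
    rwa [map_ofNat] at this
  haveI : Nontrivial (T ⊗[S] R) :=
    ⟨⟨0, 1, fun h => hq.ne_top ((Ideal.eq_top_iff_one _).mpr (h ▸ q.zero_mem))⟩⟩
  -- presentations
  have h1map : (1 : Matrix (Fin n) (Fin n) R).map
      (Algebra.TensorProduct.includeRight : R →ₐ[S] T ⊗[S] R) = 1 :=
    ((Algebra.TensorProduct.includeRight : R →ₐ[S] T ⊗[S] R).toRingHom.mapMatrix).map_one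
  rw [h1map] at H₁
  have hJmap : (Jn R k hk).map (Algebra.TensorProduct.includeRight : R →ₐ[S] T ⊗[S] R) =
      Jn (T ⊗[S] R) k hk :=
    Jn_map (Algebra.TensorProduct.includeRight : R →ₐ[S] T ⊗[S] R).toRingHom k hk
  rw [hJmap] at H₂
  have F₁ := (FPres.of_HPres lam t T _ H₁).matrix lam _ T _ m
  have F₂ := FPres.transport lam _ _ T hI _ ((FPres.of_HPres lam t' T _ H₂).matrix lam _ T _ m')
  obtain ⟨f₁, hf₁1, hf₁2⟩ := F₁
  obtain ⟨f₂, hf₂1, hf₂2⟩ := F₂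
  obtain ⟨g, hg⟩ := exists_trans T f₁ f₂ hf₁1 hf₂1
  have hcard := card_eq_of_algEquiv g
  let ε : Fin m × Fin n ≃ Fin m' × Fin n' := Fintype.equivOfCardEq hcard
  haveI : Nonempty (Fin m × Fin n) := ⟨(⟨0, hm⟩, ⟨0, hn⟩)⟩
  obtain ⟨JZ, hJZ⟩ : ∃ JZ, JZ = Jn (T ⊗[S] R) k hk := ⟨_, rfl⟩
  rw [← hJZ] at hf₂2
  let cm := Matrix.compAlgEquiv (Fin m') (Fin n') (T ⊗[S] R) (T ⊗[S] R)
  have hone : Matrix.comp (Fin m) (Fin m) (Fin n) (Fin n) (T ⊗[S] R)
      (Matrix.diagonal fun _ => (1 : Matrix (Fin n) (Fin n) (T ⊗[S] R))) = 1 := by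
    rw [Matrix.diagonal_one]
    exact Matrix.comp_one
  rw [hone] at hf₁2
  refine unique_core2 τ hττ h2Z q hqτ ε (cm (Matrix.diagonal fun _ => JZ))
    (cm (Matrix.diagonal fun _ => -JZ)) ?_ ?_ ?_ g ?_
  · rw [← map_mul, Matrix.diagonal_mul_diagonal]
    have : (fun i : Fin m' => JZ * -JZ) = fun _ => 1 := funext fun _ => by
      rw [hJZ]; exact Jn_mul_neg _ k hk
    rw [this, Matrix.diagonal_one, map_one]
  · rw [← map_mul, Matrix.diagonal_mul_diagonal]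
    have : (fun i : Fin m' => -JZ * JZ) = fun _ => 1 := funext fun _ => by
      rw [hJZ]; exact Jn_neg_mul _ k hk
    rw [this, Matrix.diagonal_one, map_one]
  · ext ⟨i, a⟩ ⟨j, b⟩
    show τ (Matrix.diagonal (fun _ : Fin m' => JZ) j i b a) =
      -(Matrix.diagonal (fun _ : Fin m' => JZ) i j a b)
    by_cases hij : i = j
    · subst hij
      rw [Matrix.diagonal_apply_eq]
      have h1 : τ (JZ b a) = JZ b a := by
        rw [hJZ]
        exact congrFun (congrFun (Jn_map τ k hk) b) a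
      have h3 : JZ b a = -JZ a b := by
        rw [hJZ]
        exact congrFun (congrFun (Jn_transpose (T ⊗[S] R) k hk) a) b
      rw [h1, h3]
    · rw [Matrix.diagonal_apply_ne _ (Ne.symm hij), Matrix.diagonal_apply_ne _ hij]
      simp
  · intro x
    obtain ⟨z, rfl⟩ := f₁.surjective x
    have e1 : ((f₁ z).map τ)ᵀ = f₁ ((t.matrix (Fin m)).bc S lam T z) := by
      have := hf₁2 z
      rw [Matrix.mul_one, Matrix.one_mul] at this
      rw [this, hτ]
      rfl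
    rw [e1, hg, hg]
    have := hf₂2 z
    rw [hτ]
    exact this

include hlam hfix h2 hn in
theorem type_unique2 (p : PrimeSpectrum S)
    (hram : ∀ (r : R) (q : Ideal R), q.IsPrime → q.comap (algebraMap S R) = p.asIdeal →
      r - lam r ∈ q)
    (S₁ : Type u) [CommRing S₁] [Algebra S S₁] [Module.Flat S S₁]
    (hp₁ : p ∈ Set.range (PrimeSpectrum.comap (algebraMap S S₁)))
    (H₁ : HPres S lam t S₁ ((1 : Matrix (Fin n) (Fin n) R).map
      (Algebra.TensorProduct.includeRight : R →ₐ[S] S₁ ⊗[S] R)))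
    (S₂ : Type u) [CommRing S₂] [Algebra S S₂] [Module.Flat S S₂]
    (hp₂ : p ∈ Set.range (PrimeSpectrum.comap (algebraMap S S₂)))
    (k : ℕ) (hk : n' = 2 * k)
    (H₂ : HPres S lam t' S₂ ((Jn R k hk).map
      (Algebra.TensorProduct.includeRight : R →ₐ[S] S₂ ⊗[S] R)))
    (m m' : ℕ) (hm : 0 < m) (hm' : 0 < m')
    (S₀ : Type u) [CommRing S₀] [Algebra S S₀] [Module.Flat S S₀]
    (hp₀ : p ∈ Set.range (PrimeSpectrum.comap (algebraMap S S₀)))
    (hI : LocIsoFamily.Iso lam (t.matrix (Fin m)) (t'.matrix (Fin m')) S₀) : False := by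
  have hpT : p ∈ Set.range (PrimeSpectrum.comap (algebraMap S (S₀ ⊗[S] (S₁ ⊗[S] S₂)))) :=
    IsoOps.mem_range_tensor S₀ (S₁ ⊗[S] S₂) p hp₀ (IsoOps.mem_range_tensor S₁ S₂ p hp₁ hp₂)
  obtain ⟨PT, hPT⟩ := hpT
  let φ₀ : S₀ →ₐ[S] S₀ ⊗[S] (S₁ ⊗[S] S₂) := Algebra.TensorProduct.includeLeft
  let φ₁ : S₁ →ₐ[S] S₀ ⊗[S] (S₁ ⊗[S] S₂) :=
    (Algebra.TensorProduct.includeRight : S₁ ⊗[S] S₂ →ₐ[S] S₀ ⊗[S] (S₁ ⊗[S] S₂)).comp
      (Algebra.TensorProduct.includeLeft : S₁ →ₐ[S] S₁ ⊗[S] S₂)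
  let φ₂ : S₂ →ₐ[S] S₀ ⊗[S] (S₁ ⊗[S] S₂) :=
    (Algebra.TensorProduct.includeRight : S₁ ⊗[S] S₂ →ₐ[S] S₀ ⊗[S] (S₁ ⊗[S] S₂)).comp
      (Algebra.TensorProduct.includeRight : S₂ →ₐ[S] S₁ ⊗[S] S₂)
  have H₁' := H₁.map lam t φ₁
  have H₂' := H₂.map lam t' φ₂
  rw [RamUnique.map_include] at H₁' H₂'
  exact type_unique_aux2 S R lam hlam hfix h2 n n' hn t t' p hram (S₀ ⊗[S] (S₁ ⊗[S] S₂)) PT hPT H₁' k hk
    H₂' m m' hm hm' (IsoOps.Iso.map lam φ₀ hI)

end Main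

end Groth.Agent.H96.MixTypeMain2
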