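import Mathlib
import Groth.Prelude.Def_CartDual
import Groth.Prelude.Def_CartDual2
import Groth.Prelude.Def_SGA3b
import Groth.Agent.H96.DualBC
import Groth.Agent.H96.DualGA

/-!
# Finite groups of multiplicative type: the dual is étale
-/

set_option autoImplicit false
set_option linter.style.haveILetI false
universe u

namespace Groth.Agent.H96.MultFin

open TensorProduct Coalgebra WithConv

section Descent

variable (R : Type u) [CommRing R] (S : Type u) [CommRing S] [Algebra R S]
variable (B : Type u) [CommRing B] [Bialgebra R B]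

/-- The canonical map `B ⊗ B → (S ⊗ B) ⊗[S] (S ⊗ B)`. -/
noncomputable def iota₂ : B ⊗[R] B →ₗ[R] (S ⊗[R] B) ⊗[S] (S ⊗[R] B) :=
  ((AlgebraTensorModule.distribBaseChange R S B B).toLinearMap.restrictScalars R) ∘ₗ
    (TensorProduct.mk R S (B ⊗[R] B) 1)

@[simp] lemma iota₂_tmul (x y : B) :
    iota₂ R S B (x ⊗ₜ y) = ((1 : S) ⊗ₜ[R] x) ⊗ₜ[S] ((1 : S) ⊗ₜ[R] y) := by
  simp [iota₂]

lemma iota₂_injective [Module.FaithfullyFlat R S] : Function.Injective (iota₂ R S B) := by
  have h1 : Function.Injective (TensorProduct.mk R S (B ⊗[R] B) 1) :=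
    Module.FaithfullyFlat.tensorProduct_mk_injective (B ⊗[R] B)
  intro x y hxy
  apply h1
  exact (AlgebraTensorModule.distribBaseChange R S B B).injective hxy

lemma comul_one_tmul (b : B) :
    comul (R := S) ((1 : S) ⊗ₜ[R] b) = iota₂ R S B (comul (R := R) b) := by
  rw [TensorProduct.comul_tmul, CommSemiring.comul_apply]
  generalize comul (R := R) b = t
  induction t using TensorProduct.induction_on with
  | zero => simp
  | tmul x y => simp
  | add x y hx hy => simp only [tmul_add, map_add, hx, hy]

lemma comm_iota₂ (t : B ⊗[R] B) :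
    TensorProduct.comm S _ _ (iota₂ R S B t) = iota₂ R S B (TensorProduct.comm R _ _ t) := by
  induction t using TensorProduct.induction_on with
  | zero => simp
  | tmul x y => simp
  | add x y hx hy => simp only [map_add, hx, hy]

/-- Cocommutativity descends along faithfully flat base change. -/
theorem isCocomm_of_faithfullyFlat [Module.FaithfullyFlat R S] [IsCocomm S (S ⊗[R] B)] :
    IsCocomm R B := by
  constructor
  apply LinearMap.ext
  intro b
  apply iota₂_injective R S B
  simp only [LinearMap.coe_comp, LinearEquiv.coe_coe, Function.comp_apply]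
  rw [← comm_iota₂, ← comul_one_tmul]
  exact LinearMap.congr_fun (IsCocomm.comm_comp_comul (R := S) (A := S ⊗[R] B)) _

end Descent

section Const

variable (R : Type u) [CommRing R] (B : Type u) [CommRing B] [HopfAlgebra R B]

theorem const_flat (h : SGA3b.IsMultTypeConst R B) : Module.Flat R B := by
  obtain ⟨R', _, _, hff, M, _, ⟨e⟩⟩ := h
  haveI := hff
  haveI : Module.Flat R' (R' ⊗[R] B) := Module.Flat.of_linearEquiv e.toLinearEquiv
  exact Module.Flat.of_flat_tensorProduct R B R'

theorem const_cocomm (h : SGA3b.IsMultTypeConst R B) : IsCocomm R B := by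
  obtain ⟨R', _, _, hff, M, _, ⟨e⟩⟩ := h
  haveI := hff
  haveI : IsCocomm R' (R' ⊗[R] B) := DualGA.isCocomm_of_equiv R' e
  exact isCocomm_of_faithfullyFlat R R' B

theorem const_etale [Nontrivial R] [Module.Finite R B] [Module.Projective R B] [IsCocomm R B]
    (h : SGA3b.IsMultTypeConst R B) : Algebra.Etale R (CartDual.D R B) := by
  obtain ⟨R', _, _, hff, M, _, ⟨e⟩⟩ := h
  haveI := hff
  haveI : Nontrivial R' := (FaithfulSMul.algebraMap_injective R R').nontrivial
  haveI : Module.Finite R' (MonoidAlgebra R' M) := Module.Finite.equiv e.toLinearEquiv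
  haveI : Finite M := DualGA.finite_of_finite R' M
  exact DualBC.etale_of_faithfullyFlat R R' B (DualGA.etale_dual_of_equiv R' M e)

end Const

section Local

variable (R : Type u) [CommRing R] [IsLocalRing R] (B : Type u) [CommRing B] [HopfAlgebra R B]

theorem exists_unit_const (h : SGA3b.IsMultType R B) :
    ∃ f : R, IsUnit f ∧
      SGA3b.IsMultTypeConst (Localization.Away f) (Localization.Away f ⊗[R] B) := by
  obtain ⟨s, hs, hc⟩ := h
  by_contra hcon
  push_neg at hcon
  have hsub : s ⊆ (IsLocalRing.maximalIdeal R : Set R) := by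
    intro f hf
    by_contra hfm
    have hu : IsUnit f := by
      by_contra hnu
      exact hfm ((IsLocalRing.mem_maximalIdeal f).mpr hnu)
    exact hcon f hu (hc f hf)
  have : Ideal.span s ≤ IsLocalRing.maximalIdeal R := Ideal.span_le.mpr hsub
  rw [hs] at this
  exact (IsLocalRing.maximalIdeal.isMaximal R).ne_top (top_le_iff.mp this)

theorem faithfullyFlat_away_of_isUnit {R : Type u} [CommRing R] {f : R} (hf : IsUnit f) :
    Module.FaithfullyFlat R (Localization.Away f) := by
  have hle : Submonoid.powers f ≤ IsUnit.submonoid R := by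
    rintro x ⟨n, rfl⟩
    exact hf.pow n
  let e : R ≃ₐ[R] Localization.Away f := IsLocalization.atUnits R (Submonoid.powers f) hle
  exact Module.FaithfullyFlat.of_linearEquiv R R e.toLinearEquiv.symm

variable [Module.Finite R B]

theorem local_free (h : SGA3b.IsMultType R B) : Module.Free R B := by
  obtain ⟨f, hf, hc⟩ := exists_unit_const R B h
  haveI := faithfullyFlat_away_of_isUnit hf
  haveI : Module.Flat (Localization.Away f) (Localization.Away f ⊗[R] B) :=
    const_flat (Localization.Away f) (Localization.Away f ⊗[R] B) hc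
  haveI : Module.Flat R B := Module.Flat.of_flat_tensorProduct R B (Localization.Away f)
  exact Module.free_of_flat_of_isLocalRing

theorem local_cocomm (h : SGA3b.IsMultType R B) : IsCocomm R B := by
  obtain ⟨f, hf, hc⟩ := exists_unit_const R B h
  haveI := faithfullyFlat_away_of_isUnit hf
  haveI : IsCocomm (Localization.Away f) (Localization.Away f ⊗[R] B) :=
    const_cocomm (Localization.Away f) (Localization.Away f ⊗[R] B) hc
  exact isCocomm_of_faithfullyFlat R (Localization.Away f) B

theorem local_etale [IsCocomm R B] [Module.Free R B] (h : SGA3b.IsMultType R B) :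
    Algebra.Etale R (CartDual.D R B) := by
  obtain ⟨f, hf, hc⟩ := exists_unit_const R B h
  haveI := faithfullyFlat_away_of_isUnit hf
  haveI : Nontrivial (Localization.Away f) :=
    (FaithfulSMul.algebraMap_injective R (Localization.Away f)).nontrivial
  have h1 : Algebra.Etale (Localization.Away f)
      (CartDual.D (Localization.Away f) (Localization.Away f ⊗[R] B)) :=
    const_etale (Localization.Away f) (Localization.Away f ⊗[R] B) hc
  exact DualBC.etale_of_faithfullyFlat R (Localization.Away f) B h1

end Local

end Groth.Agent.H96.MultFin
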