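import Mathlib
import Groth.Agent.H96.DualRig
import Groth.Agent.H96.DualBC
import Groth.Agent.H3.HPair9

/-!
# Homomorphisms of finite Hopf algebras with étale duals over a Henselian local ring

Full faithfulness of reduction to the closed fibre.
-/

set_option autoImplicit false
set_option linter.style.haveILetI false
set_option linter.unusedSectionVars false
universe u

namespace Groth.Agent.H96.MultFinHens

open TensorProduct Coalgebra WithConv Groth.Agent.H96.DualBC Groth.Agent.H96.DualRig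

section

variable (R : Type u) [CommRing R] [IsLocalRing R]
variable (B : Type u) [CommRing B] [HopfAlgebra R B] [Module.Finite R B] [Module.Free R B]
  [IsCocomm R B]
variable (C : Type u) [CommRing C] [HopfAlgebra R C] [Module.Finite R C] [Module.Free R C]
  [IsCocomm R C]

local notation "𝔪" => IsLocalRing.maximalIdeal R
local notation "K" => (R ⧸ IsLocalRing.maximalIdeal R)

/-- Two bialgebra maps with the same reduction are equal. -/
theorem bialgHom_ext_of_residue [Algebra.Etale R (CartDual.D R B)]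
    (φ ψ : C →ₐc[R] B)
    (h : ∀ c : C, (1 : K) ⊗ₜ[R] (φ c) = (1 : K) ⊗ₜ[R] (ψ c)) : φ = ψ := by
  have hjac : 𝔪 ≤ Ideal.jacobson ⊥ := IsLocalRing.maximalIdeal_le_jacobson ⊥
  let g₁ : CartDual.D R B →ₐ[R] CartDual.D R C := (CartDual.transpose R φ : _ →ₐ[R] _)
  let g₂ : CartDual.D R B →ₐ[R] CartDual.D R C := (CartDual.transpose R ψ : _ →ₐ[R] _)
  have hg : g₁ = g₂ := by
    apply Groth.Agent.H3.algHom_eq_of_sub_mem 𝔪 hjac g₁ g₂
    intro x
    apply mem_map_of_forall_apply_mem R 𝔪 C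
    intro c
    have h1 : (g₂ x - g₁ x) c = x (ψ c - φ c) := by
      change x (ψ c) - x (φ c) = x (ψ c - φ c)
      rw [CartDual.coe_apply, CartDual.coe_apply, CartDual.coe_apply, map_sub]
    rw [h1]
    apply apply_mem_of_mem_smul_top R 𝔪 B x.ofConv
    apply mem_smul_top_of_one_tmul_eq_zero R 𝔪 B
    rw [tmul_sub, h c, sub_self]
  apply DFunLike.ext
  intro c
  rw [← sub_eq_zero, ← Module.forall_dual_apply_eq_zero_iff R]
  intro f
  have := congrArg (fun g : CartDual.D R B →ₐ[R] CartDual.D R C => (g (toConv f)) c) hg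
  change f (φ c) = f (ψ c) at this
  rw [map_sub, this, sub_self]

end

section Lift

variable (R : Type u) [CommRing R] [HenselianLocalRing R]
variable (B : Type u) [CommRing B] [HopfAlgebra R B] [Module.Finite R B] [Module.Free R B]
  [IsCocomm R B]
variable (C : Type u) [CommRing C] [HopfAlgebra R C] [Module.Finite R C] [Module.Free R C]
  [IsCocomm R C]

local notation "𝔪" => IsLocalRing.maximalIdeal R
local notation "K" => (R ⧸ IsLocalRing.maximalIdeal R)

/-- Lifting the transpose of a bialgebra map of the closed fibres to the duals. -/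
theorem exists_dual_lift [Algebra.Etale R (CartDual.D R B)] [Algebra.Etale R (CartDual.D R C)]
    (φ₀ : (K ⊗[R] C) →ₐc[K] (K ⊗[R] B)) :
    ∃ θ : CartDual.D R B →ₐ[R] CartDual.D R C, ∀ (x : CartDual.D R B) (c : C),
      Ideal.Quotient.mk 𝔪 ((θ x) c) = (bcHom R K B x) (φ₀ ((1 : K) ⊗ₜ[R] c)) := by
  let θ₀ : CartDual.D K (K ⊗[R] B) →ₐ[K] CartDual.D K (K ⊗[R] C) :=
    (CartDual.transpose K φ₀ : _ →ₐ[K] _)
  let eB : K ⊗[R] CartDual.D R B ≃ₐ[K] CartDual.D K (K ⊗[R] B) := cmpEquiv R K B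
  let eC : K ⊗[R] CartDual.D R C ≃ₐ[K] CartDual.D K (K ⊗[R] C) := cmpEquiv R K C
  let χ : K ⊗[R] CartDual.D R B →ₐ[K] K ⊗[R] CartDual.D R C :=
    (eC.symm : _ →ₐ[K] _).comp (θ₀.comp (eB : _ →ₐ[K] _))
  obtain ⟨θ, hθ⟩ := (Groth.Agent.H3.tensorProduct_map_bijective_of_henselianRing 𝔪
    (CartDual.D R B) (CartDual.D R C)).2 χ
  refine ⟨θ, fun x c => ?_⟩
  have h1 : Algebra.TensorProduct.map (AlgHom.id K K) θ ((1 : K) ⊗ₜ[R] x) = χ ((1 : K) ⊗ₜ[R] x) :=
    AlgHom.congr_fun hθ _
  rw [Algebra.TensorProduct.map_tmul, AlgHom.id_apply] at h1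
  have h2 : eC ((1 : K) ⊗ₜ[R] θ x) = θ₀ (eB ((1 : K) ⊗ₜ[R] x)) := by
    rw [h1]
    change eC (eC.symm (θ₀ (eB ((1 : K) ⊗ₜ[R] x)))) = _
    rw [AlgEquiv.apply_symm_apply]
  have h3 : eC ((1 : K) ⊗ₜ[R] θ x) = bcHom R K C (θ x) := by
    change cmpEquiv R K C ((1 : K) ⊗ₜ[R] θ x) = _
    rw [cmpEquiv_tmul, one_smul]
  have h4 : eB ((1 : K) ⊗ₜ[R] x) = bcHom R K B x := by
    change cmpEquiv R K B ((1 : K) ⊗ₜ[R] x) = _
    rw [cmpEquiv_tmul, one_smul]
  rw [h3, h4] at h2
  have h5 := congrArg (fun y : CartDual.D K (K ⊗[R] C) => y ((1 : K) ⊗ₜ[R] c)) h2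
  change bcHom R K C (θ x) ((1 : K) ⊗ₜ[R] c) = (bcHom R K B x) (φ₀ ((1 : K) ⊗ₜ[R] c)) at h5
  rw [bcHom_apply_tmul] at h5
  rw [← h5, Algebra.smul_def, mul_one]
  rfl

/-- the pairing `D ⊗ D` with `B ⊗ B` separates points. -/
theorem eq_zero_of_forall_ev₂ (t : B ⊗[R] B)
    (h : ∀ x x' : CartDual.D R B, CartDual.ev₂ R B (x ⊗ₜ x') t = 0) : t = 0 := by
  rw [← Module.forall_dual_apply_eq_zero_iff R]
  intro f
  obtain ⟨y, rfl⟩ := (CartDual.ev₂ R B).surjective f
  induction y using TensorProduct.induction_on with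
  | zero => simp
  | tmul x x' => exact h x x'
  | add y y' hy hy' => rw [map_add, LinearMap.add_apply, hy, hy', add_zero]

theorem ev₂_tmul_comul (x x' : CartDual.D R B) (b : B) :
    CartDual.ev₂ R B (x ⊗ₜ x') (comul (R := R) b) = (x * x') b := by
  rw [CartDual.ev₂_tmul_eq', LinearMap.convMul_apply]
  rfl

/-- Every bialgebra map of the closed fibres lifts. -/
theorem exists_bialgHom_lift [Algebra.Etale R (CartDual.D R B)] [Algebra.Etale R (CartDual.D R C)]
    (φ₀ : (K ⊗[R] C) →ₐc[K] (K ⊗[R] B)) :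
    ∃ φ : C →ₐc[R] B, ∀ c : C, φ₀ ((1 : K) ⊗ₜ[R] c) = (1 : K) ⊗ₜ[R] (φ c) := by
  classical
  have hjac : 𝔪 ≤ Ideal.jacobson ⊥ := IsLocalRing.maximalIdeal_le_jacobson ⊥
  obtain ⟨θ, KR⟩ := exists_dual_lift R B C φ₀
  -- the linear map φ
  let T : Module.Dual R B →ₗ[R] Module.Dual R C :=
    (CartDual.toDual R C).toLinearMap ∘ₗ θ.toLinearMap ∘ₗ (CartDual.toDual R B).symm.toLinearMap
  let φL : C →ₗ[R] B := (Module.evalEquiv R B).symm.toLinearMap ∘ₗ T.flip
  have hφ : ∀ (x : CartDual.D R B) (c : C), x (φL c) = (θ x) c := by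
    intro x c
    exact Module.apply_evalEquiv_symm_apply (R := R) (M := B) x.ofConv (T.flip c)
  -- residue of values
  have hmk : ∀ (x : CartDual.D R B) (b : B),
      bcHom R K B x ((1 : K) ⊗ₜ[R] b) = Ideal.Quotient.mk 𝔪 (x b) := by
    intro x b
    rw [bcHom_apply_tmul, Algebra.smul_def, mul_one]
    rfl
  -- reduction of φ
  have hred : ∀ c, (1 : K) ⊗ₜ[R] φL c = φ₀ ((1 : K) ⊗ₜ[R] c) := by
    intro c
    rw [← sub_eq_zero, ← Module.forall_dual_apply_eq_zero_iff K]
    intro ξ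
    have key : ∀ t : K ⊗[R] CartDual.D R B,
        (cmpLin R K B t) ((1 : K) ⊗ₜ[R] φL c - φ₀ ((1 : K) ⊗ₜ[R] c)) = 0 := by
      intro t
      induction t using TensorProduct.induction_on with
      | zero => rw [map_zero]; rfl
      | tmul s x =>
        rw [cmpLin_tmul]
        change s • (bcHom R K B x ((1 : K) ⊗ₜ[R] φL c - φ₀ ((1 : K) ⊗ₜ[R] c))) = 0
        have : bcHom R K B x ((1 : K) ⊗ₜ[R] φL c - φ₀ ((1 : K) ⊗ₜ[R] c)) =
            bcHom R K B x ((1 : K) ⊗ₜ[R] φL c) - bcHom R K B x (φ₀ ((1 : K) ⊗ₜ[R] c)) := by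
          rw [CartDual.coe_apply, CartDual.coe_apply, CartDual.coe_apply, map_sub]
        rw [this, hmk, hφ, KR, sub_self, smul_zero]
      | add t t' ht1 ht2 =>
        rw [map_add]
        change (cmpLin R K B t) _ + (cmpLin R K B t') _ = 0
        rw [ht1, ht2, add_zero]
    obtain ⟨t, ht⟩ := (cmpLin_bijective R K B).2 (toConv ξ)
    have := key t
    rw [ht] at this
    exact this
  -- counit
  have hcounit : ∀ c, counit (R := R) (φL c) = counit (R := R) c := by
    intro c
    have h1 := hφ 1 c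
    rw [map_one] at h1
    exact h1
  -- comultiplication
  have hcomul : ∀ c, comul (R := R) (φL c) = TensorProduct.map φL φL (comul (R := R) c) := by
    intro c
    rw [← sub_eq_zero]
    apply eq_zero_of_forall_ev₂ R B
    intro x x'
    rw [map_sub, ev₂_tmul_comul, hφ, map_mul, ← ev₂_tmul_comul, sub_eq_zero]
    generalize comul (R := R) c = t
    induction t using TensorProduct.induction_on with
    | zero => simp
    | tmul c₁ c₂ =>
      rw [CartDual.ev₂_tmul, TensorProduct.map_tmul, CartDual.ev₂_tmul, hφ, hφ]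
    | add t t' ht ht' => rw [map_add, map_add, map_add, ht, ht']
  -- the unit
  have h11 : φ₀ ((1 : K) ⊗ₜ[R] (1 : C)) = (1 : K) ⊗ₜ[R] (1 : B) := by
    rw [← Algebra.TensorProduct.one_def, map_one, Algebra.TensorProduct.one_def]
  have hθcounit : ∀ x : CartDual.D R B, (θ x) 1 = x 1 := by
    let g₁ : CartDual.D R B →ₐ[R] R := (Bialgebra.counitAlgHom R (CartDual.D R C)).comp θ
    let g₂ : CartDual.D R B →ₐ[R] R := Bialgebra.counitAlgHom R (CartDual.D R B)
    have hg : g₁ = g₂ := by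
      apply Groth.Agent.H3.algHom_eq_of_sub_mem 𝔪 hjac g₁ g₂
      intro x
      rw [Algebra.algebraMap_self, Ideal.map_id]
      change x 1 - (θ x) 1 ∈ 𝔪
      rw [← Ideal.Quotient.eq_zero_iff_mem, map_sub, KR, sub_eq_zero, h11, hmk]
    intro x
    exact congrArg (fun g : CartDual.D R B →ₐ[R] R => g x) hg
  have hone : φL 1 = 1 := by
    rw [← sub_eq_zero, ← Module.forall_dual_apply_eq_zero_iff R]
    intro f
    rw [map_sub, sub_eq_zero]
    have h1 := hφ (toConv f) 1
    rw [hθcounit] at h1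
    exact h1
  -- the coalgebra map
  let φc : C →ₗc[R] B :=
    { toLinearMap := φL
      counit_comp := LinearMap.ext hcounit
      map_comp_comul := LinearMap.ext (fun c => (hcomul c).symm) }
  have hφc : ∀ c, φc c = φL c := fun c => rfl
  -- multiplicativity
  have hmul : ∀ c c', φL (c * c') = φL c * φL c' := by
    let α : CartDual.D R B →ₐ[R] CartDual.D R (C ⊗[R] C) :=
      (transposeAlg R (Bialgebra.mulCoalgHom R C)).comp θ
    let β : CartDual.D R B →ₐ[R] CartDual.D R (C ⊗[R] C) :=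
      transposeAlg R ((Bialgebra.mulCoalgHom R B).comp (Coalgebra.TensorProduct.map φc φc))
    have hαβ : α = β := by
      apply Groth.Agent.H3.algHom_eq_of_sub_mem 𝔪 hjac α β
      intro x
      apply mem_map_of_forall_apply_mem R 𝔪 (C ⊗[R] C)
      intro a
      induction a using TensorProduct.induction_on with
      | zero =>
        rw [CartDual.coe_apply, map_zero]
        exact Ideal.zero_mem _
      | tmul c c' =>
        change x (φL c * φL c') - (θ x) (c * c') ∈ 𝔪
        rw [← Ideal.Quotient.eq_zero_iff_mem, map_sub, KR, sub_eq_zero, ← hmk]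
        have h2 : (1 : K) ⊗ₜ[R] (c * c') = ((1 : K) ⊗ₜ[R] c) * ((1 : K) ⊗ₜ[R] c') := by
          rw [Algebra.TensorProduct.tmul_mul_tmul, one_mul]
        rw [h2, map_mul, ← hred, ← hred, Algebra.TensorProduct.tmul_mul_tmul, one_mul]
      | add a a' h h' =>
        rw [CartDual.coe_apply, map_add]
        exact Ideal.add_mem _ h h'
    intro c c'
    rw [← sub_eq_zero, ← Module.forall_dual_apply_eq_zero_iff R]
    intro f
    rw [map_sub, sub_eq_zero]
    have h1 := hφ (toConv f) (c * c')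
    have h2 := congrArg (fun g : CartDual.D R B →ₐ[R] CartDual.D R (C ⊗[R] C) =>
      (g (toConv f)) (c ⊗ₜ[R] c')) hαβ
    exact h1.trans h2
  refine ⟨{ toLinearMap := φL
            counit_comp := LinearMap.ext hcounit
            map_comp_comul := LinearMap.ext (fun c => (hcomul c).symm)
            map_one' := hone
            map_mul' := hmul }, fun c => (hred c).symm⟩

end Lift

end Groth.Agent.H96.MultFinHens
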