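import Mathlib
import Groth.Prelude.Def_CartDual
import Groth.Prelude.Def_CartDual2
import Groth.Prelude.Def_SGA3b
import Groth.Agent.H96.DualBC
import Groth.Agent.H96.DualGA
import Groth.Agent.H96.MultFin

/-!
# Finite groups of multiplicative type over an arbitrary base: Zariski-local arguments

`A` finite over `R` and of multiplicative type (Zariski-locally constant type) is finite projective,
cocommutative, and its Cartier dual is étale.
-/

set_option autoImplicit false
set_option linter.style.haveILetI false
universe u

namespace Groth.Agent.H96.MultFinLoc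

open TensorProduct Coalgebra

section FP

variable (S : Type u) [CommRing S] (S' : Type u) [CommRing S'] [Algebra S S']
  [Module.FaithfullyFlat S S']
variable (N : Type u) [AddCommGroup N] [Module S N]

/-- Finite presentation of modules descends along faithfully flat base change. -/
theorem finitePresentation_of_faithfullyFlat [Module.FinitePresentation S' (S' ⊗[S] N)] :
    Module.FinitePresentation S N := by
  haveI : Module.Finite S N := Module.Finite.of_finite_tensorProduct_of_faithfullyFlat S'
  obtain ⟨n, f, hf⟩ := Module.Finite.exists_fin' S N
  refine Module.finitePresentation_of_surjective f hf ?_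
  have hex : Function.Exact ((LinearMap.ker f).subtype.baseChange S') (f.baseChange S') :=
    lTensor_exact S' f.exact_subtype_ker_map hf
  have hker : (LinearMap.ker (f.baseChange S')).FG :=
    Module.FinitePresentation.fg_ker (f.baseChange S') (LinearMap.lTensor_surjective S' hf)
  rw [LinearMap.exact_iff] at hex
  rw [hex] at hker
  have hinj : Function.Injective ((LinearMap.ker f).subtype.baseChange S') :=
    Module.Flat.lTensor_preserves_injective_linearMap _ (Submodule.injective_subtype _)
  haveI : Module.Finite S' (S' ⊗[S] LinearMap.ker f) := by
    refine ⟨?_⟩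
    apply Submodule.fg_of_fg_map_injective _ hinj
    rwa [Submodule.map_top]
  haveI : Module.Finite S (LinearMap.ker f) :=
    Module.Finite.of_finite_tensorProduct_of_faithfullyFlat S'
  exact Module.Finite.iff_fg.mp this

end FP

section EtaleSpan

variable (R : Type u) [CommRing R] (D : Type u) [CommRing D] [Algebra R D]

/-- Étaleness is local on the base for basic open covers. -/
theorem etale_of_span (s : Set R) (hs : Ideal.span s = ⊤)
    (h : ∀ r : s, Algebra.Etale (Localization.Away r.1) (Localization.Away r.1 ⊗[R] D)) :
    Algebra.Etale R D := by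
  rw [← RingHom.etale_algebraMap]
  refine RingHom.Etale.ofLocalizationSpan (algebraMap R D) s hs ?_
  intro r
  letI : Algebra D (Localization.Away r.1 ⊗[R] D) := Algebra.TensorProduct.rightAlgebra
  haveI : IsLocalization (Algebra.algebraMapSubmonoid D (Submonoid.powers r.1))
      (Localization.Away r.1 ⊗[R] D) := IsLocalization.tensorRight _ _
  have hpow : Algebra.algebraMapSubmonoid D (Submonoid.powers r.1) =
      Submonoid.powers (algebraMap R D r.1) := Submonoid.map_powers _ _
  haveI : IsLocalization.Away (algebraMap R D r.1) (Localization.Away r.1 ⊗[R] D) := by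
    rw [IsLocalization.Away, ← hpow]; infer_instance
  let e : (Localization.Away r.1 ⊗[R] D) ≃ₐ[D] Localization.Away (algebraMap R D r.1) :=
    IsLocalization.algEquiv (Submonoid.powers (algebraMap R D r.1)) _ _
  have hcomp : Localization.awayMap (algebraMap R D) r.1 =
      (e.toRingEquiv.toRingHom).comp
        (algebraMap (Localization.Away r.1) (Localization.Away r.1 ⊗[R] D)) := by
    apply IsLocalization.ringHom_ext (Submonoid.powers r.1)
    ext x
    simp only [RingHom.coe_comp, Function.comp_apply]
    rw [Localization.awayMap, IsLocalization.Away.map, IsLocalization.map_eq]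
    have h1 : algebraMap (Localization.Away r.1) (Localization.Away r.1 ⊗[R] D)
        (algebraMap R (Localization.Away r.1) x) =
        algebraMap D (Localization.Away r.1 ⊗[R] D) (algebraMap R D x) := by
      rw [Algebra.TensorProduct.algebraMap_apply, Algebra.TensorProduct.right_algebraMap_apply]
      rw [Algebra.algebraMap_self, RingHom.id_apply, Algebra.algebraMap_eq_smul_one,
        Algebra.algebraMap_eq_smul_one, smul_tmul]
    rw [h1]
    exact (e.commutes _).symm
  rw [hcomp]
  exact RingHom.Etale.respectsIso.1 _ e.toRingEquiv ((RingHom.etale_algebraMap).mpr (h r))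

end EtaleSpan

section Main

variable (R : Type u) [CommRing R] (A : Type u) [CommRing A] [HopfAlgebra R A]

theorem flat (h : SGA3b.IsMultType R A) : Module.Flat R A := by
  obtain ⟨s, hs, hc⟩ := h
  refine Module.flat_of_isLocalized_span R A s hs (fun r => Localization.Away r.1 ⊗[R] A)
    (fun r => TensorProduct.mk R (Localization.Away r.1) A 1) ?_
  intro r
  haveI : Module.Flat (Localization.Away r.1) (Localization.Away r.1 ⊗[R] A) :=
    MultFin.const_flat _ _ (hc r.1 r.2)
  exact Module.Flat.trans R (Localization.Away r.1) _

theorem cocomm (h : SGA3b.IsMultType R A) : IsCocomm R A := by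
  obtain ⟨s, hs, hc⟩ := h
  constructor
  apply LinearMap.ext
  intro a
  simp only [LinearMap.coe_comp, LinearEquiv.coe_coe, Function.comp_apply]
  apply Module.eq_of_isLocalized_span s hs
    (fun r => Localization.Away r.1 ⊗[R] (A ⊗[R] A))
    (fun r => TensorProduct.mk R (Localization.Away r.1) (A ⊗[R] A) 1)
  intro r
  haveI : IsCocomm (Localization.Away r.1) (Localization.Away r.1 ⊗[R] A) :=
    MultFin.const_cocomm _ _ (hc r.1 r.2)
  apply (AlgebraTensorModule.distribBaseChange R (Localization.Away r.1) A A).injective
  show MultFin.iota₂ R (Localization.Away r.1) A _ = MultFin.iota₂ R (Localization.Away r.1) A _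
  rw [← MultFin.comm_iota₂, ← MultFin.comul_one_tmul]
  exact LinearMap.congr_fun (IsCocomm.comm_comp_comul (R := Localization.Away r.1)
    (A := Localization.Away r.1 ⊗[R] A)) _

variable [Module.Finite R A]

theorem finitePresentation (h : SGA3b.IsMultType R A) : Module.FinitePresentation R A := by
  obtain ⟨s, hs, hc⟩ := h
  refine Module.FinitePresentation.of_localizationSpan' s hs
    (Rₚ := fun g => Localization.Away g.1) (Mₚ := fun g => Localization.Away g.1 ⊗[R] A)
    (fun g => TensorProduct.mk R (Localization.Away g.1) A 1) ?_
  intro g
  obtain ⟨R', _, _, hff, M, _, ⟨e⟩⟩ := hc g.1 g.2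
  haveI := hff
  haveI : Module.Finite R' (MonoidAlgebra R' M) := Module.Finite.equiv e.toLinearEquiv
  haveI : Module.Free R' (R' ⊗[Localization.Away g.1] (Localization.Away g.1 ⊗[R] A)) :=
    Module.Free.of_equiv e.symm.toLinearEquiv
  haveI : Module.FinitePresentation R'
      (R' ⊗[Localization.Away g.1] (Localization.Away g.1 ⊗[R] A)) :=
    Module.finitePresentation_of_projective _ _
  exact finitePresentation_of_faithfullyFlat (Localization.Away g.1) R' _

theorem projective (h : SGA3b.IsMultType R A) : Module.Projective R A := by
  haveI := flat R A h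
  haveI := finitePresentation R A h
  exact Module.Flat.projective_of_finitePresentation

theorem etale [Module.Projective R A] [IsCocomm R A] (h : SGA3b.IsMultType R A) :
    Algebra.Etale R (CartDual.D R A) := by
  obtain ⟨s, hs, hc⟩ := h
  apply etale_of_span R _ s hs
  intro r
  have e : (Localization.Away r.1 ⊗[R] CartDual.D R A) ≃ₐ[Localization.Away r.1]
      CartDual.D (Localization.Away r.1) (Localization.Away r.1 ⊗[R] A) :=
    DualBC.cmpEquiv R (Localization.Away r.1) A
  have h1 : Algebra.Etale (Localization.Away r.1)
      (CartDual.D (Localization.Away r.1) (Localization.Away r.1 ⊗[R] A)) := by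
    rcases subsingleton_or_nontrivial (Localization.Away r.1) with hsub | hnt
    · haveI : Subsingleton (CartDual.D (Localization.Away r.1) (Localization.Away r.1 ⊗[R] A)) :=
        Module.subsingleton (Localization.Away r.1) _
      let e0 : Localization.Away r.1 ≃ₐ[Localization.Away r.1]
          CartDual.D (Localization.Away r.1) (Localization.Away r.1 ⊗[R] A) :=
        AlgEquiv.ofBijective (Algebra.ofId _ _)
          ⟨Function.injective_of_subsingleton _, Function.surjective_to_subsingleton _⟩
      exact Algebra.Etale.of_equiv e0
    · haveI : IsCocomm (Localization.Away r.1) (Localization.Away r.1 ⊗[R] A) :=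
        MultFin.const_cocomm _ _ (hc r.1 r.2)
      exact MultFin.const_etale (Localization.Away r.1) (Localization.Away r.1 ⊗[R] A)
        (hc r.1 r.2)
  exact Algebra.Etale.of_equiv e.symm

end Main

end Groth.Agent.H96.MultFinLoc
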