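import Mathlib
import Groth.Prelude.Def_CartDual
import Groth.Prelude.Def_CartDual2
import Groth.Prelude.Def_SGA3b
import Groth.Agent.H96.MultFin
import Groth.Agent.H96.IsoTriv
import Groth.Agent.H96.EtLift
import Groth.Agent.H96.HopfLift
import Groth.Agent.H96.DualBialg

/-!
# Lifting finite groups of multiplicative type over a henselian local ring
-/

set_option autoImplicit false
set_option linter.style.haveILetI false
universe u

namespace Groth.Agent.H96.MultLift

open TensorProduct Coalgebra CartDual

lemma connectedSpace_of_isLocalRing (A : Type u) [CommRing A] [IsLocalRing A] :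
    ConnectedSpace (PrimeSpectrum A) where
  toPreconnectedSpace := ⟨isPreconnected_of_forall (IsLocalRing.closedPoint A)
    (fun y _ => ⟨closure {y}, Set.subset_univ _,
      specializes_iff_mem_closure.mp
        ((PrimeSpectrum.le_iff_specializes y _).mp
          (IsLocalRing.le_maximalIdeal y.isPrime.ne_top)),
      subset_closure rfl, isPreconnected_singleton.closure⟩)⟩
  toNonempty := ⟨IsLocalRing.closedPoint A⟩

section HopfLift

variable (R : Type u) [CommRing R] [HenselianLocalRing R]
variable (D₀ : Type u) [CommRing D₀] [HopfAlgebra (IsLocalRing.ResidueField R) D₀]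
  [IsCocomm (IsLocalRing.ResidueField R) D₀] [Module.Finite (IsLocalRing.ResidueField R) D₀]
  [Algebra.Etale (IsLocalRing.ResidueField R) D₀]

/-- A finite étale commutative cocommutative Hopf algebra over the residue field lifts. -/
theorem exists_hopf_lift :
    ∃ (E : Type u) (_ : CommRing E) (_ : HopfAlgebra R E), Module.Finite R E ∧ Module.Free R E ∧
      Algebra.Etale R E ∧ IsCocomm R E ∧
      Nonempty ((IsLocalRing.ResidueField R ⊗[R] E) ≃ₐc[IsLocalRing.ResidueField R] D₀) := by
  obtain ⟨E, hE, halg, hfin, hfree, het, ⟨θ⟩⟩ := EtLift.exists_lift R D₀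
  refine ⟨E, hE, HopfLift.liftHopf R E D₀ θ, hfin, hfree, het, ?_, ?_⟩
  · exact HopfLift.lift_isCocomm R E D₀ θ
  · exact ⟨HopfLift.liftEquiv R E D₀ θ⟩

end HopfLift

section Main

variable (R : Type u) [CommRing R] [HenselianLocalRing R]
variable (C₀ : Type u) [CommRing C₀] [HopfAlgebra (IsLocalRing.ResidueField R) C₀]
  [Module.Finite (IsLocalRing.ResidueField R) C₀]

theorem exists_multType_lift
    (h₀ : SGA3b.IsMultType (IsLocalRing.ResidueField R) C₀) :
    ∃ (C : Type u) (_ : CommRing C) (_ : HopfAlgebra R C), Module.Finite R C ∧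
      SGA3b.IsIsotrivial R C ∧
      Nonempty ((IsLocalRing.ResidueField R ⊗[R] C) ≃ₐc[IsLocalRing.ResidueField R] C₀) := by
  haveI : IsCocomm (IsLocalRing.ResidueField R) C₀ :=
    MultFin.local_cocomm (IsLocalRing.ResidueField R) C₀ h₀
  haveI : Algebra.Etale (IsLocalRing.ResidueField R) (D (IsLocalRing.ResidueField R) C₀) :=
    MultFin.local_etale (IsLocalRing.ResidueField R) C₀ h₀
  obtain ⟨E, hE, hH, hfin, hfree, het, hcc, ⟨φ⟩⟩ :=
    exists_hopf_lift R (D (IsLocalRing.ResidueField R) C₀)
  haveI := hfin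
  haveI := hfree
  haveI := het
  haveI := hcc
  haveI : ConnectedSpace (PrimeSpectrum R) := connectedSpace_of_isLocalRing R
  haveI : Algebra.Etale R (D R (D R E)) :=
    Algebra.Etale.of_equiv ((DualBialg.evalEquiv R E : E ≃ₐc[R] D R (D R E)) : E ≃ₐ[R] D R (D R E))
  refine ⟨D R E, inferInstance, inferInstance, inferInstance, ?_, ?_⟩
  · exact IsoTriv.isIsotrivial_of_etale_dual R (D R E)
  · let e1 : (IsLocalRing.ResidueField R ⊗[R] D R E) ≃ₐc[IsLocalRing.ResidueField R]
        D (IsLocalRing.ResidueField R) (IsLocalRing.ResidueField R ⊗[R] E) :=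
      DualBialg.cmpBialg R (IsLocalRing.ResidueField R) E
    let e2 : D (IsLocalRing.ResidueField R) (IsLocalRing.ResidueField R ⊗[R] E)
        ≃ₐc[IsLocalRing.ResidueField R]
        D (IsLocalRing.ResidueField R) (D (IsLocalRing.ResidueField R) C₀) :=
      DualBialg.transposeEquiv (IsLocalRing.ResidueField R) φ.symm
    let e3 : C₀ ≃ₐc[IsLocalRing.ResidueField R]
        D (IsLocalRing.ResidueField R) (D (IsLocalRing.ResidueField R) C₀) :=
      DualBialg.evalEquiv (IsLocalRing.ResidueField R) C₀
    exact ⟨(e1.trans e2).trans e3.symm⟩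

end Main

end Groth.Agent.H96.MultLift
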