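import Mathlib

set_option autoImplicit false
set_option linter.style.haveILetI false
universe u

namespace Groth.Agent.H96.NilGrp_P1

/-- nilpotent Nakayama: `N ⊔ I • ⊤ = ⊤` with `I` nilpotent implies `N = ⊤`. -/
theorem eq_top_of_sup_smul_top {B M : Type*} [CommRing B] [AddCommGroup M] [Module B M]
    (I : Ideal B) (hI : IsNilpotent I) (N : Submodule B M)
    (h : N ⊔ I • (⊤ : Submodule B M) = ⊤) : N = ⊤ := by
  obtain ⟨n, hn⟩ := hI
  have key : ∀ k : ℕ, N ⊔ I ^ k • (⊤ : Submodule B M) = ⊤ := by
    intro k
    induction k with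
    | zero => simp
    | succ k ih =>
      rw [eq_top_iff]
      calc (⊤ : Submodule B M) = N ⊔ I • (⊤ : Submodule B M) := h.symm
        _ = N ⊔ I • (N ⊔ I ^ k • (⊤ : Submodule B M)) := by rw [ih]
        _ = N ⊔ (I • N ⊔ I • I ^ k • (⊤ : Submodule B M)) := by rw [Submodule.smul_sup]
        _ ≤ N ⊔ I ^ (k + 1) • (⊤ : Submodule B M) := by
            refine sup_le le_sup_left (sup_le (le_trans Submodule.smul_le_right le_sup_left) ?_)
            rw [← Submodule.mul_smul, ← pow_succ']
            exact le_sup_right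
  have := key n
  rw [hn] at this
  simpa using this

/-- an ideal `K` with `K ≤ I * K`, `I` nilpotent, is zero. -/
theorem eq_bot_of_le_mul {B : Type*} [CommRing B] (I : Ideal B) (hI : IsNilpotent I)
    (K : Ideal B) (h : K ≤ I * K) : K = ⊥ := by
  obtain ⟨n, hn⟩ := hI
  have key : ∀ k : ℕ, K ≤ I ^ k * K := by
    intro k
    induction k with
    | zero => simp
    | succ k ih =>
      calc K ≤ I * K := h
        _ ≤ I * (I ^ k * K) := Ideal.mul_mono_right ih
        _ = I ^ (k + 1) * K := by rw [← mul_assoc, ← pow_succ']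
  have := key n
  rw [hn] at this
  simpa using this

/-- P1: ring lemma. `A` flat over `R'`, `J` nilpotent, `B/JB → A/JA` bijective ⇒ `B → A` bijective. -/
theorem ring_bij {R' B A B₀ A₀ : Type u} [CommRing R'] [CommRing B] [CommRing A] [CommRing B₀]
    [CommRing A₀] (J : Ideal R') (hJ : IsNilpotent J)
    (r : R' →+* B) (φ : B →+* A) (hflat : (φ.comp r).Flat)
    (q : B →+* B₀) (p : A →+* A₀) (φ₀ : B₀ →+* A₀) (hcomm : φ₀.comp q = p.comp φ)
    (hq : Function.Surjective q)
    (hkq : RingHom.ker q = J.map r) (hkp : RingHom.ker p = J.map (φ.comp r))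
    (hφ₀ : Function.Bijective φ₀) : Function.Bijective φ := by
  have hcomm' : ∀ b, φ₀ (q b) = p (φ b) := fun b => congrArg (fun f => f b) hcomm
  have hI' : IsNilpotent (J.map r) := by
    obtain ⟨n, hn⟩ := hJ
    exact ⟨n, by rw [← Ideal.map_pow, hn, Ideal.zero_eq_bot, Ideal.map_bot]; rfl⟩
  -- surjectivity
  have hsurj : Function.Surjective φ := by
    letI := φ.toAlgebra
    have hN : LinearMap.range (Algebra.linearMap B A) ⊔ (J.map r) • (⊤ : Submodule B A) = ⊤ := by
      rw [eq_top_iff]
      intro a _
      obtain ⟨b₀, hb₀⟩ := hφ₀.2 (p a)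
      obtain ⟨b, rfl⟩ := hq b₀
      have h1 : p (a - φ b) = 0 := by
        rw [map_sub, ← hb₀, hcomm' b, sub_self]
      have h2 : a - φ b ∈ J.map (φ.comp r) := by rw [← hkp]; exact h1
      rw [← Ideal.map_map] at h2
      have h3 : a - φ b ∈ (J.map r) • (⊤ : Submodule B A) := by
        rw [Ideal.smul_top_eq_map]
        exact h2
      have : a = φ b + (a - φ b) := by ring
      rw [this]
      exact Submodule.add_mem_sup ⟨b, rfl⟩ h3
    have htop := eq_top_of_sup_smul_top (J.map r) hI' _ hN
    intro a
    have ha : a ∈ LinearMap.range (Algebra.linearMap B A) := by rw [htop]; trivial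
    obtain ⟨b, hb⟩ := ha
    exact ⟨b, hb⟩
  refine ⟨?_, hsurj⟩
  -- injectivity
  rw [injective_iff_map_eq_zero]
  have hKle : RingHom.ker φ ≤ J.map r := by
    intro b hb
    rw [← hkq, RingHom.mem_ker]
    apply hφ₀.1
    rw [hcomm' b, (RingHom.mem_ker).1 hb, map_zero, map_zero]
  have hKmul : RingHom.ker φ ≤ J.map r * RingHom.ker φ := by
    intro k hk
    have hk0 : φ k = 0 := hk
    letI : Algebra R' B := r.toAlgebra
    letI : Algebra R' A := (φ.comp r).toAlgebra
    haveI : Module.Flat R' A := hflat
    have hk1 : k ∈ J • (⊤ : Submodule R' B) := by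
      rw [Ideal.smul_top_eq_map]
      exact hKle hk
    have hspan : (⊤ : Submodule R' B) = Submodule.span R' (Set.range (id : B → B)) := by
      rw [Set.range_id, Submodule.span_univ]
    rw [hspan, Submodule.mem_ideal_smul_span_iff_exists_sum] at hk1
    obtain ⟨a, haJ, hak⟩ := hk1
    -- the relation in `A`
    have hrel : ∑ i : a.support, a i.1 • φ i.1 = 0 := by
      rw [Finset.sum_coe_sort a.support (fun b => a b • φ b)]
      have : φ k = ∑ b ∈ a.support, a b • φ b := by
        rw [← hak, Finsupp.sum, map_sum]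
        refine Finset.sum_congr rfl fun b _ => ?_
        simp only [id, Algebra.smul_def, map_mul]
        rfl
      rw [← this, hk0]
    obtain ⟨n, c, y, hy, hc⟩ := Module.Flat.isTrivialRelation_of_sum_smul_eq_zero (R := R') (M := A)
      (ι := a.support) (f := fun i => a i.1) (x := fun i => φ i.1) hrel
    replace hy : ∀ i : a.support, φ i.1 = ∑ j, c i j • y j := hy
    replace hc : ∀ j, ∑ i : a.support, a i.1 * c i j = 0 := hc
    choose z hz using fun j => hsurj (y j)
    -- the corrected elements lie in the kernel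
    have hd : ∀ i : a.support, (i.1 - ∑ j, r (c i j) * z j) ∈ RingHom.ker φ := by
      intro i
      rw [RingHom.mem_ker, map_sub, hy i, map_sum, sub_eq_zero]
      refine Finset.sum_congr rfl fun j _ => ?_
      rw [map_mul, hz j, Algebra.smul_def]
      rfl
    have hksum : k = ∑ i : a.support, r (a i.1) * (i.1 - ∑ j, r (c i j) * z j) := by
      have e1 : k = ∑ i : a.support, r (a i.1) * i.1 := by
        rw [Finset.sum_coe_sort a.support (fun b => r (a b) * b), ← hak, Finsupp.sum]
        refine Finset.sum_congr rfl fun b _ => ?_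
        simp only [id, Algebra.smul_def]
        rfl
      have e2 : ∑ i : a.support, r (a i.1) * ∑ j, r (c i j) * z j = 0 := by
        simp_rw [Finset.mul_sum]
        rw [Finset.sum_comm]
        refine Finset.sum_eq_zero fun j _ => ?_
        have : ∑ i : a.support, r (a i.1) * (r (c i j) * z j) =
            r (∑ i : a.support, a i.1 * c i j) * z j := by
          rw [map_sum, Finset.sum_mul]
          refine Finset.sum_congr rfl fun i _ => ?_
          rw [map_mul, mul_assoc]
        rw [this, hc j, map_zero, zero_mul]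
      simp_rw [mul_sub]
      rw [Finset.sum_sub_distrib, e2, sub_zero]
      exact e1
    rw [hksum]
    refine Ideal.sum_mem _ fun i _ => ?_
    exact Ideal.mul_mem_mul (Ideal.mem_map_of_mem r (haJ i.1)) (hd i)
  have hK : RingHom.ker φ = ⊥ := eq_bot_of_le_mul (J.map r) hI' _ hKmul
  intro b hb
  have : b ∈ RingHom.ker φ := hb
  rw [hK] at this
  exact this

end Groth.Agent.H96.NilGrp_P1
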