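import Mathlib

set_option autoImplicit false
universe v w u
open CategoryTheory MonoidalCategory CartesianMonoidalCategory MonObj

namespace Groth.Agent.H96.NilGrp_P5

section
variable {C : Type w} [Category.{v} C] [CartesianMonoidalCategory C]
  (X : C) (P : X ⊗ X ⟶ X)

/-- pointwise multiplication -/
def mulT {T : C} (x y : T ⟶ X) : T ⟶ X := lift x y ≫ P

variable {X P}

theorem comp_mulT {T T' : C} (f : T' ⟶ T) (x y : T ⟶ X) :
    f ≫ mulT X P x y = mulT X P (f ≫ x) (f ≫ y) := by
  unfold mulT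
  rw [← Category.assoc, comp_lift]

theorem mulT_assoc (hassoc : (P ▷ X) ≫ P = (α_ X X X).hom ≫ (X ◁ P) ≫ P)
    {T : C} (x y z : T ⟶ X) :
    mulT X P (mulT X P x y) z = mulT X P x (mulT X P y z) := by
  unfold mulT
  have h1 : lift (lift x y ≫ P) z = lift (lift x y) z ≫ (P ▷ X) := by
    rw [lift_whiskerRight]
  have h2 : lift x (lift y z ≫ P) = lift x (lift y z) ≫ (X ◁ P) := by
    rw [lift_whiskerLeft]
  rw [h1, h2, Category.assoc, hassoc, ← Category.assoc, lift_lift_associator_hom, Category.assoc]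

theorem mulT_right_cancel (hσ : IsIso (lift P (snd X X))) {T : C} (x x' y : T ⟶ X)
    (h : mulT X P x y = mulT X P x' y) : x = x' := by
  have h1 : lift x y ≫ lift P (snd X X) = lift x' y ≫ lift P (snd X X) := by
    rw [comp_lift, comp_lift, lift_snd, lift_snd]
    exact congrArg (fun t => lift t y) h
  have h2 : lift x y = lift x' y := (cancel_mono (lift P (snd X X))).1 h1
  have := congrArg (fun t => t ≫ fst X X) h2
  simpa using this

/-- the pointwise left inverse -/
noncomputable def invT (e : 𝟙_ C ⟶ X) (hσ : IsIso (lift P (snd X X))) {T : C} (y : T ⟶ X) :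
    T ⟶ X :=
  lift (toUnit T ≫ e) y ≫ inv (lift P (snd X X)) ≫ fst X X

theorem invT_mulT (e : 𝟙_ C ⟶ X) (hσ : IsIso (lift P (snd X X))) {T : C} (y : T ⟶ X) :
    mulT X P (invT e hσ y) y = toUnit T ≫ e := by
  set w : T ⟶ X ⊗ X := lift (toUnit T ≫ e) y ≫ inv (lift P (snd X X)) with hw
  have hwσ : w ≫ lift P (snd X X) = lift (toUnit T ≫ e) y := by
    rw [hw, Category.assoc, IsIso.inv_hom_id, Category.comp_id]
  rw [comp_lift] at hwσ
  have h1 : w ≫ P = toUnit T ≫ e := by
    have := congrArg (fun t => t ≫ fst X X) hwσ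
    simpa using this
  have h2 : w ≫ snd X X = y := by
    have := congrArg (fun t => t ≫ snd X X) hwσ
    simpa using this
  have h3 : invT e hσ y = w ≫ fst X X := by
    unfold invT
    rw [hw, Category.assoc]
  unfold mulT
  rw [h3, ← h2, lift_comp_fst_snd, h1]

end

/-- P5: group object from associativity + left unit (on points) + shear iso. -/
theorem grp_of_unit_shear {C : Type w} [Category.{v} C] [CartesianMonoidalCategory C]
    (X : C) (P : X ⊗ X ⟶ X)
    (hassoc : (P ▷ X) ≫ P = (α_ X X X).hom ≫ (X ◁ P) ≫ P)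
    (e : 𝟙_ C ⟶ X) (he : ∀ {T : C} (x : T ⟶ X), lift (toUnit T ≫ e) x ≫ P = x)
    (hσ : IsIso (lift P (snd X X))) :
    ∃ _ : GrpObj X, μ[X] = P := by
  have hone : ∀ {T : C} (x : T ⟶ X), mulT X P (toUnit T ≫ e) x = x := fun x => he x
  -- right identity
  have hone' : ∀ {T : C} (x : T ⟶ X), mulT X P x (toUnit T ≫ e) = x := by
    intro T x
    apply mulT_right_cancel hσ _ _ x
    rw [mulT_assoc hassoc, hone]
  -- right inverse
  have hinv' : ∀ {T : C} (y : T ⟶ X), mulT X P y (invT e hσ y) = toUnit T ≫ e := by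
    intro T y
    apply mulT_right_cancel hσ _ _ y
    rw [mulT_assoc hassoc, invT_mulT, hone', hone]
  refine ⟨{ one := e
            mul := P
            one_mul := ?_
            mul_one := ?_
            mul_assoc := hassoc
            inv := invT e hσ (𝟙 X)
            left_inv := ?_
            right_inv := ?_ }, rfl⟩
  · have h1 : e ▷ X = lift (fst _ _ ≫ e) (snd _ _) := by
      ext <;> simp
    rw [h1, leftUnitor_hom]
    have h2 : fst (𝟙_ C) X = toUnit _ := toUnit_unique _ _
    rw [h2]
    exact he _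
  · have h1 : X ◁ e = lift (fst _ _) (snd _ _ ≫ e) := by
      ext <;> simp
    rw [h1, rightUnitor_hom]
    have h2 : snd X (𝟙_ C) = toUnit _ := toUnit_unique _ _
    rw [h2]
    exact hone' _
  · exact invT_mulT e hσ (𝟙 X)
  · exact hinv' (𝟙 X)

end Groth.Agent.H96.NilGrp_P5
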