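import Mathlib
import Groth.Prelude.Def_Red
import Groth.Agent.H40.FpqcDesc
import Groth.Agent.H96.NilGrp_P5

set_option autoImplicit false
set_option linter.style.haveILetI false
universe v w u
open CategoryTheory MonoidalCategory CartesianMonoidalCategory MonObj AlgebraicGeometry Limits

namespace Groth.Agent.H96.NilGrp_P4

open Groth.Agent.H96.NilGrp_P5

section
variable {C : Type w} [Category.{v} C] [CartesianMonoidalCategory C]
  {X : C} {P : X ⊗ X ⟶ X}

/-- the candidate unit, as an endomorphism of `X`. -/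
noncomputable def eX (hσ : IsIso (lift P (snd X X))) : X ⟶ X :=
  lift (𝟙 X) (𝟙 X) ≫ inv (lift P (snd X X)) ≫ fst X X

theorem eX_mulT (hσ : IsIso (lift P (snd X X))) : mulT X P (eX hσ) (𝟙 X) = 𝟙 X := by
  set w : X ⟶ X ⊗ X := lift (𝟙 X) (𝟙 X) ≫ inv (lift P (snd X X)) with hw
  have hwσ : w ≫ lift P (snd X X) = lift (𝟙 X) (𝟙 X) := by
    rw [hw, Category.assoc, IsIso.inv_hom_id, Category.comp_id]
  rw [comp_lift] at hwσ
  have h1 : w ≫ P = 𝟙 X := by
    have := congrArg (fun t => t ≫ fst X X) hwσ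
    simpa using this
  have h2 : w ≫ snd X X = 𝟙 X := by
    have := congrArg (fun t => t ≫ snd X X) hwσ
    simpa using this
  have h3 : eX hσ = w ≫ fst X X := by
    unfold eX
    rw [hw, Category.assoc]
  have h4 : lift (w ≫ fst X X) (𝟙 X) = w := by
    conv_lhs => rw [← h2]
    exact lift_comp_fst_snd w
  unfold mulT
  rw [h3, h4, h1]

/-- left translations are surjective. -/
theorem exists_mulT_eq (hτ : IsIso (lift (fst X X) P)) {W : C} (g z : W ⟶ X) :
    ∃ z' : W ⟶ X, mulT X P g z' = z := by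
  set w : W ⟶ X ⊗ X := lift g z ≫ inv (lift (fst X X) P) with hw
  have hwτ : w ≫ lift (fst X X) P = lift g z := by
    rw [hw, Category.assoc, IsIso.inv_hom_id, Category.comp_id]
  rw [comp_lift] at hwτ
  have h1 : w ≫ fst X X = g := by
    have := congrArg (fun t => t ≫ fst X X) hwτ
    simpa using this
  have h2 : w ≫ P = z := by
    have := congrArg (fun t => t ≫ snd X X) hwτ
    simpa using this
  refine ⟨w ≫ snd X X, ?_⟩
  unfold mulT
  rw [← h1, lift_comp_fst_snd, h2]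

theorem comp_eX_mulT (hσ : IsIso (lift P (snd X X))) {W : C} (g : W ⟶ X) :
    mulT X P (g ≫ eX hσ) g = g := by
  have := comp_mulT (P := P) g (eX hσ) (𝟙 X)
  rw [Category.comp_id] at this
  rw [← this, eX_mulT, Category.comp_id]

/-- `g ≫ eX` is a left identity on `Hom(W, X)`. -/
theorem comp_eX_left (hassoc : (P ▷ X) ≫ P = (α_ X X X).hom ≫ (X ◁ P) ≫ P)
    (hσ : IsIso (lift P (snd X X))) (hτ : IsIso (lift (fst X X) P)) {W : C} (g z : W ⟶ X) :
    mulT X P (g ≫ eX hσ) z = z := by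
  obtain ⟨z', rfl⟩ := exists_mulT_eq hτ g z
  rw [← mulT_assoc hassoc, comp_eX_mulT]

/-- `g ≫ eX` is a right identity on `Hom(W, X)`. -/
theorem comp_eX_right (hassoc : (P ▷ X) ≫ P = (α_ X X X).hom ≫ (X ◁ P) ≫ P)
    (hσ : IsIso (lift P (snd X X))) {W : C} (g z : W ⟶ X) :
    mulT X P z (g ≫ eX hσ) = z := by
  apply mulT_right_cancel hσ _ _ g
  rw [mulT_assoc hassoc, comp_eX_mulT]

theorem comp_eX_eq (hassoc : (P ▷ X) ≫ P = (α_ X X X).hom ≫ (X ◁ P) ≫ P)
    (hσ : IsIso (lift P (snd X X))) (hτ : IsIso (lift (fst X X) P)) {W : C} (g₁ g₂ : W ⟶ X) :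
    g₁ ≫ eX hσ = g₂ ≫ eX hσ := by
  rw [← comp_eX_right hassoc hσ g₂ (g₁ ≫ eX hσ), comp_eX_left hassoc hσ hτ]

end

/-- P4: a (left) unit from bijective translations, by descent along the effective epi `X ⟶ S`. -/
theorem exists_unit {S : Scheme.{u}} (X : Over S) (P : X ⊗ X ⟶ X)
    (hassoc : (P ▷ X) ≫ P = (α_ X X X).hom ≫ (X ◁ P) ≫ P)
    (hσ : IsIso (lift P (snd X X))) (hτ : IsIso (lift (fst X X) P))
    (hepi : EffectiveEpi X.hom) :
    ∃ e : 𝟙_ (Over S) ⟶ X, ∀ {T : Over S} (x : T ⟶ X), lift (toUnit T ≫ e) x ≫ P = x := by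
  haveI : EffectiveEpi (toUnit X).left := hepi
  obtain ⟨e, he⟩ := Groth.Agent.H40.FpqcDesc.exists_desc (toUnit X) (eX hσ)
    (fun W g₁ g₂ _ => comp_eX_eq hassoc hσ hτ g₁ g₂)
  refine ⟨e, fun {T} x => ?_⟩
  have h1 : toUnit T ≫ e = x ≫ eX hσ := by
    rw [← he, ← Category.assoc]
    congr 1
    exact toUnit_unique _ _
  rw [h1]
  exact comp_eX_mulT hσ x

end Groth.Agent.H96.NilGrp_P4
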