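import Mathlib
import Groth.Prelude.Def_Red

set_option autoImplicit false
universe v w u
open CategoryTheory MonoidalCategory CartesianMonoidalCategory MonObj AlgebraicGeometry Limits

namespace Groth.Agent.H96.NilGrp_P7

/-- the thickening `Spec (R/I) ⟶ Spec R`. -/
noncomputable abbrev thk (R : Type u) [CommRing R] (I : Ideal R) :
    Spec (CommRingCat.of (R ⧸ I)) ⟶ Spec (CommRingCat.of R) :=
  Spec.map (CommRingCat.ofHom (Ideal.Quotient.mk I))

theorem comap_mk_surjective (R : Type u) [CommRing R] (I : Ideal R) (hI : IsNilpotent I) :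
    Function.Surjective (PrimeSpectrum.comap (Ideal.Quotient.mk I)) := by
  intro x
  have hx : x ∈ Set.range (PrimeSpectrum.comap (Ideal.Quotient.mk I)) := by
    rw [_root_.range_comap_of_surjective _ (Ideal.Quotient.mk I) Ideal.Quotient.mk_surjective,
      Ideal.mk_ker, PrimeSpectrum.mem_zeroLocus]
    intro a ha
    obtain ⟨n, hn⟩ := hI
    have : a ^ n ∈ I ^ n := Ideal.pow_mem_pow ha n
    rw [hn] at this
    have h0 : a ^ n = 0 := this
    exact x.isPrime.mem_of_pow_mem n (by rw [h0]; exact zero_mem _)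
  obtain ⟨y, hy⟩ := hx
  exact ⟨y, hy⟩

theorem thk_surjective (R : Type u) [CommRing R] (I : Ideal R) (hI : IsNilpotent I) :
    Function.Surjective (thk R I).base := by
  intro x
  obtain ⟨y, hy⟩ := comap_mk_surjective R I hI x
  exact ⟨y, hy⟩

/-- P7: `X ⟶ Spec R` is surjective as soon as its reduction mod the nilpotent `I` has a section. -/
theorem surjective_hom (R : Type u) [CommRing R] (I : Ideal R) (hI : IsNilpotent I)
    (X : Over (Spec (CommRingCat.of R)))
    (s : 𝟙_ (Over (Spec (CommRingCat.of (R ⧸ I)))) ⟶ (Over.pullback (thk R I)).obj X) :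
    Surjective X.hom := by
  constructor
  intro x
  obtain ⟨x0, rfl⟩ := thk_surjective R I hI x
  have hs : s.left ≫ pullback.snd X.hom (thk R I) = 𝟙 _ := Over.w s
  have hc : pullback.fst X.hom (thk R I) ≫ X.hom = pullback.snd X.hom (thk R I) ≫ thk R I :=
    pullback.condition
  refine ⟨(pullback.fst X.hom (thk R I)).base (s.left.base x0), ?_⟩
  have h1 : (s.left ≫ pullback.fst X.hom (thk R I) ≫ X.hom).base x0 = (thk R I).base x0 := by
    rw [hc, ← Category.assoc, hs, Category.id_comp]
  simpa using h1

end Groth.Agent.H96.NilGrp_P7
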