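import Mathlib

/-!
# Lattices in `R⟦X⟧^n` (helper96)

For an `R⟦X⟧`-submodule `Λ ⊆ R⟦X⟧^n` with `X^M R⟦X⟧^n ⊆ Λ`:
`Λ` is finitely generated projective over `R⟦X⟧` iff `R⟦X⟧^n ⧸ Λ` is projective over `R`.
-/

set_option autoImplicit false

namespace Groth.Agent.H96.PSLattice

open PowerSeries TensorProduct

section CharSeq

variable (R : Type*) [CommRing R] (Q : Type*) [AddCommGroup Q] [Module R Q] [Module R⟦X⟧ Q]
  [IsScalarTower R R⟦X⟧ Q]

/-- multiplication by `X` on `Q`, as an `R`-linear map. -/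
noncomputable def xQ : Q →ₗ[R] Q := (LinearMap.lsmul R⟦X⟧ Q (X : R⟦X⟧)).restrictScalars R

lemma xQ_apply (q : Q) : xQ R Q q = (X : R⟦X⟧) • q := rfl

lemma xQ_pow_apply (j : ℕ) (q : Q) : ((xQ R Q) ^ j) q = (X : R⟦X⟧) ^ j • q := by
  induction j generalizing q with
  | zero => simp
  | succ j ih => rw [pow_succ, Module.End.mul_apply, ih, xQ_apply, smul_smul, ← pow_succ]

/-- evaluation `R⟦X⟧ ⊗ Q → Q`. -/
noncomputable def ev : R⟦X⟧ ⊗[R] Q →ₗ[R⟦X⟧] Q :=
  LinearMap.liftBaseChange R⟦X⟧ (LinearMap.id : Q →ₗ[R] Q)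

lemma ev_tmul (s : R⟦X⟧) (q : Q) : ev R Q (s ⊗ₜ[R] q) = s • q := by
  rw [ev, LinearMap.liftBaseChange_tmul, LinearMap.id_apply]

/-- the characteristic map `X ⊗ 1 - 1 ⊗ x`. -/
noncomputable def T : R⟦X⟧ ⊗[R] Q →ₗ[R⟦X⟧] R⟦X⟧ ⊗[R] Q :=
  (X : R⟦X⟧) • LinearMap.id - (xQ R Q).baseChange R⟦X⟧

lemma T_apply (z : R⟦X⟧ ⊗[R] Q) :
    T R Q z = (X : R⟦X⟧) • z - (xQ R Q).baseChange R⟦X⟧ z := rfl

lemma T_tmul (s : R⟦X⟧) (q : Q) :
    T R Q (s ⊗ₜ[R] q) = (X * s) ⊗ₜ[R] q - s ⊗ₜ[R] ((X : R⟦X⟧) • q) := by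
  rw [T_apply, LinearMap.baseChange_tmul, xQ_apply, TensorProduct.smul_tmul', smul_eq_mul]

lemma ev_T (z : R⟦X⟧ ⊗[R] Q) : ev R Q (T R Q z) = 0 := by
  induction z using TensorProduct.induction_on with
  | zero => simp
  | tmul s q => rw [T_tmul, map_sub, ev_tmul, ev_tmul, mul_smul, smul_comm, sub_self]
  | add a b ha hb => rw [map_add, map_add, ha, hb, add_zero]

/-- the shift operator `(s - s(0))/X`. -/
noncomputable def D (s : R⟦X⟧) : R⟦X⟧ := PowerSeries.mk fun p => coeff (p + 1) s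

lemma eq_X_mul_D (s : R⟦X⟧) : s = X * D R s + C (constantCoeff s) :=
  eq_X_mul_shift_add_const s

lemma theta_mem (j : ℕ) : ∀ (s : R⟦X⟧) (q : Q), (X : R⟦X⟧) ^ j • q = 0 →
    s ⊗ₜ[R] q - (1 : R⟦X⟧) ⊗ₜ[R] (s • q) ∈ LinearMap.range (T R Q) := by
  induction j with
  | zero =>
    intro s q hq
    rw [pow_zero, one_smul] at hq
    subst hq
    simp
  | succ j ih =>
    intro s q hq
    have hq' : (X : R⟦X⟧) ^ j • ((X : R⟦X⟧) • q) = 0 := by
      rw [smul_smul, ← pow_succ]; exact hq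
    have h1 := ih (D R s) ((X : R⟦X⟧) • q) hq'
    have hC : ∀ a : R, (C a : R⟦X⟧) ⊗ₜ[R] q = (1 : R⟦X⟧) ⊗ₜ[R] ((C a : R⟦X⟧) • q) := by
      intro a
      have : (C a : R⟦X⟧) = a • (1 : R⟦X⟧) := by
        rw [smul_eq_C_mul, mul_one]
      rw [this, TensorProduct.smul_tmul, smul_assoc, one_smul]
    have h2 : s ⊗ₜ[R] q - (1 : R⟦X⟧) ⊗ₜ[R] (s • q)
        = T R Q (D R s ⊗ₜ[R] q) + (D R s ⊗ₜ[R] ((X : R⟦X⟧) • q)
          - (1 : R⟦X⟧) ⊗ₜ[R] (D R s • ((X : R⟦X⟧) • q))) := by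
      rw [T_tmul]
      conv_lhs => rw [eq_X_mul_D R s]
      rw [TensorProduct.add_tmul, add_smul, TensorProduct.tmul_add, hC, mul_smul,
        smul_comm (X : R⟦X⟧) (D R s) q]
      abel
    rw [h2]
    exact Submodule.add_mem _ (LinearMap.mem_range_self _ _) h1

lemma ker_ev_le_range_T (M : ℕ) (hM : ∀ q : Q, (X : R⟦X⟧) ^ M • q = 0) :
    LinearMap.ker (ev R Q) ≤ LinearMap.range (T R Q) := by
  intro z hz
  have key : ∀ z : R⟦X⟧ ⊗[R] Q, z - (1 : R⟦X⟧) ⊗ₜ[R] (ev R Q z) ∈ LinearMap.range (T R Q) := by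
    intro z
    induction z using TensorProduct.induction_on with
    | zero => simp
    | tmul s q => rw [ev_tmul]; exact theta_mem R Q M s q (hM q)
    | add a b ha hb =>
      rw [map_add, TensorProduct.tmul_add]
      have := Submodule.add_mem _ ha hb
      convert this using 1
      abel
  have := key z
  rwa [LinearMap.mem_ker.mp hz, TensorProduct.tmul_zero, sub_zero] at this

lemma T_injective [Module.Flat R Q] (M : ℕ) (hM : ∀ q : Q, (X : R⟦X⟧) ^ M • q = 0) :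
    Function.Injective (T R Q) := by
  rw [injective_iff_map_eq_zero]
  intro z hz
  have h1 : (X : R⟦X⟧) • z = (xQ R Q).baseChange R⟦X⟧ z := by
    rw [T_apply] at hz; exact sub_eq_zero.mp hz
  have h2 : ∀ j : ℕ, (X : R⟦X⟧) ^ j • z = ((xQ R Q) ^ j).baseChange R⟦X⟧ z := by
    intro j
    induction j with
    | zero =>
      rw [pow_zero, one_smul, pow_zero, Module.End.one_eq_id, LinearMap.baseChange_id,
        LinearMap.id_apply]
    | succ j ih =>
      rw [pow_succ, mul_smul, h1, ← map_smul, ih, ← LinearMap.comp_apply,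
        ← LinearMap.baseChange_comp, pow_succ', Module.End.mul_eq_comp]
  have h3 : (xQ R Q) ^ M = 0 := by
    ext q; rw [xQ_pow_apply, hM, LinearMap.zero_apply]
  have h4 : (X : R⟦X⟧) ^ M • z = 0 := by
    rw [h2, h3, LinearMap.baseChange_zero, LinearMap.zero_apply]
  have hinj : Function.Injective (LinearMap.mulLeft R ((X : R⟦X⟧) ^ M)) := by
    intro a b hab
    exact X_pow_mul_cancel hab
  have h5 := Module.Flat.rTensor_preserves_injective_linearMap (M := Q)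
    (LinearMap.mulLeft R ((X : R⟦X⟧) ^ M)) hinj
  have h6 : ∀ w : R⟦X⟧ ⊗[R] Q,
      (LinearMap.mulLeft R ((X : R⟦X⟧) ^ M)).rTensor Q w = (X : R⟦X⟧) ^ M • w := by
    intro w
    induction w using TensorProduct.induction_on with
    | zero => simp
    | tmul s q =>
      rw [LinearMap.rTensor_tmul, LinearMap.mulLeft_apply, TensorProduct.smul_tmul', smul_eq_mul]
    | add a b ha hb => rw [map_add, ha, hb, smul_add]
  apply h5
  rw [h6, h4, map_zero]

end CharSeq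

section Lattice

variable {R : Type*} [CommRing R] {n : ℕ} (M : ℕ)

/-- truncated coefficient map. -/
noncomputable def kap (n M : ℕ) : (Fin n → R⟦X⟧) →ₗ[R] (Fin n × Fin M → R) where
  toFun h p := coeff (p.2 : ℕ) (h p.1)
  map_add' := by intros; ext; simp
  map_smul' := by intros; ext; simp

lemma kap_apply (h : Fin n → R⟦X⟧) (p : Fin n × Fin M) :
    kap n M h p = coeff (p.2 : ℕ) (h p.1) := rfl

/-- polynomial of degree `< M` with prescribed coefficients. -/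
noncomputable def kap' (n M : ℕ) : (Fin n × Fin M → R) →ₗ[R] (Fin n → R⟦X⟧) :=
  Fintype.linearCombination R
    (fun p : Fin n × Fin M => (Pi.single p.1 ((X : R⟦X⟧) ^ (p.2 : ℕ)) : Fin n → R⟦X⟧))

lemma kap'_apply (c : Fin n × Fin M → R) (a : Fin n) :
    kap' n M c a = ∑ j : Fin M, c (a, j) • (X : R⟦X⟧) ^ (j : ℕ) := by
  classical
  rw [kap', Fintype.linearCombination_apply, Finset.sum_apply, Fintype.sum_prod_type,
    Finset.sum_eq_single a]
  · refine Finset.sum_congr rfl fun j _ => ?_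
    rw [Pi.smul_apply, Pi.single_eq_same]
  · intro b _ hb
    refine Finset.sum_eq_zero fun j _ => ?_
    rw [Pi.smul_apply, Pi.single_eq_of_ne hb.symm, smul_zero]
  · intro h; exact absurd (Finset.mem_univ a) h

lemma coeff_sum_smul_X_pow (c : Fin M → R) (m : ℕ) (hm : m < M) :
    coeff m (∑ j : Fin M, c j • (X : R⟦X⟧) ^ (j : ℕ)) = c ⟨m, hm⟩ := by
  rw [map_sum, Finset.sum_eq_single ⟨m, hm⟩]
  · rw [coeff_smul, coeff_X_pow, if_pos rfl, smul_eq_mul, mul_one]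
  · intro j _ hj
    rw [coeff_smul, coeff_X_pow, if_neg, smul_zero]
    intro h; exact hj (Fin.ext h.symm)
  · intro h; exact absurd (Finset.mem_univ _) h

lemma exists_decomp (s : R⟦X⟧) : ∃ s' : R⟦X⟧,
    s = (∑ j : Fin M, coeff (j : ℕ) s • (X : R⟦X⟧) ^ (j : ℕ)) + X ^ M * s' := by
  have : (X : R⟦X⟧) ^ M ∣ s - ∑ j : Fin M, coeff (j : ℕ) s • (X : R⟦X⟧) ^ (j : ℕ) := by
    rw [X_pow_dvd_iff]
    intro m hm
    rw [map_sub, coeff_sum_smul_X_pow M (fun j : Fin M => coeff (j : ℕ) s) m hm, sub_self]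
  obtain ⟨s', hs'⟩ := this
  exact ⟨s', by rw [← hs']; ring⟩

lemma exists_decomp_F (h : Fin n → R⟦X⟧) :
    ∃ v : Fin n → R⟦X⟧, h = kap' n M (kap n M h) + (X : R⟦X⟧) ^ M • v := by
  choose v hv using fun a => exists_decomp M (h a)
  refine ⟨v, funext fun a => ?_⟩
  rw [Pi.add_apply, kap'_apply, Pi.smul_apply, smul_eq_mul]
  exact hv a

lemma kap_kap' (c : Fin n × Fin M → R) : kap n M (kap' n M c) = c := by
  funext p
  rw [kap_apply, kap'_apply, coeff_sum_smul_X_pow M (fun j => c (p.1, j)) p.2 p.2.2]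

lemma kap_X_pow_smul (v : Fin n → R⟦X⟧) : kap n M ((X : R⟦X⟧) ^ M • v) = 0 := by
  funext p
  rw [kap_apply, Pi.smul_apply, smul_eq_mul, coeff_X_pow_mul', if_neg (not_le.mpr p.2.2)]
  rfl

variable (Λ : Submodule R⟦X⟧ (Fin n → R⟦X⟧))
  (hΛ : ∀ v : Fin n → R⟦X⟧, ((X : R⟦X⟧) ^ M) • v ∈ Λ)

include hΛ

lemma mkQ_eq (h : Fin n → R⟦X⟧) : Λ.mkQ h = Λ.mkQ (kap' n M (kap n M h)) := by
  obtain ⟨v, hv⟩ := exists_decomp_F M h
  conv_lhs => rw [hv]
  rw [map_add, Submodule.mkQ_apply _ (_ • v), (Submodule.Quotient.mk_eq_zero Λ).mpr (hΛ v),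
    add_zero]

lemma X_pow_smul_quot (q : (Fin n → R⟦X⟧) ⧸ Λ) : (X : R⟦X⟧) ^ M • q = 0 := by
  obtain ⟨f, rfl⟩ := Λ.mkQ_surjective q
  rw [← map_smul, Submodule.mkQ_apply]
  exact (Submodule.Quotient.mk_eq_zero Λ).mpr (hΛ f)

lemma finite_quot : Module.Finite R ((Fin n → R⟦X⟧) ⧸ Λ) :=
  Module.Finite.of_surjective ((Λ.mkQ.restrictScalars R) ∘ₗ kap' n M) (fun q => by
    obtain ⟨f, rfl⟩ := Λ.mkQ_surjective q
    exact ⟨kap n M f, (mkQ_eq M Λ hΛ f).symm⟩)

theorem lattice_of_projective (hP : Module.Projective R ((Fin n → R⟦X⟧) ⧸ Λ)) :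
    Module.Finite R⟦X⟧ Λ ∧ Module.Projective R⟦X⟧ Λ := by
  set Q := (Fin n → R⟦X⟧) ⧸ Λ with hQ
  have hfin : Module.Finite R Q := finite_quot M Λ hΛ
  have hM : ∀ q : Q, (X : R⟦X⟧) ^ M • q = 0 := X_pow_smul_quot M Λ hΛ
  obtain ⟨σ, hσ⟩ := Module.projective_lifting_property (Λ.mkQ.restrictScalars R)
    (LinearMap.id : Q →ₗ[R] Q) Λ.mkQ_surjective
  let σt : R⟦X⟧ ⊗[R] Q →ₗ[R⟦X⟧] (Fin n → R⟦X⟧) := LinearMap.liftBaseChange R⟦X⟧ σ
  have hπσ : ∀ z, Λ.mkQ (σt z) = ev R Q z := by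
    intro z
    induction z using TensorProduct.induction_on with
    | zero => simp
    | tmul s q =>
      rw [LinearMap.liftBaseChange_tmul, map_smul, ev_tmul]
      congr 1
      exact LinearMap.congr_fun hσ q
    | add a b ha hb => rw [map_add, map_add, map_add, ha, hb]
  have hmem : ∀ y, (σt ∘ₗ T R Q) y ∈ Λ := by
    intro y
    rw [← Submodule.Quotient.mk_eq_zero, ← Submodule.mkQ_apply, LinearMap.comp_apply, hπσ, ev_T]
  let τ : R⟦X⟧ ⊗[R] Q →ₗ[R⟦X⟧] Λ := LinearMap.codRestrict Λ (σt ∘ₗ T R Q) hmem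
  let p : ((R⟦X⟧ ⊗[R] Q) × Λ) →ₗ[R⟦X⟧] (Fin n → R⟦X⟧) := σt.coprod Λ.subtype
  have hp_surj : Function.Surjective p := by
    intro f
    have hf : f - σt ((1 : R⟦X⟧) ⊗ₜ[R] Λ.mkQ f) ∈ Λ := by
      rw [← Submodule.Quotient.mk_eq_zero, ← Submodule.mkQ_apply, map_sub, hπσ, ev_tmul, one_smul,
        sub_self]
    refine ⟨((1 : R⟦X⟧) ⊗ₜ[R] Λ.mkQ f, ⟨_, hf⟩), ?_⟩
    simp [p]
  obtain ⟨sF, hsF⟩ := Module.projective_lifting_property p LinearMap.id hp_surj
  let j : R⟦X⟧ ⊗[R] Q →ₗ[R⟦X⟧] ((R⟦X⟧ ⊗[R] Q) × Λ) := (T R Q).prod (-τ)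
  have hpj : ∀ y, p (j y) = 0 := by
    intro y
    simp [p, j, τ]
  let c : ((R⟦X⟧ ⊗[R] Q) × (Fin n → R⟦X⟧)) →ₗ[R⟦X⟧] ((R⟦X⟧ ⊗[R] Q) × Λ) := j.coprod sF
  have hTinj := T_injective R Q M hM
  have hpsF : ∀ f, p (sF f) = f := fun f => LinearMap.congr_fun hsF f
  have hc_inj : Function.Injective c := by
    rw [injective_iff_map_eq_zero]
    rintro ⟨y, f⟩ h
    have h1 : p (c (y, f)) = f := by
      simp only [c, LinearMap.coprod_apply, map_add, hpj, zero_add, hpsF]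
    rw [h, map_zero] at h1
    subst h1
    have h2 : j y = 0 := by simpa [c] using h
    have h3 : T R Q y = 0 := congrArg Prod.fst h2
    rw [hTinj (h3.trans (map_zero _).symm)]
    rfl
  have hc_surj : Function.Surjective c := by
    intro e
    have he' : p (e - sF (p e)) = 0 := by rw [map_sub, hpsF, sub_self]
    set e' := e - sF (p e) with he'def
    have hsum : σt e'.1 + (e'.2 : Fin n → R⟦X⟧) = 0 := by
      have := he'
      simpa [p] using this
    have hz' : ev R Q e'.1 = 0 := by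
      rw [← hπσ, eq_neg_of_add_eq_zero_left hsum, map_neg, Submodule.mkQ_apply,
        (Submodule.Quotient.mk_eq_zero Λ).mpr e'.2.2, neg_zero]
    obtain ⟨y, hy⟩ := ker_ev_le_range_T R Q M hM (LinearMap.mem_ker.mpr hz')
    refine ⟨(y, p e), ?_⟩
    have hjy : j y = e' := by
      apply Prod.ext
      · exact hy
      · apply Subtype.ext
        show (-(σt (T R Q y)) : Fin n → R⟦X⟧) = e'.2
        rw [hy, eq_neg_of_add_eq_zero_left hsum, neg_neg]
    simp only [c, LinearMap.coprod_apply, hjy, he'def, sub_add_cancel]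
  let eqv := LinearEquiv.ofBijective c ⟨hc_inj, hc_surj⟩
  have hEproj : Module.Projective R⟦X⟧ ((R⟦X⟧ ⊗[R] Q) × Λ) := Module.Projective.of_equiv eqv
  have hEfin : Module.Finite R⟦X⟧ ((R⟦X⟧ ⊗[R] Q) × Λ) := Module.Finite.equiv eqv
  refine ⟨Module.Finite.of_surjective (LinearMap.snd R⟦X⟧ (R⟦X⟧ ⊗[R] Q) Λ)
    LinearMap.snd_surjective, ?_⟩
  exact Module.Projective.of_split (LinearMap.inr R⟦X⟧ (R⟦X⟧ ⊗[R] Q) Λ)
    (LinearMap.snd R⟦X⟧ (R⟦X⟧ ⊗[R] Q) Λ) (by ext; simp)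

end Lattice

section Forward

variable {R : Type*} [CommRing R]

/-- the shift operator as an `R`-linear map. -/
noncomputable def Dlin : R⟦X⟧ →ₗ[R] R⟦X⟧ where
  toFun s := PowerSeries.mk fun p => coeff (p + 1) s
  map_add' := by intros; ext; simp
  map_smul' := by intros; ext; simp

lemma Dlin_X_mul (s : R⟦X⟧) : Dlin (X * s) = s := by
  ext p
  simp [Dlin, coeff_succ_X_mul]

section Div

variable {L : Type*} [AddCommGroup L] [Module R⟦X⟧ L] [Module R L] [IsScalarTower R R⟦X⟧ L]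
  [Module.Finite R⟦X⟧ L] [Module.Projective R⟦X⟧ L]

lemma exists_div_X {l : ℕ} (f : Fin l → R) (lam : L) (μ : Fin l → L)
    (h : (X : R⟦X⟧) • lam = ∑ i, f i • μ i) : ∃ ν : Fin l → L, lam = ∑ i, f i • ν i := by
  obtain ⟨m, p, g, -, -, hpg⟩ := Module.Finite.exists_comp_eq_id_of_projective R⟦X⟧ L
  have h1 : (X : R⟦X⟧) • g lam = ∑ i, f i • g (μ i) := by
    rw [← map_smul, h, map_sum]
    refine Finset.sum_congr rfl fun i _ => ?_
    rw [LinearMap.map_smul_of_tower]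
  have h2 : g lam = ∑ i, f i • (fun c => Dlin (g (μ i) c) : Fin m → R⟦X⟧) := by
    funext c
    have := congrFun h1 c
    rw [Pi.smul_apply, smul_eq_mul, Finset.sum_apply] at this
    have h3 := congrArg Dlin this
    rw [Dlin_X_mul, map_sum] at h3
    rw [h3, Finset.sum_apply]
    refine Finset.sum_congr rfl fun i _ => ?_
    rw [Pi.smul_apply, Pi.smul_apply, map_smul]
  refine ⟨fun i => p (fun c => Dlin (g (μ i) c)), ?_⟩
  have h4 : lam = p (g lam) := (LinearMap.congr_fun hpg lam).symm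
  rw [h4, h2, map_sum]
  refine Finset.sum_congr rfl fun i _ => ?_
  rw [LinearMap.map_smul_of_tower]

lemma exists_div_X_pow (M : ℕ) {l : ℕ} (f : Fin l → R) : ∀ (lam : L) (μ : Fin l → L),
    (X : R⟦X⟧) ^ M • lam = ∑ i, f i • μ i → ∃ ν : Fin l → L, lam = ∑ i, f i • ν i := by
  induction M with
  | zero => intro lam μ h; exact ⟨μ, by simpa using h⟩
  | succ M ih =>
    intro lam μ h
    rw [pow_succ', mul_smul] at h
    obtain ⟨ν', hν'⟩ := exists_div_X f _ μ h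
    exact ih lam ν' hν'

end Div

variable {n : ℕ} (M : ℕ) (Λ : Submodule R⟦X⟧ (Fin n → R⟦X⟧))
  (hΛ : ∀ v : Fin n → R⟦X⟧, ((X : R⟦X⟧) ^ M) • v ∈ Λ)

include hΛ

theorem flat_quot [Module.Finite R⟦X⟧ Λ] [Module.Projective R⟦X⟧ Λ] :
    Module.Flat R ((Fin n → R⟦X⟧) ⧸ Λ) := by
  rw [Module.Flat.iff_forall_isTrivialRelation]
  intro l f x hx
  choose g hg using fun i => Λ.mkQ_surjective (x i)
  have hlam : ∑ i, f i • g i ∈ Λ := by
    rw [← Submodule.Quotient.mk_eq_zero, ← Submodule.mkQ_apply, map_sum, ← hx]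
    refine Finset.sum_congr rfl fun i _ => ?_
    rw [LinearMap.map_smul_of_tower, hg]
  have hX : (X : R⟦X⟧) ^ M • (⟨_, hlam⟩ : Λ)
      = ∑ i, f i • (⟨(X : R⟦X⟧) ^ M • g i, hΛ _⟩ : Λ) := by
    apply Subtype.ext
    rw [Submodule.coe_smul, Submodule.coe_sum, Finset.smul_sum]
    refine Finset.sum_congr rfl fun i _ => ?_
    rw [Submodule.coe_smul_of_tower, smul_comm]
  obtain ⟨ν, hν⟩ := exists_div_X_pow (L := Λ) M f _ _ hX
  have hν' : ∑ i, f i • g i = ∑ i, f i • (ν i : Fin n → R⟦X⟧) := by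
    have := congrArg Subtype.val hν
    simpa using this
  have hsum0 : ∑ i, f i • (g i - (ν i : Fin n → R⟦X⟧)) = 0 := by
    simp [smul_sub, Finset.sum_sub_distrib, hν']
  refine ⟨n * M, fun i jj => kap n M (g i - (ν i : Fin n → R⟦X⟧)) (finProdFinEquiv.symm jj),
    fun jj => Λ.mkQ (Pi.single (finProdFinEquiv.symm jj).1
      ((X : R⟦X⟧) ^ ((finProdFinEquiv.symm jj).2 : ℕ))), ?_, ?_⟩
  · intro i
    have h1 : x i = Λ.mkQ (g i - (ν i : Fin n → R⟦X⟧)) := by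
      rw [map_sub, hg, Submodule.mkQ_apply _ (ν i : Fin n → R⟦X⟧),
        (Submodule.Quotient.mk_eq_zero Λ).mpr (ν i).2, sub_zero]
    rw [h1, mkQ_eq M Λ hΛ, kap', Fintype.linearCombination_apply, map_sum,
      ← Equiv.sum_comp finProdFinEquiv.symm]
    refine Finset.sum_congr rfl fun jj _ => ?_
    rw [LinearMap.map_smul_of_tower]
  · intro jj
    have := congrFun (congrArg (kap n M) hsum0) (finProdFinEquiv.symm jj)
    rw [map_sum] at this
    simpa [Finset.sum_apply, map_smul] using this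

omit hΛ in
lemma kap_smul' (s : R⟦X⟧) (h : Fin n → R⟦X⟧) :
    kap n M (s • h) = ∑ j : Fin M, coeff (j : ℕ) s • kap n M ((X : R⟦X⟧) ^ (j : ℕ) • h) := by
  obtain ⟨s', hs'⟩ := exists_decomp M s
  conv_lhs => rw [hs']
  rw [add_smul, map_add, mul_smul, kap_X_pow_smul, add_zero, Finset.sum_smul, map_sum]
  refine Finset.sum_congr rfl fun j _ => ?_
  rw [smul_assoc, map_smul]

theorem fp_quot [Module.Finite R⟦X⟧ Λ] :
    Module.FinitePresentation R ((Fin n → R⟦X⟧) ⧸ Λ) := by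
  classical
  set l : (Fin n × Fin M → R) →ₗ[R] ((Fin n → R⟦X⟧) ⧸ Λ) :=
    (Λ.mkQ.restrictScalars R) ∘ₗ kap' n M with hl
  have hsurj : Function.Surjective l := fun q => by
    obtain ⟨f, rfl⟩ := Λ.mkQ_surjective q
    exact ⟨kap n M f, (mkQ_eq M Λ hΛ f).symm⟩
  refine Module.finitePresentation_of_surjective l hsurj ?_
  have hker : LinearMap.ker l = Submodule.map (kap n M) (Λ.restrictScalars R) := by
    ext c
    constructor
    · intro hc
      refine ⟨kap' n M c, ?_, kap_kap' M c⟩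
      exact (Submodule.Quotient.mk_eq_zero Λ).mp hc
    · rintro ⟨h, hh, rfl⟩
      show Λ.mkQ (kap' n M (kap n M h)) = 0
      rw [← mkQ_eq M Λ hΛ, Submodule.mkQ_apply]
      exact (Submodule.Quotient.mk_eq_zero Λ).mpr hh
  rw [hker]
  obtain ⟨G, hG⟩ : Λ.FG := (Submodule.fg_top Λ).mp Module.Finite.fg_top
  set Tset : Set (Fin n × Fin M → R) :=
    (fun p : Fin M × (Fin n → R⟦X⟧) => kap n M ((X : R⟦X⟧) ^ (p.1 : ℕ) • p.2)) ''
      (Set.univ ×ˢ (G : Set (Fin n → R⟦X⟧))) with hT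
  have hTfin : Tset.Finite := Set.Finite.image _ (Set.finite_univ.prod G.finite_toSet)
  have heq : Submodule.map (kap n M) (Λ.restrictScalars R) = Submodule.span R Tset := by
    apply le_antisymm
    · rintro _ ⟨h, hh, rfl⟩
      have hh' : h ∈ Submodule.span R⟦X⟧ (G : Set (Fin n → R⟦X⟧)) := by rw [hG]; exact hh
      clear hh
      have key : ∀ s : R⟦X⟧, kap n M (s • h) ∈ Submodule.span R Tset := by
        induction hh' using Submodule.span_induction with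
        | mem y hy =>
          intro s
          rw [kap_smul' M s y]
          refine Submodule.sum_mem _ fun j _ => Submodule.smul_mem _ _ (Submodule.subset_span ?_)
          exact ⟨(j, y), ⟨Set.mem_univ _, hy⟩, rfl⟩
        | zero => intro s; rw [smul_zero, map_zero]; exact zero_mem _
        | add y z _ _ hy hz => intro s; rw [smul_add, map_add]; exact add_mem (hy s) (hz s)
        | smul a y _ hy => intro s; rw [smul_smul]; exact hy _
      simpa using key 1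
    · rw [Submodule.span_le]
      rintro _ ⟨⟨j, y⟩, ⟨-, hy⟩, rfl⟩
      refine ⟨(X : R⟦X⟧) ^ (j : ℕ) • y, ?_, rfl⟩
      have : y ∈ Λ := by rw [← hG]; exact Submodule.subset_span hy
      exact Λ.smul_mem _ this
  rw [heq]
  exact Submodule.fg_span hTfin

theorem projective_quot [Module.Finite R⟦X⟧ Λ] [Module.Projective R⟦X⟧ Λ] :
    Module.Projective R ((Fin n → R⟦X⟧) ⧸ Λ) := by
  have := flat_quot M Λ hΛ
  have := fp_quot M Λ hΛ
  exact Module.Flat.projective_of_finitePresentation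

end Forward

end Groth.Agent.H96.PSLattice
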