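import Groth.Agent.H96.LocUFD
import Mathlib.RingTheory.PowerSeries.Order
import Mathlib.RingTheory.PowerSeries.NoZeroDivisors
import Mathlib.RingTheory.Polynomial.ScaleRoots
import Mathlib.RingTheory.IntegralClosure.IsIntegral.Basic
import Mathlib.RingTheory.Localization.FractionRing
import Mathlib.Tactic.LinearCombination
import Mathlib.Tactic.Ring

/-!
Power series over a domain `S`: `A = S⟦X⟧`, `B = A[1/X]`.  `A` is integrally closed in `B`,
and a valuation step.
-/

set_option autoImplicit false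

namespace Groth.Agent.H96

open PowerSeries

section valstep

/-- the valuation step: `y ^ N * u ^ n ∈ A` and `N ∤ n` imply `y ^ N * u ^ (n - 1) ∈ A`,
for a prime `x` of a domain `A` such that every nonzero element is a power of `x` times an
element not divisible by `x`. -/
theorem val_step' {A B : Type*} [CommRing A] [IsDomain A]
    [CommRing B] [Algebra A B] (x : A) (hx : Prime x) [IsLocalization.Away x B]
    (hfac : ∀ a : A, a ≠ 0 → ∃ (s : ℕ) (a' : A), ¬ x ∣ a' ∧ a = x ^ s * a') (u : Bˣ)
    (hu : (u : B) = algebraMap A B x) (N : ℕ) (hN : N ≠ 0) (n : ℤ) (hn : ¬ ((N : ℤ) ∣ n)) (y : B)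
    (h : y ^ N * ((u ^ n : Bˣ) : B) ∈ (algebraMap A B).range) :
    y ^ N * ((u ^ (n - 1) : Bˣ) : B) ∈ (algebraMap A B).range := by
  have hinj := algebraMap_injective_of_away (B := B) x hx.ne_zero
  have hun : ∀ e : ℕ, ((u ^ (e : ℤ) : Bˣ) : B) = algebraMap A B (x ^ e) := by
    intro e
    rw [zpow_natCast, Units.val_pow_eq_pow_val, hu, map_pow]
  obtain ⟨w, hw⟩ := h
  suffices hxw : x ∣ w by
    obtain ⟨w', rfl⟩ := hxw
    refine ⟨w', ?_⟩
    have : ((u ^ (n - 1) : Bˣ) : B) = ((u ^ n : Bˣ) : B) * ((u⁻¹ : Bˣ) : B) := by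
      rw [← Units.val_mul, zpow_sub_one]
    rw [this, ← mul_assoc, ← hw, map_mul, ← hu, mul_comm (u : B), mul_assoc, ← Units.val_mul,
      mul_inv_cancel, Units.val_one, mul_one]
  by_contra hxw
  have hw0 : w ≠ 0 := fun h0 => hxw (h0 ▸ dvd_zero x)
  obtain ⟨k, a, hka⟩ := IsLocalization.Away.surj x y
  have ha0 : a ≠ 0 := by
    rintro rfl
    rw [map_zero] at hka
    have hy : y = 0 := by
      have hu' : IsUnit (algebraMap A B x ^ k) := (IsLocalization.Away.algebraMap_isUnit x).pow k
      exact (hu'.mul_left_eq_zero).mp hka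
    rw [hy, zero_pow hN, zero_mul] at hw
    exact hw0 (hinj (by rw [hw, map_zero]))
  obtain ⟨s, a', ha', rfl⟩ := hfac a ha0
  have h1 : y * ((u ^ (k : ℤ) : Bˣ) : B) = ((u ^ (s : ℤ) : Bˣ) : B) * algebraMap A B a' := by
    rw [hun, hun, map_pow, hka, map_mul]
  have h2 : algebraMap A B w =
      ((u ^ ((s : ℤ) * N + n - (k : ℤ) * N) : Bˣ) : B) * algebraMap A B (a' ^ N) := by
    have hy : y = ((u ^ ((s : ℤ) - (k : ℤ)) : Bˣ) : B) * algebraMap A B a' := by
      rw [zpow_sub, Units.val_mul, mul_assoc, mul_comm _ (algebraMap A B a'), ← mul_assoc, ← h1,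
        mul_assoc, ← Units.val_mul, mul_inv_cancel, Units.val_one, mul_one]
    rw [hw, hy, mul_pow, ← Units.val_pow_eq_pow_val, ← zpow_natCast, ← zpow_mul, map_pow,
      mul_assoc, mul_comm _ ((u ^ n : Bˣ) : B), ← mul_assoc, ← Units.val_mul, ← zpow_add]
    congr 3
    ring
  set D : ℤ := (s : ℤ) * N + n - (k : ℤ) * N with hD
  have hD0 : D ≠ 0 := by
    intro h0
    apply hn
    refine ⟨(k : ℤ) - s, ?_⟩
    rw [hD] at h0
    linear_combination h0
  obtain ⟨e, he | he⟩ := Int.eq_nat_or_neg D
  · rw [he, hun, ← map_mul] at h2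
    have h3 := hinj h2
    have he0 : e ≠ 0 := by
      rintro rfl
      exact hD0 (by rw [he]; rfl)
    apply hxw
    rw [h3]
    exact Dvd.dvd.mul_right (dvd_pow_self x he0) _
  · have he0 : e ≠ 0 := by
      rintro rfl
      exact hD0 (by rw [he]; simp)
    have h3 : algebraMap A B (w * x ^ e) = algebraMap A B (a' ^ N) := by
      rw [map_mul, h2, he, ← hun, mul_comm, ← mul_assoc, ← Units.val_mul, ← zpow_add]
      simp
    have h4 := hinj h3
    have h5 : x ∣ a' ^ N := by
      rw [← h4]
      exact Dvd.dvd.mul_left (dvd_pow_self x he0) _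
    exact ha' (hx.dvd_of_dvd_pow h5)

end valstep

section pseries

variable {S B : Type*} [CommRing S] [IsDomain S] [CommRing B] [Algebra (PowerSeries S) B]
  [IsLocalization.Away (PowerSeries.X : PowerSeries S) B]

theorem pseries_fac (a : PowerSeries S) (ha : a ≠ 0) :
    ∃ (s : ℕ) (a' : PowerSeries S), ¬ (X : PowerSeries S) ∣ a' ∧ a = X ^ s * a' := by
  refine ⟨a.order.toNat, divXPowOrder a, ?_, X_pow_order_mul_divXPowOrder.symm⟩
  rw [X_dvd_iff, constantCoeff_divXPowOrder_eq_zero_iff]
  exact ha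

theorem pseries_algebraMap_injective : Function.Injective (algebraMap (PowerSeries S) B) :=
  algebraMap_injective_of_away (B := B) (X : PowerSeries S) X_ne_zero

/-- one step: if `β * X^(k+1) = f` and `β` is integral, then the constant coefficient of `f`
vanishes. -/
theorem pseries_constantCoeff_eq_zero (β : B) (h : IsIntegral (PowerSeries S) β) (k : ℕ)
    (f : PowerSeries S)
    (hf : β * algebraMap (PowerSeries S) B X ^ (k + 1) = algebraMap (PowerSeries S) B f) :
    constantCoeff f = 0 := by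
  obtain ⟨P, hP, hPβ⟩ := h
  set Q := Polynomial.scaleRoots P ((X : PowerSeries S) ^ (k + 1)) with hQ
  have h1 : Polynomial.eval₂ (algebraMap (PowerSeries S) B)
      (algebraMap (PowerSeries S) B (X ^ (k + 1)) * β) Q = 0 :=
    Polynomial.scaleRoots_eval₂_eq_zero _ hPβ
  rw [map_pow, mul_comm, hf, Polynomial.eval₂_at_apply] at h1
  have h2 : Polynomial.eval f Q = 0 :=
    pseries_algebraMap_injective (B := B) (by rw [h1, map_zero])
  have h3 : constantCoeff (Polynomial.eval f Q) = (constantCoeff f) ^ P.natDegree := by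
    rw [Polynomial.eval_eq_sum_range, hQ, Polynomial.natDegree_scaleRoots, map_sum,
      Finset.sum_range_succ, Finset.sum_eq_zero, zero_add]
    · rw [map_mul, map_pow, Polynomial.coeff_scaleRoots_natDegree, hP.leadingCoeff, map_one,
        one_mul]
    · intro i hi
      rw [Finset.mem_range] at hi
      have hne : P.natDegree - i ≠ 0 := by omega
      rw [map_mul, Polynomial.coeff_scaleRoots, map_mul, map_pow, map_pow, constantCoeff_X,
        zero_pow (Nat.succ_ne_zero k), zero_pow hne, mul_zero, zero_mul]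
  rw [h2, map_zero] at h3
  exact eq_zero_of_pow_eq_zero h3.symm

/-- `S⟦X⟧` is integrally closed in `S⟦X⟧[1/X]` for a domain `S`. -/
theorem pseries_mem_range_of_isIntegral (β : B) (h : IsIntegral (PowerSeries S) β) :
    β ∈ (algebraMap (PowerSeries S) B).range := by
  obtain ⟨k, f, hkf⟩ := IsLocalization.Away.surj (X : PowerSeries S) β
  induction k generalizing f with
  | zero => exact ⟨f, by rw [← hkf, pow_zero, mul_one]⟩
  | succ k ih =>
    have h0 := pseries_constantCoeff_eq_zero β h k f hkf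
    obtain ⟨g, rfl⟩ := X_dvd_iff.mpr h0
    apply ih g
    have hu : IsUnit (algebraMap (PowerSeries S) B X) :=
      IsLocalization.Away.algebraMap_isUnit (X : PowerSeries S)
    apply hu.mul_right_cancel
    rw [mul_assoc, ← pow_succ, hkf, map_mul, mul_comm]

include S in
theorem pseries_isDomain_of_away : IsDomain B := by
  apply IsLocalization.isDomain_of_le_nonZeroDivisors (R := PowerSeries S)
    (M := Submonoid.powers (X : PowerSeries S)) B
  rintro _ ⟨n, rfl⟩
  exact mem_nonZeroDivisors_of_ne_zero (pow_ne_zero n X_ne_zero)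

/-- `g / X` lies in `S⟦X⟧` iff `X ∣ g`. -/
theorem pseries_mul_inv_mem_range_iff (u : Bˣ)
    (hu : (u : B) = algebraMap (PowerSeries S) B X) (g : PowerSeries S) :
    algebraMap (PowerSeries S) B g * ((u ^ (-1 : ℤ) : Bˣ) : B) ∈
      (algebraMap (PowerSeries S) B).range ↔ (X : PowerSeries S) ∣ g := by
  constructor
  · rintro ⟨h, hh⟩
    refine ⟨h, ?_⟩
    apply pseries_algebraMap_injective (B := B)
    rw [map_mul, hh, ← hu, mul_comm, mul_assoc, ← Units.val_mul, zpow_neg_one, inv_mul_cancel,
      Units.val_one, mul_one]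
  · rintro ⟨h, rfl⟩
    refine ⟨h, ?_⟩
    rw [map_mul, ← hu, mul_comm (u : B), mul_assoc, ← Units.val_mul, zpow_neg_one,
      mul_inv_cancel, Units.val_one, mul_one]

end pseries

end Groth.Agent.H96
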