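import Mathlib.RingTheory.WittVector.DiscreteValuationRing
import Mathlib.RingTheory.WittVector.Truncated
import Mathlib.RingTheory.WittVector.Domain
import Mathlib.RingTheory.WittVector.Identities
import Mathlib.RingTheory.LocalRing.ResidueField.Basic
import Mathlib.FieldTheory.IsAlgClosed.Basic
import Mathlib.FieldTheory.Perfect
import Groth.Prelude.Def_WittGrp
import Groth.Agent.H96.FrobSolv

/-!
The truncated Witt vectors `W_{n+1}(k)` of a perfect field `k` of characteristic `p` form a local
ring with maximal ideal `(p)`, `p ^ (n+1) = 0` and residue field `k`; data needed to apply the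
semilinear algebra statements to the Frobenius of `W_{n+1}(k)` and its inverse, for `k`
algebraically closed.
-/

set_option autoImplicit false
universe u

namespace Groth.Agent.H96

open WittVector

variable {p : ℕ} [hp : Fact p.Prime] {k : Type u} [Field k] [CharP k p]

/-- zeroth coefficient, as a ring homomorphism `W_{n+1}(k) → k` -/
noncomputable def coeffZero (n : ℕ) : TruncatedWittVector p (n + 1) k →+* k where
  toFun x := x.coeff 0
  map_one' := by
    rw [← map_one (WittVector.truncate (p := p) (R := k) (n + 1)), WittVector.coeff_truncate]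
    exact WittVector.one_coeff_zero p k
  map_zero' := by
    rw [← map_zero (WittVector.truncate (p := p) (R := k) (n + 1)), WittVector.coeff_truncate]
    exact WittVector.zero_coeff p k 0
  map_mul' x y := by
    obtain ⟨X, rfl⟩ := WittVector.truncate_surjective p (n + 1) k x
    obtain ⟨Y, rfl⟩ := WittVector.truncate_surjective p (n + 1) k y
    rw [← map_mul, WittVector.coeff_truncate, WittVector.coeff_truncate,
      WittVector.coeff_truncate]
    exact WittVector.mul_coeff_zero X Y
  map_add' x y := by
    obtain ⟨X, rfl⟩ := WittVector.truncate_surjective p (n + 1) k x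
    obtain ⟨Y, rfl⟩ := WittVector.truncate_surjective p (n + 1) k y
    rw [← map_add, WittVector.coeff_truncate, WittVector.coeff_truncate,
      WittVector.coeff_truncate]
    exact WittVector.add_coeff_zero X Y

theorem coeffZero_apply (n : ℕ) (x : TruncatedWittVector p (n + 1) k) :
    coeffZero n x = x.coeff 0 := rfl

theorem coeffZero_truncate (n : ℕ) (X : WittVector p k) :
    coeffZero n (WittVector.truncate (n + 1) X) = X.coeff 0 := by
  rw [coeffZero_apply, WittVector.coeff_truncate]
  rfl

theorem isUnit_iff_coeffZero_ne_zero (n : ℕ) (x : TruncatedWittVector p (n + 1) k) :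
    IsUnit x ↔ coeffZero n x ≠ 0 := by
  constructor
  · intro h
    exact (h.map (coeffZero n)).ne_zero
  · intro h
    obtain ⟨X, rfl⟩ := WittVector.truncate_surjective p (n + 1) k x
    rw [coeffZero_truncate] at h
    exact (WittVector.isUnit_of_coeff_zero_ne_zero X h).map (WittVector.truncate (n + 1))

theorem coeffZero_eq_zero_iff [PerfectRing k p] (n : ℕ) (x : TruncatedWittVector p (n + 1) k) :
    coeffZero n x = 0 ↔ x ∈ Ideal.span {(p : TruncatedWittVector p (n + 1) k)} := by
  rw [Ideal.mem_span_singleton]
  constructor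
  · intro h
    obtain ⟨X, rfl⟩ := WittVector.truncate_surjective p (n + 1) k x
    rw [coeffZero_truncate] at h
    have h1 : X = (⇑verschiebung)^[1] (X.shift 1) :=
      WittVector.eq_iterate_verschiebung (n := 1) fun i hi => by
        have : i = 0 := by omega
        rw [this, h]
    obtain ⟨Z, hZ⟩ := (WittVector.frobenius_bijective p k).surjective (X.shift 1)
    rw [← hZ, Function.iterate_one, WittVector.verschiebung_frobenius] at h1
    refine ⟨WittVector.truncate (n + 1) Z, ?_⟩
    rw [h1, map_mul, map_natCast, mul_comm]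
  · rintro ⟨y, rfl⟩
    rw [map_mul, map_natCast, CharP.cast_eq_zero, zero_mul]

instance isLocalRing_truncated (n : ℕ) : IsLocalRing (TruncatedWittVector p (n + 1) k) := by
  have : Nontrivial (TruncatedWittVector p (n + 1) k) := (coeffZero n).domain_nontrivial
  apply IsLocalRing.of_nonunits_add
  intro a b ha hb
  rw [mem_nonunits_iff, isUnit_iff_coeffZero_ne_zero, not_not] at ha hb ⊢
  rw [map_add, ha, hb, add_zero]

theorem maximalIdeal_truncated [PerfectRing k p] (n : ℕ) :
    IsLocalRing.maximalIdeal (TruncatedWittVector p (n + 1) k) =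
      Ideal.span {(p : TruncatedWittVector p (n + 1) k)} := by
  ext x
  rw [IsLocalRing.mem_maximalIdeal, mem_nonunits_iff, isUnit_iff_coeffZero_ne_zero, not_not,
    coeffZero_eq_zero_iff]

omit [CharP k p] in
theorem p_pow_eq_zero_truncated {k : Type u} [CommRing k] [CharP k p] (n : ℕ) :
    (p : TruncatedWittVector p n k) ^ n = 0 := by
  rw [← map_natCast (WittVector.truncate (p := p) (R := k) n), ← map_pow]
  refine TruncatedWittVector.ext fun i => ?_
  rw [WittVector.coeff_truncate, TruncatedWittVector.coeff_zero,
    WittVector.coeff_p_pow_eq_zero p k (ne_of_lt i.2)]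

/-- a lift of `a : k` to `W_{n+1}(k)` with only the zeroth coefficient nonzero -/
def liftZero (n : ℕ) (a : k) : TruncatedWittVector p (n + 1) k :=
  TruncatedWittVector.mk p fun i => if (i : ℕ) = 0 then a else 0

theorem coeffZero_liftZero (n : ℕ) (a : k) : coeffZero n (liftZero (p := p) n a) = a := by
  rw [coeffZero_apply, liftZero, TruncatedWittVector.coeff_mk]
  simp

theorem truncMap_liftZero (n : ℕ) (τ : k →+* k) (a : k) (ha : τ a = a) :
    WittGrp.truncMap p (n + 1) τ (liftZero n a) = liftZero n a := by
  refine TruncatedWittVector.ext fun i => ?_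
  rw [WittGrp.coeff_truncMap, liftZero, TruncatedWittVector.coeff_mk]
  split_ifs
  · exact ha
  · exact map_zero τ

instance isLocalHom_coeffZero (n : ℕ) : IsLocalHom (coeffZero (p := p) (k := k) n) :=
  ⟨fun a ha => (isUnit_iff_coeffZero_ne_zero n a).mpr ha.ne_zero⟩

/-- the residue field of `W_{n+1}(k)` is `k` -/
noncomputable def residueEquiv (n : ℕ) :
    IsLocalRing.ResidueField (TruncatedWittVector p (n + 1) k) ≃+* k :=
  RingEquiv.ofBijective (IsLocalRing.ResidueField.lift (coeffZero n))
    ⟨RingHom.injective _, fun a =>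
      ⟨IsLocalRing.residue _ (liftZero n a), by
        rw [IsLocalRing.ResidueField.lift_residue_apply, coeffZero_liftZero]⟩⟩

theorem residueEquiv_residue (n : ℕ) (x : TruncatedWittVector p (n + 1) k) :
    residueEquiv n (IsLocalRing.residue _ x) = coeffZero n x := rfl

/-- the data needed for the semilinear-algebra statements -/
theorem witt_sigma_data [IsAlgClosed k] (n : ℕ) (τ : k →+* k)
    (hτ : (∀ a, τ a = a ^ p) ∨ (∀ a, τ (a ^ p) = a)) (hτs : Function.Surjective τ) :
    ∃ σbar : IsLocalRing.ResidueField (TruncatedWittVector p (n + 1) k) →+*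
        IsLocalRing.ResidueField (TruncatedWittVector p (n + 1) k),
      (∀ r, σbar (IsLocalRing.residue _ r) =
        IsLocalRing.residue _ (WittGrp.truncMap p (n + 1) τ r)) ∧
      Function.Surjective σbar ∧
      (∀ (m : ℕ) (b : Fin (m + 1) → IsLocalRing.ResidueField (TruncatedWittVector p (n + 1) k)),
        b ≠ 0 → ∃ x : IsLocalRing.ResidueField (TruncatedWittVector p (n + 1) k), x ≠ 0 ∧
          x = ∑ i : Fin (m + 1), (⇑σbar)^[i.val + 1] x * (⇑σbar)^[i.val] (b (Fin.rev i))) ∧
      (∀ c : IsLocalRing.ResidueField (TruncatedWittVector p (n + 1) k),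
        ∃ y : IsLocalRing.ResidueField (TruncatedWittVector p (n + 1) k), σbar y - y + c = 0) ∧
      (∀ x : IsLocalRing.ResidueField (TruncatedWittVector p (n + 1) k), σbar x = x →
        ∃ r : TruncatedWittVector p (n + 1) k,
          WittGrp.truncMap p (n + 1) τ r = r ∧ IsLocalRing.residue _ r = x) := by
  have hp2 : 2 ≤ p := hp.out.two_le
  let e := residueEquiv (p := p) (k := k) n
  have : IsAlgClosed (IsLocalRing.ResidueField (TruncatedWittVector p (n + 1) k)) :=
    IsAlgClosed.of_ringEquiv k _ e.symm
  let σbar : IsLocalRing.ResidueField (TruncatedWittVector p (n + 1) k) →+*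
      IsLocalRing.ResidueField (TruncatedWittVector p (n + 1) k) :=
    (e.symm.toRingHom.comp τ).comp e.toRingHom
  have hσbar_e : ∀ y, e (σbar y) = τ (e y) := fun y => e.apply_symm_apply _
  have hcomp : ∀ r, σbar (IsLocalRing.residue _ r) =
      IsLocalRing.residue _ (WittGrp.truncMap p (n + 1) τ r) := by
    intro r
    apply e.injective
    rw [hσbar_e, residueEquiv_residue, residueEquiv_residue, coeffZero_apply, coeffZero_apply,
      WittGrp.coeff_truncMap]
  have hsurj : Function.Surjective σbar := by
    intro y
    obtain ⟨a, ha⟩ := hτs (e y)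
    refine ⟨e.symm a, ?_⟩
    apply e.injective
    rw [hσbar_e, e.apply_symm_apply, ha]
  refine ⟨σbar, hcomp, hsurj, ?_, ?_, ?_⟩
  · rcases hτ with hτ | hτ
    · have h1 : ∀ y, σbar y = y ^ p := fun y => by
        apply e.injective
        rw [hσbar_e, hτ, map_pow]
      exact h2_of_frob p hp2 σbar h1
    · have h1 : ∀ y, σbar (y ^ p) = y := fun y => by
        apply e.injective
        rw [hσbar_e, map_pow, hτ]
      exact h2_of_frobInv p hp2 σbar h1
  · rcases hτ with hτ | hτ
    · have h1 : ∀ y, σbar y = y ^ p := fun y => by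
        apply e.injective
        rw [hσbar_e, hτ, map_pow]
      exact h3_of_frob p hp2 σbar h1
    · have h1 : ∀ y, σbar (y ^ p) = y := fun y => by
        apply e.injective
        rw [hσbar_e, map_pow, hτ]
      exact h3_of_frobInv p hp2 σbar h1
  · intro x hx
    have ha : τ (e x) = e x := by rw [← hσbar_e, hx]
    refine ⟨liftZero n (e x), truncMap_liftZero n τ _ ha, ?_⟩
    apply e.injective
    rw [residueEquiv_residue, coeffZero_liftZero]

end Groth.Agent.H96
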