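import Mathlib.RingTheory.Flat.Tensor
import Mathlib.RingTheory.Flat.EquationalCriterion
import Groth.Agent.H96.WittLocal

/-!
# Flatness over a local ring with principal maximal ideal of square zero; `W₂(k)`
-/

set_option autoImplicit false
universe u v

namespace Groth.Agent.H96.W2Flat

open TensorProduct

section General

variable {R : Type u} [CommRing R] [IsLocalRing R] (π : R)
  (hπ : IsLocalRing.maximalIdeal R = Ideal.span {π}) (hπ2 : π * π = 0)

include hπ hπ2

theorem ideal_cases (I : Ideal R) : I = ⊥ ∨ I = Ideal.span {π} ∨ I = ⊤ := by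
  by_cases htop : I = ⊤
  · exact Or.inr (Or.inr htop)
  by_cases hbot : I = ⊥
  · exact Or.inl hbot
  right; left
  have hle : I ≤ Ideal.span {π} := hπ ▸ IsLocalRing.le_maximalIdeal htop
  refine le_antisymm hle ?_
  obtain ⟨x, hxI, hx0⟩ := Submodule.exists_mem_ne_zero_of_ne_bot hbot
  obtain ⟨u, hu⟩ := Ideal.mem_span_singleton'.1 (hle hxI)
  have huu : IsUnit u := by
    by_contra hnu
    have h1 : u ∈ IsLocalRing.maximalIdeal R := (IsLocalRing.mem_maximalIdeal u).2 hnu
    rw [hπ] at h1
    obtain ⟨v, hv⟩ := Ideal.mem_span_singleton'.1 h1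
    apply hx0
    rw [← hu, ← hv, mul_assoc, hπ2, mul_zero]
  rw [Ideal.span_singleton_le_iff_mem]
  obtain ⟨w, hw⟩ := huu.exists_left_inv
  have h2 : π = w * x := by rw [← hu, ← mul_assoc, hw, one_mul]
  rw [h2]
  exact Ideal.mul_mem_left _ _ hxI

variable (M : Type v) [AddCommGroup M] [Module R M]

omit hπ2 in
theorem cond_of_flat (hπ0 : π ≠ 0) [Module.Flat R M] (m : M) (hm : π • m = 0) :
    ∃ m' : M, m = π • m' := by
  have hrel : ∑ i : Fin 1, (fun _ => π) i • (fun _ => m) i = 0 := by
    rw [Fin.sum_univ_one]; exact hm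
  obtain ⟨K, a, y, hy1, hy2⟩ := Module.Flat.isTrivialRelation_of_sum_smul_eq_zero hrel
  have ha : ∀ j, ∃ c, c * π = a 0 j := by
    intro j
    have h1 := hy2 j
    rw [Fin.sum_univ_one] at h1
    have h2 : a 0 j ∈ IsLocalRing.maximalIdeal R := by
      rw [IsLocalRing.mem_maximalIdeal, mem_nonunits_iff]
      intro hu
      apply hπ0
      obtain ⟨w, hw⟩ := hu.exists_right_inv
      calc π = π * (a 0 j * w) := by rw [hw, mul_one]
        _ = (π * a 0 j) * w := by rw [mul_assoc]
        _ = 0 := by rw [h1, zero_mul]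
    rw [hπ] at h2
    exact Ideal.mem_span_singleton'.1 h2
  choose c hc using ha
  refine ⟨∑ j, c j • y j, ?_⟩
  have h3 := hy1 0
  beta_reduce at h3
  rw [h3, Finset.smul_sum]
  refine Finset.sum_congr rfl fun j _ => ?_
  rw [← hc j, mul_comm, mul_smul]

theorem flat_of_cond (hcond : ∀ m : M, π • m = 0 → ∃ m' : M, m = π • m') : Module.Flat R M := by
  rw [Module.Flat.iff_rTensor_injective']
  intro I
  rcases ideal_cases π hπ hπ2 I with rfl | rfl | rfl
  · rw [injective_iff_map_eq_zero]
    have hz : ∀ t : ((⊥ : Ideal R) : Type u) ⊗[R] M, t = 0 := by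
      intro t
      induction t using TensorProduct.induction_on with
      | zero => rfl
      | tmul i m =>
        have hi : i = 0 := Subtype.ext ((Submodule.mem_bot R).1 i.2)
        rw [hi, zero_tmul]
      | add x y hx hy => rw [hx, hy, add_zero]
    intro t _
    exact hz t
  · rw [injective_iff_map_eq_zero]
    have hπmem : π ∈ Ideal.span {π} := Ideal.mem_span_singleton_self π
    have hrep : ∀ t : (Ideal.span {π} : Ideal R) ⊗[R] M,
        ∃ m : M, t = (⟨π, hπmem⟩ : (Ideal.span {π} : Ideal R)) ⊗ₜ[R] m := by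
      intro t
      induction t using TensorProduct.induction_on with
      | zero => exact ⟨0, (tmul_zero _ _).symm⟩
      | tmul i m =>
        obtain ⟨r, hr⟩ := Ideal.mem_span_singleton'.1 i.2
        refine ⟨r • m, ?_⟩
        have hi : i = r • (⟨π, hπmem⟩ : (Ideal.span {π} : Ideal R)) := Subtype.ext hr.symm
        rw [hi, smul_tmul]
      | add x y hx hy =>
        obtain ⟨m₁, h₁⟩ := hx
        obtain ⟨m₂, h₂⟩ := hy
        exact ⟨m₁ + m₂, by rw [h₁, h₂, tmul_add]⟩
    intro t ht
    obtain ⟨m, rfl⟩ := hrep t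
    rw [LinearMap.rTensor_tmul] at ht
    have h2 : π • m = 0 := by
      have h3 := congrArg (TensorProduct.lid R M) ht
      rw [map_zero, Submodule.subtype_apply, TensorProduct.lid_tmul] at h3
      exact h3
    obtain ⟨m', rfl⟩ := hcond m h2
    have h4 : π • (⟨π, hπmem⟩ : (Ideal.span {π} : Ideal R)) = 0 := Subtype.ext hπ2
    rw [← smul_tmul, h4, zero_tmul]
  · have he : (⊤ : Ideal R).subtype =
        (Submodule.topEquiv : (⊤ : Submodule R R) ≃ₗ[R] R).toLinearMap := rfl
    rw [he, ← LinearEquiv.coe_rTensor]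
    exact (LinearEquiv.rTensor M Submodule.topEquiv).injective

theorem flat_iff (hπ0 : π ≠ 0) :
    Module.Flat R M ↔ ∀ m : M, π • m = 0 → ∃ m' : M, m = π • m' :=
  ⟨fun _ => cond_of_flat π hπ M hπ0, flat_of_cond π hπ hπ2 M⟩

end General

section W2

variable (p : ℕ) [Fact p.Prime] (k : Type u) [Field k] [CharP k p] [PerfectRing k p]

omit [PerfectRing k p] in
theorem p_ne_zero : (p : TruncatedWittVector p 2 k) ≠ 0 := by
  intro h
  have h1 : WittVector.truncate 2 (p : WittVector p k) = 0 := by rw [map_natCast]; exact h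
  have h2 : (WittVector.truncate 2 (p : WittVector p k)).coeff (1 : Fin 2) =
      (0 : TruncatedWittVector p 2 k).coeff 1 := by rw [h1]
  rw [WittVector.coeff_truncate, TruncatedWittVector.coeff_zero] at h2
  have h3 : ((1 : Fin 2) : ℕ) = 1 := rfl
  rw [h3, WittVector.coeff_p_one] at h2
  exact one_ne_zero h2

omit [PerfectRing k p] in
theorem p_mul_p : (p : TruncatedWittVector p 2 k) * p = 0 := by
  rw [← pow_two]; exact p_pow_eq_zero_truncated (p := p) (k := k) 2

theorem w2_maximalIdeal :
    IsLocalRing.maximalIdeal (TruncatedWittVector p 2 k) =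
      Ideal.span {(p : TruncatedWittVector p 2 k)} :=
  maximalIdeal_truncated (p := p) (k := k) 1

theorem w2_flat_iff (M : Type v) [AddCommGroup M] [Module (TruncatedWittVector p 2 k) M] :
    Module.Flat (TruncatedWittVector p 2 k) M ↔
      ∀ m : M, (p : TruncatedWittVector p 2 k) • m = 0 →
        ∃ m' : M, m = (p : TruncatedWittVector p 2 k) • m' :=
  flat_iff (p : TruncatedWittVector p 2 k) (w2_maximalIdeal p k) (p_mul_p p k) M (p_ne_zero p k)

end W2

end Groth.Agent.H96.W2Flat
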