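import Groth.Agent.H96.W2Ghost
import Groth.Agent.S13137
import Mathlib.Algebra.MvPolynomial.PDeriv

/-!
# Frobenius lifts on `W₂(k)[x]/J'` : the criterion by Frobenius residues
-/

set_option autoImplicit false
universe u

namespace Groth.Agent.H96.PolyFrobLift

open MvPolynomial

variable (p : ℕ) [hp : Fact p.Prime] (k : Type u) [Field k] [CharP k p] [PerfectRing k p] {n : ℕ}

/-- twisted Frobenius lift `x_j ↦ x_j^p + p u_j` of `W₂(k)[x]` -/
noncomputable def Phi (u : Fin n → MvPolynomial (Fin n) (FrobAlg.W2 p k)) :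
    MvPolynomial (Fin n) (FrobAlg.W2 p k) →+* MvPolynomial (Fin n) (FrobAlg.W2 p k) :=
  eval₂Hom (C.comp (FrobAlg.sigma p k))
    fun j => X j ^ p + (p : MvPolynomial (Fin n) (FrobAlg.W2 p k)) * u j

omit [PerfectRing k p] in
theorem Phi_C (u : Fin n → MvPolynomial (Fin n) (FrobAlg.W2 p k)) (a : FrobAlg.W2 p k) :
    Phi p k u (C a) = C (FrobAlg.sigma p k a) := by
  unfold Phi; rw [eval₂Hom_C]; rfl

omit [PerfectRing k p] in
theorem Phi_X (u : Fin n → MvPolynomial (Fin n) (FrobAlg.W2 p k)) (j : Fin n) :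
    Phi p k u (X j) = X j ^ p + (p : MvPolynomial (Fin n) (FrobAlg.W2 p k)) * u j := by
  unfold Phi; rw [eval₂Hom_X']

omit [PerfectRing k p] in
theorem polyFrob_C (a : FrobAlg.W2 p k) :
    FrobAlg.polyFrob p k (Fin n) (C a) = C (FrobAlg.sigma p k a) := by
  unfold FrobAlg.polyFrob; rw [eval₂Hom_C]; rfl

omit [PerfectRing k p] in
theorem polyFrob_X (j : Fin n) :
    FrobAlg.polyFrob p k (Fin n) (X j) = X j ^ p := by
  unfold FrobAlg.polyFrob; rw [eval₂Hom_X']

omit [PerfectRing k p] in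
theorem pp_zero : (p : MvPolynomial (Fin n) (FrobAlg.W2 p k)) *
    (p : MvPolynomial (Fin n) (FrobAlg.W2 p k)) = 0 := by
  rw [← map_natCast (C : FrobAlg.W2 p k →+* MvPolynomial (Fin n) (FrobAlg.W2 p k)), ← map_mul,
    Groth.Agent.H96.W2Flat.p_mul_p, map_zero]

omit [PerfectRing k p] in
theorem res_sigma (a : FrobAlg.W2 p k) :
    FrobAlg.res p k (FrobAlg.sigma p k a) = (FrobAlg.res p k a) ^ p := by
  rw [FrobAlg.res_apply, FrobAlg.res_apply, WittGrp.coeff_frob]

omit [PerfectRing k p] in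
theorem map_res_Phi (u : Fin n → MvPolynomial (Fin n) (FrobAlg.W2 p k))
    (g : MvPolynomial (Fin n) (FrobAlg.W2 p k)) :
    map (FrobAlg.res p k) (Phi p k u g) = (map (FrobAlg.res p k) g) ^ p := by
  have h : (map (FrobAlg.res p k)).comp (Phi p k u) =
      (frobenius (MvPolynomial (Fin n) k) p).comp (map (FrobAlg.res p k)) := by
    refine MvPolynomial.ringHom_ext (fun a => ?_) (fun j => ?_)
    · simp only [RingHom.comp_apply, frobenius_def]
      rw [Phi_C, map_C, map_C, res_sigma, C_pow]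
    · simp only [RingHom.comp_apply, frobenius_def]
      rw [Phi_X, map_add, map_pow, map_X, map_mul, map_natCast,
        CharP.cast_eq_zero (MvPolynomial (Fin n) k) p, zero_mul, add_zero]
  have := congrArg (fun f => f g) h
  simpa only [RingHom.comp_apply, frobenius_def] using this

omit [PerfectRing k p] in
theorem polyFrob_eq : FrobAlg.polyFrob p k (Fin n) = Phi p k (fun _ => 0) := by
  refine MvPolynomial.ringHom_ext (fun a => ?_) (fun j => ?_)
  · rw [Phi_C, polyFrob_C]
  · rw [Phi_X, polyFrob_X, mul_zero, add_zero]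

theorem map_res_eq_zero_iff (g : MvPolynomial (Fin n) (FrobAlg.W2 p k)) :
    map (FrobAlg.res p k) g = 0 ↔
      ∃ c, c * (p : MvPolynomial (Fin n) (FrobAlg.W2 p k)) = g := by
  have hkerk : RingHom.ker (FrobAlg.res p k) = Ideal.span {(p : FrobAlg.W2 p k)} := by
    ext x
    rw [RingHom.mem_ker, FrobAlg.res_apply]
    exact Groth.Agent.H96.coeffZero_eq_zero_iff 1 x
  rw [← RingHom.mem_ker, MvPolynomial.ker_map, hkerk, Ideal.map_span, Set.image_singleton,
    map_natCast, Ideal.mem_span_singleton']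

theorem polyFrob_sub_pow (g : MvPolynomial (Fin n) (FrobAlg.W2 p k)) :
    ∃ c, c * (p : MvPolynomial (Fin n) (FrobAlg.W2 p k)) =
      FrobAlg.polyFrob p k (Fin n) g - g ^ p := by
  rw [← map_res_eq_zero_iff, map_sub, polyFrob_eq, map_res_Phi, map_pow, sub_self]

omit [PerfectRing k p] in
theorem p_mul_add_pow (a b : MvPolynomial (Fin n) (FrobAlg.W2 p k)) :
    (p : MvPolynomial (Fin n) (FrobAlg.W2 p k)) * (a + b) ^ p = p * a ^ p + p * b ^ p := by
  obtain ⟨r, hr⟩ := exists_add_pow_prime_eq hp.out a b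
  rw [hr]
  have h := pp_zero p k (n := n)
  linear_combination (a * b * r) * h

theorem taylor (u : Fin n → MvPolynomial (Fin n) (FrobAlg.W2 p k))
    (g : MvPolynomial (Fin n) (FrobAlg.W2 p k)) :
    Phi p k u g = FrobAlg.polyFrob p k (Fin n) g +
      (p : MvPolynomial (Fin n) (FrobAlg.W2 p k)) * ∑ j, pderiv j g ^ p * u j := by
  classical
  induction g using MvPolynomial.induction_on with
  | C a =>
    rw [Phi_C, polyFrob_C]
    simp [pderiv_C, zero_pow hp.out.ne_zero]
  | add g₁ g₂ h₁ h₂ =>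
    rw [map_add, map_add, h₁, h₂]
    have hterm : ∀ j, (p : MvPolynomial (Fin n) (FrobAlg.W2 p k)) *
        (pderiv j (g₁ + g₂) ^ p * u j) =
        p * (pderiv j g₁ ^ p * u j) + p * (pderiv j g₂ ^ p * u j) := by
      intro j
      rw [map_add, ← mul_assoc, p_mul_add_pow, add_mul, mul_assoc, mul_assoc]
    rw [Finset.mul_sum, Finset.mul_sum, Finset.mul_sum,
      Finset.sum_congr rfl (fun j _ => hterm j), Finset.sum_add_distrib]
    ring
  | mul_X g i h =>
    rw [map_mul, map_mul, Phi_X, polyFrob_X, h]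
    obtain ⟨c, hc⟩ := polyFrob_sub_pow p k g
    have pp := pp_zero p k (n := n)
    have key2 : (p : MvPolynomial (Fin n) (FrobAlg.W2 p k)) * FrobAlg.polyFrob p k (Fin n) g =
        p * g ^ p := by
      linear_combination (p : MvPolynomial (Fin n) (FrobAlg.W2 p k)) * hc.symm + c * pp
    have hterm : ∀ j, (p : MvPolynomial (Fin n) (FrobAlg.W2 p k)) *
        (pderiv j (g * X i) ^ p * u j) =
        (p : MvPolynomial (Fin n) (FrobAlg.W2 p k)) * (pderiv j g ^ p * u j) * X i ^ p +
          (if j = i then (p : MvPolynomial (Fin n) (FrobAlg.W2 p k)) * g ^ p * u i else 0) := by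
      intro j
      rw [pderiv_mul, pderiv_X, ← mul_assoc, p_mul_add_pow]
      by_cases hji : j = i
      · subst hji
        rw [Pi.single_eq_same, mul_one, if_pos rfl, mul_pow]
        ring
      · rw [Pi.single_eq_of_ne (Ne.symm hji), mul_zero, zero_pow hp.out.ne_zero, mul_zero,
          add_zero, if_neg hji, add_zero, mul_pow]
        ring
    have key1 : (p : MvPolynomial (Fin n) (FrobAlg.W2 p k)) *
        ∑ j, pderiv j (g * X i) ^ p * u j =
        (p : MvPolynomial (Fin n) (FrobAlg.W2 p k)) * (∑ j, pderiv j g ^ p * u j) * X i ^ p +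
          (p : MvPolynomial (Fin n) (FrobAlg.W2 p k)) * g ^ p * u i := by
      rw [Finset.mul_sum, Finset.sum_congr rfl (fun j _ => hterm j), Finset.sum_add_distrib,
        Finset.sum_ite_eq', if_pos (Finset.mem_univ i), Finset.mul_sum, Finset.sum_mul]
    rw [key1]
    linear_combination (u i) * key2 + ((∑ j, pderiv j g ^ p * u j) * u i) * pp

section Main

variable {m : ℕ} (f' : Fin m → MvPolynomial (Fin n) (FrobAlg.W2 p k))

theorem main
    (hflat : ((Ideal.Quotient.mk (Ideal.span (Set.range f'))).comp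
      (MvPolynomial.C : FrobAlg.W2 p k →+* MvPolynomial (Fin n) (FrobAlg.W2 p k))).Flat) :
    (∃ Φ : (MvPolynomial (Fin n) (FrobAlg.W2 p k) ⧸ Ideal.span (Set.range f')) →+*
        (MvPolynomial (Fin n) (FrobAlg.W2 p k) ⧸ Ideal.span (Set.range f')),
      Φ.comp ((Ideal.Quotient.mk (Ideal.span (Set.range f'))).comp MvPolynomial.C) =
        ((Ideal.Quotient.mk (Ideal.span (Set.range f'))).comp MvPolynomial.C).comp
          (FrobAlg.sigma p k) ∧
      ∀ b, Ideal.quotientMap ((Ideal.span (Set.range f')).map (MvPolynomial.map (FrobAlg.res p k)))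
          (MvPolynomial.map (FrobAlg.res p k)) Ideal.le_comap_map (Φ b) =
        (Ideal.quotientMap ((Ideal.span (Set.range f')).map (MvPolynomial.map (FrobAlg.res p k)))
          (MvPolynomial.map (FrobAlg.res p k)) Ideal.le_comap_map b) ^ p) ↔
    ∃ h : Fin n → MvPolynomial (Fin n) (FrobAlg.W2 p k), ∀ i,
      FrobAlg.polyFrob p k (Fin n) (f' i) - f' i ^ p
        - (p : MvPolynomial (Fin n) (FrobAlg.W2 p k)) * ∑ j, MvPolynomial.pderiv j (f' i) ^ p * h j
        ∈ Ideal.span {(p : MvPolynomial (Fin n) (FrobAlg.W2 p k))} *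
          Ideal.span (Set.range f') := by
  classical
  set J' : Ideal (MvPolynomial (Fin n) (FrobAlg.W2 p k)) := Ideal.span (Set.range f') with hJ'
  have hfJ : ∀ i, f' i ∈ J' := fun i => Ideal.subset_span ⟨i, rfl⟩
  have hfl : Module.Flat (FrobAlg.W2 p k) (MvPolynomial (Fin n) (FrobAlg.W2 p k) ⧸ J') := by
    have h1 : (algebraMap (FrobAlg.W2 p k)
        (MvPolynomial (Fin n) (FrobAlg.W2 p k) ⧸ J')).Flat := hflat
    exact RingHom.flat_algebraMap_iff.mp h1
  have hinf := (Groth.Agent.S13137.result p k (MvPolynomial (Fin n) (FrobAlg.W2 p k)) J').1 hfl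
  have hres_surj : Function.Surjective (FrobAlg.res p k) := fun a =>
    ⟨Groth.Agent.H96.W2Ghost.T k a, by
      rw [FrobAlg.res_apply, Groth.Agent.H96.W2Ghost.T_coeff_zero]⟩
  have hq_zero : ∀ g : MvPolynomial (Fin n) (FrobAlg.W2 p k),
      Ideal.quotientMap (J'.map (MvPolynomial.map (FrobAlg.res p k)))
        (MvPolynomial.map (FrobAlg.res p k)) Ideal.le_comap_map (Ideal.Quotient.mk J' g) = 0 →
      ∃ c, Ideal.Quotient.mk J' g =
        Ideal.Quotient.mk J' (c * (p : MvPolynomial (Fin n) (FrobAlg.W2 p k))) := by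
    intro g hg
    rw [Ideal.quotientMap_mk, Ideal.Quotient.eq_zero_iff_mem,
      Ideal.mem_map_iff_of_surjective _ (MvPolynomial.map_surjective _ hres_surj)] at hg
    obtain ⟨g', hg'J, hg'⟩ := hg
    have h0 : map (FrobAlg.res p k) (g - g') = 0 := by rw [map_sub, hg', sub_self]
    obtain ⟨c, hc⟩ := (map_res_eq_zero_iff p k _).1 h0
    refine ⟨c, ?_⟩
    rw [hc, Ideal.Quotient.eq]
    have : g - (g - g') = g' := by ring
    rw [this]; exact hg'J
  constructor
  · rintro ⟨Φ, hsemi, hred⟩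
    have hex : ∀ j : Fin n, ∃ c : MvPolynomial (Fin n) (FrobAlg.W2 p k),
        Φ (Ideal.Quotient.mk J' (X j)) = Ideal.Quotient.mk J'
          (X j ^ p + (p : MvPolynomial (Fin n) (FrobAlg.W2 p k)) * c) := by
      intro j
      obtain ⟨G, hG⟩ := Ideal.Quotient.mk_surjective (Φ (Ideal.Quotient.mk J' (X j)))
      have h1 := hred (Ideal.Quotient.mk J' (X j))
      rw [← hG, ← map_pow, ← map_pow, ← sub_eq_zero, ← map_sub, ← map_sub] at h1
      obtain ⟨c, hc⟩ := hq_zero _ h1
      refine ⟨c, ?_⟩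
      rw [← hG, map_add, mul_comm, ← hc, map_sub, map_pow]
      ring
    choose c hc using hex
    have hcomm : (Ideal.Quotient.mk J').comp (Phi p k c) = Φ.comp (Ideal.Quotient.mk J') := by
      refine MvPolynomial.ringHom_ext (fun a => ?_) (fun j => ?_)
      · have := congrArg (fun f => f a) hsemi
        simp only [RingHom.comp_apply] at this ⊢
        rw [this, Phi_C]
      · simp only [RingHom.comp_apply]
        rw [Phi_X, hc]
    have hΦJ : ∀ g ∈ J', Phi p k c g ∈ J' := by
      intro g hg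
      have := congrArg (fun f => f g) hcomm
      simp only [RingHom.comp_apply] at this
      rw [← Ideal.Quotient.eq_zero_iff_mem, this, Ideal.Quotient.eq_zero_iff_mem.2 hg, map_zero]
    refine ⟨fun j => -(c j), fun i => ?_⟩
    have hE : FrobAlg.polyFrob p k (Fin n) (f' i) - f' i ^ p
        - (p : MvPolynomial (Fin n) (FrobAlg.W2 p k)) *
          ∑ j, MvPolynomial.pderiv j (f' i) ^ p * (-(c j)) = Phi p k c (f' i) - f' i ^ p := by
      rw [taylor]
      simp only [mul_neg, Finset.sum_neg_distrib]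
      ring
    rw [hE, ← hinf]
    refine ⟨?_, ?_⟩
    · obtain ⟨d, hd⟩ := polyFrob_sub_pow p k (f' i)
      rw [SetLike.mem_coe, Ideal.mem_span_singleton']
      refine ⟨d + ∑ j, MvPolynomial.pderiv j (f' i) ^ p * c j, ?_⟩
      rw [taylor, add_mul, hd]
      ring
    · exact Ideal.sub_mem _ (hΦJ _ (hfJ i)) (Ideal.pow_mem_of_mem _ (hfJ i) p hp.out.pos)
  · rintro ⟨h, hh⟩
    have hΦf : ∀ i, Phi p k (fun j => -(h j)) (f' i) ∈ J' := by
      intro i
      have hE : Phi p k (fun j => -(h j)) (f' i) =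
          (FrobAlg.polyFrob p k (Fin n) (f' i) - f' i ^ p
            - (p : MvPolynomial (Fin n) (FrobAlg.W2 p k)) *
              ∑ j, MvPolynomial.pderiv j (f' i) ^ p * h j) + f' i ^ p := by
        rw [taylor]
        simp only [mul_neg, Finset.sum_neg_distrib]
        ring
      rw [hE]
      exact Ideal.add_mem _ (Ideal.mul_le_right (hh i))
        (Ideal.pow_mem_of_mem _ (hfJ i) p hp.out.pos)
    have hle : J' ≤ J'.comap (Phi p k (fun j => -(h j))) := by
      rw [hJ', Ideal.span_le]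
      rintro _ ⟨i, rfl⟩
      exact hΦf i
    refine ⟨Ideal.quotientMap J' (Phi p k (fun j => -(h j))) hle, ?_, ?_⟩
    · refine RingHom.ext fun a => ?_
      simp only [RingHom.comp_apply]
      rw [Ideal.quotientMap_mk, Phi_C]
    · intro b
      obtain ⟨g, rfl⟩ := Ideal.Quotient.mk_surjective b
      rw [Ideal.quotientMap_mk, Ideal.quotientMap_mk, Ideal.quotientMap_mk, map_res_Phi, map_pow]

end Main

end Groth.Agent.H96.PolyFrobLift
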