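import Mathlib.FieldTheory.IsSepClosed
import Mathlib.FieldTheory.Separable
import Mathlib.FieldTheory.Finite.Basic
import Mathlib.LinearAlgebra.FiniteDimensional.Lemmas
import Mathlib.LinearAlgebra.LinearIndependent.Lemmas
import Mathlib.LinearAlgebra.Projection
import Mathlib.LinearAlgebra.Basis.VectorSpace
import Mathlib.RingTheory.Artinian.Module
import Mathlib.RingTheory.Noetherian.Basic
import Mathlib.Algebra.CharP.Lemmas
import Mathlib.Algebra.Polynomial.Splits
import Mathlib.Order.OrderIsoNat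
import Mathlib.LinearAlgebra.Dimension.OrzechProperty
import Mathlib.Tactic.Ring
import Mathlib.Tactic.Linarith
import Mathlib.Tactic.LinearCombination
import Mathlib.Tactic.Abel

/-!
# `q`-semilinear endomorphisms of finite-dimensional spaces over a separably closed field

`φ : V →+ V` with `φ (a • v) = a ^ q • φ v`, `q ≥ 2`, `q = 0` in `k`.  The first three sections
(`Basic`, `Poly`, `FixedVector`) adapt helper86's `H86/FrobSL.lean` (algebraically closed case) to
separably closed fields; the rest (semisimple part, basis of fixed vectors, surjectivity of `1 - φ`)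
is new.
-/

namespace Groth.Agent.H96.QLin

open Polynomial

universe u v

section Basic

variable {k : Type u} [Field k] {V : Type v} [AddCommGroup V] [Module k V]

lemma iterate_smul {q : ℕ} (φ : V →+ V) (hφ : ∀ (a : k) (v : V), φ (a • v) = a ^ q • φ v)
    (n : ℕ) (a : k) (v : V) : (⇑φ)^[n] (a • v) = a ^ (q ^ n) • (⇑φ)^[n] v := by
  induction n generalizing a v with
  | zero => simp
  | succ n ih =>
    rw [Function.iterate_succ_apply', Function.iterate_succ_apply', ih, hφ, ← pow_mul, pow_succ]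

lemma map_sum_smul {q : ℕ} (φ : V →+ V) (hφ : ∀ (a : k) (v : V), φ (a • v) = a ^ q • φ v)
    {ι : Type*} (s : Finset ι) (c : ι → k) (u : ι → V) :
    φ (∑ i ∈ s, c i • u i) = ∑ i ∈ s, (c i) ^ q • φ (u i) := by
  rw [map_sum]
  exact Finset.sum_congr rfl fun i _ => hφ _ _

lemma iterate_zero (φ : V →+ V) (n : ℕ) : (⇑φ)^[n] 0 = 0 := by
  induction n with
  | zero => rfl
  | succ n ih => rw [Function.iterate_succ_apply', ih, map_zero]

lemma iterate_add (φ : V →+ V) (n : ℕ) (x y : V) : (⇑φ)^[n] (x + y) = (⇑φ)^[n] x + (⇑φ)^[n] y := by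
  induction n with
  | zero => rfl
  | succ n ih => rw [Function.iterate_succ_apply', ih, map_add, ← Function.iterate_succ_apply' φ,
      ← Function.iterate_succ_apply' φ]

lemma iterate_sub (φ : V →+ V) (n : ℕ) (x y : V) : (⇑φ)^[n] (x - y) = (⇑φ)^[n] x - (⇑φ)^[n] y := by
  induction n with
  | zero => rfl
  | succ n ih => rw [Function.iterate_succ_apply', ih, map_sub, ← Function.iterate_succ_apply' φ,
      ← Function.iterate_succ_apply' φ]

end Basic

section Poly

variable {k : Type u} [Field k]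

/-- The auxiliary polynomials `R 0 = a 0 X`, `R (i+1) = (R i)^q + a (i+1) X`. -/
noncomputable def auxR (q : ℕ) (a : ℕ → k) : ℕ → k[X]
  | 0 => C (a 0) * X
  | (i + 1) => (auxR q a i) ^ q + C (a (i + 1)) * X

lemma X_dvd_auxR {q : ℕ} (hq : 1 ≤ q) (a : ℕ → k) (i : ℕ) : X ∣ auxR q a i := by
  induction i with
  | zero => exact Dvd.intro_left _ rfl
  | succ i ih =>
    rw [auxR]
    exact dvd_add (dvd_pow ih (by omega)) (Dvd.intro_left _ rfl)

lemma auxR_eq_zero {q : ℕ} (hq : 2 ≤ q) (a : ℕ → k) (i : ℕ) (h : auxR q a i = 0) :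
    ∀ j ≤ i, a j = 0 := by
  induction i with
  | zero =>
    intro j hj
    have hj0 : j = 0 := by omega
    subst hj0
    rw [auxR] at h
    have := congrArg (fun f => coeff f 1) h
    simpa using this
  | succ i ih =>
    have hXq : X ^ q ∣ (auxR q a i) ^ q := pow_dvd_pow_of_dvd (X_dvd_auxR (by omega) a i) q
    have hc1 : ((auxR q a i) ^ q).coeff 1 = 0 := (X_pow_dvd_iff.mp hXq) 1 (by omega)
    rw [auxR] at h
    have h1 := congrArg (fun f => coeff f 1) h
    simp only [coeff_add, hc1, coeff_C_mul, coeff_X_one, mul_one, zero_add, coeff_zero] at h1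
    rw [h1, map_zero, zero_mul, add_zero] at h
    have h2 : auxR q a i = 0 := pow_eq_zero_iff (by omega) |>.mp h
    intro j hj
    rcases Nat.lt_or_ge j (i + 1) with hlt | hge
    · exact ih h2 j (by omega)
    · have : j = i + 1 := by omega
      rw [this]; exact h1

lemma eval_auxR_zero (q : ℕ) (a : ℕ → k) (z : k) : (auxR q a 0).eval z = a 0 * z := by
  simp [auxR]

lemma eval_auxR_succ (q : ℕ) (a : ℕ → k) (i : ℕ) (z : k) :
    (auxR q a (i + 1)).eval z = ((auxR q a i).eval z) ^ q + a (i + 1) * z := by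
  simp [auxR]

/-- Key root-existence: if `R ≠ 0` and `X ∣ R`, then `R^q - X` has a nonzero root
(`k` separably closed, `q = 0` in `k`, `q ≥ 2`). -/
lemma exists_root_ne_zero [IsSepClosed k] {q : ℕ} (hq : 2 ≤ q) (hqk : (q : k) = 0)
    (R : k[X]) (hR : R ≠ 0) (hX : X ∣ R) : ∃ z : k, z ≠ 0 ∧ (R.eval z) ^ q = z := by
  classical
  set G : k[X] := R ^ q - X with hG
  have hRdeg : 1 ≤ R.natDegree := by
    obtain ⟨S, rfl⟩ := hX
    have hS : S ≠ 0 := by rintro rfl; simp at hR
    rw [natDegree_X_mul hS]; omega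
  have hdegpow : (R ^ q).natDegree = q * R.natDegree := natDegree_pow R q
  have hlt : (X : k[X]).natDegree < (R ^ q).natDegree := by
    rw [natDegree_X, hdegpow]; nlinarith
  have hGdeg : G.natDegree = q * R.natDegree := by
    rw [hG, natDegree_sub_eq_left_of_natDegree_lt hlt, hdegpow]
  have hGdeg2 : 2 ≤ G.natDegree := by rw [hGdeg]; nlinarith
  have hder : derivative G = -1 := by
    rw [hG, derivative_sub, derivative_X, derivative_pow, hqk, map_zero, zero_mul, zero_mul,
      zero_sub]
  have hsep : G.Separable := by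
    rw [separable_def, hder]
    exact isCoprime_one_right.neg_right
  have hsplit : G.Splits := IsSepClosed.splits_of_separable G hsep
  have hcard : G.roots.card = G.natDegree := hsplit.natDegree_eq_card_roots.symm
  have hnodup : G.roots.Nodup := nodup_roots hsep
  have hfin : 1 < G.roots.toFinset.card := by
    rw [Multiset.toFinset_card_of_nodup hnodup, hcard]; omega
  obtain ⟨z, hz, hz0⟩ := Finset.exists_mem_ne hfin 0
  refine ⟨z, hz0, ?_⟩
  have hG0 : G ≠ 0 := by
    intro h0; rw [h0, derivative_zero] at hder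
    exact (by norm_num : (0 : k[X]) ≠ -1) hder
  have := (mem_roots hG0).mp (Multiset.mem_toFinset.mp hz)
  rw [IsRoot, hG, eval_sub, eval_pow, eval_X, sub_eq_zero] at this
  exact this

end Poly

section FixedVector

variable {k : Type u} [Field k] [IsSepClosed k] {V : Type v} [AddCommGroup V] [Module k V]

/-- **L1**: an injective `q`-semilinear endomorphism of a nonzero finite-dimensional space over a
separably closed field has a nonzero fixed vector. -/
theorem exists_fixed_ne_zero [FiniteDimensional k V] {q : ℕ} (hq : 2 ≤ q) (hqk : (q : k) = 0)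
    (φ : V →+ V) (hφ : ∀ (a : k) (v : V), φ (a • v) = a ^ q • φ v)
    (hinj : Function.Injective φ) (v : V) (hv : v ≠ 0) : ∃ w : V, w ≠ 0 ∧ φ w = w := by
  classical
  -- the minimal dependent length
  let P : ℕ → Prop := fun n => ¬ LinearIndependent k (fun i : Fin (n + 1) => (⇑φ)^[(i : ℕ)] v)
  have hex : ∃ n, P n := by
    refine ⟨Module.finrank k V, fun hli => ?_⟩
    have := hli.fintype_card_le_finrank
    simp at this
  have hP0 : ¬ P 0 := by
    intro h
    apply h
    have : (fun i : Fin 1 => (⇑φ)^[(i : ℕ)] v) = fun _ => v := by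
      funext i; fin_cases i; rfl
    rw [this]
    haveI : Subsingleton (Fin (0 + 1)) := (inferInstance : Subsingleton (Fin 1))
    exact LinearIndependent.of_subsingleton (0 : Fin (0 + 1)) hv
  have hn0 : Nat.find hex ≠ 0 := fun h => hP0 (h ▸ Nat.find_spec hex)
  obtain ⟨m, hm⟩ := Nat.exists_eq_succ_of_ne_zero hn0
  have hind : LinearIndependent k (fun i : Fin (m + 1) => (⇑φ)^[(i : ℕ)] v) := by
    have := Nat.find_min hex (m := m) (by omega)
    exact not_not.mp this
  have hdep : ¬ LinearIndependent k (fun i : Fin (m + 2) => (⇑φ)^[(i : ℕ)] v) := by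
    have := Nat.find_spec hex
    rw [hm] at this
    exact this
  have hmem : (⇑φ)^[m + 1] v ∈ Submodule.span k (Set.range fun i : Fin (m + 1) => (⇑φ)^[(i : ℕ)] v) := by
    by_contra hnot
    apply hdep
    have hinit : Fin.init (fun i : Fin (m + 2) => (⇑φ)^[(i : ℕ)] v) =
        fun i : Fin (m + 1) => (⇑φ)^[(i : ℕ)] v := by
      funext i; simp [Fin.init]
    rw [linearIndependent_finSucc', hinit]
    exact ⟨hind, by simpa using hnot⟩
  obtain ⟨c, hc⟩ := (Submodule.mem_span_range_iff_exists_fun k).mp hmem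
  let a : ℕ → k := fun i => if h : i < m + 1 then c ⟨i, h⟩ else 0
  have hsum : ∑ i ∈ Finset.range (m + 1), a i • (⇑φ)^[i] v = (⇑φ)^[m + 1] v := by
    rw [← hc, ← Fin.sum_univ_eq_sum_range (fun i => a i • (⇑φ)^[i] v) (m + 1)]
    refine Finset.sum_congr rfl fun i _ => ?_
    show (if h : (i : ℕ) < m + 1 then c ⟨i, h⟩ else 0) • _ = c i • _
    rw [dif_pos i.2]
  -- `R m ≠ 0`
  have hRm : auxR q a m ≠ 0 := by
    intro h0
    have ha := auxR_eq_zero hq a m h0
    have : (⇑φ)^[m + 1] v = 0 := by
      rw [← hsum]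
      refine Finset.sum_eq_zero fun i hi => ?_
      rw [ha i (by have := Finset.mem_range.mp hi; omega), zero_smul]
    have hinj' := hinj.iterate (m + 1)
    exact hv (hinj' (this.trans (iterate_zero φ (m + 1)).symm))
  obtain ⟨z, hz0, hz⟩ := exists_root_ne_zero hq hqk (auxR q a m) hRm (X_dvd_auxR (by omega) a m)
  let x : ℕ → k := fun i => (auxR q a i).eval z
  have hx0 : x 0 = a 0 * z := eval_auxR_zero q a z
  have hxs : ∀ i, x (i + 1) = (x i) ^ q + a (i + 1) * z := fun i => eval_auxR_succ q a i z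
  have hxm : (x m) ^ q = z := hz
  refine ⟨∑ i ∈ Finset.range (m + 1), x i • (⇑φ)^[i] v, ?_, ?_⟩
  · intro hw0
    have h1 : ∑ i : Fin (m + 1), x i • (⇑φ)^[(i : ℕ)] v = 0 := by
      rw [Fin.sum_univ_eq_sum_range (fun i => x i • (⇑φ)^[i] v) (m + 1)]; exact hw0
    have h2 := Fintype.linearIndependent_iff.mp hind (fun i => x i) h1 ⟨m, by omega⟩
    apply hz0
    rw [← hxm]
    have h3 : x m = 0 := h2
    rw [h3, zero_pow (by omega)]
  · rw [map_sum_smul φ hφ]
    have e1 : ∑ i ∈ Finset.range (m + 1), (x i) ^ q • φ ((⇑φ)^[i] v) =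
        ∑ i ∈ Finset.range m, (x i) ^ q • (⇑φ)^[i + 1] v + z • ∑ i ∈ Finset.range (m + 1), a i • (⇑φ)^[i] v := by
      rw [Finset.sum_range_succ, hxm, hsum, Function.iterate_succ_apply']
      congr 1
      refine Finset.sum_congr rfl fun i _ => ?_
      rw [Function.iterate_succ_apply']
    have e2 : ∑ i ∈ Finset.range (m + 1), x i • (⇑φ)^[i] v =
        ∑ i ∈ Finset.range m, (x i) ^ q • (⇑φ)^[i + 1] v + z • ∑ i ∈ Finset.range (m + 1), a i • (⇑φ)^[i] v := by
      rw [Finset.sum_range_succ' (fun i => x i • (⇑φ)^[i] v), Finset.sum_range_succ' (fun i => a i • (⇑φ)^[i] v),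
        smul_add, Finset.smul_sum, hx0, ← add_assoc, ← Finset.sum_add_distrib]
      congr 1
      · refine Finset.sum_congr rfl fun i _ => ?_
        rw [hxs, add_smul, smul_smul, mul_comm z]
      · rw [smul_smul, mul_comm z]
    rw [e1, e2]

end FixedVector


section Sep

variable {k : Type u} [Field k] {V : Type v} [AddCommGroup V] [Module k V]

lemma iterate_sum (φ : V →+ V) (n : ℕ) {ι : Type*} (s : Finset ι) (f : ι → V) :
    (⇑φ)^[n] (∑ i ∈ s, f i) = ∑ i ∈ s, (⇑φ)^[n] (f i) := by
  induction n with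
  | zero => rfl
  | succ n ih =>
    rw [Function.iterate_succ_apply', ih, map_sum]
    exact Finset.sum_congr rfl fun i _ => (Function.iterate_succ_apply' φ n (f i)).symm

lemma exists_AS [IsSepClosed k] {q : ℕ} (hq : 2 ≤ q) (hqk : (q : k) = 0) (c : k) :
    ∃ b : k, b ^ q - b = c := by
  have hdeg : (X ^ q - (X + C c) : k[X]).degree = q := by
    rw [degree_sub_eq_left_of_degree_lt, degree_X_pow]
    rw [degree_X_add_C, degree_X_pow]
    exact_mod_cast (by omega : 1 < q)
  have hder : derivative (X ^ q - (X + C c) : k[X]) = -1 := by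
    rw [derivative_sub, derivative_X_pow, derivative_add, derivative_X, derivative_C, hqk,
      map_zero, zero_mul, add_zero, zero_sub]
  have hsep : (X ^ q - (X + C c) : k[X]).Separable := by
    rw [separable_def, hder]
    exact isCoprime_one_right.neg_right
  obtain ⟨b, hb⟩ := IsSepClosed.exists_root (X ^ q - (X + C c) : k[X]) (by
    rw [hdeg]; exact_mod_cast (by omega : q ≠ 0)) hsep
  refine ⟨b, ?_⟩
  rw [IsRoot, eval_sub, eval_pow, eval_X, eval_add, eval_X, eval_C] at hb
  linear_combination hb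

variable {q : ℕ} (φ : V →+ V) (hφ : ∀ (a : k) (v : V), φ (a • v) = a ^ q • φ v)

include hφ in
/-- If the image of `φ` spans `V`, then `φ` is injective. -/
lemma injective_of_span_range [FiniteDimensional k V] (hq : 0 < q)
    (hss : Submodule.span k (Set.range φ) = ⊤) : Function.Injective φ := by
  classical
  let b := Module.finBasis k V
  let w : Fin (Module.finrank k V) → V := fun i => φ (b i)
  have hφsum : ∀ u : V, φ u = ∑ i, (b.repr u i) ^ q • w i := by
    intro u
    conv_lhs => rw [← b.sum_repr u]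
    exact map_sum_smul φ hφ Finset.univ _ _
  have htop : ⊤ ≤ Submodule.span k (Set.range w) := by
    rw [← hss, Submodule.span_le]
    rintro _ ⟨u, rfl⟩
    rw [hφsum u]
    exact Submodule.sum_mem _ fun i _ =>
      Submodule.smul_mem _ _ (Submodule.subset_span ⟨i, rfl⟩)
  have hli : LinearIndependent k w :=
    linearIndependent_of_top_le_span_of_card_eq_finrank htop (by simp)
  rw [injective_iff_map_eq_zero]
  intro u hu
  rw [hφsum u] at hu
  have h0 := Fintype.linearIndependent_iff.mp hli (fun i => (b.repr u i) ^ q) hu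
  have h1 : b.repr u = 0 := by
    ext i
    rw [Finsupp.zero_apply]
    exact (pow_eq_zero_iff (by omega)).mp (h0 i)
  exact b.repr.map_eq_zero_iff.mp h1

include hφ in
lemma span_fixed_stable : ∀ u ∈ Submodule.span k {v : V | φ v = v},
    φ u ∈ Submodule.span k {v : V | φ v = v} := by
  intro u hu
  induction hu using Submodule.span_induction with
  | mem w hw =>
    have hw' : φ w = w := hw
    rw [hw']; exact Submodule.subset_span hw
  | zero => rw [map_zero]; exact Submodule.zero_mem _
  | add x y _ _ hx hy => rw [map_add]; exact Submodule.add_mem _ hx hy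
  | smul r x _ hx => rw [hφ]; exact Submodule.smul_mem _ _ hx

include hφ in
lemma span_fixed_AS [IsSepClosed k] (hq : 2 ≤ q) (hqk : (q : k) = 0) :
    ∀ c ∈ Submodule.span k {v : V | φ v = v}, ∀ a : k,
      ∃ u ∈ Submodule.span k {v : V | φ v = v}, φ u - u = a • c := by
  intro c hc
  induction hc using Submodule.span_induction with
  | mem w hw =>
    intro a
    obtain ⟨b, hb⟩ := exists_AS hq hqk a
    refine ⟨b • w, Submodule.smul_mem _ b (Submodule.subset_span hw), ?_⟩
    have hw' : φ w = w := hw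
    rw [hφ, hw', ← sub_smul, hb]
  | zero => intro a; exact ⟨0, Submodule.zero_mem _, by simp⟩
  | add x y _ _ hx hy =>
    intro a
    obtain ⟨u, hu, hu'⟩ := hx a
    obtain ⟨u2, hu2, hu2'⟩ := hy a
    refine ⟨u + u2, Submodule.add_mem _ hu hu2, ?_⟩
    rw [map_add, smul_add, ← hu', ← hu2']; abel
  | smul r x _ hx =>
    intro a
    obtain ⟨u, hu, hu'⟩ := hx (a * r)
    exact ⟨u, hu, by rw [hu', mul_smul]⟩

include hφ in
/-- If the image of `φ` spans `V` (`φ` semisimple), the fixed vectors span `V`. -/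
theorem span_fixed_eq_top [IsSepClosed k] [FiniteDimensional k V] (hq : 2 ≤ q)
    (hqk : (q : k) = 0) (hss : Submodule.span k (Set.range φ) = ⊤) :
    Submodule.span k {v : V | φ v = v} = ⊤ := by
  classical
  set U := Submodule.span k {v : V | φ v = v} with hU
  have U1 := span_fixed_AS φ hφ hq hqk
  have Ust := span_fixed_stable φ hφ
  by_contra hne
  obtain ⟨U', hc⟩ := Submodule.exists_isCompl U
  have hU'ne : U' ≠ ⊥ := by
    intro h
    rw [h] at hc
    exact hne (eq_top_of_isCompl_bot hc)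
  let π : V →ₗ[k] U' := Submodule.projectionOnto U' U hc.symm
  have hπker : ∀ y : V, π y = 0 → y ∈ U := by
    intro y hy
    exact (Submodule.projectionOnto_apply_eq_zero_iff hc.symm).mp hy
  have hπU : ∀ y ∈ U, π y = 0 := fun y hy =>
    (Submodule.projectionOnto_apply_eq_zero_iff hc.symm).mpr hy
  have hπid : ∀ x : U', π (x : V) = x := fun x => Submodule.projectionOnto_apply_left hc.symm x
  let ψ : U' →+ U' := π.toAddMonoidHom.comp (φ.comp U'.subtype.toAddMonoidHom)
  have hψapp : ∀ x : U', ψ x = π (φ (x : V)) := fun x => rfl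
  have hψ : ∀ (a : k) (x : U'), ψ (a • x) = a ^ q • ψ x := by
    intro a x
    rw [hψapp, hψapp, Submodule.coe_smul, hφ, map_smul]
  have hdisj : ∀ y : V, y ∈ U → y ∈ U' → y = 0 := by
    intro y h1 h2
    have : y ∈ U ⊓ U' := ⟨h1, h2⟩
    rw [hc.inf_eq_bot] at this
    exact (Submodule.mem_bot k).mp this
  have hkey : ∀ v : V, π (φ v) = ψ (π v) := by
    intro v
    have h1 : v - (π v : V) ∈ U := by
      apply hπker
      rw [map_sub, hπid, sub_self]
    have h2 : φ v = φ (v - (π v : V)) + φ (π v : V) := by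
      rw [← map_add, sub_add_cancel]
    rw [h2, map_add, hπU _ (Ust _ h1), zero_add, hψapp]
  have hψss : Submodule.span k (Set.range ψ) = ⊤ := by
    rw [eq_top_iff]
    intro y _
    have h1 : ∀ x ∈ Submodule.span k (Set.range φ), π x ∈ Submodule.span k (Set.range ψ) := by
      intro x hx
      induction hx using Submodule.span_induction with
      | mem x hx =>
        obtain ⟨v, rfl⟩ := hx
        rw [hkey]; exact Submodule.subset_span ⟨π v, rfl⟩
      | zero => rw [map_zero]; exact Submodule.zero_mem _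
      | add a b _ _ ha hb => rw [map_add]; exact Submodule.add_mem _ ha hb
      | smul r a _ ha => rw [map_smul]; exact Submodule.smul_mem _ _ ha
    have h2 := h1 (y : V) (by rw [hss]; exact Submodule.mem_top)
    rwa [hπid] at h2
  have hψinj : Function.Injective ψ := injective_of_span_range ψ hψ (by omega) hψss
  obtain ⟨x0, hx0mem, hx0⟩ := Submodule.exists_mem_ne_zero_of_ne_bot hU'ne
  have hx0' : (⟨x0, hx0mem⟩ : U') ≠ 0 := fun h => hx0 (congrArg Subtype.val h)
  obtain ⟨x, hxne, hxfix⟩ := exists_fixed_ne_zero hq hqk ψ hψ hψinj _ hx0'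
  have h2 : φ (x : V) - x ∈ U := by
    apply hπker
    rw [map_sub, hπid, ← hψapp, hxfix, sub_self]
  obtain ⟨u, hu, hu'⟩ := U1 _ h2 (-1)
  have h3 : φ ((x : V) + u) = (x : V) + u := by
    have e : φ u = u + -(φ (x : V) - x) := by
      rw [← neg_one_smul k (φ (x : V) - x), ← hu']; abel
    rw [map_add, e]; abel
  have h4 : (x : V) + u ∈ U := Submodule.subset_span h3
  have h5 : (x : V) ∈ U := by
    have := Submodule.sub_mem _ h4 hu
    simpa using this
  exact hxne (Subtype.ext (hdisj _ h5 x.2))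

include hφ in
/-- A basis of fixed vectors, indexed by `Fin (finrank k V)`, for semisimple `φ`. -/
theorem exists_basis_fixed [IsSepClosed k] [FiniteDimensional k V] (hq : 2 ≤ q)
    (hqk : (q : k) = 0) (hss : Submodule.span k (Set.range φ) = ⊤) :
    ∃ b : Module.Basis (Fin (Module.finrank k V)) k V, ∀ i, φ (b i) = b i := by
  obtain ⟨s, hbs, hspan, hli⟩ := exists_linearIndependent k {v : V | φ v = v}
  have htop : ⊤ ≤ Submodule.span k (Set.range ((↑) : s → V)) := by
    rw [Subtype.range_coe, hspan, span_fixed_eq_top φ hφ hq hqk hss]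
  let B : Module.Basis s k V := Module.Basis.mk hli htop
  let e : s ≃ Fin (Module.finrank k V) := B.indexEquiv (Module.finBasis k V)
  refine ⟨B.reindex e, fun i => ?_⟩
  have h1 : B.reindex e i = ((e.symm i : s) : V) := by
    rw [Module.Basis.reindex_apply]
    exact Module.Basis.mk_apply hli htop _
  rw [h1]
  exact hbs (e.symm i).2

include hφ in
lemma repr_map {ι : Type*} [Fintype ι] (b : Module.Basis ι k V) (hb : ∀ i, φ (b i) = b i)
    (v : V) (i : ι) : b.repr (φ v) i = (b.repr v i) ^ q := by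
  have h1 : φ v = ∑ j, (b.repr v j) ^ q • b j := by
    conv_lhs => rw [← b.sum_repr v]
    rw [map_sum_smul φ hφ]
    exact Finset.sum_congr rfl fun j _ => by rw [hb j]
  rw [h1]
  exact congrFun (b.repr_sum_self fun j => (b.repr v j) ^ q) i

include hφ in
lemma repr_iterate {ι : Type*} [Fintype ι] (b : Module.Basis ι k V) (hb : ∀ i, φ (b i) = b i)
    (n : ℕ) (v : V) (i : ι) : b.repr ((⇑φ)^[n] v) i = (b.repr v i) ^ (q ^ n) := by
  induction n with
  | zero => simp
  | succ n ih =>
    rw [Function.iterate_succ_apply', repr_map φ hφ b hb, ih, ← pow_mul, pow_succ]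

include hφ in
lemma sub_surjective_of_basis [IsSepClosed k] {ι : Type*} [Fintype ι] (hq : 2 ≤ q)
    (hqk : (q : k) = 0) (b : Module.Basis ι k V) (hb : ∀ i, φ (b i) = b i) (w : V) :
    ∃ v : V, v - φ v = w := by
  have hex : ∀ i, ∃ t : k, t ^ q - t = -(b.repr w i) := fun i => exists_AS hq hqk _
  choose t ht using hex
  refine ⟨∑ i, t i • b i, ?_⟩
  apply b.repr.injective
  ext i
  rw [map_sub, Finsupp.sub_apply, repr_map φ hφ b hb]
  have h1 : b.repr (∑ j, t j • b j) i = t i := congrFun (b.repr_sum_self t) i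
  rw [h1]
  have := ht i
  linear_combination (-1 : k) * this

/-- The restriction of `φ` to a stable submodule. -/
def restrict (S : Submodule k V) (hstab : ∀ x ∈ S, φ x ∈ S) : S →+ S where
  toFun x := ⟨φ x, hstab x x.2⟩
  map_zero' := Subtype.ext (map_zero φ)
  map_add' x y := Subtype.ext (map_add φ (x : V) (y : V))

include hφ in
theorem submodule_main [IsSepClosed k] [FiniteDimensional k V] (hq : 2 ≤ q) (hqk : (q : k) = 0)
    (S : Submodule k V) (hstab : ∀ x ∈ S, φ x ∈ S) (hss : S ≤ Submodule.span k (φ '' S)) :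
    ∃ b : Module.Basis (Fin (Module.finrank k S)) k S, (∀ i, φ (b i : V) = (b i : V)) ∧
      (∀ v ∈ S, φ v = v → ∃ c : Fin (Module.finrank k S) → k,
        (∀ i, c i ^ q = c i) ∧ v = ∑ i, c i • (b i : V)) ∧
      (∀ w ∈ S, ∃ v ∈ S, v - φ v = w) := by
  let ψ := restrict φ S hstab
  have hψapp : ∀ x : S, (ψ x : V) = φ x := fun _ => rfl
  have hψ : ∀ (a : k) (x : S), ψ (a • x) = a ^ q • ψ x := by
    intro a x
    apply Subtype.ext
    rw [hψapp, Submodule.coe_smul, hφ, Submodule.coe_smul, hψapp]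
  have hψss : Submodule.span k (Set.range ψ) = ⊤ := by
    rw [eq_top_iff]
    intro x _
    have h1 : Submodule.span k (φ '' S) ≤
        Submodule.map S.subtype (Submodule.span k (Set.range ψ)) := by
      rw [Submodule.span_le]
      rintro _ ⟨z, hz, rfl⟩
      exact ⟨ψ ⟨z, hz⟩, Submodule.subset_span ⟨_, rfl⟩, rfl⟩
    obtain ⟨y, hy, hyx⟩ := h1 (hss x.2)
    have : y = x := Subtype.ext hyx
    rwa [this] at hy
  obtain ⟨b, hb⟩ := exists_basis_fixed ψ hψ hq hqk hψss
  refine ⟨b, fun i => ?_, ?_, ?_⟩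
  · exact congrArg Subtype.val (hb i)
  · intro v hvS hv
    have hx : ψ ⟨v, hvS⟩ = ⟨v, hvS⟩ := Subtype.ext hv
    refine ⟨fun i => b.repr ⟨v, hvS⟩ i, fun i => ?_, ?_⟩
    · have := repr_map ψ hψ b hb ⟨v, hvS⟩ i
      rw [hx] at this; exact this.symm
    · have h2 := congrArg Subtype.val (b.sum_repr ⟨v, hvS⟩)
      rw [Submodule.coe_sum] at h2
      simp only [Submodule.coe_smul] at h2
      exact h2.symm
  · intro w hw
    obtain ⟨y, hy⟩ := sub_surjective_of_basis ψ hψ hq hqk b hb ⟨w, hw⟩
    exact ⟨y, y.2, congrArg Subtype.val hy⟩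

variable (k) in
/-- The span of the image of the `n`-th iterate of `φ`. -/
def rangeSpan (n : ℕ) : Submodule k V := Submodule.span k (Set.range (⇑φ)^[n])

lemma rangeSpan_anti : Antitone (rangeSpan k φ) := by
  apply antitone_nat_of_succ_le
  intro n
  apply Submodule.span_mono
  rintro _ ⟨x, rfl⟩
  exact ⟨φ x, (Function.iterate_succ_apply φ n x).symm⟩

include hφ in
lemma map_mem_rangeSpan (n : ℕ) : ∀ x ∈ rangeSpan k φ n, φ x ∈ rangeSpan k φ (n + 1) := by
  intro x hx
  induction hx using Submodule.span_induction with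
  | mem x hx =>
    obtain ⟨v, rfl⟩ := hx
    exact Submodule.subset_span ⟨v, Function.iterate_succ_apply' φ n v⟩
  | zero => rw [map_zero]; exact Submodule.zero_mem _
  | add a b _ _ ha hb => rw [map_add]; exact Submodule.add_mem _ ha hb
  | smul r a _ ha => rw [hφ]; exact Submodule.smul_mem _ _ ha

include hφ in
/-- A stabilisation index for the spans of the images of the iterates, with the resulting
stability and semisimplicity of the stable span. -/
theorem exists_ss [FiniteDimensional k V] :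
    ∃ M : ℕ, (∀ m, M ≤ m → rangeSpan k φ M = rangeSpan k φ m) ∧
      (∀ x ∈ rangeSpan k φ M, φ x ∈ rangeSpan k φ M) ∧
      rangeSpan k φ M ≤ Submodule.span k (φ '' (rangeSpan k φ M : Set V)) := by
  obtain ⟨M, h⟩ := IsArtinian.monotone_stabilizes (R := k) (M := V)
    ⟨fun n => OrderDual.toDual (rangeSpan k φ n), fun a b hab => rangeSpan_anti φ hab⟩
  have hM : ∀ m, M ≤ m → rangeSpan k φ M = rangeSpan k φ m :=
    fun m hm => OrderDual.toDual.injective (h m hm)
  refine ⟨M, hM, fun x hx => ?_, ?_⟩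
  · rw [hM (M + 1) (by omega)]
    exact map_mem_rangeSpan φ hφ M x hx
  · intro x hx
    rw [hM (M + 1) (by omega)] at hx
    refine Submodule.span_mono ?_ hx
    rintro _ ⟨v, rfl⟩
    exact ⟨(⇑φ)^[M] v, Submodule.subset_span ⟨v, rfl⟩, (Function.iterate_succ_apply' φ M v).symm⟩

lemma iInf_eq (M : ℕ) (h : ∀ m, M ≤ m → rangeSpan k φ M = rangeSpan k φ m) :
    (⨅ n : ℕ, Submodule.span k (Set.range (⇑φ)^[n + 1])) = rangeSpan k φ M := by
  apply le_antisymm
  · rw [h (M + 1) (by omega)]
    exact iInf_le (fun n : ℕ => Submodule.span k (Set.range (⇑φ)^[n + 1])) M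
  · apply le_iInf
    intro n
    rcases le_total M (n + 1) with hle | hle
    · rw [h (n + 1) hle]; exact le_rfl
    · exact rangeSpan_anti φ hle

lemma fixed_mem_rangeSpan (n : ℕ) {v : V} (hv : φ v = v) : v ∈ rangeSpan k φ n :=
  Submodule.subset_span ⟨v, Function.iterate_fixed hv n⟩

include hφ in
/-- **Lang-type surjectivity**: `v ↦ v - φ v` is onto. -/
theorem sub_surjective [IsSepClosed k] [FiniteDimensional k V] (hq : 2 ≤ q) (hqk : (q : k) = 0)
    (w : V) : ∃ v : V, v - φ v = w := by
  obtain ⟨M, hM, hstab, hss⟩ := exists_ss (k := k) φ hφ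
  obtain ⟨b, -, -, hsurj⟩ := submodule_main φ hφ hq hqk _ hstab hss
  have hmem : (⇑φ)^[M] w ∈ rangeSpan k φ M := Submodule.subset_span ⟨w, rfl⟩
  obtain ⟨y, -, hy⟩ := hsurj _ hmem
  refine ⟨∑ i ∈ Finset.range M, (⇑φ)^[i] w + y, ?_⟩
  rw [map_add, map_sum]
  have htel : ∑ i ∈ Finset.range M, ((⇑φ)^[i] w - (⇑φ)^[i + 1] w) = (⇑φ)^[0] w - (⇑φ)^[M] w :=
    Finset.sum_range_sub' (fun i => (⇑φ)^[i] w) M
  have h1 : ∑ i ∈ Finset.range M, φ ((⇑φ)^[i] w) = ∑ i ∈ Finset.range M, (⇑φ)^[i + 1] w :=
    Finset.sum_congr rfl fun i _ => (Function.iterate_succ_apply' φ i w).symm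
  rw [h1]
  rw [Finset.sum_sub_distrib] at htel
  have h0 : (⇑φ)^[0] w = w := rfl
  rw [h0] at htel
  calc ∑ i ∈ Finset.range M, (⇑φ)^[i] w + y - (∑ i ∈ Finset.range M, (⇑φ)^[i + 1] w + φ y)
      = (∑ i ∈ Finset.range M, (⇑φ)^[i] w - ∑ i ∈ Finset.range M, (⇑φ)^[i + 1] w)
        + (y - φ y) := by abel
    _ = (w - (⇑φ)^[M] w) + (⇑φ)^[M] w := by rw [htel, hy]
    _ = w := by abel

end Sep

end Groth.Agent.H96.QLin
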