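import Groth.Agent.H96.QuadLift
import Mathlib.Algebra.MvPolynomial.PDeriv

/-!
# The split quadric cone has no Frobenius-compatible flat lifting over `W₂(k)`

`PolyFrobG`: twisted Frobenius lifts of `W₂(k)[σ]` for a general finite variable type `σ`
(same as `PolyFrobLift`, which is for `Fin n`), with the Taylor formula.
`QuadFun.Lam_pow_char`: the functional `Lam` kills `p`-th powers in characteristic `p`.
`QuadFrob.no_frob_lift`: the cone `k[x_i,y_i]/(∑ x_i y_i)`, `n ≥ 3`, has no Frobenius lifting.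
-/

set_option autoImplicit false
universe u

namespace Groth.Agent.H96.PolyFrobG

open MvPolynomial

variable (p : ℕ) [hp : Fact p.Prime] (k : Type u) [Field k] [CharP k p] [PerfectRing k p] {σ : Type} [Fintype σ]

/-- twisted Frobenius lift `x_j ↦ x_j^p + p u_j` of `W₂(k)[x]` -/
noncomputable def Phi (u : σ → MvPolynomial (σ) (FrobAlg.W2 p k)) :
    MvPolynomial (σ) (FrobAlg.W2 p k) →+* MvPolynomial (σ) (FrobAlg.W2 p k) :=
  eval₂Hom (C.comp (FrobAlg.sigma p k))
    fun j => X j ^ p + (p : MvPolynomial (σ) (FrobAlg.W2 p k)) * u j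

omit [PerfectRing k p] in
theorem Phi_C (u : σ → MvPolynomial (σ) (FrobAlg.W2 p k)) (a : FrobAlg.W2 p k) :
    Phi p k u (C a) = C (FrobAlg.sigma p k a) := by
  unfold Phi; rw [eval₂Hom_C]; rfl

omit [PerfectRing k p] in
theorem Phi_X (u : σ → MvPolynomial (σ) (FrobAlg.W2 p k)) (j : σ) :
    Phi p k u (X j) = X j ^ p + (p : MvPolynomial (σ) (FrobAlg.W2 p k)) * u j := by
  unfold Phi; rw [eval₂Hom_X']

omit [PerfectRing k p] in
theorem polyFrob_C (a : FrobAlg.W2 p k) :
    FrobAlg.polyFrob p k (σ) (C a) = C (FrobAlg.sigma p k a) := by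
  unfold FrobAlg.polyFrob; rw [eval₂Hom_C]; rfl

omit [PerfectRing k p] in
theorem polyFrob_X (j : σ) :
    FrobAlg.polyFrob p k (σ) (X j) = X j ^ p := by
  unfold FrobAlg.polyFrob; rw [eval₂Hom_X']

omit [PerfectRing k p] in
theorem pp_zero : (p : MvPolynomial (σ) (FrobAlg.W2 p k)) *
    (p : MvPolynomial (σ) (FrobAlg.W2 p k)) = 0 := by
  rw [← map_natCast (C : FrobAlg.W2 p k →+* MvPolynomial (σ) (FrobAlg.W2 p k)), ← map_mul,
    Groth.Agent.H96.W2Flat.p_mul_p, map_zero]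

omit [PerfectRing k p] in
theorem res_sigma (a : FrobAlg.W2 p k) :
    FrobAlg.res p k (FrobAlg.sigma p k a) = (FrobAlg.res p k a) ^ p := by
  rw [FrobAlg.res_apply, FrobAlg.res_apply, WittGrp.coeff_frob]

omit [PerfectRing k p] in
theorem map_res_Phi (u : σ → MvPolynomial (σ) (FrobAlg.W2 p k))
    (g : MvPolynomial (σ) (FrobAlg.W2 p k)) :
    map (FrobAlg.res p k) (Phi p k u g) = (map (FrobAlg.res p k) g) ^ p := by
  have h : (map (FrobAlg.res p k)).comp (Phi p k u) =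
      (frobenius (MvPolynomial (σ) k) p).comp (map (FrobAlg.res p k)) := by
    refine MvPolynomial.ringHom_ext (fun a => ?_) (fun j => ?_)
    · simp only [RingHom.comp_apply, frobenius_def]
      rw [Phi_C, map_C, map_C, res_sigma, C_pow]
    · simp only [RingHom.comp_apply, frobenius_def]
      rw [Phi_X, map_add, map_pow, map_X, map_mul, map_natCast,
        CharP.cast_eq_zero (MvPolynomial (σ) k) p, zero_mul, add_zero]
  have := congrArg (fun f => f g) h
  simpa only [RingHom.comp_apply, frobenius_def] using this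

omit [PerfectRing k p] in
theorem polyFrob_eq : FrobAlg.polyFrob p k (σ) = Phi p k (fun _ => 0) := by
  refine MvPolynomial.ringHom_ext (fun a => ?_) (fun j => ?_)
  · rw [Phi_C, polyFrob_C]
  · rw [Phi_X, polyFrob_X, mul_zero, add_zero]

theorem map_res_eq_zero_iff (g : MvPolynomial (σ) (FrobAlg.W2 p k)) :
    map (FrobAlg.res p k) g = 0 ↔
      ∃ c, c * (p : MvPolynomial (σ) (FrobAlg.W2 p k)) = g := by
  have hkerk : RingHom.ker (FrobAlg.res p k) = Ideal.span {(p : FrobAlg.W2 p k)} := by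
    ext x
    rw [RingHom.mem_ker, FrobAlg.res_apply]
    exact Groth.Agent.H96.coeffZero_eq_zero_iff 1 x
  rw [← RingHom.mem_ker, MvPolynomial.ker_map, hkerk, Ideal.map_span, Set.image_singleton,
    map_natCast, Ideal.mem_span_singleton']

theorem polyFrob_sub_pow (g : MvPolynomial (σ) (FrobAlg.W2 p k)) :
    ∃ c, c * (p : MvPolynomial (σ) (FrobAlg.W2 p k)) =
      FrobAlg.polyFrob p k (σ) g - g ^ p := by
  rw [← map_res_eq_zero_iff, map_sub, polyFrob_eq, map_res_Phi, map_pow, sub_self]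

omit [PerfectRing k p] in
theorem p_mul_add_pow (a b : MvPolynomial (σ) (FrobAlg.W2 p k)) :
    (p : MvPolynomial (σ) (FrobAlg.W2 p k)) * (a + b) ^ p = p * a ^ p + p * b ^ p := by
  obtain ⟨r, hr⟩ := exists_add_pow_prime_eq hp.out a b
  rw [hr]
  have h := pp_zero p k (σ := σ)
  linear_combination (a * b * r) * h

theorem taylor (u : σ → MvPolynomial (σ) (FrobAlg.W2 p k))
    (g : MvPolynomial (σ) (FrobAlg.W2 p k)) :
    Phi p k u g = FrobAlg.polyFrob p k (σ) g +
      (p : MvPolynomial (σ) (FrobAlg.W2 p k)) * ∑ j, pderiv j g ^ p * u j := by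
  classical
  induction g using MvPolynomial.induction_on with
  | C a =>
    rw [Phi_C, polyFrob_C]
    simp [pderiv_C, zero_pow hp.out.ne_zero]
  | add g₁ g₂ h₁ h₂ =>
    rw [map_add, map_add, h₁, h₂]
    have hterm : ∀ j, (p : MvPolynomial (σ) (FrobAlg.W2 p k)) *
        (pderiv j (g₁ + g₂) ^ p * u j) =
        p * (pderiv j g₁ ^ p * u j) + p * (pderiv j g₂ ^ p * u j) := by
      intro j
      rw [map_add, ← mul_assoc, p_mul_add_pow, add_mul, mul_assoc, mul_assoc]
    rw [Finset.mul_sum, Finset.mul_sum, Finset.mul_sum,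
      Finset.sum_congr rfl (fun j _ => hterm j), Finset.sum_add_distrib]
    ring
  | mul_X g i h =>
    rw [map_mul, map_mul, Phi_X, polyFrob_X, h]
    obtain ⟨c, hc⟩ := polyFrob_sub_pow p k g
    have pp := pp_zero p k (σ := σ)
    have key2 : (p : MvPolynomial (σ) (FrobAlg.W2 p k)) * FrobAlg.polyFrob p k (σ) g =
        p * g ^ p := by
      linear_combination (p : MvPolynomial (σ) (FrobAlg.W2 p k)) * hc.symm + c * pp
    have hterm : ∀ j, (p : MvPolynomial (σ) (FrobAlg.W2 p k)) *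
        (pderiv j (g * X i) ^ p * u j) =
        (p : MvPolynomial (σ) (FrobAlg.W2 p k)) * (pderiv j g ^ p * u j) * X i ^ p +
          (if j = i then (p : MvPolynomial (σ) (FrobAlg.W2 p k)) * g ^ p * u i else 0) := by
      intro j
      rw [pderiv_mul, pderiv_X, ← mul_assoc, p_mul_add_pow]
      by_cases hji : j = i
      · subst hji
        rw [Pi.single_eq_same, mul_one, if_pos rfl, mul_pow]
        ring
      · rw [Pi.single_eq_of_ne (Ne.symm hji), mul_zero, zero_pow hp.out.ne_zero, mul_zero,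
          add_zero, if_neg hji, add_zero, mul_pow]
        ring
    have key1 : (p : MvPolynomial (σ) (FrobAlg.W2 p k)) *
        ∑ j, pderiv j (g * X i) ^ p * u j =
        (p : MvPolynomial (σ) (FrobAlg.W2 p k)) * (∑ j, pderiv j g ^ p * u j) * X i ^ p +
          (p : MvPolynomial (σ) (FrobAlg.W2 p k)) * g ^ p * u i := by
      rw [Finset.mul_sum, Finset.sum_congr rfl (fun j _ => hterm j), Finset.sum_add_distrib,
        Finset.sum_ite_eq', if_pos (Finset.mem_univ i), Finset.mul_sum, Finset.sum_mul]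
    rw [key1]
    linear_combination (u i) * key2 + ((∑ j, pderiv j g ^ p * u j) * u i) * pp


omit [PerfectRing k p] in
theorem map_res_polyFrob (g : MvPolynomial σ (FrobAlg.W2 p k)) :
    map (FrobAlg.res p k) (FrobAlg.polyFrob p k σ g) = (map (FrobAlg.res p k) g) ^ p := by
  rw [polyFrob_eq, map_res_Phi]

end Groth.Agent.H96.PolyFrobG

namespace Groth.Agent.H96.QuadFun

open MvPolynomial

variable (S : Type*) [CommRing S] {n : ℕ} (i0 i1 i2 : Fin n)

theorem Lam_monomial_nsmul (h02 : i0 ≠ i2) (h12 : i1 ≠ i2) (q N : ℕ) (hN : N = q + 1)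
    (hq : 1 ≤ q) (hchar : (N : S) = 0) (m : (Fin n × Fin 2) →₀ ℕ) (c : S) :
    Lam S i0 i1 i2 q (monomial (N • m) c) = 0 := by
  classical
  subst hN
  have key1 : ∀ x ∈ Finset.antidiagonal (q + 1),
      lam0 S x.2 * coeff (mon i0 i1 i2 x.1 x.2 0) (monomial ((q + 1) • m) c) = 0 := by
    intro x hx
    rw [Finset.mem_antidiagonal] at hx
    rw [coeff_monomial]
    by_cases heq : (q + 1) • m = mon i0 i1 i2 x.1 x.2 0
    · rw [if_pos heq]
      have h0 := DFunLike.congr_fun heq (i0, 0)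
      rw [mon_at0] at h0
      change (q + 1) * m (i0, 0) = x.1 at h0
      rcases Nat.eq_zero_or_pos (m (i0, 0)) with hm | hm
      · rw [hm, mul_zero] at h0
        have hx2 : x.2 = q + 1 := by omega
        rw [hx2]
        unfold lam0
        rw [hchar, zero_mul, zero_mul]
      · have h3 : q + 1 ≤ (q + 1) * m (i0, 0) := Nat.le_mul_of_pos_right _ hm
        have hx2 : x.2 = 0 := by omega
        rw [hx2, lam0_zero, zero_mul]
    · rw [if_neg heq, mul_zero]
  have key2 : ∀ x ∈ Finset.antidiagonal q,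
      lam1 S x.2 * coeff (mon i0 i1 i2 x.1 x.2 1) (monomial ((q + 1) • m) c) = 0 := by
    intro x _
    rw [coeff_monomial, if_neg, mul_zero]
    intro heq
    have h2 := DFunLike.congr_fun heq (i2, 0)
    rw [mon_at2 i0 i1 i2 h02 h12] at h2
    change (q + 1) * m (i2, 0) = 1 at h2
    rcases Nat.eq_zero_or_pos (m (i2, 0)) with hm | hm
    · rw [hm, mul_zero] at h2
      omega
    · have h3 : q + 1 ≤ (q + 1) * m (i2, 0) := Nat.le_mul_of_pos_right _ hm
      omega
  unfold Lam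
  rw [Finset.sum_eq_zero key1, Finset.sum_eq_zero key2, add_zero]

theorem Lam_pow_char (p : ℕ) [Fact p.Prime] [CharP S p] (h02 : i0 ≠ i2) (h12 : i1 ≠ i2)
    (q : ℕ) (hq : p = q + 1) (hq1 : 1 ≤ q) (h : MvPolynomial (Fin n × Fin 2) S) :
    Lam S i0 i1 i2 q (h ^ p) = 0 := by
  induction h using MvPolynomial.induction_on' with
  | monomial m c =>
    rw [monomial_pow]
    exact Lam_monomial_nsmul S i0 i1 i2 h02 h12 q p hq hq1 (CharP.cast_eq_zero S p) m _
  | add a b ha hb => rw [add_pow_char, Lam_add, ha, hb, add_zero]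

end Groth.Agent.H96.QuadFun

namespace Groth.Agent.H96.QuadFrob

open MvPolynomial

theorem pderiv_f0 (S : Type*) [CommSemiring S] (n : ℕ) (v : Fin n × Fin 2) :
    ∃ w : Fin n × Fin 2,
      pderiv v (∑ i : Fin n, X (i, (0 : Fin 2)) * X (i, (1 : Fin 2)) :
        MvPolynomial (Fin n × Fin 2) S) = X w := by
  classical
  obtain ⟨j, e⟩ := v
  have hterm : ∀ i : Fin n,
      pderiv (j, e) (X (i, (0 : Fin 2)) * X (i, (1 : Fin 2)) : MvPolynomial (Fin n × Fin 2) S) =
        if i = j then (if e = 0 then X (j, 1) else X (j, 0)) else 0 := by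
    intro i
    rw [pderiv_mul, pderiv_X, pderiv_X]
    by_cases hij : i = j
    · subst hij
      rw [if_pos rfl]
      fin_cases e
      · simp [Pi.single_apply]
      · simp [Pi.single_apply]
    · rw [if_neg hij]
      have hji : ¬ j = i := fun h => hij h.symm
      simp [Pi.single_apply, hij, hji]
  rw [map_sum, Finset.sum_congr rfl (fun i _ => hterm i)]
  simp only [Finset.sum_ite_eq', Finset.mem_univ, if_true]
  by_cases he : e = 0
  · exact ⟨(j, 1), by rw [if_pos he]⟩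
  · exact ⟨(j, 0), by rw [if_neg he]⟩

variable (p : ℕ) [hp : Fact p.Prime] (k : Type u) [Field k] [CharP k p] [PerfectRing k p]
variable (n : ℕ)

local notation "R'" => MvPolynomial (Fin n × Fin 2) (FrobAlg.W2 p k)
local notation "Rk" => MvPolynomial (Fin n × Fin 2) k

theorem no_frob_lift (hn : 3 ≤ n) (J : Ideal Rk)
    (hJ : J = Ideal.span
      {(∑ i : Fin n, X (i, (0 : Fin 2)) * X (i, (1 : Fin 2)) : Rk)})
    (B : Type u) [CommRing B] (ι : FrobAlg.W2 p k →+* B) (π : B →+* (Rk ⧸ J)) (Φ : B →+* B)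
    (hB : FrobAlg.IsFrobLift p k (Rk ⧸ J) B ι π Φ) : False := by
  classical
  obtain ⟨ψ, hψC, hπψ, hsurj, hliftJ, hkerJ, hdiv⟩ :=
    QuadLift.exists_pres p k J B ι π hB.toIsLift
  obtain ⟨i0, i1, i2, h01, h02, h12⟩ :
      ∃ i0 i1 i2 : Fin n, i0 ≠ i1 ∧ i0 ≠ i2 ∧ i1 ≠ i2 :=
    ⟨⟨0, by omega⟩, ⟨1, by omega⟩, ⟨2, by omega⟩, by simp [Fin.ext_iff], by simp [Fin.ext_iff],
      by simp [Fin.ext_iff]⟩
  obtain ⟨q, hq⟩ : ∃ q, p = q + 1 := ⟨p - 1, by have := hp.out.pos; omega⟩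
  have hq1 : 1 ≤ q := by have := hp.out.two_le; omega
  have hf0J : (∑ i : Fin n, X (i, (0 : Fin 2)) * X (i, (1 : Fin 2)) : Rk) ∈ J := by
    rw [hJ]; exact Ideal.subset_span rfl
  obtain ⟨f', hf'0, hf'⟩ := hliftJ _ hf0J
  set f0 : R' := ∑ i : Fin n, X (i, (0 : Fin 2)) * X (i, (1 : Fin 2)) with hf0
  have hmapf0 : map (FrobAlg.res p k) f0 =
      ∑ i : Fin n, X (i, (0 : Fin 2)) * X (i, (1 : Fin 2)) := by
    rw [hf0, map_sum]
    exact Finset.sum_congr rfl fun i _ => by rw [map_mul, map_X, map_X]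
  obtain ⟨g, hg⟩ := (QuadLift.map_res_eq_zero_iff p k (f' - f0)).1
    (by rw [map_sub, hf', hmapf0, sub_self])
  have hf'eq : f' = f0 + g * (p : R') := by rw [hg]; ring
  have hf'pow : f' ^ p = f0 ^ p := by rw [hf'eq]; exact QuadLift.add_p_mul_pow p k f0 g
  -- kernel of `π ∘ ψ`
  have hker2 : ∀ t : R', π (ψ t) = 0 → ∃ c : R', ψ t = ψ (c * (p : R')) := by
    intro t ht
    rw [hπψ, Ideal.Quotient.eq_zero_iff_mem] at ht
    obtain ⟨j', hj'0, hj'⟩ := hliftJ _ ht
    obtain ⟨c, hc⟩ := (QuadLift.map_res_eq_zero_iff p k (t - j')).1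
      (by rw [map_sub, hj', sub_self])
    refine ⟨c, ?_⟩
    rw [hc, map_sub, hj'0, sub_zero]
  -- the Frobenius lift on generators
  have hcv : ∀ v : Fin n × Fin 2, ∃ c : R', Φ (ψ (X v)) = ψ (X v ^ p + (p : R') * c) := by
    intro v
    obtain ⟨t, ht⟩ := hsurj (Φ (ψ (X v)) - ψ (X v ^ p))
    have h0 : π (ψ t) = 0 := by
      rw [ht, map_sub, hB.red, hπψ, hπψ, map_pow, map_pow, sub_self]
    obtain ⟨c, hc⟩ := hker2 t h0
    refine ⟨c, ?_⟩
    rw [map_add, mul_comm, ← hc, ht]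
    ring
  choose cv hcv using hcv
  have hcomm : ψ.comp (PolyFrobG.Phi p k cv) = Φ.comp ψ := by
    refine MvPolynomial.ringHom_ext (fun a => ?_) (fun v => ?_)
    · simp only [RingHom.comp_apply]
      rw [PolyFrobG.Phi_C, hψC, hψC]
      have := congrArg (fun f => f a) hB.semi
      simpa only [RingHom.comp_apply] using this.symm
    · simp only [RingHom.comp_apply]
      rw [PolyFrobG.Phi_X, hcv]
  have hψPhi : ψ (PolyFrobG.Phi p k cv f') = 0 := by
    have := congrArg (fun F => F f') hcomm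
    simp only [RingHom.comp_apply] at this
    rw [this, hf'0, map_zero]
  set E : R' := PolyFrobG.Phi p k cv f' - f' ^ p with hE
  have hψE : ψ E = 0 := by
    rw [hE, map_sub, hψPhi, map_pow, hf'0, zero_pow hp.out.ne_zero, sub_zero]
  have hmapE : map (FrobAlg.res p k) E = 0 := by
    rw [hE, map_sub, PolyFrobG.map_res_Phi, map_pow, sub_self]
  obtain ⟨c, hc⟩ := (QuadLift.map_res_eq_zero_iff p k E).1 hmapE
  obtain ⟨z, hz0, hz⟩ := hdiv c (by rw [mul_comm, hc]; exact hψE)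
  have hEz : E = (p : R') * z := by rw [← hz, mul_comm, hc]
  have hLk_J : ∀ j ∈ J, QuadFun.Lam k i0 i1 i2 q j = 0 := by
    intro j hj
    rw [hJ] at hj
    obtain ⟨a, rfl⟩ := Ideal.mem_span_singleton'.1 hj
    rw [mul_comm]
    exact QuadFun.Lam_f0_mul k i0 i1 i2 h01 h02 h12 q a
  have hnat : ∀ g : R', FrobAlg.res p k (QuadFun.Lam (FrobAlg.W2 p k) i0 i1 i2 q g) =
      QuadFun.Lam k i0 i1 i2 q (map (FrobAlg.res p k) g) := fun g =>
    (QuadFun.Lam_map i0 i1 i2 (FrobAlg.res p k) q g).symm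
  have hLz : QuadFun.Lam (FrobAlg.W2 p k) i0 i1 i2 q ((p : R') * z) = 0 := by
    rw [← map_natCast (C : FrobAlg.W2 p k →+* R') p, QuadFun.Lam_C_mul]
    exact QuadLift.p_mul_eq_zero_of_res p k _ (by rw [hnat]; exact hLk_J _ (hkerJ z hz0))
  -- Taylor expansion of `Phi f'`
  have htay := PolyFrobG.taylor p k cv f'
  have hF : FrobAlg.polyFrob p k (Fin n × Fin 2) f' =
      (∑ i : Fin n, X (i, (0 : Fin 2)) ^ p * X (i, (1 : Fin 2)) ^ p) +
        FrobAlg.polyFrob p k (Fin n × Fin 2) g * (p : R') := by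
    rw [hf'eq, map_add, map_mul, map_natCast, hf0, map_sum]
    congr 1
    exact Finset.sum_congr rfl fun i _ => by
      rw [map_mul, PolyFrobG.polyFrob_X, PolyFrobG.polyFrob_X]
  have hpd : ∀ v : Fin n × Fin 2, ∃ w : Fin n × Fin 2, pderiv v f' ^ p = X w ^ p := by
    intro v
    have h1 : pderiv v f' = pderiv v f0 + pderiv v g * (p : R') := by
      rw [hf'eq, map_add, pderiv_mul, ← map_natCast (C : FrobAlg.W2 p k →+* R') p, pderiv_C,
        mul_zero, add_zero]
    obtain ⟨w, hw⟩ := pderiv_f0 (FrobAlg.W2 p k) n v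
    exact ⟨w, by rw [h1, QuadLift.add_p_mul_pow, hw]⟩
  choose w hw using hpd
  have hEexp : E = (∑ i : Fin n, X (i, (0 : Fin 2)) ^ p * X (i, (1 : Fin 2)) ^ p)
      + (p : R') * FrobAlg.polyFrob p k (Fin n × Fin 2) g
      + (p : R') * (∑ v : Fin n × Fin 2, cv v * X (w v) ^ p) - f0 * f0 ^ (p - 1) := by
    have hsum : ∑ v : Fin n × Fin 2, pderiv v f' ^ p * cv v =
        ∑ v : Fin n × Fin 2, cv v * X (w v) ^ p :=
      Finset.sum_congr rfl fun v _ => by rw [hw, mul_comm]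
    rw [hE, htay, hF, hf'pow, mul_pow_sub_one hp.out.ne_zero, hsum]
    ring
  have hL1 : QuadFun.Lam (FrobAlg.W2 p k) i0 i1 i2 q (f0 * f0 ^ (p - 1)) = 0 :=
    QuadFun.Lam_f0_mul (FrobAlg.W2 p k) i0 i1 i2 h01 h02 h12 q _
  have hL2 : QuadFun.Lam (FrobAlg.W2 p k) i0 i1 i2 q
      (∑ i : Fin n, X (i, (0 : Fin 2)) ^ p * X (i, (1 : Fin 2)) ^ p) =
      (p : FrobAlg.W2 p k) * (-1) ^ p :=
    QuadFun.Lam_val (FrobAlg.W2 p k) i0 i1 i2 h01 h02 h12 q p hq hq1
  have hL3 : QuadFun.Lam (FrobAlg.W2 p k) i0 i1 i2 q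
      ((p : R') * FrobAlg.polyFrob p k (Fin n × Fin 2) g) = 0 := by
    rw [← map_natCast (C : FrobAlg.W2 p k →+* R') p, QuadFun.Lam_C_mul]
    refine QuadLift.p_mul_eq_zero_of_res p k _ ?_
    rw [hnat, PolyFrobG.map_res_polyFrob]
    exact QuadFun.Lam_pow_char k i0 i1 i2 p h02 h12 q hq hq1 _
  have hL4 : QuadFun.Lam (FrobAlg.W2 p k) i0 i1 i2 q
      ((p : R') * ∑ v : Fin n × Fin 2, cv v * X (w v) ^ p) = 0 := by
    rw [← map_natCast (C : FrobAlg.W2 p k →+* R') p, QuadFun.Lam_C_mul]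
    refine QuadLift.p_mul_eq_zero_of_res p k _ ?_
    rw [hnat, map_sum, QuadFun.Lam_finset_sum]
    refine Finset.sum_eq_zero fun v _ => ?_
    rw [map_mul, map_pow, map_X]
    exact QuadFun.Lam_mul_X_pow k i0 i1 i2 q p hq hq1 (CharP.cast_eq_zero k p) _ _
  have hLE : QuadFun.Lam (FrobAlg.W2 p k) i0 i1 i2 q E = (p : FrobAlg.W2 p k) * (-1) ^ p := by
    rw [hEexp, QuadFun.Lam_sub, QuadFun.Lam_add, QuadFun.Lam_add, hL1, hL2, hL3, hL4]
    ring
  rw [hEz, hLz] at hLE
  have hp0 : (p : FrobAlg.W2 p k) = 0 := by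
    calc (p : FrobAlg.W2 p k) = ((p : FrobAlg.W2 p k) * (-1) ^ p) * (-1) ^ p := by
          rw [mul_assoc, ← mul_pow]; simp
      _ = 0 := by rw [← hLE, zero_mul]
  exact Groth.Agent.H96.W2Flat.p_ne_zero p k hp0

end Groth.Agent.H96.QuadFrob
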