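import Groth.Agent.H96.W2Ghost
import Mathlib.Algebra.BigOperators.NatAntidiagonal

/-!
# A linear functional on `S[x_i, y_i]` killing multiples of the split quadric `∑ x_i y_i`

For three distinct indices `i0 i1 i2` the functional `Lam q` reads off the coefficients of the
monomials `(x_{i0} y_{i0})^a (x_{i1} y_{i1})^b (x_{i2} y_{i2})^c` with `c ≤ 1`, `a + b + c = q + 1`,
weighted by `b (-1)^b` (`c = 0`) and `(-1)^b` (`c = 1`).  It kills every multiple of `∑ x_i y_i`,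
kills multiples of `(q+1)`-st powers of variables when `q + 1 = 0` in `S`, and takes the value
`(q+1) (-1)^(q+1)` on `∑ x_i^(q+1) y_i^(q+1)`.
-/

set_option autoImplicit false
universe u

namespace Groth.Agent.H96.QuadFun

open MvPolynomial

section Exponents

variable {n : ℕ} (i0 i1 i2 : Fin n)

/-- exponent vector of `(x_{i0} y_{i0})^a (x_{i1} y_{i1})^b (x_{i2} y_{i2})^c` -/
noncomputable def mon (a b c : ℕ) : (Fin n × Fin 2) →₀ ℕ :=
  Finsupp.equivFunOnFinite.symm fun v =>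
    if v.1 = i0 then a else if v.1 = i1 then b else if v.1 = i2 then c else 0

theorem mon_apply (a b c : ℕ) (v : Fin n × Fin 2) :
    mon i0 i1 i2 a b c v =
      if v.1 = i0 then a else if v.1 = i1 then b else if v.1 = i2 then c else 0 := rfl

/-- exponent vector of `(x_i y_i)^N` -/
noncomputable def dN (N : ℕ) (i : Fin n) : (Fin n × Fin 2) →₀ ℕ :=
  Finsupp.equivFunOnFinite.symm fun v => if v.1 = i then N else 0

theorem dN_apply (N : ℕ) (i : Fin n) (v : Fin n × Fin 2) :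
    dN N i v = if v.1 = i then N else 0 := rfl

theorem dN_eq (N : ℕ) (i : Fin n) :
    dN N i = Finsupp.single (i, (0 : Fin 2)) N + Finsupp.single (i, (1 : Fin 2)) N := by
  classical
  ext ⟨j, e⟩
  rw [dN_apply, Finsupp.add_apply, Finsupp.single_apply, Finsupp.single_apply]
  by_cases hj : j = i
  · subst hj
    fin_cases e <;> simp
  · have hj' : ¬ i = j := fun h => hj h.symm
    simp [hj, hj']

theorem XX_pow_eq (S : Type*) [CommSemiring S] (N : ℕ) (i : Fin n) :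
    (X (i, (0 : Fin 2)) : MvPolynomial (Fin n × Fin 2) S) ^ N * X (i, (1 : Fin 2)) ^ N =
      monomial (dN N i) 1 := by
  rw [X_pow_eq_monomial, X_pow_eq_monomial, monomial_mul, one_mul, dN_eq]

theorem XX_eq (S : Type*) [CommSemiring S] (i : Fin n) :
    (X (i, (0 : Fin 2)) : MvPolynomial (Fin n × Fin 2) S) * X (i, (1 : Fin 2)) =
      monomial (dN 1 i) 1 := by
  have h := XX_pow_eq S 1 i
  rwa [pow_one, pow_one] at h

theorem dN_le_iff (N : ℕ) (i : Fin n) (m : (Fin n × Fin 2) →₀ ℕ) :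
    dN N i ≤ m ↔ N ≤ m (i, 0) ∧ N ≤ m (i, 1) := by
  constructor
  · intro h
    have h0 := Finsupp.le_def.1 h (i, 0)
    have h1 := Finsupp.le_def.1 h (i, 1)
    have e0 : dN N i (i, 0) = N := by rw [dN_apply]; exact if_pos rfl
    have e1 : dN N i (i, 1) = N := by rw [dN_apply]; exact if_pos rfl
    rw [e0] at h0
    rw [e1] at h1
    exact ⟨h0, h1⟩
  · rintro ⟨h0, h1⟩
    rw [Finsupp.le_def]
    rintro ⟨j, e⟩
    rw [dN_apply]
    by_cases hj : j = i
    · subst hj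
      rw [if_pos rfl]
      fin_cases e
      · exact h0
      · exact h1
    · rw [if_neg hj]; exact Nat.zero_le _

theorem coeff_XX_mul_pos (S : Type*) [CommSemiring S] (i : Fin n)
    (m : (Fin n × Fin 2) →₀ ℕ) (r : MvPolynomial (Fin n × Fin 2) S) (h : dN 1 i ≤ m) :
    coeff m (X (i, (0 : Fin 2)) * X (i, (1 : Fin 2)) * r) = coeff (m - dN 1 i) r := by
  rw [XX_eq, coeff_monomial_mul', if_pos h, one_mul]

theorem coeff_XX_mul_neg (S : Type*) [CommSemiring S] (i : Fin n)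
    (m : (Fin n × Fin 2) →₀ ℕ) (r : MvPolynomial (Fin n × Fin 2) S) (h : ¬ dN 1 i ≤ m) :
    coeff m (X (i, (0 : Fin 2)) * X (i, (1 : Fin 2)) * r) = 0 := by
  rw [XX_eq, coeff_monomial_mul', if_neg h]

theorem mon_at0 (a b c : ℕ) (e : Fin 2) : mon i0 i1 i2 a b c (i0, e) = a := by
  rw [mon_apply]; exact if_pos rfl

theorem mon_at1 (h01 : i0 ≠ i1) (a b c : ℕ) (e : Fin 2) : mon i0 i1 i2 a b c (i1, e) = b := by
  have h : ¬ i1 = i0 := fun h => h01 h.symm
  simp [mon_apply, h]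

theorem mon_at2 (h02 : i0 ≠ i2) (h12 : i1 ≠ i2) (a b c : ℕ) (e : Fin 2) :
    mon i0 i1 i2 a b c (i2, e) = c := by
  have h : ¬ i2 = i0 := fun h => h02 h.symm
  have h' : ¬ i2 = i1 := fun h => h12 h.symm
  simp [mon_apply, h, h']

theorem mon_at_other (i : Fin n) (hi0 : i ≠ i0) (hi1 : i ≠ i1) (hi2 : i ≠ i2) (a b c : ℕ)
    (e : Fin 2) : mon i0 i1 i2 a b c (i, e) = 0 := by
  simp [mon_apply, hi0, hi1, hi2]

theorem sub0 (a b c : ℕ) : mon i0 i1 i2 (a + 1) b c - dN 1 i0 = mon i0 i1 i2 a b c := by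
  ext v
  rw [Finsupp.tsub_apply, mon_apply, mon_apply, dN_apply]
  by_cases h : v.1 = i0
  · simp only [if_pos h, Nat.add_sub_cancel]
  · simp only [if_neg h, Nat.sub_zero]

theorem sub1 (h01 : i0 ≠ i1) (a b c : ℕ) :
    mon i0 i1 i2 a (b + 1) c - dN 1 i1 = mon i0 i1 i2 a b c := by
  ext v
  rw [Finsupp.tsub_apply, mon_apply, mon_apply, dN_apply]
  by_cases h : v.1 = i1
  · have h' : ¬ v.1 = i0 := fun h'' => h01 (h''.symm.trans h)
    simp only [if_pos h, if_neg h', Nat.add_sub_cancel]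
  · simp only [if_neg h, Nat.sub_zero]

theorem sub2 (h02 : i0 ≠ i2) (h12 : i1 ≠ i2) (a b c : ℕ) :
    mon i0 i1 i2 a b (c + 1) - dN 1 i2 = mon i0 i1 i2 a b c := by
  ext v
  rw [Finsupp.tsub_apply, mon_apply, mon_apply, dN_apply]
  by_cases h : v.1 = i2
  · have h' : ¬ v.1 = i0 := fun h'' => h02 (h''.symm.trans h)
    have h'' : ¬ v.1 = i1 := fun h''' => h12 (h'''.symm.trans h)
    simp only [if_pos h, if_neg h', if_neg h'', Nat.add_sub_cancel]
  · simp only [if_neg h, Nat.sub_zero]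

theorem dN_eq_mon1 (h01 : i0 ≠ i1) (N : ℕ) : dN N i1 = mon i0 i1 i2 0 N 0 := by
  ext v
  rw [dN_apply, mon_apply]
  by_cases h : v.1 = i1
  · have h' : ¬ v.1 = i0 := fun h'' => h01 (h''.symm.trans h)
    simp only [if_pos h, if_neg h']
  · simp only [if_neg h]
    split_ifs <;> rfl

section Coeff

variable (S : Type*) [CommSemiring S]

theorem cf0_succ (a b c : ℕ) (r : MvPolynomial (Fin n × Fin 2) S) :
    coeff (mon i0 i1 i2 (a + 1) b c) (X (i0, (0 : Fin 2)) * X (i0, (1 : Fin 2)) * r) =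
      coeff (mon i0 i1 i2 a b c) r := by
  have hle : dN 1 i0 ≤ mon i0 i1 i2 (a + 1) b c :=
    (dN_le_iff _ _ _).2 ⟨by rw [mon_at0]; omega, by rw [mon_at0]; omega⟩
  rw [coeff_XX_mul_pos S i0 _ r hle, sub0]

theorem cf0_zero (b c : ℕ) (r : MvPolynomial (Fin n × Fin 2) S) :
    coeff (mon i0 i1 i2 0 b c) (X (i0, (0 : Fin 2)) * X (i0, (1 : Fin 2)) * r) = 0 := by
  refine coeff_XX_mul_neg S i0 _ r fun h => ?_
  have h1 := ((dN_le_iff _ _ _).1 h).1
  rw [mon_at0] at h1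
  omega

theorem cf1_succ (h01 : i0 ≠ i1) (a b c : ℕ) (r : MvPolynomial (Fin n × Fin 2) S) :
    coeff (mon i0 i1 i2 a (b + 1) c) (X (i1, (0 : Fin 2)) * X (i1, (1 : Fin 2)) * r) =
      coeff (mon i0 i1 i2 a b c) r := by
  have hle : dN 1 i1 ≤ mon i0 i1 i2 a (b + 1) c :=
    (dN_le_iff _ _ _).2 ⟨by rw [mon_at1 i0 i1 i2 h01]; omega, by rw [mon_at1 i0 i1 i2 h01]; omega⟩
  rw [coeff_XX_mul_pos S i1 _ r hle, sub1 i0 i1 i2 h01]

theorem cf1_zero (h01 : i0 ≠ i1) (a c : ℕ) (r : MvPolynomial (Fin n × Fin 2) S) :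
    coeff (mon i0 i1 i2 a 0 c) (X (i1, (0 : Fin 2)) * X (i1, (1 : Fin 2)) * r) = 0 := by
  refine coeff_XX_mul_neg S i1 _ r fun h => ?_
  have h1 := ((dN_le_iff _ _ _).1 h).1
  rw [mon_at1 i0 i1 i2 h01] at h1
  omega

theorem cf2_succ (h02 : i0 ≠ i2) (h12 : i1 ≠ i2) (a b c : ℕ)
    (r : MvPolynomial (Fin n × Fin 2) S) :
    coeff (mon i0 i1 i2 a b (c + 1)) (X (i2, (0 : Fin 2)) * X (i2, (1 : Fin 2)) * r) =
      coeff (mon i0 i1 i2 a b c) r := by
  have hle : dN 1 i2 ≤ mon i0 i1 i2 a b (c + 1) :=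
    (dN_le_iff _ _ _).2 ⟨by rw [mon_at2 i0 i1 i2 h02 h12]; omega,
      by rw [mon_at2 i0 i1 i2 h02 h12]; omega⟩
  rw [coeff_XX_mul_pos S i2 _ r hle, sub2 i0 i1 i2 h02 h12]

theorem cf2_zero (h02 : i0 ≠ i2) (h12 : i1 ≠ i2) (a b : ℕ)
    (r : MvPolynomial (Fin n × Fin 2) S) :
    coeff (mon i0 i1 i2 a b 0) (X (i2, (0 : Fin 2)) * X (i2, (1 : Fin 2)) * r) = 0 := by
  refine coeff_XX_mul_neg S i2 _ r fun h => ?_
  have h1 := ((dN_le_iff _ _ _).1 h).1
  rw [mon_at2 i0 i1 i2 h02 h12] at h1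
  omega

theorem cf_other (i : Fin n) (hi0 : i ≠ i0) (hi1 : i ≠ i1) (hi2 : i ≠ i2) (a b c : ℕ)
    (r : MvPolynomial (Fin n × Fin 2) S) :
    coeff (mon i0 i1 i2 a b c) (X (i, (0 : Fin 2)) * X (i, (1 : Fin 2)) * r) = 0 := by
  refine coeff_XX_mul_neg S i _ r fun h => ?_
  have h1 := ((dN_le_iff _ _ _).1 h).1
  rw [mon_at_other i0 i1 i2 i hi0 hi1 hi2] at h1
  omega

end Coeff

theorem sum_three {M : Type*} [AddCommMonoid M] (h01 : i0 ≠ i1) (h02 : i0 ≠ i2) (h12 : i1 ≠ i2)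
    (T : Fin n → M) (hT : ∀ i, i ≠ i0 → i ≠ i1 → i ≠ i2 → T i = 0) :
    ∑ i, T i = T i0 + (T i1 + T i2) := by
  classical
  have hz : ∑ x ∈ ((Finset.univ.erase i0).erase i1).erase i2, T x = 0 :=
    Finset.sum_eq_zero fun i hi => by
      simp only [Finset.mem_erase, Finset.mem_univ, and_true] at hi
      exact hT i hi.2.2 hi.2.1 hi.1
  rw [← Finset.add_sum_erase Finset.univ T (Finset.mem_univ i0),
    ← Finset.add_sum_erase _ T (Finset.mem_erase.2 ⟨h01.symm, Finset.mem_univ i1⟩),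
    ← Finset.add_sum_erase _ T
      (Finset.mem_erase.2 ⟨h12.symm, Finset.mem_erase.2 ⟨h02.symm, Finset.mem_univ i2⟩⟩),
    hz, add_zero]

end Exponents

theorem shift_sum {S : Type*} [CommRing S] (w : ℕ → S) (K F0 F1 : ℕ → ℕ → S)
    (hF0s : ∀ a b, F0 (a + 1) b = K a b) (hF0z : ∀ b, F0 0 b = 0)
    (hF1s : ∀ a b, F1 a (b + 1) = K a b) (hF1z : ∀ a, F1 a 0 = 0) (q : ℕ) :
    ∑ x ∈ Finset.antidiagonal (q + 1), w x.2 * (F0 x.1 x.2 + F1 x.1 x.2) =
      ∑ x ∈ Finset.antidiagonal q, (w x.2 + w (x.2 + 1)) * K x.1 x.2 := by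
  have h1 : ∑ x ∈ Finset.antidiagonal (q + 1), w x.2 * F0 x.1 x.2 =
      ∑ x ∈ Finset.antidiagonal q, w x.2 * K x.1 x.2 := by
    rw [Finset.Nat.sum_antidiagonal_succ]
    simp [hF0z, hF0s]
  have h2 : ∑ x ∈ Finset.antidiagonal (q + 1), w x.2 * F1 x.1 x.2 =
      ∑ x ∈ Finset.antidiagonal q, w (x.2 + 1) * K x.1 x.2 := by
    rw [Finset.Nat.sum_antidiagonal_succ']
    simp [hF1z, hF1s]
  simp only [mul_add, add_mul, Finset.sum_add_distrib]
  rw [h1, h2]

section Functional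

variable (S : Type*) [CommRing S]

/-- weight of `(x_{i0}y_{i0})^a (x_{i1}y_{i1})^b` -/
def lam0 (b : ℕ) : S := (b : S) * (-1) ^ b

/-- weight of `(x_{i0}y_{i0})^a (x_{i1}y_{i1})^b (x_{i2}y_{i2})` -/
def lam1 (b : ℕ) : S := (-1) ^ b

theorem lam0_zero : lam0 S 0 = 0 := by simp [lam0]

theorem lam_identity (b : ℕ) : lam0 S b + lam0 S (b + 1) + lam1 S b = 0 := by
  unfold lam0 lam1; push_cast; ring

theorem lam1_identity (b : ℕ) : lam1 S b + lam1 S (b + 1) = 0 := by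
  unfold lam1; ring

variable {n : ℕ} (i0 i1 i2 : Fin n)

/-- the functional -/
noncomputable def Lam (q : ℕ) (g : MvPolynomial (Fin n × Fin 2) S) : S :=
  ∑ x ∈ Finset.antidiagonal (q + 1), lam0 S x.2 * coeff (mon i0 i1 i2 x.1 x.2 0) g +
    ∑ x ∈ Finset.antidiagonal q, lam1 S x.2 * coeff (mon i0 i1 i2 x.1 x.2 1) g

theorem Lam_zero (q : ℕ) : Lam S i0 i1 i2 q 0 = 0 := by
  unfold Lam; simp

theorem Lam_add (q : ℕ) (g h : MvPolynomial (Fin n × Fin 2) S) :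
    Lam S i0 i1 i2 q (g + h) = Lam S i0 i1 i2 q g + Lam S i0 i1 i2 q h := by
  unfold Lam
  simp only [coeff_add, mul_add, Finset.sum_add_distrib]
  ring

theorem Lam_sub (q : ℕ) (g h : MvPolynomial (Fin n × Fin 2) S) :
    Lam S i0 i1 i2 q (g - h) = Lam S i0 i1 i2 q g - Lam S i0 i1 i2 q h := by
  unfold Lam
  simp only [coeff_sub, mul_sub, Finset.sum_sub_distrib]
  ring

theorem Lam_C_mul (q : ℕ) (a : S) (g : MvPolynomial (Fin n × Fin 2) S) :
    Lam S i0 i1 i2 q (C a * g) = a * Lam S i0 i1 i2 q g := by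
  unfold Lam
  simp only [coeff_C_mul, Finset.mul_sum, mul_add]
  congr 1 <;> exact Finset.sum_congr rfl fun x _ => by ring

theorem Lam_finset_sum {ι : Type*} (q : ℕ) (s : Finset ι)
    (F : ι → MvPolynomial (Fin n × Fin 2) S) :
    Lam S i0 i1 i2 q (∑ i ∈ s, F i) = ∑ i ∈ s, Lam S i0 i1 i2 q (F i) := by
  classical
  induction s using Finset.induction_on with
  | empty => simp [Lam_zero]
  | insert a s ha ih => rw [Finset.sum_insert ha, Finset.sum_insert ha, Lam_add, ih]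

variable {S} in
theorem Lam_map {S' : Type*} [CommRing S'] (φ : S →+* S') (q : ℕ)
    (g : MvPolynomial (Fin n × Fin 2) S) :
    Lam S' i0 i1 i2 q (map φ g) = φ (Lam S i0 i1 i2 q g) := by
  have h0 : ∀ b : ℕ, φ (lam0 S b) = lam0 S' b := fun b => by simp [lam0]
  have h1 : ∀ b : ℕ, φ (lam1 S b) = lam1 S' b := fun b => by simp [lam1]
  unfold Lam
  rw [map_add, map_sum, map_sum]
  congr 1 <;> refine Finset.sum_congr rfl fun x _ => ?_
  · rw [map_mul, coeff_map, h0]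
  · rw [map_mul, coeff_map, h1]

/-- `Lam` kills multiples of the quadric -/
theorem Lam_f0_mul (h01 : i0 ≠ i1) (h02 : i0 ≠ i2) (h12 : i1 ≠ i2) (q : ℕ)
    (r : MvPolynomial (Fin n × Fin 2) S) :
    Lam S i0 i1 i2 q ((∑ i : Fin n, X (i, (0 : Fin 2)) * X (i, (1 : Fin 2))) * r) = 0 := by
  classical
  have hcoef : ∀ a b c : ℕ,
      coeff (mon i0 i1 i2 a b c) ((∑ i : Fin n, X (i, (0 : Fin 2)) * X (i, (1 : Fin 2))) * r) =
        coeff (mon i0 i1 i2 a b c) (X (i0, (0 : Fin 2)) * X (i0, (1 : Fin 2)) * r) +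
          (coeff (mon i0 i1 i2 a b c) (X (i1, (0 : Fin 2)) * X (i1, (1 : Fin 2)) * r) +
            coeff (mon i0 i1 i2 a b c) (X (i2, (0 : Fin 2)) * X (i2, (1 : Fin 2)) * r)) := by
    intro a b c
    rw [Finset.sum_mul, coeff_sum]
    exact sum_three i0 i1 i2 h01 h02 h12 _
      (fun i hi0 hi1 hi2 => cf_other i0 i1 i2 S i hi0 hi1 hi2 a b c r)
  have h1 := shift_sum (lam0 S) (fun a b => coeff (mon i0 i1 i2 a b 0) r)
    (fun a b => coeff (mon i0 i1 i2 a b 0) (X (i0, (0 : Fin 2)) * X (i0, (1 : Fin 2)) * r))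
    (fun a b => coeff (mon i0 i1 i2 a b 0) (X (i1, (0 : Fin 2)) * X (i1, (1 : Fin 2)) * r))
    (fun a b => cf0_succ i0 i1 i2 S a b 0 r) (fun b => cf0_zero i0 i1 i2 S b 0 r)
    (fun a b => cf1_succ i0 i1 i2 S h01 a b 0 r) (fun a => cf1_zero i0 i1 i2 S h01 a 0 r) q
  beta_reduce at h1
  have h2 : ∑ x ∈ Finset.antidiagonal q, lam1 S x.2 *
      (coeff (mon i0 i1 i2 x.1 x.2 1) (X (i0, (0 : Fin 2)) * X (i0, (1 : Fin 2)) * r) +
        coeff (mon i0 i1 i2 x.1 x.2 1) (X (i1, (0 : Fin 2)) * X (i1, (1 : Fin 2)) * r)) = 0 := by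
    cases q with
    | zero =>
      rw [Finset.Nat.antidiagonal_zero, Finset.sum_singleton]
      show lam1 S 0 * (coeff (mon i0 i1 i2 0 0 1) _ + coeff (mon i0 i1 i2 0 0 1) _) = 0
      rw [cf0_zero, cf1_zero i0 i1 i2 S h01, add_zero, mul_zero]
    | succ q' =>
      have h3 := shift_sum (lam1 S) (fun a b => coeff (mon i0 i1 i2 a b 1) r)
        (fun a b => coeff (mon i0 i1 i2 a b 1) (X (i0, (0 : Fin 2)) * X (i0, (1 : Fin 2)) * r))
        (fun a b => coeff (mon i0 i1 i2 a b 1) (X (i1, (0 : Fin 2)) * X (i1, (1 : Fin 2)) * r))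
        (fun a b => cf0_succ i0 i1 i2 S a b 1 r) (fun b => cf0_zero i0 i1 i2 S b 1 r)
        (fun a b => cf1_succ i0 i1 i2 S h01 a b 1 r) (fun a => cf1_zero i0 i1 i2 S h01 a 1 r) q'
      beta_reduce at h3
      rw [h3]
      exact Finset.sum_eq_zero fun x _ => by rw [lam1_identity, zero_mul]
  have hB2 : ∀ a b : ℕ,
      coeff (mon i0 i1 i2 a b 1) (X (i2, (0 : Fin 2)) * X (i2, (1 : Fin 2)) * r) =
        coeff (mon i0 i1 i2 a b 0) r := fun a b => cf2_succ i0 i1 i2 S h02 h12 a b 0 r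
  have e1 : ∑ x ∈ Finset.antidiagonal (q + 1), lam0 S x.2 * coeff (mon i0 i1 i2 x.1 x.2 0)
        ((∑ i : Fin n, X (i, (0 : Fin 2)) * X (i, (1 : Fin 2))) * r) =
      ∑ x ∈ Finset.antidiagonal q,
        (lam0 S x.2 + lam0 S (x.2 + 1)) * coeff (mon i0 i1 i2 x.1 x.2 0) r := by
    rw [← h1]
    refine Finset.sum_congr rfl fun x _ => ?_
    rw [hcoef, cf2_zero i0 i1 i2 S h02 h12, add_zero]
  have e2 : ∑ x ∈ Finset.antidiagonal q, lam1 S x.2 * coeff (mon i0 i1 i2 x.1 x.2 1)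
        ((∑ i : Fin n, X (i, (0 : Fin 2)) * X (i, (1 : Fin 2))) * r) =
      ∑ x ∈ Finset.antidiagonal q, lam1 S x.2 * coeff (mon i0 i1 i2 x.1 x.2 0) r := by
    have hterm : ∀ x ∈ Finset.antidiagonal q, lam1 S x.2 * coeff (mon i0 i1 i2 x.1 x.2 1)
        ((∑ i : Fin n, X (i, (0 : Fin 2)) * X (i, (1 : Fin 2))) * r) =
        lam1 S x.2 *
          (coeff (mon i0 i1 i2 x.1 x.2 1) (X (i0, (0 : Fin 2)) * X (i0, (1 : Fin 2)) * r) +
            coeff (mon i0 i1 i2 x.1 x.2 1) (X (i1, (0 : Fin 2)) * X (i1, (1 : Fin 2)) * r)) +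
          lam1 S x.2 * coeff (mon i0 i1 i2 x.1 x.2 0) r := by
      intro x _
      rw [hcoef, hB2]
      ring
    rw [Finset.sum_congr rfl hterm, Finset.sum_add_distrib, h2, zero_add]
  unfold Lam
  rw [e1, e2, ← Finset.sum_add_distrib]
  exact Finset.sum_eq_zero fun x _ => by rw [← add_mul, lam_identity, zero_mul]

/-- `Lam` kills multiples of `N`-th powers of the variables when `N = q + 1` is zero in `S` -/
theorem Lam_mul_X_pow (q N : ℕ) (hN : N = q + 1) (hq : 1 ≤ q) (hchar : (N : S) = 0)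
    (v : Fin n × Fin 2) (r : MvPolynomial (Fin n × Fin 2) S) :
    Lam S i0 i1 i2 q (r * X v ^ N) = 0 := by
  classical
  subst hN
  have key1 : ∀ x ∈ Finset.antidiagonal (q + 1),
      lam0 S x.2 * coeff (mon i0 i1 i2 x.1 x.2 0) (r * X v ^ (q + 1)) = 0 := by
    intro x hx
    rw [Finset.mem_antidiagonal] at hx
    rw [X_pow_eq_monomial, coeff_mul_monomial']
    by_cases hle : Finsupp.single v (q + 1) ≤ mon i0 i1 i2 x.1 x.2 0
    · rw [if_pos hle, mul_one]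
      have h := Finsupp.single_le_iff.1 hle
      rw [mon_apply] at h
      split_ifs at h with hv0 hv1 hv2
      · have hx2 : x.2 = 0 := by omega
        rw [hx2, lam0_zero, zero_mul]
      · have hx2 : x.2 = q + 1 := by omega
        rw [hx2]
        unfold lam0
        rw [hchar, zero_mul, zero_mul]
      · omega
      · omega
    · rw [if_neg hle, mul_zero]
  have key2 : ∀ x ∈ Finset.antidiagonal q,
      lam1 S x.2 * coeff (mon i0 i1 i2 x.1 x.2 1) (r * X v ^ (q + 1)) = 0 := by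
    intro x hx
    rw [Finset.mem_antidiagonal] at hx
    rw [X_pow_eq_monomial, coeff_mul_monomial']
    by_cases hle : Finsupp.single v (q + 1) ≤ mon i0 i1 i2 x.1 x.2 1
    · exfalso
      have h := Finsupp.single_le_iff.1 hle
      rw [mon_apply] at h
      split_ifs at h <;> omega
    · rw [if_neg hle, mul_zero]
  unfold Lam
  rw [Finset.sum_eq_zero key1, Finset.sum_eq_zero key2, add_zero]

theorem coeff_mon1_dN (h02 : i0 ≠ i2) (h12 : i1 ≠ i2) (q : ℕ) (hq : 1 ≤ q) (i : Fin n)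
    (a b : ℕ) :
    coeff (mon i0 i1 i2 a b 1) (monomial (dN (q + 1) i) (1 : S)) = 0 := by
  classical
  rw [coeff_monomial, if_neg]
  intro heq
  have h := DFunLike.congr_fun heq (i2, 0)
  rw [dN_apply, mon_at2 i0 i1 i2 h02 h12] at h
  split_ifs at h
  all_goals omega

theorem Lam_monomial_dN_ne (h02 : i0 ≠ i2) (h12 : i1 ≠ i2) (q : ℕ) (hq : 1 ≤ q) (i : Fin n)
    (hi : i ≠ i1) :
    Lam S i0 i1 i2 q (monomial (dN (q + 1) i) 1) = 0 := by
  classical
  have key1 : ∀ x ∈ Finset.antidiagonal (q + 1),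
      lam0 S x.2 * coeff (mon i0 i1 i2 x.1 x.2 0) (monomial (dN (q + 1) i) (1 : S)) = 0 := by
    intro x hx
    rw [Finset.mem_antidiagonal] at hx
    rw [coeff_monomial]
    by_cases heq : dN (q + 1) i = mon i0 i1 i2 x.1 x.2 0
    · rw [if_pos heq, mul_one]
      have h := DFunLike.congr_fun heq (i, 0)
      have hd : dN (q + 1) i (i, 0) = q + 1 := by rw [dN_apply]; exact if_pos rfl
      rw [hd, mon_apply] at h
      have hx2 : x.2 = 0 := by
        split_ifs at h with hv0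
        all_goals omega
      rw [hx2, lam0_zero]
    · rw [if_neg heq, mul_zero]
  have key2 : ∀ x ∈ Finset.antidiagonal q,
      lam1 S x.2 * coeff (mon i0 i1 i2 x.1 x.2 1) (monomial (dN (q + 1) i) (1 : S)) = 0 :=
    fun x _ => by rw [coeff_mon1_dN S i0 i1 i2 h02 h12 q hq, mul_zero]
  unfold Lam
  rw [Finset.sum_eq_zero key1, Finset.sum_eq_zero key2, add_zero]

theorem Lam_monomial_dN_i1 (h01 : i0 ≠ i1) (h02 : i0 ≠ i2) (h12 : i1 ≠ i2) (q : ℕ)
    (hq : 1 ≤ q) :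
    Lam S i0 i1 i2 q (monomial (dN (q + 1) i1) 1) = lam0 S (q + 1) := by
  classical
  have key2 : ∀ x ∈ Finset.antidiagonal q,
      lam1 S x.2 * coeff (mon i0 i1 i2 x.1 x.2 1) (monomial (dN (q + 1) i1) (1 : S)) = 0 :=
    fun x _ => by rw [coeff_mon1_dN S i0 i1 i2 h02 h12 q hq, mul_zero]
  have h0 : ∀ x ∈ Finset.antidiagonal (q + 1), x ≠ (0, q + 1) →
      lam0 S x.2 * coeff (mon i0 i1 i2 x.1 x.2 0) (monomial (dN (q + 1) i1) (1 : S)) = 0 := by
    intro x hx hne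
    rw [Finset.mem_antidiagonal] at hx
    rw [coeff_monomial]
    by_cases heq : dN (q + 1) i1 = mon i0 i1 i2 x.1 x.2 0
    · exfalso
      have h := DFunLike.congr_fun heq (i1, 0)
      have hd : dN (q + 1) i1 (i1, 0) = q + 1 := by rw [dN_apply]; exact if_pos rfl
      rw [hd, mon_at1 i0 i1 i2 h01] at h
      apply hne
      exact Prod.ext (by show x.1 = 0; omega) (by show x.2 = q + 1; omega)
    · rw [if_neg heq, mul_zero]
  have h1 : (0, q + 1) ∉ Finset.antidiagonal (q + 1) →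
      lam0 S (q + 1) * coeff (mon i0 i1 i2 0 (q + 1) 0) (monomial (dN (q + 1) i1) (1 : S)) = 0 :=
    fun hnot => absurd (Finset.mem_antidiagonal.2 (zero_add _)) hnot
  unfold Lam
  rw [Finset.sum_eq_zero key2, add_zero, Finset.sum_eq_single (0, q + 1) h0 h1]
  show lam0 S (q + 1) * coeff (mon i0 i1 i2 0 (q + 1) 0) (monomial (dN (q + 1) i1) (1 : S)) =
    lam0 S (q + 1)
  rw [coeff_monomial, if_pos (dN_eq_mon1 i0 i1 i2 h01 (q + 1)), mul_one]

/-- the value on `∑ x_i^N y_i^N` -/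
theorem Lam_val (h01 : i0 ≠ i1) (h02 : i0 ≠ i2) (h12 : i1 ≠ i2) (q N : ℕ) (hN : N = q + 1)
    (hq : 1 ≤ q) :
    Lam S i0 i1 i2 q (∑ i : Fin n, X (i, (0 : Fin 2)) ^ N * X (i, (1 : Fin 2)) ^ N) =
      (N : S) * (-1) ^ N := by
  subst hN
  rw [Lam_finset_sum]
  simp only [XX_pow_eq]
  rw [Finset.sum_eq_single i1
    (fun i _ hi => Lam_monomial_dN_ne S i0 i1 i2 h02 h12 q hq i hi)
    (fun h => absurd (Finset.mem_univ i1) h),
    Lam_monomial_dN_i1 S i0 i1 i2 h01 h02 h12 q hq]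
  rfl

end Functional

end Groth.Agent.H96.QuadFun
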