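import Groth.Agent.H96.QuadFun

/-!
# Flat `W₂(k)`-liftings of quotients of polynomial rings, and the split quadric

`exists_pres`: a flat lifting `B` of `k[σ]/J` over `W₂(k)` is a quotient of `W₂(k)[σ]`, the kernel
maps onto `J`, and is "saturated" with respect to `p`.

`no_lift`: `k[x_i,y_i]/(∑ x_i y_i, x_i^p, y_i^p)` (`n ≥ 3`) has no flat lifting over `W₂(k)`.
-/

set_option autoImplicit false
universe u

namespace Groth.Agent.H96.QuadLift

open MvPolynomial

variable (p : ℕ) [hp : Fact p.Prime] (k : Type u) [Field k] [CharP k p] [PerfectRing k p]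

theorem ker_res : RingHom.ker (FrobAlg.res p k) = Ideal.span {(p : FrobAlg.W2 p k)} := by
  ext x
  rw [RingHom.mem_ker, FrobAlg.res_apply]
  exact Groth.Agent.H96.coeffZero_eq_zero_iff 1 x

omit [PerfectRing k p] in
theorem res_surj : Function.Surjective (FrobAlg.res p k) := fun a =>
  ⟨Groth.Agent.H96.W2Ghost.T k a, by
    rw [FrobAlg.res_apply, Groth.Agent.H96.W2Ghost.T_coeff_zero]⟩

omit [PerfectRing k p] in
theorem pp_zero {σ : Type*} : (p : MvPolynomial σ (FrobAlg.W2 p k)) *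
    (p : MvPolynomial σ (FrobAlg.W2 p k)) = 0 := by
  rw [← map_natCast (C : FrobAlg.W2 p k →+* MvPolynomial σ (FrobAlg.W2 p k)), ← map_mul,
    Groth.Agent.H96.W2Flat.p_mul_p, map_zero]

omit [PerfectRing k p] in
theorem ppow_zero {σ : Type*} : (p : MvPolynomial σ (FrobAlg.W2 p k)) ^ p = 0 := by
  have h3 : (p : MvPolynomial σ (FrobAlg.W2 p k)) ^ p =
      (p : MvPolynomial σ (FrobAlg.W2 p k)) ^ (p - 2) *
        ((p : MvPolynomial σ (FrobAlg.W2 p k)) * (p : MvPolynomial σ (FrobAlg.W2 p k))) := by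
    rw [← pow_two, ← pow_add]
    congr 1
    have := hp.out.two_le
    omega
  rw [h3, pp_zero, mul_zero]

theorem map_res_eq_zero_iff {σ : Type*} (g : MvPolynomial σ (FrobAlg.W2 p k)) :
    map (FrobAlg.res p k) g = 0 ↔
      ∃ c, c * (p : MvPolynomial σ (FrobAlg.W2 p k)) = g := by
  rw [← RingHom.mem_ker, MvPolynomial.ker_map, ker_res, Ideal.map_span, Set.image_singleton,
    map_natCast, Ideal.mem_span_singleton']

theorem p_mul_eq_zero_of_res (w : FrobAlg.W2 p k) (h : FrobAlg.res p k w = 0) :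
    (p : FrobAlg.W2 p k) * w = 0 := by
  have hw : w ∈ Ideal.span {(p : FrobAlg.W2 p k)} := by
    rw [← ker_res, RingHom.mem_ker]; exact h
  obtain ⟨d, hd⟩ := Ideal.mem_span_singleton'.1 hw
  rw [← hd, mul_comm d, ← mul_assoc, Groth.Agent.H96.W2Flat.p_mul_p, zero_mul]

omit [PerfectRing k p] in
theorem add_p_mul_pow {σ : Type*} (a g : MvPolynomial σ (FrobAlg.W2 p k)) :
    (a + g * (p : MvPolynomial σ (FrobAlg.W2 p k))) ^ p = a ^ p := by
  obtain ⟨r, hr⟩ := exists_add_pow_prime_eq hp.out a (g * (p : MvPolynomial σ (FrobAlg.W2 p k)))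
  rw [hr, mul_pow, ppow_zero, mul_zero, add_zero]
  have pp := pp_zero p k (σ := σ)
  linear_combination (a * g * r) * pp

/-- presentation of a flat lifting of `k[σ]/J` -/
theorem exists_pres {σ : Type} (J : Ideal (MvPolynomial σ k))
    (B : Type u) [CommRing B] (ι : FrobAlg.W2 p k →+* B) (π : B →+* (MvPolynomial σ k ⧸ J))
    (hB : FrobAlg.IsLift p k (MvPolynomial σ k ⧸ J) B ι π) :
    ∃ ψ : MvPolynomial σ (FrobAlg.W2 p k) →+* B,
      (∀ a, ψ (C a) = ι a) ∧
      (∀ g, π (ψ g) = Ideal.Quotient.mk J (map (FrobAlg.res p k) g)) ∧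
      Function.Surjective ψ ∧
      (∀ j ∈ J, ∃ g, ψ g = 0 ∧ map (FrobAlg.res p k) g = j) ∧
      (∀ g, ψ g = 0 → map (FrobAlg.res p k) g ∈ J) ∧
      (∀ g, ψ ((p : MvPolynomial σ (FrobAlg.W2 p k)) * g) = 0 →
        ∃ z, ψ z = 0 ∧ (p : MvPolynomial σ (FrobAlg.W2 p k)) * g = p * z) := by
  classical
  have hkerk := ker_res p k
  have hpB : (p : B) = ι (p : FrobAlg.W2 p k) := (map_natCast ι p).symm
  have hpB2 : (p : B) * (p : B) = 0 := by
    rw [hpB, ← map_mul, Groth.Agent.H96.W2Flat.p_mul_p p k, map_zero]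
  have hkerπ : ∀ b : B, π b = 0 ↔ ∃ c, c * (p : B) = b := by
    intro b
    rw [← RingHom.mem_ker, hB.ker_eq, hkerk, Ideal.map_span, Set.image_singleton, ← hpB,
      Ideal.mem_span_singleton']
  have hflat : ∀ b : B, (p : B) * b = 0 → ∃ c, b = (p : B) * c := by
    intro b hb
    letI : Algebra (FrobAlg.W2 p k) B := ι.toAlgebra
    have hfl : Module.Flat (FrobAlg.W2 p k) B := hB.flat
    obtain ⟨c, hc⟩ := (Groth.Agent.H96.W2Flat.w2_flat_iff p k B).1 hfl b (by
      rw [Nat.cast_smul_eq_nsmul, nsmul_eq_mul]; exact hb)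
    exact ⟨c, by rw [hc, Nat.cast_smul_eq_nsmul, nsmul_eq_mul]⟩
  have hres_surj := res_surj p k
  have hbv : ∀ v : σ, ∃ b : B, π b = Ideal.Quotient.mk J (X v) := fun v => hB.surj _
  choose bv hbv using hbv
  let ψ : MvPolynomial σ (FrobAlg.W2 p k) →+* B := eval₂Hom ι bv
  have hψC : ∀ a, ψ (C a) = ι a := fun a => eval₂Hom_C _ _ a
  have hψX : ∀ v, ψ (X v) = bv v := fun v => eval₂Hom_X' _ _ v
  have hψp : ψ (p : MvPolynomial σ (FrobAlg.W2 p k)) = (p : B) := map_natCast ψ p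
  have hπψ : π.comp ψ = (Ideal.Quotient.mk J).comp (map (FrobAlg.res p k)) := by
    refine MvPolynomial.ringHom_ext (fun a => ?_) (fun v => ?_)
    · simp only [RingHom.comp_apply]
      rw [hψC, map_C]
      have := congrArg (fun f => f a) hB.comm
      simp only [RingHom.comp_apply] at this
      rw [this]
      rfl
    · simp only [RingHom.comp_apply]
      rw [hψX, hbv, map_X]
  have hπψ' : ∀ g, π (ψ g) = Ideal.Quotient.mk J (map (FrobAlg.res p k) g) := fun g => by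
    have := congrArg (fun f => f g) hπψ
    simpa only [RingHom.comp_apply] using this
  have hstep : ∀ b : B, ∃ g c, b = ψ g + c * (p : B) := by
    intro b
    obtain ⟨r, hr⟩ := Ideal.Quotient.mk_surjective (π b)
    obtain ⟨r', hr'⟩ := MvPolynomial.map_surjective _ hres_surj r
    have h0 : π (b - ψ r') = 0 := by rw [map_sub, hπψ', hr', hr, sub_self]
    obtain ⟨c, hc⟩ := (hkerπ _).1 h0
    exact ⟨r', c, by rw [hc]; ring⟩
  have hsurj : Function.Surjective ψ := by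
    intro b
    obtain ⟨g, c, hb⟩ := hstep b
    obtain ⟨g', c', hc⟩ := hstep c
    refine ⟨g + g' * (p : MvPolynomial σ (FrobAlg.W2 p k)), ?_⟩
    rw [map_add, map_mul, hψp, hb, hc]
    linear_combination (-c') * hpB2
  refine ⟨ψ, hψC, hπψ', hsurj, ?_, ?_, ?_⟩
  · intro j hj
    obtain ⟨j', hj'⟩ := MvPolynomial.map_surjective _ hres_surj j
    have h0 : π (ψ j') = 0 := by
      rw [hπψ', hj', Ideal.Quotient.eq_zero_iff_mem]; exact hj
    obtain ⟨c, hc⟩ := (hkerπ _).1 h0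
    obtain ⟨c', hc'⟩ := hsurj c
    refine ⟨j' - c' * (p : MvPolynomial σ (FrobAlg.W2 p k)), ?_, ?_⟩
    · rw [map_sub, map_mul, hψp, hc', hc, sub_self]
    · rw [map_sub, map_mul, map_natCast, CharP.cast_eq_zero (MvPolynomial σ k) p, mul_zero,
        sub_zero, hj']
  · intro g hg
    rw [← Ideal.Quotient.eq_zero_iff_mem, ← hπψ', hg, map_zero]
  · intro g hg
    rw [map_mul, hψp] at hg
    obtain ⟨c, hc⟩ := hflat _ hg
    obtain ⟨c', hc'⟩ := hsurj c
    refine ⟨g - (p : MvPolynomial σ (FrobAlg.W2 p k)) * c', ?_, ?_⟩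
    · rw [map_sub, map_mul, hψp, hc', hc, sub_self]
    · have pp := pp_zero p k (σ := σ)
      linear_combination c' * pp

section Quadric

variable (n : ℕ)

local notation "R'" => MvPolynomial (Fin n × Fin 2) (FrobAlg.W2 p k)
local notation "Rk" => MvPolynomial (Fin n × Fin 2) k

theorem no_lift (hn : 3 ≤ n) (J : Ideal Rk)
    (hJ : J = Ideal.span
      (insert (∑ i : Fin n, X (i, (0 : Fin 2)) * X (i, (1 : Fin 2)))
        (Set.range fun v : Fin n × Fin 2 => (X v : Rk) ^ p)))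
    (B : Type u) [CommRing B] (ι : FrobAlg.W2 p k →+* B) (π : B →+* (Rk ⧸ J))
    (hB : FrobAlg.IsLift p k (Rk ⧸ J) B ι π) : False := by
  classical
  obtain ⟨ψ, hψC, hπψ, hsurj, hliftJ, hkerJ, hdiv⟩ := exists_pres p k J B ι π hB
  obtain ⟨i0, i1, i2, h01, h02, h12⟩ :
      ∃ i0 i1 i2 : Fin n, i0 ≠ i1 ∧ i0 ≠ i2 ∧ i1 ≠ i2 :=
    ⟨⟨0, by omega⟩, ⟨1, by omega⟩, ⟨2, by omega⟩, by simp [Fin.ext_iff], by simp [Fin.ext_iff],
      by simp [Fin.ext_iff]⟩
  obtain ⟨q, hq⟩ : ∃ q, p = q + 1 := ⟨p - 1, by have := hp.out.pos; omega⟩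
  have hq1 : 1 ≤ q := by have := hp.out.two_le; omega
  have hf0J : (∑ i : Fin n, X (i, (0 : Fin 2)) * X (i, (1 : Fin 2)) : Rk) ∈ J := by
    rw [hJ]; exact Ideal.subset_span (Set.mem_insert _ _)
  have hXJ : ∀ v : Fin n × Fin 2, (X v : Rk) ^ p ∈ J := fun v => by
    rw [hJ]; exact Ideal.subset_span (Set.mem_insert_of_mem _ ⟨v, rfl⟩)
  obtain ⟨f', hf'0, hf'⟩ := hliftJ _ hf0J
  have hX := fun v => hliftJ _ (hXJ v)
  choose X' hX'0 hX' using hX
  set f0 : R' := ∑ i : Fin n, X (i, (0 : Fin 2)) * X (i, (1 : Fin 2)) with hf0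
  have hmapf0 : map (FrobAlg.res p k) f0 =
      ∑ i : Fin n, X (i, (0 : Fin 2)) * X (i, (1 : Fin 2)) := by
    rw [hf0, map_sum]
    exact Finset.sum_congr rfl fun i _ => by rw [map_mul, map_X, map_X]
  obtain ⟨g, hg⟩ := (map_res_eq_zero_iff p k (f' - f0)).1
    (by rw [map_sub, hf', hmapf0, sub_self])
  have hu : ∀ v, ∃ c, c * (p : R') = X' v - X v ^ p := fun v =>
    (map_res_eq_zero_iff p k _).1 (by rw [map_sub, hX', map_pow, map_X, sub_self])
  choose u hu using hu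
  have hf'eq : f' = f0 + g * (p : R') := by rw [hg]; ring
  have hf'pow : f' ^ p = f0 ^ p := by rw [hf'eq]; exact add_p_mul_pow p k f0 g
  -- the element `E`
  set E : R' := f' ^ p - ∑ i : Fin n, X (i, (1 : Fin 2)) ^ p * X' (i, 0) with hE
  have hψE : ψ E = 0 := by
    rw [hE, map_sub, map_pow, hf'0, zero_pow hp.out.ne_zero, map_sum, zero_sub, neg_eq_zero]
    exact Finset.sum_eq_zero fun i _ => by rw [map_mul, hX'0, mul_zero]
  have hmapE : map (FrobAlg.res p k) E = 0 := by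
    rw [hE, map_sub, map_pow, hf', sum_pow_char p, map_sum, sub_eq_zero]
    refine Finset.sum_congr rfl fun i _ => ?_
    rw [map_mul, map_pow, map_X, hX']
    ring
  obtain ⟨c, hc⟩ := (map_res_eq_zero_iff p k E).1 hmapE
  obtain ⟨z, hz0, hz⟩ := hdiv c (by rw [mul_comm, hc]; exact hψE)
  have hEz : E = (p : R') * z := by rw [← hz, mul_comm, hc]
  -- the functional kills `J` over `k`
  have hLk_J : ∀ j ∈ J, ∀ r, QuadFun.Lam k i0 i1 i2 q (r * j) = 0 := by
    intro j hj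
    rw [hJ] at hj
    induction hj using Submodule.span_induction with
    | mem y hy =>
      intro r
      rcases hy with rfl | ⟨v, rfl⟩
      · rw [mul_comm]; exact QuadFun.Lam_f0_mul k i0 i1 i2 h01 h02 h12 q r
      · exact QuadFun.Lam_mul_X_pow k i0 i1 i2 q p hq hq1 (CharP.cast_eq_zero k p) v r
    | zero => intro r; rw [mul_zero]; exact QuadFun.Lam_zero k i0 i1 i2 q
    | add y z _ _ hy hz => intro r; rw [mul_add, QuadFun.Lam_add, hy, hz, add_zero]
    | smul a y _ hy => intro r; rw [smul_eq_mul, ← mul_assoc]; exact hy (r * a)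
  have hLk_J' : ∀ j ∈ J, QuadFun.Lam k i0 i1 i2 q j = 0 := fun j hj => by
    have := hLk_J j hj 1
    rwa [one_mul] at this
  have hnat : ∀ g : R', FrobAlg.res p k (QuadFun.Lam (FrobAlg.W2 p k) i0 i1 i2 q g) =
      QuadFun.Lam k i0 i1 i2 q (map (FrobAlg.res p k) g) := fun g =>
    (QuadFun.Lam_map i0 i1 i2 (FrobAlg.res p k) q g).symm
  have hLz : QuadFun.Lam (FrobAlg.W2 p k) i0 i1 i2 q ((p : R') * z) = 0 := by
    rw [← map_natCast (C : FrobAlg.W2 p k →+* R') p, QuadFun.Lam_C_mul]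
    exact p_mul_eq_zero_of_res p k _ (by rw [hnat]; exact hLk_J' _ (hkerJ z hz0))
  -- expand `E`
  have hEexp : E = f0 * f0 ^ (p - 1)
      - (∑ i : Fin n, X (i, (0 : Fin 2)) ^ p * X (i, (1 : Fin 2)) ^ p)
      - (p : R') * ∑ i : Fin n, u (i, 0) * X (i, (1 : Fin 2)) ^ p := by
    rw [hE, hf'pow, mul_pow_sub_one hp.out.ne_zero, Finset.mul_sum, sub_sub,
      ← Finset.sum_add_distrib]
    congr 1
    refine Finset.sum_congr rfl fun i _ => ?_
    have := hu (i, 0)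
    linear_combination (-(X (i, (1 : Fin 2)) ^ p : R')) * this
  have hL1 : QuadFun.Lam (FrobAlg.W2 p k) i0 i1 i2 q (f0 * f0 ^ (p - 1)) = 0 :=
    QuadFun.Lam_f0_mul (FrobAlg.W2 p k) i0 i1 i2 h01 h02 h12 q _
  have hL2 : QuadFun.Lam (FrobAlg.W2 p k) i0 i1 i2 q
      (∑ i : Fin n, X (i, (0 : Fin 2)) ^ p * X (i, (1 : Fin 2)) ^ p) =
      (p : FrobAlg.W2 p k) * (-1) ^ p :=
    QuadFun.Lam_val (FrobAlg.W2 p k) i0 i1 i2 h01 h02 h12 q p hq hq1
  have hL3 : QuadFun.Lam (FrobAlg.W2 p k) i0 i1 i2 q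
      ((p : R') * ∑ i : Fin n, u (i, 0) * X (i, (1 : Fin 2)) ^ p) = 0 := by
    rw [← map_natCast (C : FrobAlg.W2 p k →+* R') p, QuadFun.Lam_C_mul]
    refine p_mul_eq_zero_of_res p k _ ?_
    rw [hnat, map_sum, QuadFun.Lam_finset_sum]
    refine Finset.sum_eq_zero fun i _ => ?_
    rw [map_mul, map_pow, map_X]
    exact QuadFun.Lam_mul_X_pow k i0 i1 i2 q p hq hq1 (CharP.cast_eq_zero k p) _ _
  have hLE : QuadFun.Lam (FrobAlg.W2 p k) i0 i1 i2 q E =
      -((p : FrobAlg.W2 p k) * (-1) ^ p) := by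
    rw [hEexp, QuadFun.Lam_sub, QuadFun.Lam_sub, hL1, hL2, hL3]
    ring
  rw [hEz, hLz] at hLE
  have h1 : (p : FrobAlg.W2 p k) * (-1) ^ p = 0 := by
    rw [eq_comm, neg_eq_zero] at hLE
    exact hLE
  have hp0 : (p : FrobAlg.W2 p k) = 0 := by
    calc (p : FrobAlg.W2 p k) = ((p : FrobAlg.W2 p k) * (-1) ^ p) * (-1) ^ p := by
          rw [mul_assoc, ← mul_pow]; simp
      _ = 0 := by rw [h1, zero_mul]
  exact Groth.Agent.H96.W2Flat.p_ne_zero p k hp0

end Quadric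

end Groth.Agent.H96.QuadLift
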