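import Mathlib

/-!
# Lower semicontinuity of the dimension of the span of a family in the fibres of a
finite projective module
-/

set_option autoImplicit false
universe u v w u'

open TensorProduct

namespace Groth.Agent.H96.RankLSC

/-- A matrix over a field with linearly independent rows has a nonvanishing maximal minor. -/
theorem exists_submatrix_det_ne_zero {K : Type*} [Field K] {κ : Type u'} [Fintype κ] [DecidableEq κ]
    {m : ℕ} (N : Matrix κ (Fin m) K) (h : LinearIndependent K N.row) :
    ∃ b : κ → Fin m, (N.submatrix id b).det ≠ 0 := by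
  classical
  have hrank : N.rank = Fintype.card κ := h.rank_matrix
  obtain ⟨κ', a, ha, hsp, hli⟩ := exists_linearIndependent' K N.col
  have : Finite κ' := Finite.of_injective a ha
  have : Fintype κ' := Fintype.ofFinite κ'
  have hcard : Fintype.card κ' = Fintype.card κ := by
    rw [← hrank, Matrix.rank_eq_finrank_span_cols, ← hsp, finrank_span_eq_card hli]
  obtain ⟨e⟩ : Nonempty (κ ≃ κ') := Fintype.card_eq.mp hcard.symm
  refine ⟨a ∘ e, ?_⟩
  have hcols : LinearIndependent K (N.submatrix id (a ∘ e)).col := by
    have : (N.submatrix id (a ∘ e)).col = (N.col ∘ a) ∘ e := by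
      ext j i
      rfl
    rw [this]
    exact hli.comp _ e.injective
  have hu := Matrix.linearIndependent_cols_iff_isUnit.mp hcols
  exact ((Matrix.isUnit_iff_isUnit_det _).mp hu).ne_zero

/-- Lower semicontinuity of the rank of the reduction of a (possibly infinite) family of row
vectors. -/
theorem matrix_lsc {R : Type u} [CommRing R] {ι : Type u'} {m : ℕ} (M : ι → Fin m → R)
    (q : PrimeSpectrum R) :
    ∃ D : R, D ∉ q.asIdeal ∧ ∀ p : PrimeSpectrum R, D ∉ p.asIdeal →
      Module.finrank q.asIdeal.ResidueField
        (Submodule.span q.asIdeal.ResidueField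
          (Set.range fun i => (fun l => algebraMap R q.asIdeal.ResidueField (M i l)))) ≤
      Module.finrank p.asIdeal.ResidueField
        (Submodule.span p.asIdeal.ResidueField
          (Set.range fun i => (fun l => algebraMap R p.asIdeal.ResidueField (M i l)))) := by
  classical
  set Kq := q.asIdeal.ResidueField
  obtain ⟨κ, a, ha, hsp, hli⟩ := exists_linearIndependent' Kq
    (fun i => (fun l => algebraMap R Kq (M i l)))
  have : Finite κ := LinearIndependent.finite hli
  have : Fintype κ := Fintype.ofFinite κ
  let N : Matrix κ (Fin m) Kq := fun j l => algebraMap R Kq (M (a j) l)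
  have hN : LinearIndependent Kq N.row := hli
  obtain ⟨b, hb⟩ := exists_submatrix_det_ne_zero N hN
  let P : Matrix κ κ R := fun j j' => M (a j) (b j')
  refine ⟨P.det, ?_, ?_⟩
  · intro hmem
    apply hb
    have : (N.submatrix id b) = (algebraMap R Kq).mapMatrix P := by
      ext j j'
      rfl
    rw [this, ← RingHom.map_det]
    exact (Ideal.algebraMap_residueField_eq_zero).mpr hmem
  · intro p hp
    set Kp := p.asIdeal.ResidueField
    rw [← hsp, finrank_span_eq_card hli]
    let Pp : Matrix κ κ Kp := (algebraMap R Kp).mapMatrix P
    have hdet : Pp.det ≠ 0 := by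
      rw [← RingHom.map_det]
      intro h0
      exact hp ((Ideal.algebraMap_residueField_eq_zero).mp h0)
    have hlip : LinearIndependent Kp
        ((fun i => (fun l => algebraMap R Kp (M i l))) ∘ a) := by
      rw [Fintype.linearIndependent_iff]
      intro c hc
      have hc' : Matrix.vecMul c Pp = 0 := by
        ext j'
        have := congrFun hc (b j')
        simp only [Finset.sum_apply, Pi.smul_apply, smul_eq_mul, Function.comp_apply,
          Pi.zero_apply] at this
        simpa [Matrix.vecMul, dotProduct, Pp, P] using this
      have := Matrix.eq_zero_of_vecMul_eq_zero hdet hc'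
      intro j
      exact congrFun this j
    have hle : Fintype.card κ ≤ Module.finrank Kp (Submodule.span Kp
        (Set.range fun i => (fun l => algebraMap R Kp (M i l)))) := by
      rw [← finrank_span_eq_card hlip]
      apply Submodule.finrank_mono
      apply Submodule.span_mono
      rintro _ ⟨j, rfl⟩
      exact ⟨a j, rfl⟩
    exact hle

/-- The comparison map `k ⊗ A → k^m` induced by a split embedding `g : A → R^m`. -/
noncomputable def psi {R : Type u} [CommRing R] {A : Type w} [AddCommGroup A] [Module R A]
    (K : Type v) [Field K] [Algebra R K] {m : ℕ} (g : A →ₗ[R] (Fin m → R)) :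
    K ⊗[R] A →ₗ[K] (Fin m → K) :=
  (TensorProduct.piScalarRight R K K (Fin m)).toLinearMap ∘ₗ g.baseChange K

theorem psi_one_tmul {R : Type u} [CommRing R] {A : Type w} [AddCommGroup A] [Module R A]
    (K : Type v) [Field K] [Algebra R K] {m : ℕ} (g : A →ₗ[R] (Fin m → R)) (a : A) :
    psi K g ((1 : K) ⊗ₜ[R] a) = fun l => algebraMap R K (g a l) := by
  ext l
  simp [psi, TensorProduct.piScalarRight_apply, Algebra.algebraMap_eq_smul_one]

theorem psi_injective {R : Type u} [CommRing R] {A : Type w} [AddCommGroup A] [Module R A]
    (K : Type v) [Field K] [Algebra R K] {m : ℕ} (g : A →ₗ[R] (Fin m → R))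
    (f : (Fin m → R) →ₗ[R] A) (hfg : f ∘ₗ g = LinearMap.id) :
    Function.Injective (psi K g) := by
  have h1 : Function.Injective (g.baseChange K) := by
    have : (f.baseChange K) ∘ₗ (g.baseChange K) = LinearMap.id := by
      rw [← LinearMap.baseChange_comp, hfg, LinearMap.baseChange_id]
    exact LinearMap.injective_of_comp_eq_id _ _ this
  exact (TensorProduct.piScalarRight R K K (Fin m)).injective.comp h1

theorem finrank_span_psi {R : Type u} [CommRing R] {A : Type w} [AddCommGroup A] [Module R A]
    (K : Type v) [Field K] [Algebra R K] {m : ℕ} (g : A →ₗ[R] (Fin m → R))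
    (f : (Fin m → R) →ₗ[R] A) (hfg : f ∘ₗ g = LinearMap.id) {ι : Type u'} (x : ι → A) :
    Module.finrank K (Submodule.span K (Set.range fun i => (1 : K) ⊗ₜ[R] x i)) =
    Module.finrank K (Submodule.span K
      (Set.range fun i => (fun l => algebraMap R K (g (x i) l)))) := by
  have h1 : (Set.range fun i => (fun l => algebraMap R K (g (x i) l))) =
      (psi K g) '' (Set.range fun i => (1 : K) ⊗ₜ[R] x i) := by
    rw [← Set.range_comp]
    congr 1
    ext i l
    simp only [Function.comp_apply]
    rw [psi_one_tmul]
  rw [h1, ← Submodule.map_span]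
  exact ((Submodule.equivMapOfInjective (psi K g) (psi_injective K g f hfg) _).finrank_eq)

/-- Lower semicontinuity of the dimension of the span of the image of a family in the fibres of a
finite projective module. -/
theorem module_lsc {R : Type u} [CommRing R] {A : Type w} [AddCommGroup A] [Module R A]
    [Module.Finite R A] [Module.Projective R A] {ι : Type u'} (x : ι → A)
    (q : PrimeSpectrum R) :
    ∃ D : R, D ∉ q.asIdeal ∧ ∀ p : PrimeSpectrum R, D ∉ p.asIdeal →
      Module.finrank q.asIdeal.ResidueField
        (Submodule.span q.asIdeal.ResidueField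
          (Set.range fun i => (1 : q.asIdeal.ResidueField) ⊗ₜ[R] x i)) ≤
      Module.finrank p.asIdeal.ResidueField
        (Submodule.span p.asIdeal.ResidueField
          (Set.range fun i => (1 : p.asIdeal.ResidueField) ⊗ₜ[R] x i)) := by
  obtain ⟨m, f, g, -, -, hfg⟩ := Module.Finite.exists_comp_eq_id_of_projective R A
  obtain ⟨D, hD, h⟩ := matrix_lsc (fun i l => g (x i) l) q
  refine ⟨D, hD, fun p hp => ?_⟩
  rw [finrank_span_psi _ g f hfg, finrank_span_psi _ g f hfg]
  exact h p hp

end Groth.Agent.H96.RankLSC
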