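import Mathlib
import Groth.Agent.H32.QCBC.Defs

/-! helper96: flat base change kills no section: if `M(E') = O(E') ⊗ M(E)` (in the form `IsBC`),
`O(E) → O(E')` is flat and `t ∈ M(E)` restricts to zero on `E'`, then `Ann(t)` generates the unit
ideal of `O(E')`. -/

set_option autoImplicit false
universe u v₁ u₁
open CategoryTheory Opposite Limits TensorProduct Groth.Agent.H32.QCBC

namespace Groth.Agent.H96.SecInj_Ann

variable {C : Type u₁} [Category.{v₁} C] (O : Cᵒᵖ ⥤ CommRingCat.{u})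
  (M : PresheafOfModules.{u} (O ⋙ forget₂ CommRingCat RingCat))

theorem one_tmul_eq_zero_of_isBC {E E' : C} (g : E' ⟶ E) (hg : IsBC O M g)
    [Algebra (O.obj (op E)) (O.obj (op E'))]
    (halg : algebraMap (O.obj (op E)) (O.obj (op E')) = (O.map g.op).hom)
    (t : M.obj (op E)) (ht : M.map g.op t = 0) :
    (1 : O.obj (op E')) ⊗ₜ[O.obj (op E)] t = 0 := by
  let ψ₀ : M.obj (op E) →+ (O.obj (op E')) ⊗[O.obj (op E)] (M.obj (op E)) :=
    (TensorProduct.mk (O.obj (op E)) (O.obj (op E')) (M.obj (op E)) 1).toAddMonoidHom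
  have hsemi : ∀ (a : O.obj (op E)) (s : M.obj (op E)), ψ₀ (a • s) = O.map g.op a • ψ₀ s := by
    intro a s
    change (1 : O.obj (op E')) ⊗ₜ[O.obj (op E)] (a • s) = O.map g.op a • ((1 : O.obj (op E')) ⊗ₜ s)
    rw [← TensorProduct.smul_tmul, TensorProduct.smul_tmul', smul_eq_mul, mul_one,
      Algebra.smul_def, mul_one, halg]
  obtain ⟨ψ', hψ', -⟩ := hg _ ψ₀ hsemi
  have ht' : (M.map g.op t : M.obj (op E')) = (0 : M.obj (op E')) := ht
  have h1 : ψ' (M.map g.op t) = ψ' (0 : M.obj (op E')) := congrArg ψ' ht'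
  rw [map_zero] at h1
  exact (hψ' t).symm.trans h1

theorem map_ann_eq_top_of_isBC {E E' : C} (g : E' ⟶ E) (hg : IsBC O M g)
    (hflat : (O.map g.op).hom.Flat) (t : M.obj (op E)) (ht : M.map g.op t = 0) :
    Ideal.map (O.map g.op).hom
      (LinearMap.ker (LinearMap.toSpanSingleton (O.obj (op E)) (M.obj (op E)) t)) = ⊤ := by
  let _ : Algebra (O.obj (op E)) (O.obj (op E')) := (O.map g.op).hom.toAlgebra
  have : Module.Flat (O.obj (op E)) (O.obj (op E')) := hflat
  have h0 := one_tmul_eq_zero_of_isBC O M g hg rfl t ht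
  set I : Ideal (O.obj (op E)) :=
    LinearMap.ker (LinearMap.toSpanSingleton (O.obj (op E)) (M.obj (op E)) t) with hI
  let f : (O.obj (op E) ⧸ I) →ₗ[O.obj (op E)] M.obj (op E) :=
    Submodule.liftQ I (LinearMap.toSpanSingleton (O.obj (op E)) (M.obj (op E)) t) le_rfl
  have hf : Function.Injective f := by
    rw [← LinearMap.ker_eq_bot]
    exact Submodule.ker_liftQ_eq_bot _ _ _ le_rfl
  have hinj := Module.Flat.lTensor_preserves_injective_linearMap (M := O.obj (op E')) f hf
  have h1 : (f.lTensor (O.obj (op E')))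
      ((1 : O.obj (op E')) ⊗ₜ[O.obj (op E)] (Submodule.Quotient.mk (1 : O.obj (op E)))) = 0 := by
    rw [LinearMap.lTensor_tmul]
    have : f (Submodule.Quotient.mk (1 : O.obj (op E))) = t := by
      show (LinearMap.toSpanSingleton (O.obj (op E)) (M.obj (op E)) t) 1 = t
      simp
    rw [this]
    exact h0
  have h2 : (1 : O.obj (op E')) ⊗ₜ[O.obj (op E)]
      (Submodule.Quotient.mk (1 : O.obj (op E)) : O.obj (op E) ⧸ I) = 0 :=
    hinj (h1.trans (map_zero _).symm)
  have h3 := congrArg (TensorProduct.tensorQuotEquivQuotSMul (O.obj (op E')) I) h2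
  rw [map_zero] at h3
  have h4 : TensorProduct.tensorQuotEquivQuotSMul (O.obj (op E')) I
      ((1 : O.obj (op E')) ⊗ₜ[O.obj (op E)]
        (Ideal.Quotient.mk I (1 : O.obj (op E)))) = Submodule.Quotient.mk ((1 : O.obj (op E)) • (1 : O.obj (op E'))) :=
    TensorProduct.tensorQuotEquivQuotSMul_tmul_mk I (1 : O.obj (op E')) (1 : O.obj (op E))
  have h5 : (1 : O.obj (op E')) ∈ (I • (⊤ : Submodule (O.obj (op E)) (O.obj (op E')))) := by
    have h6 := h4.symm.trans h3
    rw [one_smul, Submodule.Quotient.mk_eq_zero] at h6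
    exact h6
  rw [Ideal.smul_top_eq_map] at h5
  exact (Ideal.eq_top_iff_one _).2 h5

end Groth.Agent.H96.SecInj_Ann
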