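import Groth.Agent.H32.QCBC.Main
import Groth.Agent.H25.WeakAssPush
import Groth.Agent.H96.SecInj_Ann

/-! helper96: core of S10817 — a compatible family of sections of a quasi-coherent module on the
small étale site vanishing on a chart which contains all weakly associated points vanishes. -/

set_option autoImplicit false
set_option backward.isDefEq.respectTransparency false
universe u
open CategoryTheory CategoryTheory.Limits AlgebraicGeometry Opposite
open AlgSp

namespace Groth.Agent.H96.SecInj_Core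
open Groth.Agent.H25.LocRingedEt

variable {S : Scheme.{u}} {X : AlgSp.Sp S}

/-- a section vanishing on all affine opens vanishes. -/
theorem eq_zero_of_affineOpens (M : ModEt X) (E : EtOver X) (s : sectModEt M E)
    (h : ∀ O : E.obj.left.left.affineOpens, M.val.map (openIncl E O.1).op s = 0) : s = 0 := by
  have hsh : Presieve.IsSheaf (AlgSp.etTop X)
      (M.val.presheaf ⋙ CategoryTheory.forget AddCommGrpCat) :=
    (isSheaf_iff_isSheaf_of_type _ _).1
      ((Presheaf.isSheaf_iff_isSheaf_forget _ _ (CategoryTheory.forget AddCommGrpCat)).1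
        M.isSheaf)
  have hcov : Sieve.ofArrows
      (fun O : E.obj.left.left.affineOpens => openSub E O.1)
      (fun O => openIncl E O.1) ∈ AlgSp.etTop X E := by
    apply AlgSp.ofArrows_mem_etTop
    intro x
    obtain ⟨O, hO, hxO, -⟩ :=
      (TopologicalSpace.Opens.isBasis_iff_nbhd.1 E.obj.left.left.isBasis_affineOpens)
        (show x ∈ (⊤ : E.obj.left.left.Opens) from trivial)
    refine ⟨⟨O, hO⟩, ?_⟩
    rw [range_openIncl]
    exact hxO
  refine @Presieve.IsSeparatedFor.ext _ _ _ _ _ (hsh.isSeparated _ hcov) s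
    (0 : AlgSp.sectModEt M E) ?_
  intro Y f hf
  obtain ⟨Z, k, g, ⟨O⟩, rfl⟩ := hf
  rw [op_comp, Functor.map_comp]
  have e1 : (M.val.presheaf ⋙ CategoryTheory.forget AddCommGrpCat).map
      (openIncl E O.1).op s = (M.val.presheaf ⋙ CategoryTheory.forget AddCommGrpCat).map
      (openIncl E O.1).op (0 : AlgSp.sectModEt M E) := by
    refine (h O).trans ?_
    exact (map_zero (M.val.map (openIncl E O.1).op).hom).symm
  exact congrArg ((M.val.presheaf ⋙ CategoryTheory.forget AddCommGrpCat).map k.op) e1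


set_option maxHeartbeats 800000 in
/-- the affine case. -/
theorem affine_case (M : ModEt X) [M.IsQuasicoherent] (E : EtOver X)
    (hE : WeakAssEt M ⊆ Set.range (Points.ofPt E.obj.hom))
    (t : ∀ E' : EtOver X, sectModEt M E')
    (ht : ∀ {E' E'' : EtOver X} (g : E'' ⟶ E'), M.val.map g.op (t E') = t E'')
    (h0 : t E = 0) (E' : EtOver X) (hE' : IsAffine E'.obj.left.left) : t E' = 0 := by
  by_contra hne
  have hann : AlgSp.annSect (t E') ≠ ⊤ := by
    intro htop
    have h1 : (1 : Γ(E'.obj.left.left, ⊤)) ∈ AlgSp.annSect (t E') := by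
      rw [htop]; exact Submodule.mem_top
    rw [AlgSp.mem_annSect_iff, map_one, one_smul] at h1
    exact hne h1
  obtain ⟨⟨p, hp⟩⟩ := Ideal.nonempty_minimalPrimes hann
  have hpp : p.IsPrime := hp.1.1
  obtain ⟨u, hu⟩ := Groth.Agent.S10810.exists_primeAtPt_eq E'.obj.left.left p
  have hmem : AlgSp.Points.ofPt E'.obj.hom u ∈ AlgSp.WeakAssEt M :=
    ⟨E', hE', u, rfl, Exists.intro (t E') (by rw [hu]; exact hp)⟩
  obtain ⟨e, he⟩ := hE hmem
  -- the fibre product of `E` and `E'` over `X`
  obtain ⟨P, ψ, fst, sq⟩ := E.property.1 E'.obj.hom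
  obtain ⟨φ, rfl⟩ := (yon S).map_surjective fst
  haveI hψ : Etale ψ.left := E.property.2 _ _ _ sq
  haveI hφ : Etale φ.left := E'.property.2 _ _ _ sq.flip
  obtain ⟨p₀, hp1, hp2⟩ := Groth.Agent.H52.exists_of_ofPt_eq_ofPt sq e u he
  have h4 := AlgSp.repWith_isMultiplicative (S := S) @Etale
  have hE'' : RepWith @Etale ((yon S).map φ ≫ E.obj.hom) :=
    (RepWith @Etale).comp_mem _ _ ((repWith_yon_map_iff @Etale φ).2 hφ) E.property
  let E'' : EtOver X := EtOver.mk ((yon S).map φ ≫ E.obj.hom) hE''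
  let g₁ : E'' ⟶ E := EtOver.homMk φ rfl
  let g₂ : E'' ⟶ E' := EtOver.homMk ψ sq.w.symm
  -- an affine open neighbourhood of the point
  obtain ⟨O, hO, hpO, -⟩ :=
    (TopologicalSpace.Opens.isBasis_iff_nbhd.1 E''.obj.left.left.isBasis_affineOpens)
      (show p₀ ∈ (⊤ : E''.obj.left.left.Opens) from trivial)
  have hW : IsAffine (openSub E'' O).obj.left.left := hO
  let w : (openSub E'' O).obj.left.left := ⟨p₀, hpO⟩
  let g : openSub E'' O ⟶ E' := openIncl E'' O ≫ g₂
  have hgw : g.hom.left.left w = u := hp2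
  have htW : M.val.map g.op (t E') = 0 := by
    rw [ht g, ← ht (openIncl E'' O ≫ g₁), h0]
    exact map_zero (M.val.map (openIncl E'' O ≫ g₁).op).hom
  have hBC := Groth.Agent.H32.QCBC.isBC_modEt X M g hE' hW
  have hflat := Groth.Agent.H32.QCBC.flat_OEt_map g hE' hW
  have htop := Groth.Agent.H96.SecInj_Ann.map_ann_eq_top_of_isBC (OEt X).obj M.val g hBC hflat
    (t E') htW
  -- the prime of `w`
  let Q : Ideal ((OEt X).obj.obj (op (openSub E'' O))) :=
    Ideal.comap (ULift.ringEquiv : _ ≃+* Γ((openSub E'' O).obj.left.left, ⊤)).toRingHom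
      (primeAtPt (openSub E'' O).obj.left.left w)
  have hQ : Q ≠ ⊤ := (Ideal.comap_isPrime _ _).ne_top
  apply hQ
  rw [eq_top_iff, ← htop, Ideal.map_le_iff_le_comap]
  intro a ha
  have h1 : a.down ∈ AlgSp.annSect (t E') := ha
  have h2 : a.down ∈ primeAtPt E'.obj.left.left u := by
    rw [hu]; exact hp.1.2 h1
  rw [← hgw, ← Groth.Agent.H25.WeakAssPush.primeAtPt_comap] at h2
  exact h2

end Groth.Agent.H96.SecInj_Core
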