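import Mathlib

/-!
# Normalising a skew-hermitian 2 × 2 matrix after adjoining a square root
-/

set_option autoImplicit false
universe u v w

open TensorProduct

namespace Groth.Agent.H96.SkewHerm2

variable {B : Type u} {A : Type v} [CommRing B] [CommRing A] [Algebra B A]
  (lam : A ≃ₐ[B] A)

/-- The inverse of a skew-hermitian matrix is skew-hermitian. -/
theorem inv_skew {n : Type*} [Fintype n] [DecidableEq n] (h : Matrix n n A) (hh : IsUnit h)
    (herm : -(h.map lam).transpose = h) : -(h⁻¹.map lam).transpose = h⁻¹ := by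
  have hdet : IsUnit h.det := (Matrix.isUnit_iff_isUnit_det h).mp hh
  symm
  apply Matrix.inv_eq_right_inv
  have h1 : (h⁻¹.map lam) * (h.map lam) = 1 := by
    have h2 : (h⁻¹ * h).map lam = (1 : Matrix n n A) := by
      rw [Matrix.nonsing_inv_mul h hdet]
      ext i j
      by_cases hij : i = j <;> simp [Matrix.one_apply, hij]
    rw [← h2, Matrix.map_mul]
  calc h * -(h⁻¹.map lam).transpose = (-(h.map lam).transpose) * -(h⁻¹.map lam).transpose := by
        rw [herm]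
    _ = ((h⁻¹.map lam) * (h.map lam)).transpose := by
        rw [Matrix.transpose_mul]; simp
    _ = 1 := by rw [h1, Matrix.transpose_one]

set_option maxHeartbeats 1000000 in
/-- Core computation: after adjoining a square root `ξ` of `1 + γ` (with `1 + ξ` invertible), a
skew-hermitian invertible `2 × 2` matrix with invertible off-diagonal entry becomes congruent to
the standard alternating matrix. -/
theorem core
    (h : Matrix (Fin 2) (Fin 2) A) (hh : IsUnit h) (herm : -(h.map lam).transpose = h)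
    (hb : IsUnit (h 0 1)) (hf : A) (h2 : 2 * hf = 1)
    (γ : B) (hγ : algebraMap B A γ * (h 0 1 * lam (h 0 1)) = h 0 0 * h 1 1)
    (C : Type w) [CommRing C] [Algebra B C] (ξ μ : C) (hμ : μ * (1 + ξ) = 1)
    (hξ : ξ ^ 2 = algebraMap B C (1 + γ)) :
    ∃ v : Matrix (Fin 2) (Fin 2) (C ⊗[B] A), IsUnit v ∧
      (v.map (Algebra.TensorProduct.congr (AlgEquiv.refl : C ≃ₐ[C] C) lam)).transpose *
        h.map (Algebra.TensorProduct.includeRight : A →ₐ[B] C ⊗[B] A) * v =
      (Matrix.of ![![(0 : A), 1], ![-1, 0]]).map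
        (Algebra.TensorProduct.includeRight : A →ₐ[B] C ⊗[B] A) := by
  classical
  set ι : A →ₐ[B] C ⊗[B] A := Algebra.TensorProduct.includeRight with hι
  set L := Algebra.TensorProduct.congr (AlgEquiv.refl : C ≃ₐ[C] C) lam with hL
  have hLι : ∀ x : A, L (ι x) = ι (lam x) := by
    intro x
    simp [hL, hι]
  have hLκ : ∀ c : C, L (c ⊗ₜ[B] (1 : A)) = c ⊗ₜ[B] (1 : A) := by
    intro c
    simp [hL]
  have hent : ∀ i j, lam (h j i) = - h i j := by
    intro i j
    have := congrFun (congrFun herm i) j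
    simp only [Matrix.neg_apply, Matrix.transpose_apply, Matrix.map_apply] at this
    rw [← this, neg_neg]
  have hdet : IsUnit h.det := (Matrix.isUnit_iff_isUnit_det h).mp hh
  have hinv_skew := inv_skew lam h hh herm
  have hent' : ∀ i j, lam (h⁻¹ j i) = - h⁻¹ i j := by
    intro i j
    have := congrFun (congrFun hinv_skew i) j
    simp only [Matrix.neg_apply, Matrix.transpose_apply, Matrix.map_apply] at this
    rw [← this, neg_neg]
  have hmul1 : h * h⁻¹ = 1 := Matrix.mul_nonsing_inv h hdet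
  have hmul2 : h⁻¹ * h = 1 := Matrix.nonsing_inv_mul h hdet
  have r00 : h 0 0 * h⁻¹ 0 0 + h 0 1 * h⁻¹ 1 0 = 1 := by
    have := congrFun (congrFun hmul1 0) 0
    simpa [Matrix.mul_apply, Fin.sum_univ_two] using this
  have r10 : h 1 0 * h⁻¹ 0 0 + h 1 1 * h⁻¹ 1 0 = 0 := by
    have := congrFun (congrFun hmul1 1) 0
    simpa [Matrix.mul_apply, Fin.sum_univ_two] using this
  have q00 : h⁻¹ 0 0 * h 0 0 + h⁻¹ 0 1 * h 1 0 = 1 := by
    have := congrFun (congrFun hmul2 0) 0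
    simpa [Matrix.mul_apply, Fin.sum_univ_two] using this
  have q01 : h⁻¹ 0 0 * h 0 1 + h⁻¹ 0 1 * h 1 1 = 0 := by
    have := congrFun (congrFun hmul2 0) 1
    simpa [Matrix.mul_apply, Fin.sum_univ_two] using this
  obtain ⟨ub, hub⟩ := hb
  have hlamhf : lam hf = hf := by
    have h3 : 2 * lam hf = 1 := by
      have := congrArg lam h2
      rw [map_mul, map_ofNat, map_one] at this
      exact this
    calc lam hf = lam hf * (2 * hf) := by rw [h2, mul_one]
      _ = (2 * lam hf) * hf := by ring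
      _ = hf := by rw [h3, one_mul]
  -- names
  obtain ⟨a', ha'⟩ : ∃ x, x = ι (h 0 0) := ⟨_, rfl⟩
  obtain ⟨b', hb'⟩ : ∃ x, x = ι (h 0 1) := ⟨_, rfl⟩
  obtain ⟨c', hc'⟩ : ∃ x, x = ι (h 1 0) := ⟨_, rfl⟩
  obtain ⟨d', hd'⟩ : ∃ x, x = ι (h 1 1) := ⟨_, rfl⟩
  obtain ⟨p00, hp00⟩ : ∃ x, x = ι (h⁻¹ 0 0) := ⟨_, rfl⟩
  obtain ⟨p01, hp01⟩ : ∃ x, x = ι (h⁻¹ 0 1) := ⟨_, rfl⟩
  obtain ⟨p10, hp10⟩ : ∃ x, x = ι (h⁻¹ 1 0) := ⟨_, rfl⟩
  obtain ⟨binv, hbinv⟩ : ∃ x, x = ι ((ub⁻¹ : Aˣ) : A) := ⟨_, rfl⟩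
  obtain ⟨lb, hlb⟩ : ∃ x, x = ι (lam (h 0 1)) := ⟨_, rfl⟩
  obtain ⟨lbinv, hlbinv⟩ : ∃ x, x = ι (lam ((ub⁻¹ : Aˣ) : A)) := ⟨_, rfl⟩
  obtain ⟨M, hM⟩ : ∃ x : C ⊗[B] A, x = μ ⊗ₜ[B] (1 : A) := ⟨_, rfl⟩
  obtain ⟨Ξ, hΞ⟩ : ∃ x : C ⊗[B] A, x = ξ ⊗ₜ[B] (1 : A) := ⟨_, rfl⟩
  obtain ⟨g, hg⟩ : ∃ x, x = ι (algebraMap B A γ) := ⟨_, rfl⟩
  obtain ⟨hf', hhf'⟩ : ∃ x, x = ι hf := ⟨_, rfl⟩
  have e1 : b' * binv = 1 := by
    rw [hb', hbinv, ← map_mul, ← hub, Units.mul_inv, map_one]
  have e2 : lb * lbinv = 1 := by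
    rw [hlb, hlbinv, ← map_mul, ← map_mul, ← hub, Units.mul_inv, map_one, map_one]
  have e3 : M * (1 + Ξ) = 1 := by
    rw [hM, hΞ, Algebra.TensorProduct.one_def, ← TensorProduct.add_tmul,
      Algebra.TensorProduct.tmul_mul_tmul, hμ, mul_one]
  have e4 : Ξ ^ 2 = 1 + g := by
    rw [hΞ, hg, Algebra.TensorProduct.tmul_pow, one_pow, hξ, hι,
      Algebra.TensorProduct.includeRight_apply, map_add, map_one,
      TensorProduct.add_tmul, Algebra.TensorProduct.tmul_one_eq_one_tmul]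
    rfl
  have e5 : g * (b' * lb) = a' * d' := by
    rw [hg, hb', hlb, ha', hd', ← map_mul, ← map_mul, ← map_mul, hγ]
  have e6 : c' = -lb := by
    rw [hc', hlb, hent 1 0, map_neg, neg_neg]
  have e7 : 2 * hf' = 1 := by
    rw [hhf', ← map_ofNat ι 2, ← map_mul, h2, map_one]
  have r00' : a' * p00 + b' * p10 = 1 := by
    rw [ha', hp00, hb', hp10, ← map_mul, ← map_mul, ← map_add, r00, map_one]
  have r10' : c' * p00 + d' * p10 = 0 := by
    rw [hc', hp00, hd', hp10, ← map_mul, ← map_mul, ← map_add, r10, map_zero]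
  have q00' : p00 * a' + p01 * c' = 1 := by
    rw [ha', hp00, hc', hp01, ← map_mul, ← map_mul, ← map_add, q00, map_one]
  have q01' : p00 * b' + p01 * d' = 0 := by
    rw [hb', hp00, hd', hp01, ← map_mul, ← map_mul, ← map_add, q01, map_zero]
  have La : L a' = -a' := by rw [ha', hLι, hent 0 0, map_neg]
  have LM : L M = M := by rw [hM, hLκ]
  have Lbinv : L binv = lbinv := by rw [hbinv, hlbinv, hLι]
  have Lp00 : L p00 = -p00 := by rw [hp00, hLι, hent' 0 0, map_neg]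
  have Lp10 : L p10 = -p01 := by rw [hp10, hp01, hLι, hent' 0 1, map_neg]
  have Lhf : L hf' = hf' := by rw [hhf', hLι, hlamhf]
  obtain ⟨y, hy⟩ : ∃ x, x = -M * a' * binv := ⟨_, rfl⟩
  obtain ⟨ly, hly⟩ : ∃ x, x = M * a' * lbinv := ⟨_, rfl⟩
  have Ly : L y = ly := by
    rw [hy, hly, map_mul, map_mul, map_neg, LM, La, Lbinv]
    ring
  have G00 : a' + b' * y + ly * c' + ly * d' * y = 0 := by
    rw [hy, hly, e6]
    clear La LM Lbinv Lp00 Lp10 Lhf Ly r00' r10' q00' q01' e7 hy hly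
    grind
  let v : Matrix (Fin 2) (Fin 2) (C ⊗[B] A) := !![1, p00 * hf'; y, p10 - p00 * hf' * y]
  have hvL : v.map L = !![1, -p00 * hf'; ly, -p01 + p00 * hf' * ly] := by
    ext i j
    fin_cases i <;> fin_cases j <;>
      simp [v, map_mul, map_sub, Lp00, Lhf, Lp10, Ly] <;> ring
  have hvLT : (v.map L).transpose = !![1, ly; -p00 * hf', -p01 + p00 * hf' * ly] := by
    rw [hvL]
    ext i j
    fin_cases i <;> fin_cases j <;> simp
  have hmap : h.map ι = !![a', b'; c', d'] := by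
    ext i j
    fin_cases i <;> fin_cases j <;> simp [ha', hb', hc', hd']
  have hJmap : (Matrix.of ![![(0 : A), 1], ![-1, 0]]).map ι = !![0, 1; -1, 0] := by
    ext i j
    fin_cases i <;> fin_cases j <;> simp
  have key : (v.map L).transpose * h.map ι * v =
      (Matrix.of ![![(0 : A), 1], ![-1, 0]]).map ι := by
    have e00 : (1 * a' + ly * c') * 1 + (1 * b' + ly * d') * y = 0 := by
      linear_combination G00
    have e01 : (1 * a' + ly * c') * (p00 * hf') + (1 * b' + ly * d') * (p10 - p00 * hf' * y)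
        = 1 := by
      linear_combination r00' + ly * r10' - p00 * hf' * G00 + (a' * p00 + ly * c' * p00) * e7
    have e10 : (-p00 * hf' * a' + (-p01 + p00 * hf' * ly) * c') * 1 +
        (-p00 * hf' * b' + (-p01 + p00 * hf' * ly) * d') * y = -1 := by
      clear La LM Lbinv Lp00 Lp10 Lhf Ly hy hly e1 e2 e3 e4 e5 e6 r00' r10' hvL hvLT hmap hJmap
        e00 e01
      grind
    have e11 : (-p00 * hf' * a' + (-p01 + p00 * hf' * ly) * c') * (p00 * hf') +
        (-p00 * hf' * b' + (-p01 + p00 * hf' * ly) * d') * (p10 - p00 * hf' * y) = 0 := by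
      clear La LM Lbinv Lp00 Lp10 Lhf Ly hy hly e1 e2 e3 e4 e5 e6 hvL hvLT hmap hJmap
        e00 e01 e10
      grind
    rw [hvLT, hmap, hJmap, Matrix.mul_fin_two]
    show _ * !![1, p00 * hf'; y, p10 - p00 * hf' * y] = _
    rw [Matrix.mul_fin_two, e00, e01, e10, e11]
  refine ⟨v, ?_, key⟩
  set J' := (Matrix.of ![![(0 : A), 1], ![-1, 0]]).map ι with hJ'
  have hJJ : (-J') * J' = 1 := by
    ext i j
    fin_cases i <;> fin_cases j <;> simp [hJ', Matrix.mul_apply, Fin.sum_univ_two]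
  rw [Matrix.isUnit_iff_isUnit_det]
  apply Matrix.isUnit_det_of_left_inverse (B := (-J') * ((v.map L).transpose * h.map ι))
  rw [Matrix.mul_assoc, key, hJJ]

end Groth.Agent.H96.SkewHerm2
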