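import Mathlib
import Groth.Agent.H96.EtCover

/-!
# When `2` is invertible, units have square roots etale locally (helper96)
-/

set_option autoImplicit false
set_option linter.style.haveILetI false
universe u

open Polynomial

namespace Groth.Agent.H96.SqrtTwo

/-- Adjoining a square root of a unit is etale and faithfully flat when `2` is invertible. -/
theorem exists_sqrt (S₁ : Type u) [CommRing S₁] (h2 : IsUnit (2 : S₁)) (x : S₁ˣ) :
    ∃ (S₂ : Type u) (_ : CommRing S₂) (_ : Algebra S₁ S₂) (_ : Algebra.Etale S₁ S₂)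
      (_ : Module.FaithfullyFlat S₁ S₂) (y : S₂), y * y = algebraMap S₁ S₂ ↑x := by
  rcases subsingleton_or_nontrivial S₁ with hs | hn
  · exact ⟨S₁, inferInstance, inferInstance, inferInstance, inferInstance, 0,
      Subsingleton.elim _ _⟩
  obtain ⟨c, hc⟩ := h2.exists_right_inv
  let P : S₁[X] := X ^ 2 - C (x : S₁)
  have hP : P.Monic := monic_X_pow_sub_C _ (by norm_num)
  have hsep : P.Separable := by
    refine ⟨-C (↑x⁻¹ : S₁), C c * C (↑x⁻¹ : S₁) * X, ?_⟩
    have hd : derivative P = C 2 * X := by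
      simp only [P, derivative_sub, derivative_X_pow, derivative_C, sub_zero]
      norm_num
    rw [hd]
    have h1 : (C (2 : S₁) : S₁[X]) * C c = 1 := by rw [← C_mul, hc, C_1]
    have h3 : (C (↑x⁻¹ : S₁) : S₁[X]) * C (x : S₁) = 1 := by rw [← C_mul, Units.inv_mul, C_1]
    show -C (↑x⁻¹ : S₁) * (X ^ 2 - C (x : S₁)) + C c * C (↑x⁻¹ : S₁) * X * (C 2 * X) = 1
    linear_combination (C (↑x⁻¹ : S₁) * X ^ 2) * h1 + h3
  haveI := Groth.Agent.H96.EtCover.etale_adjoinRoot P hP hsep
  haveI : Module.Free S₁ (AdjoinRoot P) := Module.Free.of_basis (AdjoinRoot.powerBasis' hP).basis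
  have hdim : (AdjoinRoot.powerBasis' hP).dim = 2 := by
    rw [AdjoinRoot.powerBasis'_dim]
    exact natDegree_X_pow_sub_C
  haveI : Nonempty (Fin (AdjoinRoot.powerBasis' hP).dim) := by
    rw [hdim]; exact ⟨0⟩
  haveI : Nontrivial (AdjoinRoot P) :=
    (AdjoinRoot.powerBasis' hP).basis.repr.toEquiv.nontrivial
  refine ⟨AdjoinRoot P, inferInstance, inferInstance, inferInstance, inferInstance,
    AdjoinRoot.root P, ?_⟩
  have h0 : AdjoinRoot.mk P P = 0 := AdjoinRoot.mk_self
  have : AdjoinRoot.mk P (X ^ 2 - C (x : S₁)) = 0 := h0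
  rw [map_sub, map_pow, AdjoinRoot.mk_X, AdjoinRoot.mk_C, sub_eq_zero] at this
  rw [AdjoinRoot.algebraMap_eq, ← this, sq]

/-- The square root hypothesis of the statements follows from `2` being invertible. -/
theorem hsq_of_two (S : Type u) [CommRing S] (h2 : IsUnit (2 : S)) :
    ∀ (S₁ : Type u) [CommRing S₁] [Algebra S S₁] [Algebra.Etale S S₁] (x : S₁ˣ),
      ∃ (S₂ : Type u) (_ : CommRing S₂) (_ : Algebra S₁ S₂) (_ : Algebra.Etale S₁ S₂)
        (_ : Module.FaithfullyFlat S₁ S₂) (y : S₂), y * y = algebraMap S₁ S₂ ↑x := by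
  intro S₁ _ _ _ x
  have h2' : IsUnit (2 : S₁) := by
    have := h2.map (algebraMap S S₁)
    rwa [map_ofNat] at this
  exact exists_sqrt S₁ h2' x

end Groth.Agent.H96.SqrtTwo
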