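import Mathlib
import Groth.Prelude.Def_AzInv
import Groth.Agent.H96.RankLSC

/-!
# Symmetric and skew-symmetric elements in the fibres over the ramification locus
-/

set_option autoImplicit false
universe u v w u'

open TensorProduct

namespace Groth.Agent.H96.SymSkew

variable {S : Type u} {R : Type v} [CommRing S] [CommRing R] [Algebra S R]
  {A : Type w} [Ring A] [Algebra S A] [Algebra R A] [IsScalarTower S R A]
  (lam : R ≃ₐ[S] R) (t : AzInv.LamInv R A lam)
  (K : Type u') [Field K] [Algebra R K]

/-- `a ↦ 1 ⊗ t a` is `R`-linear into `K ⊗ A` when `lam` is trivial on `K`. -/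
noncomputable def tau (hK : ∀ r, algebraMap R K (lam r) = algebraMap R K r) :
    A →ₗ[R] K ⊗[R] A where
  toFun a := (1 : K) ⊗ₜ[R] t a
  map_add' a b := by rw [t.map_add, TensorProduct.tmul_add]
  map_smul' r a := by
    rw [RingHom.id_apply, t.map_smul, ← TensorProduct.smul_tmul, TensorProduct.smul_tmul',
      Algebra.smul_def, Algebra.smul_def, hK]

/-- The `K`-linear involution `c ⊗ a ↦ c ⊗ t a` of `K ⊗ A`. -/
noncomputable def T (hK : ∀ r, algebraMap R K (lam r) = algebraMap R K r) :
    K ⊗[R] A →ₗ[K] K ⊗[R] A :=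
  (tau lam t K hK).liftBaseChange K

theorem T_tmul (hK : ∀ r, algebraMap R K (lam r) = algebraMap R K r) (c : K) (a : A) :
    T lam t K hK (c ⊗ₜ[R] a) = c ⊗ₜ[R] t a := by
  rw [T, LinearMap.liftBaseChange_tmul]
  show c • ((1 : K) ⊗ₜ[R] t a) = _
  rw [TensorProduct.smul_tmul', smul_eq_mul, mul_one]

/-- The span of the symmetric elements. -/
noncomputable def Psym : Submodule K (K ⊗[R] A) :=
  Submodule.span K (Set.range fun a : {a : A // t a = a} => (1 : K) ⊗ₜ[R] (a : A))

/-- The span of the skew-symmetric elements. -/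
noncomputable def Pskew : Submodule K (K ⊗[R] A) :=
  Submodule.span K (Set.range fun a : {a : A // t a = -a} => (1 : K) ⊗ₜ[R] (a : A))

theorem T_eq_of_mem_Psym (hK : ∀ r, algebraMap R K (lam r) = algebraMap R K r)
    {v : K ⊗[R] A} (hv : v ∈ Psym lam t K) : T lam t K hK v = v := by
  induction hv using Submodule.span_induction with
  | mem x hx =>
    obtain ⟨a, rfl⟩ := hx
    show T lam t K hK ((1 : K) ⊗ₜ[R] (a : A)) = _
    rw [T_tmul, a.2]
  | zero => simp
  | add x y _ _ hx hy => rw [map_add, hx, hy]
  | smul c x _ hx => rw [map_smul, hx]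

theorem T_eq_of_mem_Pskew (hK : ∀ r, algebraMap R K (lam r) = algebraMap R K r)
    {v : K ⊗[R] A} (hv : v ∈ Pskew lam t K) : T lam t K hK v = -v := by
  induction hv using Submodule.span_induction with
  | mem x hx =>
    obtain ⟨a, rfl⟩ := hx
    show T lam t K hK ((1 : K) ⊗ₜ[R] (a : A)) = _
    rw [T_tmul, a.2, TensorProduct.tmul_neg]
  | zero => simp
  | add x y _ _ hx hy => rw [map_add, hx, hy, neg_add]
  | smul c x _ hx => rw [map_smul, hx, smul_neg]

theorem inf_eq_bot (hK : ∀ r, algebraMap R K (lam r) = algebraMap R K r)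
    (h2 : IsUnit (2 : S)) : Psym lam t K ⊓ Pskew lam t K = ⊥ := by
  rw [eq_bot_iff]
  rintro v ⟨hv1, hv2⟩
  have h1 := T_eq_of_mem_Psym lam t K hK hv1
  have h2' := T_eq_of_mem_Pskew lam t K hK hv2
  have h3 : v = -v := h1.symm.trans h2'
  have h4 : (2 : K) • v = 0 := by
    rw [two_smul]
    nth_rewrite 1 [h3]
    exact neg_add_cancel v
  have h5 : (2 : K) ≠ 0 := by
    have : IsUnit ((algebraMap R K) ((algebraMap S R) 2)) := (h2.map _).map _
    rw [map_ofNat, map_ofNat] at this
    exact this.ne_zero
  rw [Submodule.mem_bot]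
  exact (smul_eq_zero.mp h4).resolve_left h5

theorem sup_eq_top (h2 : IsUnit (2 : S)) : Psym lam t K ⊔ Pskew lam t K = ⊤ := by
  rw [eq_top_iff]
  rintro v -
  induction v using TensorProduct.induction_on with
  | zero => exact Submodule.zero_mem _
  | add x y hx hy => exact Submodule.add_mem _ hx hy
  | tmul c a =>
    obtain ⟨u, hu⟩ := h2
    let half : S := ((u⁻¹ : Sˣ) : S)
    have hhalf : half * 2 = 1 := by
      rw [← hu]; exact u.inv_mul
    have hts : ∀ (s : S) (b : A), t (s • b) = s • t b := fun s b =>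
      (t.linS S lam).map_smul s b
    let ap : A := half • (a + t a)
    let am : A := half • (a - t a)
    have hap : t ap = ap := by
      show t (half • (a + t a)) = half • (a + t a)
      rw [hts, t.map_add, t.invol, add_comm]
    have ham : t am = -am := by
      show t (half • (a - t a)) = -(half • (a - t a))
      rw [hts, ← smul_neg, neg_sub]
      congr 1
      have : a - t a = a + (- t a) := sub_eq_add_neg _ _
      rw [this, t.map_add, t.map_neg, t.invol]
      abel
    have hsum : a = ap + am := by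
      show a = half • (a + t a) + half • (a - t a)
      rw [← smul_add]
      have : a + t a + (a - t a) = (2 : S) • a := by rw [two_smul]; abel
      rw [this, smul_smul, hhalf, one_smul]
    have h1 : (1 : K) ⊗ₜ[R] ap ∈ Psym lam t K :=
      Submodule.subset_span ⟨⟨ap, hap⟩, rfl⟩
    have h2 : (1 : K) ⊗ₜ[R] am ∈ Pskew lam t K :=
      Submodule.subset_span ⟨⟨am, ham⟩, rfl⟩
    have : c ⊗ₜ[R] a = c • ((1 : K) ⊗ₜ[R] ap) + c • ((1 : K) ⊗ₜ[R] am) := by
      rw [TensorProduct.smul_tmul', TensorProduct.smul_tmul', smul_eq_mul, mul_one,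
        ← TensorProduct.tmul_add, ← hsum]
    rw [this]
    exact Submodule.add_mem _
      (Submodule.mem_sup_left (Submodule.smul_mem _ c h1))
      (Submodule.mem_sup_right (Submodule.smul_mem _ c h2))

/-- The dimensions of the symmetric and skew parts add up to the dimension of the fibre. -/
theorem finrank_add [Module.Finite R A]
    (hK : ∀ r, algebraMap R K (lam r) = algebraMap R K r) (h2 : IsUnit (2 : S)) :
    Module.finrank K (Psym lam t K) + Module.finrank K (Pskew lam t K) =
      Module.finrank K (K ⊗[R] A) := by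
  have h := Submodule.finrank_sup_add_finrank_inf_eq (Psym lam t K) (Pskew lam t K)
  rw [sup_eq_top lam t K h2, inf_eq_bot lam t K hK h2, finrank_top, finrank_bot, add_zero] at h
  exact h.symm

end Groth.Agent.H96.SymSkew
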