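import Mathlib
import Groth.Prelude.Def_AzInv
import Groth.Agent.H96.SymSkew

/-!
# The dimension of the span of symmetric elements at a residue field (helper96)
-/

set_option autoImplicit false
set_option linter.unusedSectionVars false
set_option linter.style.haveILetI false
universe u v w u' u''

open TensorProduct Matrix

namespace Groth.Agent.H96.SymDim

section MatrixDims

variable (L : Type*) [Field L] (n : ℕ)

/-- Symmetric matrices. -/
def symSub : Submodule L (Matrix (Fin n) (Fin n) L) where
  carrier := {Y | Yᵀ = Y}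
  add_mem' := by
    intro a b ha hb
    show (a + b)ᵀ = a + b
    rw [Matrix.transpose_add, ha, hb]
  zero_mem' := Matrix.transpose_zero
  smul_mem' := by
    intro c a ha
    show (c • a)ᵀ = c • a
    rw [Matrix.transpose_smul, ha]

/-- Skew-symmetric matrices. -/
def skewSub : Submodule L (Matrix (Fin n) (Fin n) L) where
  carrier := {Y | Yᵀ = -Y}
  add_mem' := by
    intro a b ha hb
    show (a + b)ᵀ = -(a + b)
    rw [Matrix.transpose_add, ha, hb, neg_add]
  zero_mem' := by
    show (0 : Matrix (Fin n) (Fin n) L)ᵀ = -0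
    rw [Matrix.transpose_zero, neg_zero]
  smul_mem' := by
    intro c a ha
    show (c • a)ᵀ = -(c • a)
    rw [Matrix.transpose_smul, ha, smul_neg]

/-- Symmetric matrices are functions on unordered pairs. -/
noncomputable def symEquiv : symSub L n ≃ₗ[L] (Sym2 (Fin n) → L) where
  toFun Y := Sym2.lift ⟨fun i j => Y.1 i j, fun i j => congrFun (congrFun Y.2 j) i⟩
  map_add' Y Y' := by
    funext s
    induction s using Sym2.ind with
    | h a b => rfl
  map_smul' c Y := by
    funext s
    induction s using Sym2.ind with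
    | h a b => rfl
  invFun f := ⟨Matrix.of fun i j => f s(i, j), by
    show (Matrix.of fun i j => f s(i, j))ᵀ = Matrix.of fun i j => f s(i, j)
    ext i j
    simp [Sym2.eq_swap]⟩
  left_inv Y := by
    apply Subtype.ext
    ext i j
    rfl
  right_inv f := by
    funext s
    induction s using Sym2.ind with
    | h a b => rfl

theorem finrank_symSub : Module.finrank L (symSub L n) = Nat.choose (n + 1) 2 := by
  rw [(symEquiv L n).finrank_eq, Module.finrank_fintype_fun_eq_card, Sym2.card, Fintype.card_fin]

theorem finrank_skewSub_ne (hn : 0 < n) (h2 : (2 : L) ≠ 0) :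
    Module.finrank L (skewSub L n) ≠ Nat.choose (n + 1) 2 := by
  intro hcon
  have hdisj : Disjoint (symSub L n) (skewSub L n) := by
    rw [Submodule.disjoint_def]
    intro Y h1 h3
    have h4 : Yᵀ = Y := h1
    have h5 : Yᵀ = -Y := h3
    have h6 : (2 : L) • Y = 0 := by
      rw [two_smul]
      nth_rewrite 1 [← h4]
      rw [h5, neg_add_cancel]
    exact (smul_eq_zero.mp h6).resolve_left h2
  have hle := Submodule.finrank_add_finrank_le_of_disjoint hdisj
  rw [finrank_symSub, hcon, Module.finrank_matrix, Module.finrank_self, Fintype.card_fin,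
    mul_one] at hle
  have h7 : 2 * Nat.choose (n + 1) 2 = (n + 1) * n := by
    rw [Nat.choose_two_right, Nat.add_sub_cancel]
    exact Nat.two_mul_div_two_of_even (Nat.even_mul_pred_self (n + 1))
  nlinarith

end MatrixDims

section FieldExt

variable {S : Type u} {R : Type v} [CommRing S] [CommRing R] [Algebra S R]
  {A : Type w} [Ring A] [Algebra S A] [Algebra R A] [IsScalarTower S R A]
  (lam : R ≃ₐ[S] R) (t : AzInv.LamInv R A lam)
  (K : Type u') [Field K] [Algebra R K] (L : Type u'') [Field L] [Algebra R L]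
  (ψ : K →+* L) (hψ : ∀ r, ψ (algebraMap R K r) = algebraMap R L r)

open Groth.Agent.H96.SymSkew

include hψ in
/-- The span over `L` of a family `1 ⊗ a` has dimension at most that over `K`. -/
theorem finrank_span_le [Module.Finite R A] (P : A → Prop) :
    Module.finrank L (Submodule.span L (Set.range fun a : {a : A // P a} => (1 : L) ⊗ₜ[R] (a : A))) ≤
      Module.finrank K
        (Submodule.span K (Set.range fun a : {a : A // P a} => (1 : K) ⊗ₜ[R] (a : A))) := by
  classical
  set PK := Submodule.span K (Set.range fun a : {a : A // P a} => (1 : K) ⊗ₜ[R] (a : A)) with hPK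
  let ψl : K →ₗ[R] L :=
    { toFun := ψ
      map_add' := map_add ψ
      map_smul' := fun r k => by
        rw [RingHom.id_apply, Algebra.smul_def, Algebra.smul_def, map_mul, hψ] }
  let g : K ⊗[R] A →ₗ[R] L ⊗[R] A := TensorProduct.map ψl LinearMap.id
  have hg : ∀ (k : K) (a : A), g (k ⊗ₜ[R] a) = ψ k ⊗ₜ[R] a := fun k a => rfl
  have hgsmul : ∀ (k : K) (v : K ⊗[R] A), g (k • v) = ψ k • g v := by
    intro k v
    induction v using TensorProduct.induction_on with
    | zero => simp
    | tmul k' a =>
      rw [TensorProduct.smul_tmul', hg, hg, TensorProduct.smul_tmul', smul_eq_mul, smul_eq_mul,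
        map_mul]
    | add x y hx hy => rw [smul_add, map_add, hx, hy, map_add, smul_add]
  let b := Module.finBasis K PK
  have hle : Submodule.span L (Set.range fun a : {a : A // P a} => (1 : L) ⊗ₜ[R] (a : A)) ≤
      Submodule.span L (Set.range fun i => g (b i : K ⊗[R] A)) := by
    rw [Submodule.span_le]
    rintro _ ⟨a, rfl⟩
    have hmem : (1 : K) ⊗ₜ[R] (a : A) ∈ PK := Submodule.subset_span ⟨a, rfl⟩
    have hrepr := b.sum_repr ⟨_, hmem⟩
    have h1 : (1 : K) ⊗ₜ[R] (a : A) = ∑ i, (b.repr ⟨_, hmem⟩ i) • (b i : K ⊗[R] A) := by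
      have := congrArg Subtype.val hrepr
      rw [Submodule.coe_sum] at this
      simpa using this.symm
    have h3 : (1 : L) ⊗ₜ[R] (a : A) = g ((1 : K) ⊗ₜ[R] (a : A)) := by rw [hg, map_one]
    show (1 : L) ⊗ₜ[R] (a : A) ∈ _
    rw [h3, h1, map_sum]
    refine Submodule.sum_mem _ fun i _ => ?_
    rw [hgsmul]
    exact Submodule.smul_mem _ _ (Submodule.subset_span ⟨i, rfl⟩)
  calc Module.finrank L _ ≤ Module.finrank L
        (Submodule.span L (Set.range fun i => g (b i : K ⊗[R] A))) :=
        Submodule.finrank_mono hle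
    _ ≤ Fintype.card (Fin (Module.finrank K PK)) := finrank_range_le_card _
    _ = Module.finrank K PK := Fintype.card_fin _

include hψ in
/-- The dimension of the span of the symmetric elements does not change under field extension. -/
theorem finrank_Psym_eq [Module.Finite R A]
    (hK : ∀ r, algebraMap R K (lam r) = algebraMap R K r) (h2 : IsUnit (2 : S)) :
    Module.finrank L (Psym lam t L) = Module.finrank K (Psym lam t K) := by
  have hL : ∀ r, algebraMap R L (lam r) = algebraMap R L r := by
    intro r
    rw [← hψ, ← hψ, hK]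
  have s1 := finrank_add lam t K hK h2
  have s2 := finrank_add lam t L hL h2
  have l1 : Module.finrank L (Psym lam t L) ≤ Module.finrank K (Psym lam t K) :=
    finrank_span_le K L ψ hψ (fun a => t a = a)
  have l2 : Module.finrank L (Pskew lam t L) ≤ Module.finrank K (Pskew lam t K) :=
    finrank_span_le K L ψ hψ (fun a => t a = -a)
  have hdim : Module.finrank L (L ⊗[R] A) = Module.finrank K (K ⊗[R] A) := by
    letI : Algebra K L := ψ.toAlgebra
    haveI : IsScalarTower R K L := IsScalarTower.of_algebraMap_eq (fun r => (hψ r).symm)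
    rw [← (TensorProduct.AlgebraTensorModule.cancelBaseChange R K L L A).finrank_eq,
      Module.finrank_baseChange]
  omega

end FieldExt

section Eigen

variable {S : Type u} {R : Type v} [CommRing S] [CommRing R] [Algebra S R]
  {A : Type w} [Ring A] [Algebra S A] [Algebra R A] [IsScalarTower S R A]
  (lam : R ≃ₐ[S] R) (t : AzInv.LamInv R A lam)
  (L : Type u'') [Field L] [Algebra R L]

open Groth.Agent.H96.SymSkew

/-- The span of the symmetric elements is the fixed space of the induced involution. -/
theorem mem_Psym_iff (hL : ∀ r, algebraMap R L (lam r) = algebraMap R L r) (h2 : IsUnit (2 : S))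
    (v : L ⊗[R] A) : v ∈ Psym lam t L ↔ T lam t L hL v = v := by
  constructor
  · exact T_eq_of_mem_Psym lam t L hL
  · intro hv
    have hmem : v ∈ Psym lam t L ⊔ Pskew lam t L := by
      rw [sup_eq_top lam t L h2]
      exact Submodule.mem_top
    obtain ⟨v₁, hv₁, v₂, hv₂, rfl⟩ := Submodule.mem_sup.mp hmem
    rw [map_add, T_eq_of_mem_Psym lam t L hL hv₁, T_eq_of_mem_Pskew lam t L hL hv₂] at hv
    have h2L : (2 : L) ≠ 0 := by
      have h3 : IsUnit (2 : L) := by
        have := (h2.map (algebraMap S R)).map (algebraMap R L)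
        rwa [map_ofNat, map_ofNat] at this
      exact h3.ne_zero
    have h4 : (2 : L) • v₂ = 0 := by
      rw [two_smul]
      have : v₂ = -v₂ := by
        have := add_left_cancel hv
        exact this.symm
      nth_rewrite 1 [this]
      rw [neg_add_cancel]
    have h5 : v₂ = 0 := (smul_eq_zero.mp h4).resolve_left h2L
    rw [h5, add_zero]
    exact hv₁

end Eigen

section Pres

variable {S : Type u} {R : Type v} [CommRing S] [CommRing R] [Algebra S R]
  {A : Type w} [Ring A] [Algebra S A] [Algebra R A] [IsScalarTower S R A]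
  (lam : R ≃ₐ[S] R) (t : AzInv.LamInv R A lam)
  {Z : Type u'} [CommRing Z] [Algebra R Z]
  (L : Type u'') [Field L] [Algebra R L] [Algebra Z L] [IsScalarTower R Z L]
  {n : ℕ} (θ : Z ⊗[R] A ≃ₐ[Z] Matrix (Fin n) (Fin n) Z)
  (τ : Z → Z) (hτ : ∀ z, algebraMap Z L (τ z) = algebraMap Z L z)
  (h : Matrix (Fin n) (Fin n) Z)
  (hθ : ∀ a : A, θ (1 ⊗ₜ[R] t a) * h = h * ((θ (1 ⊗ₜ[R] a)).map τ)ᵀ)
  (hL : ∀ r, algebraMap R L (lam r) = algebraMap R L r) (h2 : IsUnit (2 : S))
  [Module.Finite R A] (hdim : Module.finrank L (L ⊗[R] A) = n ^ 2)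

open Groth.Agent.H96.SymSkew

/-- The `R`-linear map `a ↦ θ (1 ⊗ a)` reduced to `L`. -/
noncomputable def rho : A →ₗ[R] Matrix (Fin n) (Fin n) L where
  toFun a := (θ (1 ⊗ₜ[R] a)).map (algebraMap Z L)
  map_add' a b := by
    rw [TensorProduct.tmul_add, map_add]
    ext i j
    simp
  map_smul' r a := by
    rw [RingHom.id_apply, TensorProduct.tmul_smul, ← algebraMap_smul Z r ((1 : Z) ⊗ₜ[R] a),
      map_smul]
    ext i j
    rw [Matrix.map_apply, Matrix.smul_apply, Matrix.smul_apply, Matrix.map_apply, smul_eq_mul,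
      map_mul, ← IsScalarTower.algebraMap_apply R Z L, Algebra.smul_def]

/-- The comparison map `L ⊗ A → M_n(L)`. -/
noncomputable def Theta : L ⊗[R] A →ₗ[L] Matrix (Fin n) (Fin n) L :=
  (rho L θ).liftBaseChange L

theorem Theta_tmul (c : L) (a : A) :
    Theta L θ (c ⊗ₜ[R] a) = c • (θ (1 ⊗ₜ[R] a)).map (algebraMap Z L) := by
  rw [Theta, LinearMap.liftBaseChange_tmul]
  rfl

theorem Theta_surjective : Function.Surjective (Theta L θ) := by
  have key : ∀ x : Z ⊗[R] A, (θ x).map (algebraMap Z L) ∈ LinearMap.range (Theta L θ) := by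
    intro x
    induction x using TensorProduct.induction_on with
    | zero =>
      rw [map_zero]
      have : (0 : Matrix (Fin n) (Fin n) Z).map (algebraMap Z L) = 0 := by
        ext i j; simp
      rw [this]
      exact Submodule.zero_mem _
    | tmul z a =>
      refine ⟨algebraMap Z L z ⊗ₜ[R] a, ?_⟩
      rw [Theta_tmul]
      have : z ⊗ₜ[R] a = z • ((1 : Z) ⊗ₜ[R] a) := by
        rw [TensorProduct.smul_tmul', smul_eq_mul, mul_one]
      rw [this, map_smul]
      ext i j
      rw [Matrix.smul_apply, Matrix.map_apply, Matrix.map_apply, Matrix.smul_apply, smul_eq_mul,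
        smul_eq_mul, map_mul]
    | add x y hx hy =>
      rw [map_add]
      have : (θ x + θ y).map (algebraMap Z L) =
          (θ x).map (algebraMap Z L) + (θ y).map (algebraMap Z L) := by
        ext i j; simp
      rw [this]
      exact Submodule.add_mem _ hx hy
  intro X
  have hX : X = ∑ i, ∑ j, X i j • Matrix.single i j (1 : L) := by
    exact Matrix.matrix_eq_sum_single X |>.trans (by
      refine Finset.sum_congr rfl fun i _ => Finset.sum_congr rfl fun j _ => ?_
      rw [Matrix.smul_single, smul_eq_mul, mul_one])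
  have hmem : X ∈ LinearMap.range (Theta L θ) := by
    rw [hX]
    refine Submodule.sum_mem _ fun i _ => Submodule.sum_mem _ fun j _ => Submodule.smul_mem _ _ ?_
    have h1 := key (θ.symm (Matrix.single i j (1 : Z)))
    rw [AlgEquiv.apply_symm_apply] at h1
    have h3 : (Matrix.single i j (1 : Z)).map (algebraMap Z L) = Matrix.single i j (1 : L) := by
      ext a b
      simp only [Matrix.map_apply, Matrix.single_apply]
      split_ifs <;> simp
    rw [h3] at h1
    exact h1
  exact hmem

include hdim in
theorem Theta_bijective : Function.Bijective (Theta L θ) := by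
  have hfr : Module.finrank L (L ⊗[R] A) = Module.finrank L (Matrix (Fin n) (Fin n) L) := by
    rw [hdim, Module.finrank_matrix, Module.finrank_self, Fintype.card_fin, mul_one, sq]
  exact ⟨(LinearMap.injective_iff_surjective_of_finrank_eq_finrank hfr).mpr
    (Theta_surjective L θ), Theta_surjective L θ⟩

include hτ hθ in
theorem Theta_T (v : L ⊗[R] A) :
    Theta L θ (T lam t L hL v) * h.map (algebraMap Z L) =
      h.map (algebraMap Z L) * (Theta L θ v)ᵀ := by
  induction v using TensorProduct.induction_on with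
  | zero => simp
  | tmul c a =>
    rw [T_tmul, Theta_tmul, Theta_tmul, Matrix.smul_mul, Matrix.transpose_smul, Matrix.mul_smul]
    congr 1
    have h1 : (θ (1 ⊗ₜ[R] t a) * h).map (algebraMap Z L) =
        (h * ((θ (1 ⊗ₜ[R] a)).map τ)ᵀ).map (algebraMap Z L) := by rw [hθ a]
    rw [Matrix.map_mul, Matrix.map_mul] at h1
    rw [h1]
    congr 1
    ext i j
    simp only [Matrix.map_apply, Matrix.transpose_apply, hτ]
  | add x y hx hy =>
    rw [map_add, map_add, Matrix.add_mul, hx, hy, map_add, Matrix.transpose_add, Matrix.mul_add]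

/-- The matrices `Y` with `Yᵀ = ε Y`. -/
def epsSub (ε : L) : Submodule L (Matrix (Fin n) (Fin n) L) where
  carrier := {Y | Yᵀ = ε • Y}
  add_mem' := by
    intro a b ha hb
    show (a + b)ᵀ = ε • (a + b)
    rw [Matrix.transpose_add, ha, hb, smul_add]
  zero_mem' := by
    show (0 : Matrix (Fin n) (Fin n) L)ᵀ = ε • 0
    rw [Matrix.transpose_zero, smul_zero]
  smul_mem' := by
    intro c a ha
    show (c • a)ᵀ = ε • (c • a)
    rw [Matrix.transpose_smul, ha, smul_comm]

include hτ hθ hdim h2 hL in
/-- The dimension of the span of the symmetric elements, from a presentation. -/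
theorem finrank_Psym_of_pres (ε : L) (hε : ε * ε = 1)
    (hi : Matrix (Fin n) (Fin n) L) (h1 : h.map (algebraMap Z L) * hi = 1)
    (h3 : hi * h.map (algebraMap Z L) = 1)
    (hε' : (h.map (algebraMap Z L))ᵀ = ε • h.map (algebraMap Z L)) :
    Module.finrank L (Psym lam t L) = Module.finrank L (epsSub L (n := n) ε) := by
  set hb := h.map (algebraMap Z L) with hhb
  let e₁ : L ⊗[R] A ≃ₗ[L] Matrix (Fin n) (Fin n) L :=
    LinearEquiv.ofBijective (Theta L θ) (Theta_bijective L θ hdim)
  let e₂ : Matrix (Fin n) (Fin n) L ≃ₗ[L] Matrix (Fin n) (Fin n) L :=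
    { toFun := fun X => X * hb
      invFun := fun X => X * hi
      map_add' := fun X Y => Matrix.add_mul X Y hb
      map_smul' := fun c X => Matrix.smul_mul c X hb
      left_inv := fun X => by
        show X * hb * hi = X
        rw [Matrix.mul_assoc, h1, Matrix.mul_one]
      right_inv := fun X => by
        show X * hi * hb = X
        rw [Matrix.mul_assoc, h3, Matrix.mul_one] }
  let E := e₁.trans e₂
  have hE : ∀ v, E v = Theta L θ v * hb := fun v => rfl
  have hhiT : hiᵀ = ε • hi := by
    have e1 : hbᵀ * hiᵀ = 1 := by rw [← Matrix.transpose_mul, h3, Matrix.transpose_one]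
    rw [hε'] at e1
    calc hiᵀ = (hi * hb) * hiᵀ := by rw [h3, Matrix.one_mul]
      _ = ε • (hi * ((ε • hb) * hiᵀ)) := by
          simp only [Matrix.smul_mul, Matrix.mul_smul, smul_smul, hε, one_smul, Matrix.mul_assoc]
      _ = ε • hi := by rw [e1, Matrix.mul_one]
  have hmap : (Psym lam t L).map E.toLinearMap = epsSub L (n := n) ε := by
    ext Y
    constructor
    · rintro ⟨v, hv, rfl⟩
      have hTv := (mem_Psym_iff lam t L hL h2 v).mp hv
      show (E v)ᵀ = ε • E v
      rw [hE]
      have := Theta_T lam t L θ τ hτ h hθ hL v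
      rw [hTv] at this
      rw [Matrix.transpose_mul, hε', Matrix.smul_mul, ← this]
    · intro hY
      have hY' : Yᵀ = ε • Y := hY
      refine ⟨E.symm Y, ?_, E.apply_symm_apply Y⟩
      rw [SetLike.mem_coe, mem_Psym_iff lam t L hL h2]
      apply E.injective
      rw [hE, hE]
      have hth : Theta L θ (E.symm Y) * hb = Y := by
        rw [← hE]
        exact E.apply_symm_apply Y
      have hth' : Theta L θ (E.symm Y) = Y * hi := by
        calc Theta L θ (E.symm Y) = Theta L θ (E.symm Y) * (hb * hi) := by
              rw [h1, Matrix.mul_one]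
          _ = (Theta L θ (E.symm Y) * hb) * hi := (Matrix.mul_assoc _ _ _).symm
          _ = Y * hi := by rw [hth]
      rw [Theta_T lam t L θ τ hτ h hθ hL, hth, hth', Matrix.transpose_mul, hhiT, hY']
      simp only [Matrix.smul_mul, Matrix.mul_smul, smul_smul, hε, one_smul]
      rw [← Matrix.mul_assoc, h1, Matrix.one_mul]
  rw [← hmap]
  exact (LinearEquiv.finrank_map_eq E (Psym lam t L)).symm

theorem epsSub_one : epsSub L (n := n) 1 = symSub L n := by
  ext Y
  show Yᵀ = (1 : L) • Y ↔ Yᵀ = Y
  rw [one_smul]

theorem epsSub_neg_one : epsSub L (n := n) (-1) = skewSub L n := by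
  ext Y
  show Yᵀ = (-1 : L) • Y ↔ Yᵀ = -Y
  rw [neg_smul, one_smul]

end Pres

end Groth.Agent.H96.SymDim
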