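import Mathlib
import Groth.Prelude.Def_AzInv
import Groth.Agent.H96.SymDim
import Groth.Agent.H96.RamPres
import Groth.Agent.H96.RamLocal
import Groth.Agent.H96.RamExist
import Groth.Agent.H96.OddExist
import Groth.Agent.S17356

/-!
# The dimension of the span of the symmetric elements at a ramified prime, from an etale local
presentation (helper96)
-/

set_option autoImplicit false
set_option linter.unusedSectionVars false
set_option linter.style.haveILetI false
universe u v w

open TensorProduct Matrix

namespace Groth.Agent.H96.SymDimPres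

open Groth.Agent.H96.SqrtRing Groth.Agent.H96.RamPres Groth.Agent.H96.RamExist
  Groth.Agent.H96.SymDim Groth.Agent.H96.SymSkew

section Main

attribute [local instance] Algebra.TensorProduct.rightAlgebra

variable (S : Type u) (R : Type v) [CommRing S] [CommRing R] [Algebra S R] (lam : R ≃ₐ[S] R)
  (hlam : ∀ r, lam (lam r) = r) (hfix : RInv.IsFixedRing S R lam.toRingEquiv)
  (h2 : IsUnit (2 : S))
  {A : Type w} [Ring A] [Algebra S A] [Algebra R A] [IsScalarTower S R A] [Module.Finite R A]
  [Module.Flat R A]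
  (n : ℕ) (hn : 0 < n) (t : AzInv.LamInv R A lam)

include hlam hfix h2 in
theorem finrank_sym_of_HPres (q : PrimeSpectrum R) (hq : ∀ r, lam r - r ∈ q.asIdeal)
    (hrkq : Module.rankAtStalk (R := R) A q = n ^ 2)
    (S'' : Type u) [CommRing S''] [Algebra S S''] [Module.Flat S S'']
    (hp : PrimeSpectrum.comap (algebraMap S R) q ∈
      Set.range (PrimeSpectrum.comap (algebraMap S S'')))
    (W Wi : Matrix (Fin n) (Fin n) R) (hW1 : W * Wi = 1) (hW2 : Wi * W = 1) (εR : R)
    (hεR : εR * εR = 1) (hWt : Wᵀ = εR • W)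
    (H : HPres S lam t S'' (W.map (Algebra.TensorProduct.includeRight : R →ₐ[S] S'' ⊗[S] R))) :
    ∃ (L : Type (max u v)) (_ : Field L) (ε : L), (2 : L) ≠ 0 ∧
      (εR = 1 → ε = 1) ∧ (εR = -1 → ε = -1) ∧
      Module.finrank q.asIdeal.ResidueField
        (Submodule.span q.asIdeal.ResidueField
          (Set.range fun a : {a : A // t a = a} => (1 : q.asIdeal.ResidueField) ⊗ₜ[R] (a : A))) =
      Module.finrank L (epsSub L (n := n) ε) := by
  classical
  obtain ⟨θ, hθ⟩ := H
  obtain ⟨p, hpdef⟩ : ∃ p : PrimeSpectrum S, p = PrimeSpectrum.comap (algebraMap S R) q := ⟨_, rfl⟩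
  rw [← hpdef] at hp
  obtain ⟨p'', hp''⟩ := hp
  have hqp : q.asIdeal.comap (algebraMap S R) = p.asIdeal := by rw [hpdef]; rfl
  -- ramification at all primes over `p`
  have hramall : ∀ (r : R) (q₂ : Ideal R), q₂.IsPrime →
      q₂.comap (algebraMap S R) = p.asIdeal → r - lam r ∈ q₂ := by
    intro r q₂ hq₂ hq₂p
    obtain ⟨m, hm⟩ := (hfix.2 ((r - lam r) * (r - lam r))).mp (by
      show lam ((r - lam r) * (r - lam r)) = (r - lam r) * (r - lam r)
      rw [map_mul, map_sub, hlam]
      ring)
    have h1 : r - lam r ∈ q.asIdeal := by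
      have := q.asIdeal.neg_mem (hq r)
      rwa [neg_sub] at this
    have hmp : m ∈ p.asIdeal := by
      rw [← hqp]
      show algebraMap S R m ∈ q.asIdeal
      rw [hm]
      exact Ideal.mul_mem_left _ _ h1
    have h2' : algebraMap S R m ∈ q₂ := by
      have : m ∈ q₂.comap (algebraMap S R) := by rw [hq₂p]; exact hmp
      exact this
    rw [hm] at h2'
    rcases hq₂.mem_or_mem h2' with h | h <;> exact h
  -- the ring with involution `(S'', Z)`
  have hfix' : RInv.IsFixedRing S'' (S'' ⊗[S] R) (lamBC lam S'').toRingEquiv := by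
    have h := Groth.Agent.H77.isFixedRing_baseChange lam.toRingEquiv S'' hfix
    refine ⟨h.1, fun z => ?_⟩
    rw [← h.2 z, RamLocal.lamT_eq]
    show lamBC lam S'' z = z ↔ _
    rw [← tauD_eq]
  have hlam' : ∀ z, lamBC lam S'' (lamBC lam S'' z) = z := by
    intro z
    rw [← tauD_eq, ← tauD_eq, RamLocal.tauD_invol lam hlam]
  haveI hint : Algebra.IsIntegral S'' (S'' ⊗[S] R) :=
    Groth.Agent.S17356.isIntegral S'' (S'' ⊗[S] R) (lamBC lam S'') hlam' hfix'
  obtain ⟨Q, -, hQ, hQp⟩ := Ideal.exists_ideal_over_prime_of_isIntegral p''.asIdeal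
    (⊥ : Ideal (S'' ⊗[S] R)) (by
      intro x hx
      have h0 : algebraMap S'' (S'' ⊗[S] R) x = 0 := hx
      have : x = 0 := hfix'.1 (by rw [h0, map_zero])
      rw [this]
      exact p''.asIdeal.zero_mem)
  haveI := hQ
  have hramZ := OddExist.ram_baseChange lam p.asIdeal hramall S'' p''.asIdeal
    (congrArg PrimeSpectrum.asIdeal hp'')
  have hQτ : ∀ z, z - tauD R lam S'' z ∈ Q := by
    intro z
    rw [tauD_eq]
    exact hramZ z Q hQ hQp
  -- the prime of `R` under `Q`
  set ιR : R →+* S'' ⊗[S] R := algebraMap R (S'' ⊗[S] R) with hιR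
  have hιRapp : ∀ r, ιR r = (1 : S'') ⊗ₜ[S] r := fun r => rfl
  have hQS : ∀ s : S, ιR (algebraMap S R s) ∈ Q ↔ s ∈ p.asIdeal := by
    intro s
    have e1 : ιR (algebraMap S R s) = algebraMap S'' (S'' ⊗[S] R) (algebraMap S S'' s) := by
      rw [hιRapp, Algebra.TensorProduct.algebraMap_apply, Algebra.algebraMap_self,
        RingHom.id_apply, Algebra.algebraMap_eq_smul_one, Algebra.algebraMap_eq_smul_one,
        TensorProduct.smul_tmul]
    rw [e1, ← Ideal.mem_comap, hQp, ← hp'']
    rfl
  have hq₀ : ∀ x : R, ιR x ∈ Q ↔ x ∈ q.asIdeal := by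
    intro x
    obtain ⟨s, hs⟩ := (hfix.2 (x * lam x)).mp (by
      show lam (x * lam x) = x * lam x
      rw [map_mul, hlam, mul_comm])
    have hq₀prime : (Q.comap ιR).IsPrime := Ideal.comap_isPrime _ _
    have hq₀S : (Q.comap ιR).comap (algebraMap S R) = p.asIdeal := by
      ext s'
      rw [Ideal.mem_comap, Ideal.mem_comap, hQS]
    constructor
    · intro hx
      have h1 : ιR (algebraMap S R s) ∈ Q := by
        rw [hs, map_mul]
        exact Ideal.mul_mem_right _ _ hx
      have h3 : s ∈ p.asIdeal := (hQS s).mp h1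
      have h4 : algebraMap S R s ∈ q.asIdeal := by
        have : s ∈ q.asIdeal.comap (algebraMap S R) := by rw [hqp]; exact h3
        exact this
      rw [hs] at h4
      rcases q.isPrime.mem_or_mem h4 with h | h
      · exact h
      · have : x = lam x - (lam x - x) := by ring
        rw [this]
        exact Ideal.sub_mem _ h (hq x)
    · intro hx
      have h4 : algebraMap S R s ∈ q.asIdeal := by
        rw [hs]
        exact Ideal.mul_mem_right _ _ hx
      have h3 : s ∈ p.asIdeal := by
        rw [← hqp]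
        exact h4
      have h1 : ιR (algebraMap S R s) ∈ Q := (hQS s).mpr h3
      rw [hs, map_mul] at h1
      rcases hQ.mem_or_mem h1 with h | h
      · exact h
      · have h5 : x - lam x ∈ Q.comap ιR := hramall x (Q.comap ιR) hq₀prime hq₀S
        have : ιR x = ιR (x - lam x) + ιR (lam x) := by rw [← map_add]; congr 1; ring
        rw [this]
        exact Ideal.add_mem _ h5 h
  -- the field `L`
  have hRL : ∀ r, algebraMap R Q.ResidueField r = algebraMap (S'' ⊗[S] R) Q.ResidueField (ιR r) :=
    fun r => IsScalarTower.algebraMap_apply R (S'' ⊗[S] R) Q.ResidueField r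
  have hker : ∀ r, algebraMap R Q.ResidueField r = 0 ↔ r ∈ q.asIdeal := by
    intro r
    rw [hRL, Ideal.algebraMap_residueField_eq_zero, hq₀]
  let ψ : q.asIdeal.ResidueField →+* Q.ResidueField :=
    Ideal.ResidueField.lift q.asIdeal (algebraMap R Q.ResidueField)
      (fun r hr => (hker r).mpr hr)
      (fun r hr => by
        show IsUnit (algebraMap R Q.ResidueField r)
        exact IsUnit.mk0 _ (fun h0 => hr ((hker r).mp h0)))
  have hψ : ∀ r, ψ (algebraMap R q.asIdeal.ResidueField r) = algebraMap R Q.ResidueField r :=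
    fun r => Ideal.ResidueField.lift_algebraMap _ _ _ _ r
  have hK : ∀ r, algebraMap R q.asIdeal.ResidueField (lam r) =
      algebraMap R q.asIdeal.ResidueField r := by
    intro r
    rw [← sub_eq_zero, ← map_sub, Ideal.algebraMap_residueField_eq_zero]
    exact hq r
  have hL : ∀ r, algebraMap R Q.ResidueField (lam r) = algebraMap R Q.ResidueField r := by
    intro r
    rw [← hψ, ← hψ, hK]
  have hτ : ∀ z, algebraMap (S'' ⊗[S] R) Q.ResidueField (tauD R lam S'' z) =
      algebraMap (S'' ⊗[S] R) Q.ResidueField z := by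
    intro z
    symm
    rw [← sub_eq_zero, ← map_sub, Ideal.algebraMap_residueField_eq_zero]
    exact hQτ z
  have hdimK : Module.finrank q.asIdeal.ResidueField (q.asIdeal.ResidueField ⊗[R] A) = n ^ 2 := by
    rw [← hrkq, Module.rankAtStalk_eq]
  have hdim : Module.finrank Q.ResidueField (Q.ResidueField ⊗[R] A) = n ^ 2 := by
    rw [← hdimK]
    letI : Algebra q.asIdeal.ResidueField Q.ResidueField := ψ.toAlgebra
    haveI : IsScalarTower R q.asIdeal.ResidueField Q.ResidueField :=
      IsScalarTower.of_algebraMap_eq (fun r => (hψ r).symm)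
    rw [← (TensorProduct.AlgebraTensorModule.cancelBaseChange R q.asIdeal.ResidueField
      Q.ResidueField Q.ResidueField A).finrank_eq, Module.finrank_baseChange]
  set φ := algebraMap (S'' ⊗[S] R) Q.ResidueField with hφ
  have hmapW : ∀ M : Matrix (Fin n) (Fin n) R,
      (M.map (Algebra.TensorProduct.includeRight : R →ₐ[S] S'' ⊗[S] R)).map φ =
        M.map (algebraMap R Q.ResidueField) := by
    intro M
    ext i j
    simp only [Matrix.map_apply]
    exact (hRL _).symm
  have h2L : (2 : Q.ResidueField) ≠ 0 := by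
    have h3 : IsUnit (2 : Q.ResidueField) := by
      have := (h2.map (algebraMap S R)).map (algebraMap R Q.ResidueField)
      rwa [map_ofNat, map_ofNat] at this
    exact h3.ne_zero
  have hone : (1 : Matrix (Fin n) (Fin n) R).map (algebraMap R Q.ResidueField) = 1 :=
    ((algebraMap R Q.ResidueField).mapMatrix).map_one
  have key := finrank_Psym_of_pres lam t Q.ResidueField θ (tauD R lam S'') hτ
    (W.map (Algebra.TensorProduct.includeRight : R →ₐ[S] S'' ⊗[S] R)) hθ hL h2 hdim
    (algebraMap R Q.ResidueField εR) (by rw [← map_mul, hεR, map_one])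
    (Wi.map (algebraMap R Q.ResidueField))
    (by rw [hmapW, ← Matrix.map_mul, hW1, hone])
    (by rw [hmapW, ← Matrix.map_mul, hW2, hone])
    (by
      rw [hmapW, ← Matrix.transpose_map, hWt]
      ext i j
      rw [Matrix.map_apply, Matrix.smul_apply, Matrix.smul_apply, Matrix.map_apply, smul_eq_mul,
        smul_eq_mul, map_mul])
  refine ⟨Q.ResidueField, inferInstance, algebraMap R Q.ResidueField εR, h2L, ?_, ?_, ?_⟩
  · intro h; rw [h, map_one]
  · intro h; rw [h, map_neg, map_one]
  · rw [← key]
    exact (finrank_Psym_eq lam t q.asIdeal.ResidueField Q.ResidueField ψ hψ hK h2).symm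

end Main

end Groth.Agent.H96.SymDimPres
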