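import Mathlib
import Groth.Prelude.Def_AzInv
import Groth.Agent.H96.MixExist
import Groth.Agent.H96.MixTypeMain
import Groth.Agent.H96.MatChain

/-!
# The standard symplectic involution on `M_{2k}(R)` as the matrix involution over `(M_2(R), σ₂)`
(helper96)
-/

set_option autoImplicit false
set_option linter.unusedSectionVars false
set_option linter.style.haveILetI false
universe u v

open TensorProduct Matrix

namespace Groth.Agent.H96.SympStd

open Groth.Agent.H96.MixExist Groth.Agent.H96.MixTypeMain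

variable {S : Type u} {R : Type v} [CommRing S] [CommRing R] [Algebra S R] (lam : R ≃ₐ[S] R)
  (hlam : ∀ r, lam (lam r) = r)

theorem J2_neg_mul : -(!![0, 1; -1, 0] : Matrix (Fin 2) (Fin 2) R) * !![0, 1; -1, 0] = 1 := by
  have := J2_mul_neg R
  rw [Matrix.mul_neg] at this
  rw [Matrix.neg_mul]
  exact this

/-- The unit `J₂`. -/
def w2 : (Matrix (Fin 2) (Fin 2) R)ˣ :=
  ⟨!![0, 1; -1, 0], -!![0, 1; -1, 0], J2_mul_neg R, J2_neg_mul⟩

theorem hw2 : AzInv.LamInv.transpose lam (Fin 2) hlam (↑(w2 (R := R)) : Matrix (Fin 2) (Fin 2) R) =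
    (-1 : R) • (↑(w2 (R := R)) : Matrix (Fin 2) (Fin 2) R) := by
  ext i j
  fin_cases i <;> fin_cases j <;> simp [w2]

theorem he2 : lam (-1) * (-1) = 1 := by rw [map_neg, map_one]; ring

/-- The standard symplectic involution on `M_2(R)`. -/
noncomputable def sigma2 : AzInv.LamInv R (Matrix (Fin 2) (Fin 2) R) lam :=
  (AzInv.LamInv.transpose lam (Fin 2) hlam).conj w2 (-1) (hw2 lam hlam) (he2 lam)

variable {n : ℕ} (k : ℕ) (hk : n = 2 * k)

/-- The unit `Jn`. -/
def wJ : (Matrix (Fin n) (Fin n) R)ˣ :=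
  ⟨Jn R k hk, -(Jn R k hk), Jn_mul_neg R k hk, Jn_neg_mul R k hk⟩

theorem hwJ : AzInv.LamInv.transpose lam (Fin n) hlam (↑(wJ (R := R) k hk) : Matrix (Fin n) (Fin n) R) =
    (-1 : R) • (↑(wJ (R := R) k hk) : Matrix (Fin n) (Fin n) R) := by
  ext i j
  show lam (Jn R k hk j i) = ((-1 : R) • Jn R k hk) i j
  have h1 : lam (Jn R k hk j i) = Jn R k hk j i :=
    congrFun (congrFun (Jn_map lam.toRingEquiv.toRingHom k hk) j) i
  have h3 : Jn R k hk j i = -Jn R k hk i j :=
    congrFun (congrFun (Jn_transpose R k hk) i) j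
  rw [h1, h3, Matrix.smul_apply, smul_eq_mul, neg_one_mul]

/-- The standard symplectic involution on `M_n(R)`, `n = 2 k`. -/
noncomputable def tauJ : AzInv.LamInv R (Matrix (Fin n) (Fin n) R) lam :=
  (AzInv.LamInv.transpose lam (Fin n) hlam).conj (wJ k hk) (-1) (hwJ lam hlam k hk) (he2 lam)

/-- The index equivalence. -/
def e' : Fin n ≃ Fin k × Fin 2 := (e₀ k hk).symm.trans (Equiv.prodComm (Fin 2) (Fin k))

/-- The global isomorphism `M_n(R) ≃ M_k(M_2(R))`. -/
noncomputable def gJ : Matrix (Fin n) (Fin n) R ≃ₐ[R] Matrix (Fin k) (Fin k) (Matrix (Fin 2) (Fin 2) R) :=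
  (Matrix.reindexAlgEquiv R R (e' k hk)).trans (Matrix.compAlgEquiv (Fin k) (Fin 2) R R).symm

theorem gJ_apply (X : Matrix (Fin n) (Fin n) R) (i j : Fin k) (a b : Fin 2) :
    gJ k hk X i j a b = X (e₀ k hk (a, i)) (e₀ k hk (b, j)) := rfl

theorem gJ_Jn : gJ k hk (Jn R k hk) = Matrix.diagonal fun _ => (!![0, 1; -1, 0] : Matrix (Fin 2) (Fin 2) R) := by
  ext i j a b
  rw [gJ_apply]
  simp only [Jn, Matrix.submatrix_apply, Equiv.symm_apply_apply, Matrix.blockDiagonal_apply,
    Matrix.diagonal_apply]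
  split_ifs <;> rfl

theorem gJ_compat (X : Matrix (Fin n) (Fin n) R) :
    gJ k hk (tauJ lam hlam k hk X) = (sigma2 lam hlam).matrix (Fin k) (gJ k hk X) := by
  have hB : gJ k hk (AzInv.LamInv.transpose lam (Fin n) hlam X) =
      (AzInv.LamInv.transpose lam (Fin 2) hlam).matrix (Fin k) (gJ k hk X) := by
    ext i j a b
    rfl
  have hneg : gJ k hk (-(Jn R k hk)) =
      Matrix.diagonal fun _ => -(!![0, 1; -1, 0] : Matrix (Fin 2) (Fin 2) R) := by
    rw [map_neg, gJ_Jn]
    ext i j a b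
    simp only [Matrix.neg_apply, Matrix.diagonal_apply]
    split_ifs <;> simp
  show gJ k hk (Jn R k hk * AzInv.LamInv.transpose lam (Fin n) hlam X * -(Jn R k hk)) = _
  rw [map_mul, map_mul, gJ_Jn, hneg, hB]
  ext i j : 1
  rw [Matrix.mul_diagonal, Matrix.diagonal_mul]
  rfl

/-- The standard symplectic algebra as a matrix algebra over `(M_2(R), σ₂)`. -/
theorem iso_std (T : Type u) [CommRing T] [Algebra S T] :
    LocIsoFamily.Iso lam (tauJ lam hlam k hk) ((sigma2 lam hlam).matrix (Fin k)) T :=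
  MatChain.Iso.of_algEquiv lam _ _ (gJ k hk) (gJ_compat lam hlam k hk) T

end Groth.Agent.H96.SympStd
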