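import Mathlib.RingTheory.WittVector.Truncated
import Mathlib.RingTheory.WittVector.Identities
import Mathlib.RingTheory.Ideal.Quotient.Operations
import Groth.Prelude.Def_WittGrp

/-!
# Truncated Witt vectors in characteristic `p`: shift, Frobenius, and the quotient of `W_{m+1}(R)`
attached to a quasi-`F`-splitting of level `m`
-/

set_option autoImplicit false
universe u

namespace Groth.Agent.H96.TruncV

open WittGrp

variable {p : ℕ} [hp : Fact p.Prime] {R : Type u} [CommRing R]

/-- zeroth coefficient, as a ring homomorphism `W_n(R) → R` (`n > 0`) -/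
noncomputable def c0 (n : ℕ) (hn : 0 < n) : TruncatedWittVector p n R →+* R where
  toFun x := x.coeff ⟨0, hn⟩
  map_one' := by
    rw [← map_one (WittVector.truncate (p := p) (R := R) n), WittVector.coeff_truncate]
    exact WittVector.one_coeff_zero p R
  map_zero' := by
    rw [← map_zero (WittVector.truncate (p := p) (R := R) n), WittVector.coeff_truncate]
    exact WittVector.zero_coeff p R 0
  map_mul' x y := by
    obtain ⟨X, rfl⟩ := WittVector.truncate_surjective p n R x
    obtain ⟨Y, rfl⟩ := WittVector.truncate_surjective p n R y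
    rw [← map_mul, WittVector.coeff_truncate, WittVector.coeff_truncate,
      WittVector.coeff_truncate]
    exact WittVector.mul_coeff_zero X Y
  map_add' x y := by
    obtain ⟨X, rfl⟩ := WittVector.truncate_surjective p n R x
    obtain ⟨Y, rfl⟩ := WittVector.truncate_surjective p n R y
    rw [← map_add, WittVector.coeff_truncate, WittVector.coeff_truncate,
      WittVector.coeff_truncate]
    exact WittVector.add_coeff_zero X Y

theorem c0_apply (n : ℕ) (hn : 0 < n) (x : TruncatedWittVector p n R) :
    c0 n hn x = x.coeff ⟨0, hn⟩ := rfl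

variable (m : ℕ)

theorem coeff_shift_succ (x : TruncatedWittVector p m R) (i : Fin m) :
    (shift p (Nat.le_succ m) x).coeff i.succ = x.coeff i := by
  rw [coeff_shift, dif_pos (by rw [Fin.val_succ]; omega)]
  congr 1
  apply Fin.ext
  simp only [Fin.val_succ]
  omega

theorem coeff_shift_zero (x : TruncatedWittVector p m R) :
    (shift p (Nat.le_succ m) x).coeff 0 = 0 := by
  rw [coeff_shift, dif_neg (by rw [Fin.val_zero]; omega)]

theorem shift_injective :
    Function.Injective (shift p (Nat.le_succ m) :
      TruncatedWittVector p m R → TruncatedWittVector p (m + 1) R) := by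
  intro x x' h
  refine TruncatedWittVector.ext fun i => ?_
  rw [← coeff_shift_succ m x i, ← coeff_shift_succ m x' i, h]

theorem exists_shift_of_coeff_zero (w : TruncatedWittVector p (m + 1) R) (h : w.coeff 0 = 0) :
    ∃ x : TruncatedWittVector p m R, w = shift p (Nat.le_succ m) x := by
  refine ⟨TruncatedWittVector.mk p fun i => w.coeff i.succ, ?_⟩
  refine TruncatedWittVector.ext fun j => ?_
  refine Fin.cases ?_ (fun i => ?_) j
  · rw [h, coeff_shift_zero]
  · rw [coeff_shift_succ, TruncatedWittVector.coeff_mk]

variable (hpR : (p : R) = 0)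

theorem mul_shift (y : TruncatedWittVector p (m + 1) R) (x : TruncatedWittVector p m R) :
    y * shift p (Nat.le_succ m) x = shift p (Nat.le_succ m)
      (frob p m hpR (TruncatedWittVector.truncate (Nat.le_succ m) y) * x) := by
  rcases subsingleton_or_nontrivial R with hR | hR
  · exact TruncatedWittVector.ext fun i => Subsingleton.elim _ _
  · have hchar : CharP R p := (CharP.charP_iff_prime_eq_zero (Fact.out : p.Prime)).mpr hpR
    obtain ⟨Y, rfl⟩ := WittVector.truncate_surjective p (m + 1) R y
    obtain ⟨X, rfl⟩ := WittVector.truncate_surjective p m R x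
    rw [TruncatedWittVector.truncate_wittVector_truncate, frob_truncate, ← map_mul,
      shift_truncate, shift_truncate, ← map_mul]
    have e : m + 1 - m = 1 := by omega
    rw [e, Function.iterate_one, mul_comm (WittVector.frobenius Y) X,
      WittVector.verschiebung_mul_frobenius, mul_comm]

theorem p_mul (y : TruncatedWittVector p (m + 1) R) :
    (p : TruncatedWittVector p (m + 1) R) * y = shift p (Nat.le_succ m)
      (frob p m hpR (TruncatedWittVector.truncate (Nat.le_succ m) y)) := by
  rcases subsingleton_or_nontrivial R with hR | hR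
  · exact TruncatedWittVector.ext fun i => Subsingleton.elim _ _
  · have hchar : CharP R p := (CharP.charP_iff_prime_eq_zero (Fact.out : p.Prime)).mpr hpR
    obtain ⟨Y, rfl⟩ := WittVector.truncate_surjective p (m + 1) R y
    rw [TruncatedWittVector.truncate_wittVector_truncate, frob_truncate, shift_truncate,
      ← map_natCast (WittVector.truncate (p := p) (R := R) (m + 1)), ← map_mul]
    have e : m + 1 - m = 1 := by omega
    rw [e, Function.iterate_one, WittVector.verschiebung_frobenius, mul_comm]

section QuasiF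

variable (hm : 0 < m) (σ : TruncatedWittVector p m R →+ R) (h1 : σ 1 = 1)
  (hF : ∀ x y : TruncatedWittVector p m R, σ (frob p m hpR x * y) = x.coeff ⟨0, hm⟩ * σ y)
  (I : Ideal (TruncatedWittVector p (m + 1) R))
  (hI : I = Ideal.span (shift p (Nat.le_succ m) '' {x : TruncatedWittVector p m R | σ x = 0}))

include hF hI in
theorem mem_I (y : TruncatedWittVector p (m + 1) R) (hy : y ∈ I) :
    ∃ x : TruncatedWittVector p m R, σ x = 0 ∧ y = shift p (Nat.le_succ m) x := by
  subst hI
  induction hy using Submodule.span_induction with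
  | mem y hy => obtain ⟨x, hx, rfl⟩ := hy; exact ⟨x, hx, rfl⟩
  | zero => exact ⟨0, map_zero σ, (map_zero _).symm⟩
  | add a b _ _ ha hb =>
    obtain ⟨x, hx, rfl⟩ := ha
    obtain ⟨x', hx', rfl⟩ := hb
    exact ⟨x + x', by rw [map_add, hx, hx', add_zero], (map_add _ x x').symm⟩
  | smul a b _ hb =>
    obtain ⟨x, hx, rfl⟩ := hb
    exact ⟨frob p m hpR (TruncatedWittVector.truncate (Nat.le_succ m) a) * x,
      by rw [hF, hx, mul_zero], by rw [smul_eq_mul, mul_shift m hpR]⟩

include hI in
theorem shift_mem_I (x : TruncatedWittVector p m R) (hx : σ x = 0) :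
    shift p (Nat.le_succ m) x ∈ I := by
  subst hI
  exact Ideal.subset_span ⟨x, hx, rfl⟩

include h1 hF in
theorem sigma_frob (x : TruncatedWittVector p m R) : σ (frob p m hpR x) = x.coeff ⟨0, hm⟩ := by
  have := hF x 1
  rwa [mul_one, h1, mul_one] at this

include h1 hF hI in
theorem mk_mem_span_p_iff (w : TruncatedWittVector p (m + 1) R) :
    Ideal.Quotient.mk I w ∈ Ideal.span ({(p : TruncatedWittVector p (m + 1) R ⧸ I)} : Set _) ↔
      w.coeff 0 = 0 := by
  have hpQ : (p : TruncatedWittVector p (m + 1) R ⧸ I) =
      Ideal.Quotient.mk I (p : TruncatedWittVector p (m + 1) R) := (map_natCast _ p).symm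
  rw [Ideal.mem_span_singleton']
  constructor
  · rintro ⟨q, hq⟩
    obtain ⟨u, rfl⟩ := Ideal.Quotient.mk_surjective q
    rw [hpQ, ← map_mul, Ideal.Quotient.eq] at hq
    obtain ⟨x, -, hx⟩ := mem_I m hpR hm σ hF I hI _ hq
    have hw : w = u * (p : TruncatedWittVector p (m + 1) R) - shift p (Nat.le_succ m) x := by
      rw [← hx]; ring
    have h2 := congrArg (c0 (m + 1) (Nat.succ_pos m)) hw
    rw [map_sub, map_mul, map_natCast, hpR, mul_zero, zero_sub] at h2
    have h3 : c0 (m + 1) (Nat.succ_pos m) (shift p (Nat.le_succ m) x) = 0 :=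
      coeff_shift_zero m x
    rw [h3, neg_zero] at h2
    exact h2
  · intro hw
    obtain ⟨x, rfl⟩ := exists_shift_of_coeff_zero m w hw
    let yt : TruncatedWittVector p (m + 1) R :=
      TruncatedWittVector.mk p fun i => if (i : ℕ) = 0 then σ x else 0
    have hyt0 : (TruncatedWittVector.truncate (Nat.le_succ m) yt).coeff ⟨0, hm⟩ = σ x := by
      rw [TruncatedWittVector.coeff_truncate, TruncatedWittVector.coeff_mk]
      simp
    refine ⟨Ideal.Quotient.mk I yt, ?_⟩
    rw [hpQ, ← map_mul, Ideal.Quotient.eq, mul_comm, p_mul m hpR, ← map_sub]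
    apply shift_mem_I m σ I hI
    rw [map_sub, sigma_frob m hpR hm σ h1 hF, hyt0, sub_self]

include h1 hF hI in
theorem p_mul_eq_zero_iff (q : TruncatedWittVector p (m + 1) R ⧸ I) :
    (p : TruncatedWittVector p (m + 1) R ⧸ I) * q = 0 ↔
      q ∈ Ideal.span ({(p : TruncatedWittVector p (m + 1) R ⧸ I)} : Set _) := by
  have hpQ : (p : TruncatedWittVector p (m + 1) R ⧸ I) =
      Ideal.Quotient.mk I (p : TruncatedWittVector p (m + 1) R) := (map_natCast _ p).symm
  constructor
  · intro hq
    obtain ⟨w, rfl⟩ := Ideal.Quotient.mk_surjective q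
    rw [hpQ, ← map_mul, Ideal.Quotient.eq_zero_iff_mem, p_mul m hpR] at hq
    obtain ⟨x, hx, hxe⟩ := mem_I m hpR hm σ hF I hI _ hq
    have hFx : frob p m hpR (TruncatedWittVector.truncate (Nat.le_succ m) w) = x :=
      shift_injective m hxe
    have h2 := sigma_frob m hpR hm σ h1 hF (TruncatedWittVector.truncate (Nat.le_succ m) w)
    rw [hFx, hx, TruncatedWittVector.coeff_truncate] at h2
    exact (mk_mem_span_p_iff m hpR hm σ h1 hF I hI w).2 h2.symm
  · intro hq
    obtain ⟨q', rfl⟩ := Ideal.mem_span_singleton'.1 hq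
    have hpp : (p : TruncatedWittVector p (m + 1) R ⧸ I) * p = 0 := by
      rw [hpQ, ← map_mul, Ideal.Quotient.eq_zero_iff_mem, p_mul m hpR, map_natCast, map_natCast]
      apply shift_mem_I m σ I hI
      have h2 := sigma_frob m hpR hm σ h1 hF (p : TruncatedWittVector p m R)
      rw [map_natCast] at h2
      rw [h2]
      have h3 : (p : TruncatedWittVector p m R).coeff ⟨0, hm⟩ =
          c0 m hm (p : TruncatedWittVector p m R) := rfl
      rw [h3, map_natCast, hpR]
    rw [mul_comm q', ← mul_assoc, hpp, zero_mul]

end QuasiF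

end Groth.Agent.H96.TruncV
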