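import Mathlib
import Groth.Prelude.Def_GrTwist

set_option autoImplicit false
universe u
open CategoryTheory CategoryTheory.Limits AlgebraicGeometry Opposite TopologicalSpace
open scoped HomogeneousIdeal

namespace Groth.Agent.H96.TwAdj_L1a

open HomogeneousLocalization

section Away

variable {R A : Type u} [CommRing R] [CommRing A] [Algebra R A] (𝒜 : ℕ → Submodule R A)
  [GradedAlgebra 𝒜] {B : Type u} [CommRing B] [Algebra R B] (ℬ : ℕ → Submodule R B) [GradedAlgebra ℬ]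
  (ψ : 𝒜 →+*ᵍ ℬ) (g : A) (hg : g ∈ 𝒜 0) [Algebra A B] (hψA : ∀ a : A, ψ a = algebraMap A B a)
  [IsLocalization.Away g B]
  (hdeg : ∀ (n : ℕ) (b : B), b ∈ ℬ n ↔ ∃ (k : ℕ) (a : A), a ∈ 𝒜 n ∧ ψ g ^ k * b = ψ a)
  (hψ : HomogeneousIdeal.irrelevant ℬ ≤ (HomogeneousIdeal.irrelevant 𝒜).map ψ)

/-- the element `g / 1` of `A_(f)` -/
noncomputable def gElem {d : ℕ} {f : A} (hf : f ∈ 𝒜 d) (hg : g ∈ 𝒜 0) : Away 𝒜 f :=
  Away.mk 𝒜 hf 0 g (by rw [zero_smul]; exact hg)

include hg hψA hdeg in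
/-- chartwise, `A_(f) → B_(ψ f)` is the localisation at `g / 1`. -/
theorem isLocalization_awayMap {d : ℕ} {f : A} (hf : f ∈ 𝒜 d) :
    letI := (Away.map ψ f).toAlgebra
    IsLocalization.Away (gElem 𝒜 g hf hg) (Away ℬ (ψ f)) := by
  letI := (Away.map ψ f).toAlgebra
  have hψf : ψ f ∈ ℬ d := ψ.map_mem hf
  -- the inverse of `ψ g`
  have hu1 : ψ g * IsLocalization.Away.invSelf (S := B) g = 1 := by
    rw [hψA]; exact IsLocalization.Away.mul_invSelf g
  have hu0 : IsLocalization.Away.invSelf (S := B) g ∈ ℬ 0 :=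
    (hdeg 0 _).2 ⟨1, 1, SetLike.GradedOne.one_mem, by rw [pow_one, hu1, map_one]⟩
  rw [IsLocalization.Away, isLocalization_iff]
  refine ⟨?_, ?_, ?_⟩
  · rintro ⟨r, n, rfl⟩
    rw [map_pow, RingHom.algebraMap_toAlgebra]
    let z : Away ℬ (ψ f) := Away.mk ℬ hψf 0 (IsLocalization.Away.invSelf (S := B) g)
      (by rw [zero_smul]; exact hu0)
    refine (isUnit_iff_exists_inv.mpr ⟨z, ?_⟩).pow _
    ext
    simp only [gElem, Away.map_mk, val_mul, val_one, Away.val_mk, z, Localization.mk_mul]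
    rw [← Localization.mk_one, Localization.mk_eq_mk_iff, Localization.r_iff_exists]
    use 1
    simp only [OneMemClass.coe_one, one_mul, Submonoid.coe_mul, mul_one, hu1]
    ring
  · intro z
    obtain ⟨n, b, hb, rfl⟩ := Away.mk_surjective ℬ hψf z
    obtain ⟨m, a, ha, hga⟩ := (hdeg _ b).1 hb
    refine ⟨⟨Away.mk 𝒜 hf n a ha, ⟨_, ⟨m, rfl⟩⟩⟩, ?_⟩
    ext
    simp only [RingHom.algebraMap_toAlgebra, map_pow, gElem, Away.map_mk, val_mul, Away.val_mk,
      val_pow, Localization.mk_pow, Localization.mk_mul]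
    rw [Localization.mk_eq_mk_iff, Localization.r_iff_exists]
    refine ⟨1, ?_⟩
    simp only [OneMemClass.coe_one, one_mul, Submonoid.coe_mul, SubmonoidClass.coe_pow, pow_zero,
      one_pow, mul_one]
    rw [← hga]; ring
  · intro x y e
    obtain ⟨n, a, ha, rfl⟩ := Away.mk_surjective 𝒜 hf x
    obtain ⟨m, b, hb, rfl⟩ := Away.mk_surjective 𝒜 hf y
    replace e := congr_arg val e
    simp only [RingHom.algebraMap_toAlgebra, Away.map_mk, Away.val_mk,
      Localization.mk_eq_mk_iff, Localization.r_iff_exists] at e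
    obtain ⟨⟨_, k, rfl⟩, hc⟩ := e
    have hc' : algebraMap A B (f ^ k * (f ^ m * a)) = algebraMap A B (f ^ k * (f ^ n * b)) := by
      simp only [← hψA, map_mul, map_pow]
      exact hc
    obtain ⟨⟨_, l, rfl⟩, hl⟩ := IsLocalization.exists_of_eq (M := Submonoid.powers g) hc'
    refine ⟨⟨_, l, rfl⟩, ?_⟩
    ext
    simp only [gElem, val_mul, val_pow, Away.val_mk, Localization.mk_pow,
      Localization.mk_eq_mk_iff, Localization.r_iff_exists, Submonoid.coe_mul, Localization.mk_mul,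
      SubmonoidClass.coe_pow, Subtype.exists, exists_prop]
    refine ⟨_, ⟨k, rfl⟩, ?_⟩
    simp only [pow_zero, one_pow, one_mul]
    linear_combination hl

include hg hψA hdeg in
theorem isOpenImmersion_SpecMap_awayMap {d : ℕ} {f : A} (hf : f ∈ 𝒜 d) :
    IsOpenImmersion (Spec.map (CommRingCat.ofHom (Away.map ψ f))) := by
  letI := (Away.map ψ f).toAlgebra
  haveI := isLocalization_awayMap 𝒜 ℬ ψ g hg hψA hdeg hf
  exact IsOpenImmersion.of_isLocalization (gElem 𝒜 g hf hg)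

set_option backward.isDefEq.respectTransparency false in
include hg hψA hdeg in
/-- (L1a) -/
theorem isOpenImmersion_map_away : IsOpenImmersion (Proj.map ψ hψ) := by
  apply IsZariskiLocalAtTarget.of_openCover (P := @IsOpenImmersion)
    (Proj.affineOpenCover 𝒜).openCover
  intro (s : Σ i : PNat, 𝒜 i)
  have hpb : IsPullback (Proj.awayι ℬ (ψ s.2.1) (ψ.map_mem s.2.2) s.1.2)
      (Spec.map (CommRingCat.ofHom (Away.map ψ s.2.1))) (Proj.map ψ hψ)
      (Proj.awayι 𝒜 s.2.1 s.2.2 s.1.2) := by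
    refine (IsOpenImmersion.isPullback _ _ _ _ (Proj.awayι_comp_map ψ hψ s.1.2 _ s.2.2) ?_).flip
    rw [Proj.opensRange_awayι, Proj.map_preimage_basicOpen, Proj.opensRange_awayι]
  have heq : hpb.isoPullback.hom ≫ pullback.snd _ _ =
      Spec.map (CommRingCat.ofHom (Away.map ψ s.2.1)) := hpb.isoPullback_hom_snd
  have hoi : IsOpenImmersion (Spec.map (CommRingCat.ofHom (Away.map ψ s.2.1))) :=
    isOpenImmersion_SpecMap_awayMap 𝒜 ℬ ψ g hg hψA hdeg s.2.2
  have h2 : pullback.snd (Proj.map ψ hψ) (Proj.awayι 𝒜 s.2.1 s.2.2 s.1.2) =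
      hpb.isoPullback.inv ≫ Spec.map (CommRingCat.ofHom (Away.map ψ s.2.1)) :=
    ((Iso.inv_comp_eq _).mpr heq.symm).symm
  show IsOpenImmersion (pullback.snd (Proj.map ψ hψ) (Proj.awayι 𝒜 s.2.1 s.2.2 s.1.2))
  rw [h2]
  infer_instance

end Away

end Groth.Agent.H96.TwAdj_L1a
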