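import Mathlib
import Groth.Agent.H96.RamPres
import Groth.Agent.H96.RamExist
import Groth.Agent.H96.GraphIdem
import Groth.Agent.H96.QuadGalois
import Groth.Agent.H96.Hyperbolic
import Groth.Agent.H96.LocIsoFamily
import Groth.Agent.H96.LocIsoEtShrink
import Groth.Agent.H96.InvSplit
import Groth.Agent.S17356
import Groth.Agent.H77.RInv3

/-!
# Involutions near an unramified prime: any two are etale-locally isomorphic (helper96)

At a prime `p` of `S` over which some `r₀ - lam r₀` is invertible, an Azumaya algebra with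
`lam`-involution of degree `n` is, on an etale neighbourhood of `p`, isomorphic to the matrix algebra
with any prescribed `lam`-involution (hyperbolic trick, any characteristic).
-/

set_option autoImplicit false
set_option linter.unusedSectionVars false
set_option linter.style.haveILetI false
universe u v w w' u'

open TensorProduct Matrix

namespace Groth.Agent.H96.UnramLocal

open Groth.Agent.H96.SqrtRing Groth.Agent.H96.RamPres Groth.Agent.H96.RamExist

section Shrink

variable {S : Type u} {R : Type v} [CommRing S] [CommRing R] [Algebra S R]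
  {A : Type w} [Ring A] [Algebra S A] [Algebra R A] [IsScalarTower S R A]
  {A' : Type w'} [Ring A'] [Algebra S A'] [Algebra R A'] [IsScalarTower S R A']
  (lam : R ≃ₐ[S] R)

/-- An isomorphism datum over an etale algebra in any universe can be shrunk. -/
theorem iso_shrink (t : AzInv.LamInv R A lam) (t' : AzInv.LamInv R A' lam)
    (T₀ : Type u') [CommRing T₀] [Algebra S T₀] [Algebra.Etale S T₀] (p : PrimeSpectrum S)
    (hp : p ∈ Set.range (PrimeSpectrum.comap (algebraMap S T₀)))
    (f : T₀ ⊗[S] A ≃ₐ[T₀] T₀ ⊗[S] A')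
    (hf1 : ∀ (r : R) (x : T₀ ⊗[S] A),
      f (((1 : T₀) ⊗ₜ[S] algebraMap R A r) * x) = ((1 : T₀) ⊗ₜ[S] algebraMap R A' r) * f x)
    (hf2 : ∀ x : T₀ ⊗[S] A, f (t.bc S lam T₀ x) = t'.bc S lam T₀ (f x)) :
    ∃ (S'' : Type u) (_ : CommRing S'') (_ : Algebra S S''), Algebra.Etale S S'' ∧
      p ∈ Set.range (PrimeSpectrum.comap (algebraMap S S'')) ∧ LocIsoFamily.Iso lam t t' S'' := by
  haveI : Small.{u} T₀ := LocIsoEtShrink.small_of_finiteType (S := S) T₀
  let σ : Shrink.{u} T₀ ≃ₐ[S] T₀ := Shrink.algEquiv S T₀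
  haveI : Algebra.Etale S (Shrink.{u} T₀) := Algebra.Etale.of_equiv σ.symm
  let c : Shrink.{u} T₀ ⊗[S] A ≃ₐ[S] T₀ ⊗[S] A :=
    Algebra.TensorProduct.congr σ (AlgEquiv.refl : A ≃ₐ[S] A)
  let c' : Shrink.{u} T₀ ⊗[S] A' ≃ₐ[S] T₀ ⊗[S] A' :=
    Algebra.TensorProduct.congr σ (AlgEquiv.refl : A' ≃ₐ[S] A')
  let g : Shrink.{u} T₀ ⊗[S] A ≃+* Shrink.{u} T₀ ⊗[S] A' :=
    c.toRingEquiv.trans (f.toRingEquiv.trans c'.symm.toRingEquiv)
  have hg : ∀ x, g x = c'.symm (f (c x)) := fun x => rfl
  have hc1 : ∀ (y : Shrink.{u} T₀) (a : A), c (y ⊗ₜ[S] a) = σ y ⊗ₜ[S] a := fun y a => by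
    simp [c]
  have hc1' : ∀ (y : Shrink.{u} T₀) (a : A'), c' (y ⊗ₜ[S] a) = σ y ⊗ₜ[S] a := fun y a => by
    simp [c']
  have hcomm : ∀ y : Shrink.{u} T₀, g (algebraMap _ (Shrink.{u} T₀ ⊗[S] A) y) =
      algebraMap _ (Shrink.{u} T₀ ⊗[S] A') y := by
    intro y
    have e1 : algebraMap (Shrink.{u} T₀) (Shrink.{u} T₀ ⊗[S] A) y = y ⊗ₜ[S] (1 : A) := rfl
    have e2 : algebraMap (Shrink.{u} T₀) (Shrink.{u} T₀ ⊗[S] A') y = y ⊗ₜ[S] (1 : A') := rfl
    rw [hg, e1, e2, hc1, AlgEquiv.symm_apply_eq, hc1']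
    exact f.commutes (σ y)
  have hb : ∀ x, t.bc S lam T₀ (c x) = c (t.bc S lam (Shrink.{u} T₀) x) :=
    LocIsoEtShrink.bc_congr lam t σ
  have hb' : ∀ x, t'.bc S lam T₀ (c' x) = c' (t'.bc S lam (Shrink.{u} T₀) x) :=
    LocIsoEtShrink.bc_congr lam t' σ
  refine ⟨Shrink.{u} T₀, inferInstance, inferInstance, inferInstance, ?_,
    AlgEquiv.ofRingEquiv (f := g) hcomm, ?_, ?_⟩
  · obtain ⟨Q₀, hQ₀⟩ := hp
    refine ⟨PrimeSpectrum.comap σ.toAlgHom.toRingHom Q₀, ?_⟩
    rw [← hQ₀]
    apply PrimeSpectrum.ext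
    show (Q₀.asIdeal.comap σ.toAlgHom.toRingHom).comap (algebraMap S (Shrink.{u} T₀)) =
      Q₀.asIdeal.comap (algebraMap S T₀)
    ext x
    simp only [Ideal.mem_comap]
    have : σ.toAlgHom.toRingHom (algebraMap S (Shrink.{u} T₀) x) = algebraMap S T₀ x :=
      σ.commutes x
    rw [this]
  · intro r x
    show g (_ * x) = _ * g x
    rw [hg, hg, map_mul, hc1, map_one, hf1, map_mul]
    congr 1
  · intro x
    show g _ = t'.bc S lam _ (g x)
    rw [hg, hg, AlgEquiv.symm_apply_eq, ← hb, hf2, ← hb', AlgEquiv.apply_symm_apply]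

end Shrink

section Main

attribute [local instance] Algebra.TensorProduct.rightAlgebra

open AzInv

variable (S : Type u) (R : Type v) [CommRing S] [CommRing R] [Algebra S R] (lam : R ≃ₐ[S] R)
  (hlam : ∀ r, lam (lam r) = r) (hfix : RInv.IsFixedRing S R lam.toRingEquiv)
  (A : Type w) [Ring A] [Algebra S A] [Algebra R A] [IsScalarTower S R A] [IsAzumaya R A]
  (n : ℕ) (hn : 0 < n) (hrk : ∀ p : PrimeSpectrum R, Module.rankAtStalk (R := R) A p = n ^ 2)
  (t : AzInv.LamInv R A lam)

include hlam hfix hn hrk in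
/-- Near an unramified prime `(A, t)` is isomorphic to the matrix algebra with any prescribed
`lam`-involution. -/
theorem exists_iso_unram (τC : AzInv.LamInv R (Matrix (Fin n) (Fin n) R) lam)
    (p : PrimeSpectrum S) (r₀ : R) (m : S)
    (hm : algebraMap S R m = (r₀ - lam r₀) * (r₀ - lam r₀)) (hmp : m ∉ p.asIdeal) :
    ∃ (S'' : Type u) (_ : CommRing S'') (_ : Algebra S S''), Algebra.Etale S S'' ∧
      p ∈ Set.range (PrimeSpectrum.comap (algebraMap S S'')) ∧ LocIsoFamily.Iso lam t τC S'' := by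
  classical
  obtain ⟨S', _, _, het, hff, ⟨θ⟩⟩ :=
    Groth.Agent.S17356.exists_cover S R lam hlam hfix A n hn hrk
  haveI := het
  haveI := hff
  obtain ⟨p', hp'⟩ := PrimeSpectrum.comap_surjective_of_faithfullyFlat (A := S) (B := S') p
  obtain ⟨g, hgdef⟩ : ∃ g : S', g = algebraMap S S' m := ⟨_, rfl⟩
  have hgp : g ∉ p'.asIdeal := by
    intro h
    apply hmp
    rw [← hp']
    show algebraMap S S' m ∈ p'.asIdeal
    rw [← hgdef]
    exact h
  haveI : Algebra.Etale S (Localization.Away g) := Algebra.Etale.comp S S' (Localization.Away g)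
  have hgu : IsUnit (algebraMap S (Localization.Away g) m) := by
    rw [IsScalarTower.algebraMap_apply S S' (Localization.Away g), ← hgdef]
    exact IsLocalization.Away.algebraMap_isUnit g
  have hq : RInv.IsQuadEtale (Localization.Away g) (Localization.Away g ⊗[S] R) :=
    Groth.Agent.H77.isQuadEtale_of_exists lam.toRingEquiv (Localization.Away g)
      (fun x => hlam x) hfix r₀ (r₀ - lam r₀) m hgu hm.symm
  have hfix' : RInv.IsFixedRing (Localization.Away g) (Localization.Away g ⊗[S] R)
      (lamBC lam (Localization.Away g)).toRingEquiv := by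
    have h := Groth.Agent.H77.isFixedRing_baseChange lam.toRingEquiv (Localization.Away g) hfix
    refine ⟨h.1, fun z => ?_⟩
    rw [← h.2 z, RamLocal.lamT_eq]
    show lamBC lam (Localization.Away g) z = z ↔ _
    rw [← tauD_eq]
  have hlam' : ∀ z, lamBC lam (Localization.Away g) (lamBC lam (Localization.Away g) z) = z := by
    intro z
    rw [← tauD_eq, ← tauD_eq, RamLocal.tauD_invol lam hlam]
  have htop := QuadGalois.span_top (lamBC lam (Localization.Away g)) hlam' hfix' hq
  haveI : Algebra.Etale (Localization.Away g) (Localization.Away g ⊗[S] R) :=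
    QuadGalois.etale (lamBC lam (Localization.Away g)) hq htop
  haveI : Module.FaithfullyFlat (Localization.Away g) (Localization.Away g ⊗[S] R) :=
    QuadGalois.faithfullyFlat hq
  haveI : Algebra.Etale S (Localization.Away g ⊗[S] R) :=
    Algebra.Etale.comp S (Localization.Away g) (Localization.Away g ⊗[S] R)
  -- the splitting over `T`
  let φ : S' →ₐ[S] Localization.Away g := IsScalarTower.toAlgHom S S' (Localization.Away g)
  let θ₁ : (Localization.Away g ⊗[S] R) ⊗[R] A ≃ₐ[Localization.Away g ⊗[S] R]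
      Matrix (Fin n) (Fin n) (Localization.Away g ⊗[S] R) := ofAlgHomEquiv (tensMapR φ) θ
  let ψ : (Localization.Away g ⊗[S] R) ⊗[R] A ≃ₐ[Localization.Away g ⊗[S] R]
      (Localization.Away g ⊗[S] R) ⊗[R] Matrix (Fin n) (Fin n) R :=
    θ₁.trans (InvSplit.matEquiv R (Localization.Away g ⊗[S] R) n).symm
  -- the idempotent
  have hd : IsUnit (algebraMap R (Localization.Away g ⊗[S] R) (r₀ - lam r₀)) := by
    have h1 : algebraMap R (Localization.Away g ⊗[S] R) (r₀ - lam r₀) *
        algebraMap R (Localization.Away g ⊗[S] R) (r₀ - lam r₀) =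
        algebraMap (Localization.Away g) (Localization.Away g ⊗[S] R)
          (algebraMap S (Localization.Away g) m) := by
      rw [← map_mul, ← hm, ← IsScalarTower.algebraMap_apply, ← IsScalarTower.algebraMap_apply]
    exact isUnit_of_mul_isUnit_left (by rw [h1]; exact hgu.map _)
  obtain ⟨e, he_mul, he_idem, he_mu, he_lam⟩ :=
    GraphIdem.exists_graph_idem (Localization.Away g ⊗[S] R) lam hlam hfix r₀ hd
  obtain ⟨f, hf1, hf2⟩ := Hyperbolic.exists_iso (Localization.Away g ⊗[S] R) lam hlam e he_mul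
    he_idem he_mu he_lam ψ t τC
  -- `p` is in the image
  have hrange : p ∈ Set.range
      (PrimeSpectrum.comap (algebraMap S (Localization.Away g ⊗[S] R))) := by
    obtain ⟨Q₁, hQ₁⟩ := exists_prime_away g p' hgp
    obtain ⟨Q₂, hQ₂⟩ := PrimeSpectrum.comap_surjective_of_faithfullyFlat
      (A := Localization.Away g) (B := Localization.Away g ⊗[S] R) Q₁
    refine ⟨Q₂, ?_⟩
    apply PrimeSpectrum.ext
    have e1 : algebraMap S (Localization.Away g ⊗[S] R) =
        (algebraMap (Localization.Away g) (Localization.Away g ⊗[S] R)).comp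
        ((algebraMap S' (Localization.Away g)).comp (algebraMap S S')) := by
      ext s
      show algebraMap S (Localization.Away g ⊗[S] R) s =
        algebraMap (Localization.Away g) (Localization.Away g ⊗[S] R)
          (algebraMap S' (Localization.Away g) (algebraMap S S' s))
      rw [← IsScalarTower.algebraMap_apply S S' (Localization.Away g),
        ← IsScalarTower.algebraMap_apply S (Localization.Away g) (Localization.Away g ⊗[S] R)]
    show Q₂.asIdeal.comap (algebraMap S (Localization.Away g ⊗[S] R)) = p.asIdeal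
    rw [e1, ← Ideal.comap_comap, ← Ideal.comap_comap]
    have h1 : Q₂.asIdeal.comap
        (algebraMap (Localization.Away g) (Localization.Away g ⊗[S] R)) = Q₁.asIdeal :=
      congrArg PrimeSpectrum.asIdeal hQ₂
    have h3 : Q₁.asIdeal.comap (algebraMap S' (Localization.Away g)) = p'.asIdeal :=
      congrArg PrimeSpectrum.asIdeal hQ₁
    have h4 : p'.asIdeal.comap (algebraMap S S') = p.asIdeal :=
      congrArg PrimeSpectrum.asIdeal hp'
    rw [h1, h3, h4]
  exact iso_shrink lam t τC (Localization.Away g ⊗[S] R) p hrange f hf1 hf2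

end Main

end Groth.Agent.H96.UnramLocal
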