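import Mathlib
import Groth.Prelude.Def_Versch

/-!
# Étale Cartier dual iff Verschiebung bijective (helper96)

Pieces for S15890: over a field `k` of characteristic `p`,
* `range_relFrob`: the range of the relative Frobenius of a `k`-algebra `D` is the `k`-span of `p`-th powers;
* `etale_of_span_pow_eq_top` / `span_pow_eq_top_of_etale`: a finite-dimensional `k`-algebra is étale
  iff the `p`-th powers span it;
* `surjective_of_injective_semilinear`: a semilinear injective map between spaces of the same finite
  dimension (one spanned by `n` vectors, the other with an `n`-element basis) is surjective.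
-/

set_option autoImplicit false
universe u v w

namespace Groth.Agent.H96.VerschEt

open TensorProduct FrobAlg

section RelFrob

variable (p : ℕ) [Fact p.Prime] (k : Type u) [CommRing k] [CharP k p]
  (D : Type w) [CommRing D] [Algebra k D] [CharP D p]

theorem relFrob_tmul (b : D) (t : Twist p k) :
    relFrob p k D (b ⊗ₜ[k] t) = b ^ p * algebraMap k D ((toTwist p k).symm t) := by
  simp [FrobAlg.relFrob, FrobAlg.frobHom, FrobAlg.inclHom, Algebra.TensorProduct.lift_tmul]
  rfl

/-- the `k`-span of the `p`-th powers. -/
def powSpan : Submodule k D := Submodule.span k (Set.range fun x : D => x ^ p)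

theorem relFrob_mem_powSpan (w : BaseChange p k D) : relFrob p k D w ∈ powSpan p k D := by
  induction w using TensorProduct.induction_on with
  | zero => rw [map_zero]; exact zero_mem _
  | tmul b t =>
    rw [relFrob_tmul, mul_comm, ← Algebra.smul_def]
    exact Submodule.smul_mem _ _ (Submodule.subset_span ⟨b, rfl⟩)
  | add a b ha hb => rw [map_add]; exact add_mem ha hb

theorem mem_range_relFrob_of_mem_powSpan {y : D} (hy : y ∈ powSpan p k D) :
    y ∈ Set.range (relFrob p k D) := by
  induction hy using Submodule.span_induction with
  | mem y hy =>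
    obtain ⟨x, rfl⟩ := hy
    exact ⟨x ⊗ₜ[k] 1, by rw [relFrob_tmul, map_one, map_one, mul_one]⟩
  | zero => exact ⟨0, map_zero _⟩
  | add y z _ _ hy hz =>
    obtain ⟨a, rfl⟩ := hy
    obtain ⟨b, rfl⟩ := hz
    exact ⟨a + b, map_add _ _ _⟩
  | smul c y _ hy =>
    obtain ⟨a, rfl⟩ := hy
    refine ⟨((1 : D) ⊗ₜ[k] (toTwist p k c)) * a, ?_⟩
    rw [map_mul, relFrob_tmul, one_pow, one_mul, RingEquiv.symm_apply_apply, Algebra.smul_def]

theorem surjective_relFrob_iff :
    Function.Surjective (relFrob p k D) ↔ powSpan p k D = ⊤ := by
  constructor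
  · intro h
    rw [eq_top_iff]
    intro y _
    obtain ⟨w, rfl⟩ := h y
    exact relFrob_mem_powSpan p k D w
  · intro h y
    exact mem_range_relFrob_of_mem_powSpan p k D (by rw [h]; trivial)

end RelFrob

section Field

variable (p : ℕ) [Fact p.Prime] (k : Type u) [Field k] [CharP k p]

theorem map_mem_powSpan {M : Type v} {N : Type w} [CommRing M] [CommRing N] [Algebra k M] [Algebra k N]
    (L : M →ₗ[k] N) (hL : ∀ x, L (x ^ p) = (L x) ^ p) {z : M} (hz : z ∈ powSpan p k M) :
    L z ∈ powSpan p k N := by
  have : powSpan p k M ≤ (powSpan p k N).comap L := by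
    refine Submodule.span_le.mpr ?_
    rintro _ ⟨x, rfl⟩
    exact Submodule.subset_span ⟨L x, (hL x).symm⟩
  exact this hz

theorem etale_of_powSpan_eq_top (D : Type w) [CommRing D] [Algebra k D] [CharP D p]
    [Module.Finite k D] (h : powSpan p k D = ⊤) : Algebra.Etale k D := by
  have hD0 : ∀ y : D, KaehlerDifferential.D k D y = 0 := by
    intro y
    have hy : y ∈ powSpan p k D := by rw [h]; trivial
    induction hy using Submodule.span_induction with
    | mem y hy =>
      obtain ⟨x, rfl⟩ := hy
      rw [Derivation.leibniz_pow, ← Nat.cast_smul_eq_nsmul D, CharP.cast_eq_zero, zero_smul]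
    | zero => exact map_zero _
    | add y z _ _ hy hz => rw [map_add, hy, hz, add_zero]
    | smul c y _ hy => rw [Derivation.map_smul, hy, smul_zero]
  have hsub : Subsingleton (Ω[D⁄k]) := by
    have h1 := KaehlerDifferential.span_range_derivation k D
    have h2 : Set.range (KaehlerDifferential.D k D) = {0} := by
      ext z; constructor
      · rintro ⟨y, rfl⟩; exact hD0 y
      · rintro rfl; exact ⟨0, map_zero _⟩
    rw [h2, Submodule.span_zero_singleton] at h1
    exact (Submodule.subsingleton_iff D).mp (subsingleton_of_bot_eq_top h1)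
  have hFU : Algebra.FormallyUnramified k D := ⟨hsub⟩
  have hFE : Algebra.FormallyEtale k D := Algebra.FormallyEtale.of_formallyUnramified_of_field k D
  have hFP : Algebra.FinitePresentation k D := Algebra.FinitePresentation.of_finiteType.mp inferInstance
  exact {}

theorem powSpan_eq_top_of_etale (D : Type w) [CommRing D] [Algebra k D] [Algebra.Etale k D] :
    powSpan p k D = ⊤ := by
  classical
  obtain ⟨I, hI, Ai, hf, ha, e, hsep⟩ :=
    (Algebra.FormallyEtale.iff_exists_algEquiv_prod k D).mp inferInstance
  have hq : ExpChar k p := ExpChar.prime (Fact.out : p.Prime)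
  have hPi : ∀ z : (Π i, Ai i), z ∈ powSpan p k (Π i, Ai i) := by
    intro z
    have := Fintype.ofFinite I
    rw [← Finset.univ_sum_single z]
    refine Submodule.sum_mem _ fun i _ => ?_
    have hi : z i ∈ powSpan p k (Ai i) := by
      have := Field.span_map_pow_expChar_pow_eq_top_of_isSeparable (F := k) (E := Ai i) p 1
        (v := (id : Ai i → Ai i)) (by rw [Set.range_id, Submodule.span_univ])
      simp only [pow_one, id] at this
      rw [powSpan, this]; trivial
    refine map_mem_powSpan p k (LinearMap.single k Ai i) ?_ hi
    intro x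
    funext j
    by_cases hj : j = i
    · subst hj; simp
    · simp [Pi.single_eq_of_ne hj, (Fact.out : p.Prime).ne_zero]
  rw [eq_top_iff]
  intro y _
  have := map_mem_powSpan p k e.symm.toLinearMap (fun x => map_pow e.symm x p) (hPi (e y))
  simpa using this

end Field

section Semilinear

/-- a semilinear injective additive map from a space with an `n`-element basis to a space spanned
by `n` vectors is surjective. -/
theorem surjective_of_injective_semilinear {K K' : Type*} [Field K] [Field K'] (σ : K ≃+* K')
    {M N : Type*} [AddCommGroup M] [Module K M] [AddCommGroup N] [Module K' N]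
    {ι : Type*} [Fintype ι] (b : Module.Basis ι K M) (w : ι → N)
    (hw : Submodule.span K' (Set.range w) = ⊤)
    (φ : M →+ N) (hφ : ∀ (c : K) (m : M), φ (c • m) = σ c • φ m) (hinj : Function.Injective φ) :
    Function.Surjective φ := by
  classical
  have hfin : Module.Finite K' N := Module.finite_def.mpr ⟨Finset.univ.image w, by
    rw [Finset.coe_image, Finset.coe_univ, Set.image_univ, hw]⟩
  have hli : LinearIndependent K' (fun i => φ (b i)) := by
    rw [Fintype.linearIndependent_iff]
    intro g hg i
    have h1 : φ (∑ i, σ.symm (g i) • b i) = 0 := by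
      rw [map_sum, ← hg]
      refine Finset.sum_congr rfl fun i _ => ?_
      rw [hφ, RingEquiv.apply_symm_apply]
    have h2 : ∑ i, σ.symm (g i) • b i = 0 := hinj (h1.trans (map_zero φ).symm)
    have h3 := Fintype.linearIndependent_iff.mp b.linearIndependent _ h2 i
    simpa using h3
  have hle : Module.finrank K' N ≤ Fintype.card ι := by
    have h0 : Module.finrank K' (Submodule.span K' (Set.range w)) ≤ Fintype.card ι :=
      finrank_range_le_card (R := K') w
    rwa [hw, finrank_top] at h0
  have hge : Fintype.card ι ≤ Module.finrank K' N := hli.fintype_card_le_finrank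
  have hspan : Submodule.span K' (Set.range fun i => φ (b i)) = ⊤ :=
    hli.span_eq_top_of_card_eq_finrank' (le_antisymm hge hle)
  intro z
  have hz : z ∈ Submodule.span K' (Set.range fun i => φ (b i)) := by rw [hspan]; trivial
  obtain ⟨g, rfl⟩ := (Submodule.mem_span_range_iff_exists_fun K').mp hz
  refine ⟨∑ i, σ.symm (g i) • b i, ?_⟩
  rw [map_sum]
  refine Finset.sum_congr rfl fun i _ => ?_
  rw [hφ, RingEquiv.apply_symm_apply]

end Semilinear

end Groth.Agent.H96.VerschEt
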