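import Mathlib.RingTheory.WittVector.Teichmuller
import Groth.Agent.H96.W2Flat
import Groth.Prelude.Def_W4c1liftfrobW2

/-!
# Frobenius lifts on a flat `W₂(k)`-lifting `B` of `A` and ring maps `B → W₂(A)`

For a flat lifting `(B, ι, π)` of `A` over `W₂(k)`, the first ghost component of `W₂(B)` descends to
a ring map `wb : W₂(A) → B`, `(a₀, a₁) ↦ ã₀^p + p ã₁`, and `(wb, res) : W₂(A) → B ×_A A` (fibre
product of `π` and the Frobenius of `A`) is bijective.  Hence ring maps `θ : B → W₂(A)` over `A`
correspond to Frobenius lifts `Φ = wb ∘ θ`.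
-/

set_option autoImplicit false
universe u

namespace Groth.Agent.H96.W2Ghost

open WittVector

variable {p : ℕ} [hp : Fact p.Prime]

section Ghost

variable (B : Type u) [CommRing B]

theorem ghost_one (X : WittVector p B) :
    WittVector.ghostComponent 1 X = (p : B) * X.coeff 1 + X.coeff 0 ^ p := by
  rw [WittVector.ghostComponent_apply, wittPolynomial_one]
  simp only [map_add, map_mul, map_pow, MvPolynomial.aeval_C, MvPolynomial.aeval_X, map_natCast]

/-- the truncated first ghost component `W₂(B) → B` -/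
noncomputable def g1 : TruncatedWittVector p 2 B →+* B :=
  RingHom.liftOfSurjective (WittVector.truncate 2) (WittVector.truncate_surjective p 2 B)
    ⟨WittVector.ghostComponent 1, fun x hx => by
      rw [RingHom.mem_ker] at hx ⊢
      have h := (WittVector.mem_ker_truncate 2 x).1 (RingHom.mem_ker.2 hx)
      rw [ghost_one, h 0 (by omega), h 1 (by omega), mul_zero, zero_pow hp.out.ne_zero,
        add_zero]⟩

theorem g1_truncate (X : WittVector p B) :
    g1 B (WittVector.truncate 2 X) = (p : B) * X.coeff 1 + X.coeff 0 ^ p := by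
  rw [← ghost_one]
  exact RingHom.liftOfRightInverse_comp_apply _ _ _ _ X

theorem g1_apply (x : TruncatedWittVector p 2 B) :
    g1 B x = (p : B) * x.coeff 1 + x.coeff 0 ^ p := by
  obtain ⟨X, rfl⟩ := WittVector.truncate_surjective p 2 B x
  rw [g1_truncate, WittVector.coeff_truncate, WittVector.coeff_truncate]
  rfl

end Ghost

section Teich

variable (R : Type u) [CommRing R]

/-- Teichmüller representative in `W₂(R)` -/
noncomputable def T (a : R) : TruncatedWittVector p 2 R :=
  WittVector.truncate 2 (WittVector.teichmuller p a)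

theorem T_coeff_zero (a : R) : (T (p := p) R a).coeff 0 = a := by
  unfold T; rw [WittVector.coeff_truncate]; exact WittVector.teichmuller_coeff_zero p a

theorem T_coeff_one (a : R) : (T (p := p) R a).coeff 1 = 0 := by
  unfold T; rw [WittVector.coeff_truncate]; exact WittVector.teichmuller_coeff_pos p a 1 one_pos

theorem T_pow (a : R) (n : ℕ) : T (p := p) R a ^ n = T R (a ^ n) := by
  unfold T; rw [← map_pow, ← map_pow]

theorem truncMap_T {R' : Type u} [CommRing R'] (f : R →+* R') (a : R) :
    WittGrp.truncMap p 2 f (T R a) = T R' (f a) := by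
  unfold T; rw [WittGrp.truncMap_truncate, WittVector.map_teichmuller]

theorem frob_T (hpR : (p : R) = 0) (a : R) : WittGrp.frob p 2 hpR (T R a) = T R (a ^ p) := by
  refine TruncatedWittVector.ext fun i => ?_
  rw [WittGrp.coeff_frob]
  fin_cases i
  · show (T R a).coeff 0 ^ p = (T R (a ^ p)).coeff 0
    rw [T_coeff_zero, T_coeff_zero]
  · show (T R a).coeff 1 ^ p = (T R (a ^ p)).coeff 1
    rw [T_coeff_one, T_coeff_one, zero_pow hp.out.ne_zero]

end Teich

section Lift

variable (p)

theorem frobLift_iff (k : Type u) [Field k] [CharP k p] [PerfectRing k p]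
    (A B : Type u) [CommRing A] [Algebra k A] [CommRing B]
    (ι : FrobAlg.W2 p k →+* B) (π : B →+* A) (hB : FrobAlg.IsLift p k A B ι π) :
    (∃ Φ : B →+* B, FrobAlg.IsFrobLift p k A B ι π Φ) ↔
      ∃ θ : B →+* FrobAlg.W2 p A,
        (FrobAlg.res p A).comp θ = π ∧ θ.comp ι = WittGrp.truncMap p 2 (algebraMap k A) := by
  classical
  have hpp : p.Prime := Fact.out
  have hpA : (p : A) = 0 := by
    rw [← map_natCast (algebraMap k A) p, CharP.cast_eq_zero k p, map_zero]
  have hpB : (p : B) = ι (p : FrobAlg.W2 p k) := (map_natCast ι p).symm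
  have hpB2 : (p : B) * (p : B) = 0 := by
    rw [hpB, ← map_mul, Groth.Agent.H96.W2Flat.p_mul_p p k, map_zero]
  have hppow : (p : B) ^ p = 0 := by
    have h3 : (p : B) ^ p = (p : B) ^ (p - 2) * ((p : B) * (p : B)) := by
      rw [← pow_two, ← pow_add]
      congr 1
      have := hpp.two_le
      omega
    rw [h3, hpB2, mul_zero]
  have hπp : π (p : B) = 0 := by rw [map_natCast, hpA]
  have hkerk : RingHom.ker (FrobAlg.res p k) = Ideal.span {(p : FrobAlg.W2 p k)} := by
    ext x
    rw [RingHom.mem_ker, FrobAlg.res_apply]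
    exact Groth.Agent.H96.coeffZero_eq_zero_iff 1 x
  have hkerπ : ∀ b : B, π b = 0 ↔ ∃ c, c * (p : B) = b := by
    intro b
    rw [← RingHom.mem_ker, hB.ker_eq, hkerk, Ideal.map_span, Set.image_singleton, ← hpB,
      Ideal.mem_span_singleton']
  have hflat : ∀ b : B, (p : B) * b = 0 → ∃ c, b = (p : B) * c := by
    intro b hb
    letI : Algebra (FrobAlg.W2 p k) B := ι.toAlgebra
    have hfl : Module.Flat (FrobAlg.W2 p k) B := hB.flat
    obtain ⟨c, hc⟩ := (Groth.Agent.H96.W2Flat.w2_flat_iff p k B).1 hfl b (by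
      rw [Nat.cast_smul_eq_nsmul, nsmul_eq_mul]; exact hb)
    exact ⟨c, by rw [hc, Nat.cast_smul_eq_nsmul, nsmul_eq_mul]⟩
  have hsurjπ : Function.Surjective (WittGrp.truncMap p 2 π) := by
    intro x
    choose f hf using fun i => hB.surj (x.coeff i)
    exact ⟨TruncatedWittVector.mk p f, TruncatedWittVector.ext fun i => by
      rw [WittGrp.coeff_truncMap, TruncatedWittVector.coeff_mk, hf]⟩
  -- the descended ghost map
  let wb : FrobAlg.W2 p A →+* B := RingHom.liftOfSurjective (WittGrp.truncMap p 2 π) hsurjπ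
    ⟨g1 B, fun x hx => by
      rw [RingHom.mem_ker] at hx ⊢
      have h0 : (WittGrp.truncMap p 2 π x).coeff 0 = 0 := by
        rw [hx, TruncatedWittVector.coeff_zero]
      have h1 : (WittGrp.truncMap p 2 π x).coeff 1 = 0 := by
        rw [hx, TruncatedWittVector.coeff_zero]
      rw [WittGrp.coeff_truncMap] at h0 h1
      obtain ⟨c0, hc0⟩ := (hkerπ _).1 h0
      obtain ⟨c1, hc1⟩ := (hkerπ _).1 h1
      rw [g1_apply, ← hc0, ← hc1, mul_pow, hppow, mul_zero, add_zero, mul_comm c1, ← mul_assoc,
        hpB2, zero_mul]⟩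
  have hwb : ∀ y : TruncatedWittVector p 2 B,
      wb (WittGrp.truncMap p 2 π y) = (p : B) * y.coeff 1 + y.coeff 0 ^ p := by
    intro y
    rw [← g1_apply]
    exact RingHom.liftOfRightInverse_comp_apply _ _ _ _ y
  have hπwb : ∀ x : FrobAlg.W2 p A, π (wb x) = (FrobAlg.res p A x) ^ p := by
    intro x
    obtain ⟨y, rfl⟩ := hsurjπ x
    rw [hwb, map_add, map_mul, hπp, zero_mul, zero_add, map_pow, FrobAlg.res_apply,
      WittGrp.coeff_truncMap]
  have hinj : ∀ x y : FrobAlg.W2 p A, wb x = wb y → FrobAlg.res p A x = FrobAlg.res p A y →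
      x = y := by
    intro x y h1 h2
    rw [← sub_eq_zero] at h1 h2 ⊢
    rw [← map_sub] at h1 h2
    generalize x - y = d at h1 h2 ⊢
    obtain ⟨d', rfl⟩ := hsurjπ d
    rw [FrobAlg.res_apply, WittGrp.coeff_truncMap] at h2
    obtain ⟨c0, hc0⟩ := (hkerπ _).1 h2
    rw [hwb, ← hc0, mul_pow, hppow, mul_zero, add_zero] at h1
    obtain ⟨c1, hc1⟩ := hflat _ h1
    refine TruncatedWittVector.ext fun i => ?_
    rw [WittGrp.coeff_truncMap, TruncatedWittVector.coeff_zero]
    fin_cases i
    · exact h2
    · show π (d'.coeff 1) = 0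
      rw [hc1, map_mul, hπp, zero_mul]
  have hdecomp : ∀ x : FrobAlg.W2 p k, ∃ a b : k,
      x = T k a + T k b * (p : FrobAlg.W2 p k) := by
    have h1 : ∀ x : FrobAlg.W2 p k, ∃ z, x = T k (x.coeff 0) + z * (p : FrobAlg.W2 p k) := by
      intro x
      have h0 : Groth.Agent.H96.coeffZero 1 (x - T k (x.coeff 0)) = 0 := by
        rw [map_sub, Groth.Agent.H96.coeffZero_apply, Groth.Agent.H96.coeffZero_apply,
          T_coeff_zero, sub_self]
      obtain ⟨z, hz⟩ := Ideal.mem_span_singleton'.1
        ((Groth.Agent.H96.coeffZero_eq_zero_iff 1 _).1 h0)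
      exact ⟨z, by rw [hz]; ring⟩
    intro x
    obtain ⟨z, hz⟩ := h1 x
    obtain ⟨z', hz'⟩ := h1 z
    refine ⟨x.coeff 0, z.coeff 0, ?_⟩
    calc x = T k (x.coeff 0) + z * (p : FrobAlg.W2 p k) := hz
      _ = T k (x.coeff 0) + (T k (z.coeff 0) + z' * (p : FrobAlg.W2 p k)) *
            (p : FrobAlg.W2 p k) := by rw [← hz']
      _ = T k (x.coeff 0) + T k (z.coeff 0) * (p : FrobAlg.W2 p k) := by
        rw [add_mul, mul_assoc, Groth.Agent.H96.W2Flat.p_mul_p, mul_zero, add_zero]
  have hK3 : ∀ x : FrobAlg.W2 p k,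
      wb (WittGrp.truncMap p 2 (algebraMap k A) x) = ι (FrobAlg.sigma p k x) := by
    have hT : ∀ a : k, wb (WittGrp.truncMap p 2 (algebraMap k A) (T k a)) =
        ι (FrobAlg.sigma p k (T k a)) := by
      intro a
      have h1 : WittGrp.truncMap p 2 (algebraMap k A) (T k a) =
          WittGrp.truncMap p 2 π (T B (ι (T k a))) := by
        rw [truncMap_T, truncMap_T]
        congr 1
        have := congrArg (fun f => f (T k a)) hB.comm
        simp only [RingHom.comp_apply] at this
        rw [this, FrobAlg.res_apply, T_coeff_zero]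
      have h2 : FrobAlg.sigma p k (T k a) = T k (a ^ p) := frob_T k _ a
      rw [h1, hwb, T_coeff_one, mul_zero, zero_add, T_coeff_zero, ← map_pow, T_pow, h2]
    intro x
    obtain ⟨a, b, rfl⟩ := hdecomp x
    simp only [map_add, map_mul, map_natCast, hT]
  constructor
  · rintro ⟨Φ, hΦ⟩
    have hex : ∀ b : B, ∃ x : FrobAlg.W2 p A, wb x = Φ b ∧ FrobAlg.res p A x = π b := by
      intro b
      obtain ⟨c, hc⟩ := (hkerπ (Φ b - b ^ p)).1 (by rw [map_sub, hΦ.red, map_pow, sub_self])
      refine ⟨WittGrp.truncMap p 2 π (TruncatedWittVector.mk p ![b, c]), ?_, ?_⟩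
      · rw [hwb, TruncatedWittVector.coeff_mk, TruncatedWittVector.coeff_mk]
        show (p : B) * c + b ^ p = Φ b
        rw [mul_comm, hc]; ring
      · rw [FrobAlg.res_apply, WittGrp.coeff_truncMap, TruncatedWittVector.coeff_mk]; rfl
    choose θf hθ1 hθ2 using hex
    let θ : B →+* FrobAlg.W2 p A :=
      { toFun := θf
        map_one' := hinj _ _ (by rw [hθ1, map_one, map_one]) (by rw [hθ2, map_one, map_one])
        map_mul' := fun a b => hinj _ _ (by rw [hθ1, map_mul, map_mul, hθ1, hθ1])
          (by rw [hθ2, map_mul, map_mul, hθ2, hθ2])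
        map_zero' := hinj _ _ (by rw [hθ1, map_zero, map_zero]) (by rw [hθ2, map_zero, map_zero])
        map_add' := fun a b => hinj _ _ (by rw [hθ1, map_add, map_add, hθ1, hθ1])
          (by rw [hθ2, map_add, map_add, hθ2, hθ2]) }
    refine ⟨θ, RingHom.ext fun b => hθ2 b, RingHom.ext fun x => ?_⟩
    apply hinj
    · show wb (θf (ι x)) = _
      rw [hθ1, hK3]
      have := congrArg (fun f => f x) hΦ.semi
      simpa only [RingHom.comp_apply] using this
    · show FrobAlg.res p A (θf (ι x)) = _
      rw [hθ2, FrobAlg.res_apply, WittGrp.coeff_truncMap]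
      have := congrArg (fun f => f x) hB.comm
      simp only [RingHom.comp_apply] at this
      rw [this, FrobAlg.res_apply]
  · rintro ⟨θ, hθ1, hθ2⟩
    refine ⟨wb.comp θ, { toIsLift := hB, semi := ?_, red := ?_ }⟩
    · refine RingHom.ext fun x => ?_
      show wb (θ (ι x)) = ι (FrobAlg.sigma p k x)
      have := congrArg (fun f => f x) hθ2
      simp only [RingHom.comp_apply] at this
      rw [this, hK3]
    · intro b
      show π (wb (θ b)) = π b ^ p
      rw [hπwb]
      have := congrArg (fun f => f b) hθ1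
      simp only [RingHom.comp_apply] at this
      rw [this]

end Lift

end Groth.Agent.H96.W2Ghost
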