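import Groth.Prelude.Def_W4c6katofiltaWFil
import Groth.Agent.H96.LocUFD

/-!
Lemmas about the Laurent monomial `WittFil.zmon u n`.
-/

set_option autoImplicit false

namespace Groth.Agent.H96

variable {A B : Type*} [CommRing A] [CommRing B] [Algebra A B] {r : ℕ}

/-- for natural exponents, `zmon` is the image of the monomial in `A` -/
theorem zmon_natCast (x : Fin r → A) (u : Fin r → Bˣ)
    (hu : ∀ i, (u i : B) = algebraMap A B (x i)) (k : Fin r → ℕ) :
    WittFil.zmon u (fun i => (k i : ℤ)) = algebraMap A B (∏ i, x i ^ k i) := by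
  unfold WittFil.zmon
  rw [Units.coe_prod, map_prod]
  refine Finset.prod_congr rfl fun i _ => ?_
  rw [zpow_natCast, Units.val_pow_eq_pow_val, hu, map_pow]

theorem zmon_add (u : Fin r → Bˣ) (n n' : Fin r → ℤ) :
    WittFil.zmon u (n + n') = WittFil.zmon u n * WittFil.zmon u n' := by
  unfold WittFil.zmon
  rw [← Units.val_mul, ← Finset.prod_mul_distrib]
  congr 2
  funext i
  rw [Pi.add_apply, zpow_add]

theorem zmon_add' (u : Fin r → Bˣ) (n n' : Fin r → ℤ) :
    WittFil.zmon u (fun i => n i + n' i) = WittFil.zmon u n * WittFil.zmon u n' :=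
  zmon_add u n n'

theorem zmon_neg_mul (u : Fin r → Bˣ) (n : Fin r → ℤ) :
    WittFil.zmon u (fun i => -n i) * WittFil.zmon u n = 1 := by
  rw [← zmon_add']
  unfold WittFil.zmon
  simp

theorem zmon_mul_neg (u : Fin r → Bˣ) (n : Fin r → ℤ) :
    WittFil.zmon u n * WittFil.zmon u (fun i => -n i) = 1 := by
  rw [mul_comm, zmon_neg_mul]

theorem zmon_pow (u : Fin r → Bˣ) (n : Fin r → ℤ) (k : ℕ) :
    WittFil.zmon u n ^ k = WittFil.zmon u (fun i => (k : ℤ) * n i) := by
  unfold WittFil.zmon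
  rw [← Units.val_pow_eq_pow_val, ← Finset.prod_pow]
  congr 2
  funext i
  rw [← zpow_natCast, ← zpow_mul, mul_comm]

theorem isUnit_zmon (u : Fin r → Bˣ) (n : Fin r → ℤ) : IsUnit (WittFil.zmon u n) :=
  Units.isUnit _

end Groth.Agent.H96
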