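import Groth.Agent.H96.WittFilInt
import Groth.Agent.H96.LocIntClosed
import Groth.Agent.H96.Zmon

/-!
Bridge between `WittFil.fil` (image of `A`) and `filInt` (integral over `A`) for
`B = A[1/π]`, `A` a UFD.
-/

set_option autoImplicit false

namespace Groth.Agent.H96

variable {p : ℕ} {A B : Type*} [CommRing A] [IsDomain A] [UniqueFactorizationMonoid A]
  [CommRing B] [Algebra A B]

theorem fil_eq_filInt (π : A) (hπ : π ≠ 0) [IsLocalization.Away π B] (m : ℕ) (c : B) :
    WittFil.fil p m (A := A) c = filInt p m A c := by
  ext x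
  constructor
  · intro h j
    exact (isIntegral_iff_mem_range_of_away π hπ _).mpr (h j)
  · intro h j
    exact (isIntegral_iff_mem_range_of_away π hπ _).mp (h j)

theorem isDomain_of_away (π : A) (hπ : π ≠ 0) [IsLocalization.Away π B] : IsDomain B := by
  apply IsLocalization.isDomain_of_le_nonZeroDivisors (R := A) (M := Submonoid.powers π) B
  rintro _ ⟨n, rfl⟩
  exact mem_nonZeroDivisors_of_ne_zero (pow_ne_zero n hπ)

end Groth.Agent.H96
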