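import Mathlib.RingTheory.WittVector.Teichmuller
import Mathlib.RingTheory.WittVector.Truncated

/-!
Multiplication by a Teichmüller representative acts coordinatewise on Witt vectors:
`(teichmuller p r * x).coeff n = r ^ p ^ n * x.coeff n`.
-/

set_option autoImplicit false

namespace Groth.Agent.H96

open WittVector MvPolynomial

variable {p : ℕ} [hp : Fact p.Prime]

/-- the Witt vector with coordinates `r ^ p ^ n * x_n` -/
def wscale {R : Type*} [CommRing R] (r : R) (x : WittVector p R) : WittVector p R :=
  WittVector.mk p fun n => r ^ p ^ n * x.coeff n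

theorem wscale_coeff {R : Type*} [CommRing R] (r : R) (x : WittVector p R) (n : ℕ) :
    (wscale r x).coeff n = r ^ p ^ n * x.coeff n := rfl

theorem ghostComponent_wscale {R : Type*} [CommRing R] (r : R) (x : WittVector p R) (n : ℕ) :
    ghostComponent n (wscale r x) = r ^ p ^ n * ghostComponent n x := by
  simp only [ghostComponent_apply, aeval_wittPolynomial, wscale_coeff]
  rw [Finset.mul_sum]
  refine Finset.sum_congr rfl fun i hi => ?_
  have hi' : i ≤ n := Nat.lt_succ_iff.mp (Finset.mem_range.mp hi)
  have e : r ^ p ^ n = (r ^ p ^ i) ^ p ^ (n - i) := by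
    rw [← pow_mul, ← pow_add, Nat.add_sub_cancel' hi']
  rw [mul_pow, e]
  ring

theorem map_wscale {R S : Type*} [CommRing R] [CommRing S] (f : R →+* S) (r : R)
    (x : WittVector p R) : WittVector.map f (wscale r x) = wscale (f r) (WittVector.map f x) := by
  ext n
  simp only [map_coeff, wscale_coeff, map_mul, map_pow]

theorem teichmuller_mul_aux₁ {σ : Type*} (r : MvPolynomial σ ℚ)
    (x : WittVector p (MvPolynomial σ ℚ)) :
    teichmuller p r * x = wscale r x := by
  apply (ghostMap.bijective_of_invertible p (MvPolynomial σ ℚ)).1
  rw [map_mul]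
  ext1 n
  simp only [Pi.mul_apply, ghostMap_apply, ghostComponent_teichmuller, ghostComponent_wscale]

theorem teichmuller_mul_aux₂ {σ : Type*} (r : MvPolynomial σ ℤ)
    (x : WittVector p (MvPolynomial σ ℤ)) :
    teichmuller p r * x = wscale r x := by
  refine map_injective (MvPolynomial.map (Int.castRingHom ℚ))
    (MvPolynomial.map_injective _ Int.cast_injective) ?_
  rw [map_mul, map_teichmuller, map_wscale, teichmuller_mul_aux₁]

theorem teichmuller_mul_eq_wscale {R : Type*} [CommRing R] (r : R) (x : WittVector p R) :
    teichmuller p r * x = wscale r x := by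
  obtain ⟨r', rfl⟩ := MvPolynomial.counit_surjective R r
  obtain ⟨x', rfl⟩ := WittVector.map_surjective _ (MvPolynomial.counit_surjective R) x
  rw [← map_teichmuller, ← map_mul, teichmuller_mul_aux₂, map_wscale]

/-- Multiplication by a Teichmüller representative acts coordinatewise. -/
theorem teichmuller_mul_coeff {R : Type*} [CommRing R] (r : R) (x : WittVector p R) (n : ℕ) :
    (teichmuller p r * x).coeff n = r ^ p ^ n * x.coeff n := by
  rw [teichmuller_mul_eq_wscale, wscale_coeff]

theorem mul_teichmuller_coeff {R : Type*} [CommRing R] (r : R) (x : WittVector p R) (n : ℕ) :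
    (x * teichmuller p r).coeff n = x.coeff n * r ^ p ^ n := by
  rw [mul_comm, teichmuller_mul_coeff, mul_comm]

/-- Truncated version: coordinates of `[r] * a` for a truncated Witt vector `a`. -/
theorem truncate_teichmuller_mul_coeff {R : Type*} [CommRing R] (m : ℕ) (r : R)
    (a : TruncatedWittVector p m R) (j : Fin m) :
    TruncatedWittVector.coeff j (WittVector.truncate m (teichmuller p r) * a) =
      r ^ p ^ (j : ℕ) * TruncatedWittVector.coeff j a := by
  obtain ⟨x, rfl⟩ := WittVector.truncate_surjective p m R a
  rw [← map_mul, WittVector.coeff_truncate, WittVector.coeff_truncate, teichmuller_mul_coeff]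

theorem truncate_mul_teichmuller_coeff {R : Type*} [CommRing R] (m : ℕ) (r : R)
    (a : TruncatedWittVector p m R) (j : Fin m) :
    TruncatedWittVector.coeff j (a * WittVector.truncate m (teichmuller p r)) =
      TruncatedWittVector.coeff j a * r ^ p ^ (j : ℕ) := by
  rw [mul_comm, truncate_teichmuller_mul_coeff, mul_comm]

end Groth.Agent.H96
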