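import Mathlib.RingTheory.WittVector.Truncated
import Mathlib.RingTheory.WittVector.Teichmuller
import Mathlib.FieldTheory.IsAlgClosed.AlgebraicClosure
import Mathlib.RingTheory.IntegralClosure.IntegrallyClosed
import Mathlib.RingTheory.Localization.FractionRing
import Groth.Agent.H96.WittTeich

/-!
Integral version of the filtered pieces of truncated Witt vectors: for an algebra `A → B` with `B`
a domain and `c : B`, the set of truncated Witt vectors `x` with `x_j ^ p ^ (m-1-j) * c` integral
over `A` is closed under subtraction, and these sets multiply.  The proof adjoins a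
`p ^ (m-1)`-th root `t` of `c` (in an algebraic closure of the fraction field of `B`) and uses
that multiplication by the Teichmüller representative `[t]` acts coordinatewise.
-/

set_option autoImplicit false

namespace Groth.Agent.H96

open WittVector

variable {p : ℕ} [hp : Fact p.Prime]

section coeffsIn

variable {R : Type*} [CommRing R] (S : Subring R)

/-- Witt vectors all of whose coordinates lie in a subring form a subring. -/
noncomputable def coeffsIn : Subring (WittVector p R) := (WittVector.map (p := p) S.subtype).range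

theorem mem_coeffsIn_iff (x : WittVector p R) :
    x ∈ coeffsIn (p := p) S ↔ ∀ n, x.coeff n ∈ S := by
  constructor
  · rintro ⟨y, rfl⟩ n
    rw [WittVector.map_coeff]
    exact (y.coeff n).2
  · intro h
    refine ⟨WittVector.mk p fun n => ⟨x.coeff n, h n⟩, ?_⟩
    ext n
    rw [WittVector.map_coeff]
    rfl

end coeffsIn

section general

variable {A B B' : Type*} [CommRing A] [CommRing B] [CommRing B'] [Algebra A B] [Algebra A B']
  [Algebra B B'] [IsScalarTower A B B']

/-- forward: integrality conditions give coordinates of `[t] * x` in the integral closure -/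
theorem teich_mul_mem_coeffsIn (hinj : Function.Injective (algebraMap B B')) (m : ℕ) (c : B)
    (t : B') (ht : t ^ p ^ (m - 1) = algebraMap B B' c) (x : WittVector p B)
    (hx : ∀ j, j < m → IsIntegral A (x.coeff j ^ p ^ (m - 1 - j) * c))
    (hx0 : ∀ j, m ≤ j → x.coeff j = 0) :
    teichmuller p t * WittVector.map (algebraMap B B') x ∈
      coeffsIn (p := p) (integralClosure A B').toSubring := by
  have hp0 : 0 < p := hp.out.pos
  rw [mem_coeffsIn_iff]
  intro j
  rw [teichmuller_mul_coeff, WittVector.map_coeff]
  by_cases hj : j < m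
  · change IsIntegral A _
    apply IsIntegral.of_pow (n := p ^ (m - 1 - j)) (pow_pos hp0 _)
    have e : j + (m - 1 - j) = m - 1 := by omega
    rw [mul_pow, ← pow_mul, ← pow_add, e, ht, ← map_pow, ← map_mul, mul_comm]
    exact (hx j hj).algebraMap
  · rw [hx0 j (not_lt.mp hj), map_zero, mul_zero]
    exact Subring.zero_mem _

/-- backward: coordinates of `[t] * x` in the integral closure give the integrality conditions -/
theorem isIntegral_of_teich_mul_mem_coeffsIn (hinj : Function.Injective (algebraMap B B'))
    (m : ℕ) (c : B) (t : B') (ht : t ^ p ^ (m - 1) = algebraMap B B' c) (x : WittVector p B)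
    (hx : teichmuller p t * WittVector.map (algebraMap B B') x ∈
      coeffsIn (p := p) (integralClosure A B').toSubring) (j : ℕ) (hj : j < m) :
    IsIntegral A (x.coeff j ^ p ^ (m - 1 - j) * c) := by
  rw [mem_coeffsIn_iff] at hx
  have h := hx j
  rw [teichmuller_mul_coeff, WittVector.map_coeff] at h
  have h1 : IsIntegral A (t ^ p ^ j * algebraMap B B' (x.coeff j)) := h
  have h2 := h1.pow (p ^ (m - 1 - j))
  have e : j + (m - 1 - j) = m - 1 := by omega
  rw [mul_pow, ← pow_mul, ← pow_add, e, ht, ← map_pow, ← map_mul, mul_comm] at h2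
  exact (isIntegral_algHom_iff (IsScalarTower.toAlgHom A B B') hinj).mp h2

end general

section domain

variable {A B : Type*} [CommRing A] [CommRing B] [Algebra A B] [IsDomain B]

/-- The integral version of the filtered piece. -/
def filInt (p : ℕ) (m : ℕ) (A : Type*) {B : Type*} [CommRing A] [CommRing B] [Algebra A B] (c : B) :
    Set (TruncatedWittVector p m B) :=
  {x | ∀ j : Fin m, IsIntegral A ((TruncatedWittVector.coeff j x) ^ (p ^ (m - 1 - (j : ℕ))) * c)}

theorem out_coeff_of_le {m : ℕ} (a : TruncatedWittVector p m B) (j : ℕ) (hj : m ≤ j) :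
    a.out.coeff j = 0 := by
  rw [TruncatedWittVector.out]
  simp only [WittVector.coeff_mk]
  rw [dif_neg (not_lt.mpr hj)]

theorem out_coeff_of_lt {m : ℕ} (a : TruncatedWittVector p m B) (j : ℕ) (hj : j < m) :
    a.out.coeff j = TruncatedWittVector.coeff ⟨j, hj⟩ a :=
  TruncatedWittVector.coeff_out a ⟨j, hj⟩

theorem truncate_out' {m : ℕ} (a : TruncatedWittVector p m B) :
    WittVector.truncate m a.out = a :=
  TruncatedWittVector.truncateFun_out a

theorem sub_mem_filInt_aux {B' : Type*} [CommRing B'] (φ : B →+* B')
    (hφ : Function.Injective φ) (m : ℕ) (c : B)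
    (t : B') (ht : t ^ p ^ (m - 1) = φ c) (a b : TruncatedWittVector p m B)
    (ha : a ∈ filInt p m A c) (hb : b ∈ filInt p m A c) : a - b ∈ filInt p m A c := by
  letI : Algebra B B' := φ.toAlgebra
  letI : Algebra A B' := (φ.comp (algebraMap A B)).toAlgebra
  haveI : IsScalarTower A B B' := IsScalarTower.of_algebraMap_eq fun _ => rfl
  have hinj : Function.Injective (algebraMap B B') := hφ
  have h1 := teich_mul_mem_coeffsIn (A := A) hinj m c t ht a.out
    (fun j hj => by rw [out_coeff_of_lt a j hj]; exact ha ⟨j, hj⟩) (out_coeff_of_le a)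
  have h2 := teich_mul_mem_coeffsIn (A := A) hinj m c t ht b.out
    (fun j hj => by rw [out_coeff_of_lt b j hj]; exact hb ⟨j, hj⟩) (out_coeff_of_le b)
  have h3 := Subring.sub_mem _ h1 h2
  rw [← mul_sub, ← map_sub] at h3
  intro j
  have h4 := isIntegral_of_teich_mul_mem_coeffsIn (A := A) hinj m c t ht _ h3 j j.2
  have e : TruncatedWittVector.coeff j (a - b) = (a.out - b.out).coeff j := by
    conv_lhs => rw [← truncate_out' a, ← truncate_out' b, ← map_sub]
    rw [WittVector.coeff_truncate]
  rw [e]
  exact h4

theorem sub_mem_filInt (m : ℕ) (c : B) (a b : TruncatedWittVector p m B)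
    (ha : a ∈ filInt p m A c) (hb : b ∈ filInt p m A c) : a - b ∈ filInt p m A c := by
  let K := FractionRing B
  let B' := AlgebraicClosure K
  have hinj : Function.Injective (algebraMap B B') := by
    rw [IsScalarTower.algebraMap_eq B K B']
    exact (algebraMap K B').injective.comp (IsFractionRing.injective B K)
  obtain ⟨t, ht⟩ := IsAlgClosed.exists_pow_nat_eq (algebraMap B B' c)
    (pow_pos hp.out.pos (m - 1))
  exact sub_mem_filInt_aux (A := A) (algebraMap B B') hinj m c t ht a b ha hb

theorem mul_mem_filInt_aux {B' : Type*} [CommRing B'] (φ : B →+* B')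
    (hφ : Function.Injective φ) (m : ℕ) (c c' : B)
    (t : B') (ht : t ^ p ^ (m - 1) = φ c) (t' : B') (ht' : t' ^ p ^ (m - 1) = φ c')
    (a b : TruncatedWittVector p m B)
    (ha : a ∈ filInt p m A c) (hb : b ∈ filInt p m A c') : a * b ∈ filInt p m A (c * c') := by
  letI : Algebra B B' := φ.toAlgebra
  letI : Algebra A B' := (φ.comp (algebraMap A B)).toAlgebra
  haveI : IsScalarTower A B B' := IsScalarTower.of_algebraMap_eq fun _ => rfl
  have hinj : Function.Injective (algebraMap B B') := hφ
  have h1 := teich_mul_mem_coeffsIn (A := A) hinj m c t ht a.out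
    (fun j hj => by rw [out_coeff_of_lt a j hj]; exact ha ⟨j, hj⟩) (out_coeff_of_le a)
  have h2 := teich_mul_mem_coeffsIn (A := A) hinj m c' t' ht' b.out
    (fun j hj => by rw [out_coeff_of_lt b j hj]; exact hb ⟨j, hj⟩) (out_coeff_of_le b)
  have h3 := Subring.mul_mem _ h1 h2
  have e3 : teichmuller p t * WittVector.map (algebraMap B B') a.out *
      (teichmuller p t' * WittVector.map (algebraMap B B') b.out) =
      teichmuller p (t * t') * WittVector.map (algebraMap B B') (a.out * b.out) := by
    rw [map_mul, map_mul]
    ring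
  rw [e3] at h3
  have htt : (t * t') ^ p ^ (m - 1) = algebraMap B B' (c * c') := by
    rw [mul_pow, ht, ht', map_mul]
    rfl
  intro j
  have h4 := isIntegral_of_teich_mul_mem_coeffsIn (A := A) hinj m (c * c') (t * t') htt _ h3 j j.2
  have e : TruncatedWittVector.coeff j (a * b) = (a.out * b.out).coeff j := by
    conv_lhs => rw [← truncate_out' a, ← truncate_out' b, ← map_mul]
    rw [WittVector.coeff_truncate]
  rw [e]
  exact h4

theorem mul_mem_filInt (m : ℕ) (c c' : B) (a b : TruncatedWittVector p m B)
    (ha : a ∈ filInt p m A c) (hb : b ∈ filInt p m A c') : a * b ∈ filInt p m A (c * c') := by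
  let K := FractionRing B
  let B' := AlgebraicClosure K
  have hinj : Function.Injective (algebraMap B B') := by
    rw [IsScalarTower.algebraMap_eq B K B']
    exact (algebraMap K B').injective.comp (IsFractionRing.injective B K)
  obtain ⟨t, ht⟩ := IsAlgClosed.exists_pow_nat_eq (algebraMap B B' c)
    (pow_pos hp.out.pos (m - 1))
  obtain ⟨t', ht'⟩ := IsAlgClosed.exists_pow_nat_eq (algebraMap B B' c')
    (pow_pos hp.out.pos (m - 1))
  exact mul_mem_filInt_aux (A := A) (algebraMap B B') hinj m c c' t ht t' ht' a b ha hb

theorem add_mem_filInt (m : ℕ) (c : B) (a b : TruncatedWittVector p m B)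
    (ha : a ∈ filInt p m A c) (hb : b ∈ filInt p m A c) : a + b ∈ filInt p m A c := by
  have h0 : (0 : TruncatedWittVector p m B) ∈ filInt p m A c := by
    intro j
    have : TruncatedWittVector.coeff j (0 : TruncatedWittVector p m B) = 0 := by
      rw [← map_zero (WittVector.truncate (p := p) (R := B) m), WittVector.coeff_truncate,
        WittVector.zero_coeff]
    rw [this, zero_pow (pow_ne_zero _ hp.out.ne_zero), zero_mul]
    exact isIntegral_zero
  have hnb : -b ∈ filInt p m A c := by
    have := sub_mem_filInt (A := A) m c 0 b h0 hb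
    rwa [zero_sub] at this
  have := sub_mem_filInt (A := A) m c a (-b) ha hnb
  rwa [sub_neg_eq_add] at this

end domain

end Groth.Agent.H96
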